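import Mathlib

/-! Basic facts on transitive actions, centralisers and prime-degree permutation groups. -/

namespace CfsgLib.Perm.Basic

open MulAction

variable {G : Type*} [Group G] {Ω : Type*} [MulAction G Ω]

/-- A map commuting with a transitive action and fixing one point is the identity. -/
theorem eq_self_of_commute [IsPretransitive G Ω] {c : Ω → Ω}
    (h : ∀ (g : G) (x : Ω), c (g • x) = g • c x) {a : Ω} (ha : c a = a) (x : Ω) : c x = x := by
  obtain ⟨g, rfl⟩ := exists_smul_eq G a x
  rw [h, ha]

theorem card_dvd_card [IsPretransitive G Ω] [Nonempty Ω] : Nat.card Ω ∣ Nat.card G := by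
  obtain ⟨a⟩ := ‹Nonempty Ω›
  rw [← index_stabilizer_of_transitive G a]
  exact (stabilizer G a).index_dvd_card

theorem card_eq_mul_stabilizer [IsPretransitive G Ω] (a : Ω) :
    Nat.card G = Nat.card Ω * Nat.card (stabilizer G a) := by
  rw [← index_stabilizer_of_transitive G a, Subgroup.index_mul_card]

/-- A subgroup of a transitive group of degree `p ^ f` whose index is prime to `p` is transitive. -/
theorem isPretransitive_of_not_dvd_index [Finite G] [Finite Ω] [IsPretransitive G Ω]
    {p f : ℕ} (hp : p.Prime) (hcard : Nat.card Ω = p ^ f) (P : Subgroup G)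
    (hP : ¬ p ∣ P.index) : IsPretransitive P Ω := by
  constructor
  intro a b
  suffices h : orbit P a = Set.univ by
    exact mem_orbit_iff.mp (h.symm ▸ Set.mem_univ b)
  have h0 : Nat.card (orbit P a) = ((stabilizer G a).subgroupOf P).index := by
    have hs : stabilizer P a = (stabilizer G a).subgroupOf P := by
      ext x
      simp [Subgroup.mem_subgroupOf, Subgroup.smul_def]
    rw [Nat.card_coe_set_eq, ← index_stabilizer, hs]
  have h1 : Nat.card Ω ∣ Nat.card (orbit P a) * P.index := by
    rw [h0]
    change Nat.card Ω ∣ (stabilizer G a).relIndex P * P.index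
    rw [← Subgroup.inf_relIndex_right, Subgroup.relIndex_mul_index inf_le_right,
      ← index_stabilizer_of_transitive G a]
    exact Subgroup.index_dvd_of_le inf_le_left
  have h2 : Nat.card Ω ∣ Nat.card (orbit P a) := by
    rw [hcard] at h1 ⊢
    exact ((hp.coprime_iff_not_dvd.2 hP).pow_left f).dvd_of_dvd_mul_right h1
  have h3 : 0 < Nat.card (orbit P a) := by
    have := (nonempty_orbit (M := P) a).to_subtype
    exact Nat.card_pos
  refine Set.eq_of_subset_of_ncard_le (Set.subset_univ _) ?_
  rw [Set.ncard_univ, ← Nat.card_coe_set_eq]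
  exact Nat.le_of_dvd h3 h2

/-- A Sylow `p`-subgroup of a transitive group of degree `p ^ f` is transitive. -/
theorem sylow_isPretransitive [Finite G] [Finite Ω] [IsPretransitive G Ω]
    {p f : ℕ} [Fact p.Prime] (hcard : Nat.card Ω = p ^ f) (P : Sylow p G) :
    IsPretransitive (P : Subgroup G) Ω :=
  isPretransitive_of_not_dvd_index (p := p) (f := f) Fact.out hcard (P : Subgroup G) P.not_dvd_index

end CfsgLib.Perm.Basic
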