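import Mathlib
import Cfsg.Agent.Lib.Perm.Basic

/-! Finite sharply doubly transitive groups: the regular elementary abelian normal subgroup. -/

namespace CfsgLib.Perm.Sharp2

open MulAction

variable {G : Type*} [Group G] {Ω : Type*} [MulAction G Ω]

theorem pairwise_free (hsharp : ∀ x : Fin 2 ↪ Ω, stabilizer G x = ⊥) {g : G} {a b : Ω}
    (hab : a ≠ b) (ha : g • a = a) (hb : g • b = b) : g = 1 := by
  let x : Fin 2 ↪ Ω := ⟨![a, b], by
    intro i j h
    fin_cases i <;> fin_cases j <;> simp_all⟩
  have : g ∈ stabilizer G x := by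
    rw [mem_stabilizer_iff]
    refine Function.Embedding.ext fun i => ?_
    fin_cases i
    · exact ha
    · exact hb
  rwa [hsharp x, Subgroup.mem_bot] at this

theorem pair_transitive (h2 : IsMultiplyPretransitive G Ω 2) {a b c d : Ω} (hab : a ≠ b)
    (hcd : c ≠ d) : ∃ g : G, g • a = c ∧ g • b = d :=
  (is_two_pretransitive_iff.mp h2) hab hcd

set_option maxHeartbeats 800000 in
/-- Structure theorem for finite sharply doubly transitive groups. -/
theorem structure_thm [Finite Ω] [Finite G] (h2 : IsMultiplyPretransitive G Ω 2)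
    (hfree : ∀ (g : G) (a b : Ω), a ≠ b → g • a = a → g • b = b → g = 1)
    (hn : 2 ≤ Nat.card Ω) :
    ∃ (p j : ℕ) (K : Subgroup G), p.Prime ∧ 1 ≤ j ∧ Nat.card Ω = p ^ j ∧ K.Normal ∧
      IsMulCommutative K ∧ (∀ x ∈ K, x ^ p = 1) ∧ IsPretransitive K Ω ∧
      (∀ a : Ω, stabilizer K a = ⊥) ∧ (∀ g : G, g ∈ K ↔ g = 1 ∨ ∀ a : Ω, g • a ≠ a) ∧
      Nat.card K = Nat.card Ω ∧ Nat.card G = Nat.card Ω * (Nat.card Ω - 1) := by
  classical
  have : IsPretransitive G Ω := isPretransitive_of_is_two_pretransitive (h2 := h2)
  have hne : Nonempty Ω := (Nat.card_pos_iff.mp (by omega)).1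
  have hnt : Nontrivial Ω := Finite.one_lt_card_iff_nontrivial.mp (by omega)
  set n := Nat.card Ω with hndef
  have hGa : ∀ a : Ω, Nat.card (stabilizer G a) = n - 1 := by
    intro a
    obtain ⟨b, hb⟩ := exists_ne a
    have : Nat.card (stabilizer G a) = Nat.card {x : Ω // x ≠ a} := by
      refine Nat.card_congr (Equiv.ofBijective
        (fun g => ⟨(g : G) • b, fun h => hb (MulAction.injective (g : G) (h.trans g.2.symm))⟩) ⟨?_, ?_⟩)
      · intro g g' h
        have h' : (g : G) • b = (g' : G) • b := congrArg Subtype.val h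
        have := hfree ((g' : G)⁻¹ * g) a b hb.symm
          (by rw [mul_smul, inv_smul_eq_iff]; exact g.2.trans g'.2.symm)
          (by rw [mul_smul, h', inv_smul_smul])
        exact Subtype.ext (inv_mul_eq_one.mp this).symm
      · intro x
        obtain ⟨g, hga, hgb⟩ := pair_transitive h2 hb.symm x.2.symm
        exact ⟨⟨g, hga⟩, Subtype.ext hgb⟩
    rw [this, hndef]
    letI := Fintype.ofFinite Ω
    simp [Nat.card_eq_fintype_card, Fintype.card_subtype_compl, Fintype.card_subtype_eq]
  have hGcard : Nat.card G = n * (n - 1) := by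
    obtain ⟨a⟩ := hne
    rw [CfsgLib.Perm.Basic.card_eq_mul_stabilizer (G := G) a, hGa]
  letI := Fintype.ofFinite G
  letI := Fintype.ofFinite Ω
  -- the fixed-point-free elements
  let S : Finset G := Finset.univ.filter (fun g => ∀ a : Ω, g • a ≠ a)
  let T : Ω → Finset G := fun a => Finset.univ.filter (fun g => g • a = a ∧ g ≠ 1)
  have hT : ∀ a, (T a).card = n - 2 := by
    intro a
    have h1 : (Finset.univ.filter (fun g : G => g • a = a)).card = n - 1 := by
      rw [← hGa a, Nat.card_eq_fintype_card, Fintype.card_subtype]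
      congr 1
    have h3 : T a = (Finset.univ.filter (fun g : G => g • a = a)).erase 1 := by
      ext g; simp [T, and_comm]
    rw [h3, Finset.card_erase_of_mem (by simp), h1]
    omega
  have hS : S.card = n - 1 := by
    have hd : (Set.univ : Set Ω).PairwiseDisjoint T := by
      intro a _ b _ hab
      rw [Function.onFun, Finset.disjoint_left]
      intro g hg hg'
      simp only [T, Finset.mem_filter] at hg hg'
      exact hg.2.2 (hfree g a b hab hg.2.1 hg'.2.1)
    have hdj : Disjoint S (Finset.univ.biUnion T) := by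
      rw [Finset.disjoint_left]
      intro g hg hg'
      simp only [S, T, Finset.mem_filter, Finset.mem_biUnion] at hg hg'
      obtain ⟨a, -, -, ha, -⟩ := hg'
      exact hg.2 a ha
    have hun : (S ∪ Finset.univ.biUnion T) = Finset.univ.erase 1 := by
      ext g
      simp only [S, T, Finset.mem_union, Finset.mem_filter, Finset.mem_biUnion, Finset.mem_erase,
        Finset.mem_univ, true_and, and_true]
      constructor
      · rintro (h | ⟨a, -, h⟩)
        · rintro rfl
          obtain ⟨a⟩ := hne
          exact h a (one_smul G a)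
        · exact h
      · intro h
        by_cases hf : ∀ a : Ω, g • a ≠ a
        · exact Or.inl hf
        · push Not at hf
          obtain ⟨a, ha⟩ := hf
          exact Or.inr ⟨a, ha, h⟩
    have := congrArg Finset.card hun
    rw [Finset.card_union_of_disjoint hdj, Finset.card_biUnion (by simpa using hd),
      Finset.sum_congr rfl (fun a _ => hT a), Finset.sum_const, Finset.card_univ,
      Finset.card_erase_of_mem (Finset.mem_univ _), Finset.card_univ,
      ← Nat.card_eq_fintype_card, ← Nat.card_eq_fintype_card, hGcard, ← hndef, smul_eq_mul] at this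
    obtain ⟨m, hm⟩ : ∃ m, n = m + 2 := ⟨n - 2, by omega⟩
    rw [hm] at this ⊢
    simp only [show m + 2 - 2 = m by omega, show m + 2 - 1 = m + 1 by omega] at this ⊢
    have h4 : (m + 2) * (m + 1) = (m + 2) * m + (m + 2) := by ring
    omega
  obtain ⟨p, hp, hpn⟩ := Nat.exists_prime_and_dvd (n := n) (by omega)
  haveI : Fact p.Prime := ⟨hp⟩
  have hpd : ¬ p ∣ n - 1 := fun h => by
    have h1 := Nat.dvd_sub hpn h
    rw [show n - (n - 1) = 1 by omega] at h1
    exact hp.not_dvd_one h1
  obtain ⟨x, hx⟩ := exists_prime_orderOf_dvd_card' (G := G) p (by rw [hGcard]; exact hpn.mul_right _)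
  have hxS : ∀ a : Ω, x • a ≠ a := by
    intro a ha
    have hm : x ∈ stabilizer G a := ha
    have h1 := Subgroup.orderOf_dvd_natCard _ hm
    rw [hx, hGa] at h1
    exact hpd h1
  have hcent : ∀ y : G, (∀ a : Ω, y • a ≠ a) → ∀ g ∈ Subgroup.centralizer ({y} : Set G),
      ∀ a : Ω, g • a = a → g = 1 := by
    intro y hy g hg a ha
    refine hfree g a (y • a) (hy a).symm ha ?_
    rw [← mul_smul, Subgroup.mem_centralizer_singleton_iff.mp hg, mul_smul, ha]
  have hClass : ∀ y ∈ S, IsConj x y ∧ Nat.card (Subgroup.centralizer ({y} : Set G)) = n := by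
    have hkey : ∀ y : G, (∀ a : Ω, y • a ≠ a) →
        ((conjugatesOf y).toFinset = S ∧ Nat.card (Subgroup.centralizer ({y} : Set G)) = n) := by
      intro y hy
      obtain ⟨a⟩ := hne
      have h1 : Nat.card (Subgroup.centralizer ({y} : Set G)) ≤ n := by
        refine Nat.card_le_card_of_injective (fun g => (g : G) • a) fun g g' h => ?_
        have := hcent y hy ((g' : G)⁻¹ * g) (Subgroup.mul_mem _ (inv_mem g'.2) g.2) a
          (by rw [mul_smul]; exact (congrArg _ h).trans (inv_smul_smul _ _))
        exact Subtype.ext (inv_mul_eq_one.mp this).symm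
      have h2 : Nat.card (Subgroup.centralizer ({y} : Set G)) * (conjugatesOf y).toFinset.card =
          n * (n - 1) := by
        rw [← hGcard, ← Subgroup.card_mul_index (Subgroup.centralizer ({y} : Set G))]
        congr 1
        rw [← Set.ncard_eq_toFinset_card']
        have e : (conjugatesOf y) = orbit (ConjAct G) y := by
          ext z
          rw [ConjAct.mem_orbit_conjAct, isConj_comm]
          rfl
        rw [e, Subgroup.centralizer_eq_comap_stabilizer]
        exact ((Subgroup.index_comap_of_surjective (stabilizer (ConjAct G) y)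
          (f := (ConjAct.toConjAct (G := G)).toMonoidHom)
          (ConjAct.toConjAct (G := G)).surjective).trans
          (MulAction.index_stabilizer (ConjAct G) y)).symm
      have h3 : (conjugatesOf y).toFinset ⊆ S := by
        intro z hz
        rw [Set.mem_toFinset] at hz
        obtain ⟨g, rfl⟩ := isConj_iff.mp hz
        simp only [S, Finset.mem_filter, Finset.mem_univ, true_and]
        intro b hb
        apply hy (g⁻¹ • b)
        rw [mul_smul, mul_smul, ← eq_inv_smul_iff] at hb
        exact hb
      have h4 := Finset.card_le_card h3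
      rw [hS] at h4
      have h5 : (conjugatesOf y).toFinset.card = n - 1 := by
        rcases Nat.lt_or_ge (conjugatesOf y).toFinset.card (n - 1) with h | h
        · have := Nat.mul_lt_mul_of_le_of_lt h1 h (by omega)
          omega
        · omega
      refine ⟨Finset.eq_of_subset_of_card_le h3 (by omega), ?_⟩
      rw [h5] at h2
      exact Nat.eq_of_mul_eq_mul_right (by omega) h2
    intro y hy
    simp only [S, Finset.mem_filter, Finset.mem_univ, true_and] at hy
    refine ⟨?_, (hkey y hy).2⟩
    have : y ∈ (conjugatesOf x).toFinset := by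
      rw [(hkey x hxS).1]; simpa [S] using hy
    have h' : y ∈ conjugatesOf x := Set.mem_toFinset.mp this
    exact h'
  set K := Subgroup.centralizer ({x} : Set G) with hK
  have hxmem : x ∈ S := by simpa [S] using hxS
  have hcK : Nat.card K = n := (hClass x hxmem).2
  have hKS : ∀ g : G, g ∈ K ↔ g = 1 ∨ ∀ a : Ω, g • a ≠ a := by
    have hsub : (Finset.univ.filter (fun g => g ∈ K)) ⊆ insert 1 S := by
      intro g hg
      simp only [Finset.mem_filter, Finset.mem_univ, true_and] at hg
      rw [Finset.mem_insert]
      by_cases h1 : g = 1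
      · exact Or.inl h1
      · exact Or.inr (by simp [S]; exact fun a ha => h1 (hcent x hxS g hg a ha))
    have hone : (1 : G) ∉ S := by
      obtain ⟨a⟩ := hne
      simp [S]
    have heq := Finset.eq_of_subset_of_card_le hsub (by
      rw [Finset.card_insert_of_notMem hone, hS]
      have : (Finset.univ.filter (fun g => g ∈ K)).card = n := by
        rw [← hcK, Nat.card_eq_fintype_card, Fintype.card_subtype]
      omega)
    intro g
    have := Finset.ext_iff.mp heq g
    simpa [S] using this
  have hnorm : K.Normal := ⟨fun g hg h => by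
    rw [hKS] at hg ⊢
    rcases hg with rfl | hg
    · exact Or.inl (by simp)
    · refine Or.inr fun a ha => hg (h⁻¹ • a) ?_
      rw [mul_smul, mul_smul, ← eq_inv_smul_iff] at ha
      exact ha⟩
  have hcomm : IsMulCommutative K := ⟨⟨fun u v => Subtype.ext (by
    rcases (hKS u).mp u.2 with hu | hu
    · simp [hu]
    · have hsub : K = Subgroup.centralizer ({(u : G)} : Set G) := by
        refine (Subgroup.eq_of_le_of_card_ge (fun g hg => ?_) ?_).symm
        · rw [hKS]
          by_cases h1 : g = 1
          · exact Or.inl h1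
          · exact Or.inr fun a ha => h1 (hcent u hu g hg a ha)
        · rw [hcK, (hClass u (by simpa [S] using hu)).2]
      have hv : (v : G) ∈ Subgroup.centralizer ({(u : G)} : Set G) := hsub ▸ v.2
      exact (Subgroup.mem_centralizer_singleton_iff.mp hv).symm)⟩⟩
  have hexp : ∀ g ∈ K, g ^ p = 1 := by
    intro g hg
    rcases (hKS g).mp hg with rfl | hg
    · simp
    · obtain ⟨h, rfl⟩ := isConj_iff.mp (hClass g (by simpa [S] using hg)).1
      rw [conj_pow, ← hx, pow_orderOf_eq_one]; simp
  have hpK : IsPGroup p K := fun g => ⟨1, Subtype.ext (by simpa using hexp g g.2)⟩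
  obtain ⟨j, hj⟩ := IsPGroup.iff_card.mp hpK
  have hreg : ∀ a : Ω, stabilizer K a = ⊥ := fun a => by
    rw [Subgroup.eq_bot_iff_forall]
    intro g hg
    exact Subtype.ext (hcent x hxS g g.2 a hg)
  refine ⟨p, j, K, hp, ?_, by rw [← hj, hcK], hnorm, hcomm, hexp, ?_, hreg, hKS, hcK, hGcard⟩
  · rcases Nat.eq_zero_or_pos j with h | h
    · rw [h, pow_zero, hcK] at hj; omega
    · exact h
  · constructor
    intro a b
    have hinj : Function.Injective (fun g : K => (g : G) • a) := fun g g' h => by
      have : g'⁻¹ * g ∈ stabilizer K a := by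
        rw [mem_stabilizer_iff, mul_smul, inv_smul_eq_iff]; exact h
      rw [hreg, Subgroup.mem_bot, inv_mul_eq_one] at this
      exact this.symm
    obtain ⟨g, hg⟩ := ((Fintype.bijective_iff_injective_and_card _).mpr ⟨hinj, by
      rw [← Nat.card_eq_fintype_card, ← Nat.card_eq_fintype_card]; exact hcK⟩).2 b
    exact ⟨g, hg⟩

end CfsgLib.Perm.Sharp2
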