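import Mathlib
import Cfsg.Prelude.Def_RootSubgroups

/-! Basic theory of rank one groups and abstract root subgroups. -/

namespace CfsgLib.Perm.RankOne

open Cfsg

variable {G : Type*} [Group G]

theorem conjBy_mul (A : Subgroup G) (g h : G) : conjBy A (g * h) = conjBy (conjBy A h) g := by
  rw [conjBy, conjBy, conjBy, Subgroup.map_map]
  congr 1
  ext x
  simp [mul_assoc]

theorem conjBy_one (A : Subgroup G) : conjBy A (1 : G) = A := by
  ext x; simp [conjBy]

theorem mem_conjBy {A : Subgroup G} {g x : G} : x ∈ conjBy A g ↔ g⁻¹ * x * g ∈ A := by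
  constructor
  · rintro ⟨a, ha, rfl⟩
    simpa [mul_assoc] using ha
  · intro h
    exact ⟨g⁻¹ * x * g, h, by simp [mul_assoc]⟩

theorem conjBy_conj_mem {A : Subgroup G} {g a : G} (ha : a ∈ A) : g * a * g⁻¹ ∈ conjBy A g :=
  ⟨a, ha, rfl⟩

theorem conjBy_inv_conjBy (A : Subgroup G) (g : G) : conjBy (conjBy A g) g⁻¹ = A := by
  rw [← conjBy_mul, inv_mul_cancel, conjBy_one]

theorem conjBy_conjBy_inv (A : Subgroup G) (g : G) : conjBy (conjBy A g⁻¹) g = A := by
  rw [← conjBy_mul, mul_inv_cancel, conjBy_one]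

theorem conjBy_inj {A B : Subgroup G} {g : G} (h : conjBy A g = conjBy B g) : A = B := by
  rw [← conjBy_inv_conjBy A g, h, conjBy_inv_conjBy]

theorem conjBy_eq_iff {A B : Subgroup G} {g : G} : conjBy A g = B ↔ A = conjBy B g⁻¹ := by
  constructor
  · rintro rfl; rw [conjBy_inv_conjBy]
  · rintro rfl; rw [conjBy_conjBy_inv]

theorem conjBy_eq_iff_mem_normalizer {A : Subgroup G} {g : G} :
    conjBy A g = A ↔ g ∈ Subgroup.normalizer (A : Set G) := by
  rw [Subgroup.mem_normalizer_iff]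
  constructor
  · intro h x
    constructor
    · intro hx; rw [← h]; exact conjBy_conj_mem hx
    · intro hx; rw [← h, mem_conjBy] at hx; simpa [mul_assoc] using hx
  · intro h
    ext x
    rw [mem_conjBy, h (g⁻¹ * x * g)]
    simp [mul_assoc]

theorem conjBy_of_mem {A : Subgroup G} {a : G} (ha : a ∈ A) : conjBy A a = A :=
  conjBy_eq_iff_mem_normalizer.mpr (Subgroup.le_normalizer ha)

theorem conjBy_of_comm {A : Subgroup G} {g : G} (h : ∀ a ∈ A, g * a = a * g) : conjBy A g = A := by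
  ext x
  rw [mem_conjBy]
  constructor
  · intro hx
    have := h _ hx
    simp only [← mul_assoc, mul_inv_cancel, one_mul] at this
    rwa [← mul_right_cancel this] at hx
  · intro hx
    rw [mul_assoc, ← h x hx, inv_mul_cancel_left]
    exact hx

theorem conjBy_sup (A B : Subgroup G) (g : G) : conjBy (A ⊔ B) g = conjBy A g ⊔ conjBy B g :=
  Subgroup.map_sup A B _

theorem conjBy_mono {A B : Subgroup G} (h : A ≤ B) (g : G) : conjBy A g ≤ conjBy B g :=
  Subgroup.map_mono h

theorem conjBy_ne_bot {A : Subgroup G} (h : A ≠ ⊥) (g : G) : conjBy A g ≠ ⊥ := by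
  rwa [conjBy, ne_eq, Subgroup.map_eq_bot_iff_of_injective]
  exact (MulAut.conj g).injective

variable {A B : Subgroup G}

theorem cond_conj (h : RankOneCondition A B) (g : G) :
    RankOneCondition (conjBy A g) (conjBy B g) := by
  rintro _ ⟨a, ha, rfl⟩ ha1
  obtain ⟨b, hb, hb1, he⟩ := h a ha (fun e => ha1 (by rw [e]; simp))
  refine ⟨g * b * g⁻¹, conjBy_conj_mem hb, by simpa using hb1, ?_⟩
  simp only [MulEquiv.coe_toMonoidHom, MulAut.conj_apply]
  rw [show (g * b * g⁻¹)⁻¹ = g * b⁻¹ * g⁻¹ by group, show (g * a * g⁻¹)⁻¹ = g * a⁻¹ * g⁻¹ by group,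
    conjBy_mul, conjBy_mul, conjBy_mul, conjBy_mul, conjBy_inv_conjBy, conjBy_inv_conjBy, he]

theorem pair_conj (h : IsRankOnePair A B) (g : G) : IsRankOnePair (conjBy A g) (conjBy B g) where
  ne e := h.ne (conjBy_inj e)
  nilpotent_left := by
    haveI := h.nilpotent_left
    exact Group.nilpotent_of_surjective ((MulAut.conj g).toMonoidHom.subgroupMap A)
      (MonoidHom.subgroupMap_surjective _ _)
  nilpotent_right := by
    haveI := h.nilpotent_right
    exact Group.nilpotent_of_surjective ((MulAut.conj g).toMonoidHom.subgroupMap B)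
      (MonoidHom.subgroupMap_surjective _ _)
  cond_left := cond_conj h.cond_left g
  cond_right := cond_conj h.cond_right g

theorem right_ne_bot (h : IsRankOnePair A B) : B ≠ ⊥ := by
  intro hB
  have hA : A ≠ ⊥ := fun hA => h.ne (hA.trans hB.symm)
  obtain ⟨⟨a, ha⟩, ha1⟩ := exists_ne_one_of_ne_bot hA
  obtain ⟨b, hb, hb1, -⟩ := h.cond_left a ha (fun e => ha1 (Subtype.ext e))
  rw [hB, Subgroup.mem_bot] at hb
  exact hb1 hb
where
  exists_ne_one_of_ne_bot {A : Subgroup G} (h : A ≠ ⊥) : ∃ a : A, a ≠ 1 := by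
    have := (Subgroup.nontrivial_iff_ne_bot A).mpr h
    exact exists_ne 1

theorem left_ne_bot (h : IsRankOnePair A B) : A ≠ ⊥ := right_ne_bot (RankOnePair_symm h)

theorem eq_one_of_normalizes (h : IsRankOnePair A B) {a : G} (ha : a ∈ A)
    (hn : conjBy B a = B) : a = 1 := by
  by_contra ha1
  have hn' : conjBy B a⁻¹ = B := (conjBy_eq_iff.mp hn).symm
  obtain ⟨b, hb, -, he⟩ := h.cond_left a ha ha1
  rw [hn', conjBy_eq_iff, inv_inv, conjBy_of_mem hb] at he
  exact h.ne he

theorem inf_normalizer (h : IsRankOnePair A B) : A ⊓ Subgroup.normalizer (B : Set G) = ⊥ := by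
  rw [Subgroup.eq_bot_iff_forall]
  rintro a ⟨ha, hn⟩
  exact eq_one_of_normalizes h ha (conjBy_eq_iff_mem_normalizer.mpr hn)

theorem eq_of_conj_eq (h : IsRankOnePair A B) {a a' : G} (ha : a ∈ A) (ha' : a' ∈ A)
    (he : conjBy B a = conjBy B a') : a = a' := by
  have := eq_one_of_normalizes h (a := a'⁻¹ * a) (A.mul_mem (A.inv_mem ha') ha)
    (by rw [conjBy_mul, he, conjBy_inv_conjBy])
  exact (inv_mul_eq_one.mp this).symm

theorem existsUnique_b (h : IsRankOnePair A B) {a : G} (ha : a ∈ A) (ha1 : a ≠ 1) :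
    ∃! b : G, b ∈ B ∧ b ≠ 1 ∧ conjBy A b⁻¹ = conjBy B a⁻¹ := by
  obtain ⟨b, hb, hb1, he⟩ := h.cond_left a ha ha1
  refine ⟨b, ⟨hb, hb1, he⟩, fun b' ⟨hb', _, he'⟩ => ?_⟩
  exact inv_injective (eq_of_conj_eq (RankOnePair_symm h) (B.inv_mem hb') (B.inv_mem hb) (he'.trans he.symm))

/-- the underlying set of the unipotent subgroups -/
theorem unipotentSubgroups_eq (h : IsRankOnePair A B) :
    unipotentSubgroups A B = insert A {C | ∃ a ∈ A, C = conjBy B a} := by
  set T : Set (Subgroup G) := insert A {C | ∃ a ∈ A, C = conjBy B a} with hT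
  have hB : ∀ b ∈ B, conjBy A b ∈ T := by
    intro b hb
    by_cases hb1 : b = 1
    · subst hb1; rw [conjBy_one]; exact Set.mem_insert _ _
    obtain ⟨a, ha, -, he⟩ := h.cond_right b⁻¹ (B.inv_mem hb) (by simpa using hb1)
    rw [inv_inv] at he
    exact Or.inr ⟨a⁻¹, A.inv_mem ha, he.symm⟩
  have hAT : ∀ a ∈ A, ∀ C ∈ T, conjBy C a ∈ T := by
    rintro a ha C (rfl | ⟨a', ha', rfl⟩)
    · exact Or.inl (conjBy_of_mem ha)
    · exact Or.inr ⟨a * a', A.mul_mem ha ha', (conjBy_mul _ _ _).symm⟩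
  have hBT : ∀ b ∈ B, ∀ C ∈ T, conjBy C b ∈ T := by
    rintro b hb C (rfl | ⟨a, ha, rfl⟩)
    · exact hB b hb
    · by_cases ha1 : a = 1
      · subst ha1
        rw [conjBy_one, conjBy_of_mem hb]
        exact Or.inr ⟨1, A.one_mem, (conjBy_one B).symm⟩
      obtain ⟨b', hb', -, he⟩ := h.cond_left a⁻¹ (A.inv_mem ha) (by simpa using ha1)
      rw [inv_inv] at he
      rw [← he, ← conjBy_mul]
      exact hB _ (B.mul_mem hb (B.inv_mem hb'))
  have hX : ∀ x ∈ A ⊔ B, ∀ C ∈ T, conjBy C x ∈ T ∧ conjBy C x⁻¹ ∈ T := by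
    intro x hx
    rw [← Subgroup.closure_eq A, ← Subgroup.closure_eq B, ← Subgroup.closure_union] at hx
    induction hx using Subgroup.closure_induction with
    | mem x hx =>
      intro C hC
      rcases hx with hx | hx
      · exact ⟨hAT x hx C hC, hAT _ (A.inv_mem hx) C hC⟩
      · exact ⟨hBT x hx C hC, hBT _ (B.inv_mem hx) C hC⟩
    | one => intro C hC; simp only [inv_one, conjBy_one]; exact ⟨hC, hC⟩
    | mul x y _ _ ihx ihy =>
      intro C hC
      rw [mul_inv_rev, conjBy_mul, conjBy_mul]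
      exact ⟨(ihx _ (ihy C hC).1).1, (ihy _ (ihx C hC).2).2⟩
    | inv x _ ih => intro C hC; rw [inv_inv]; exact (ih C hC).symm
  ext C
  constructor
  · rintro ⟨x, hx, rfl⟩
    exact (hX x hx A (Set.mem_insert _ _)).1
  · rintro (rfl | ⟨a, ha, rfl⟩)
    · exact ⟨1, one_mem _, (conjBy_one _).symm⟩
    · obtain ⟨⟨a₀, ha₀⟩, h1⟩ := right_ne_bot.exists_ne_one_of_ne_bot (left_ne_bot h)
      obtain ⟨b, hb, -, he⟩ := h.cond_left a₀ ha₀ (fun e => h1 (Subtype.ext e))
      refine ⟨a * (a₀ * b⁻¹), mul_mem (le_sup_left (a := A) ha) (mul_mem (le_sup_left (a := A) ha₀)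
        (le_sup_right (b := B) (B.inv_mem hb))), ?_⟩
      rw [conjBy_mul, conjBy_mul, he, conjBy_conjBy_inv]

theorem self_mem_unipotent (A B : Subgroup G) : A ∈ unipotentSubgroups A B :=
  ⟨1, one_mem _, (conjBy_one _).symm⟩

theorem right_mem_unipotent (h : IsRankOnePair A B) : B ∈ unipotentSubgroups A B := by
  rw [unipotentSubgroups_eq h]; exact Or.inr ⟨1, A.one_mem, (conjBy_one B).symm⟩

theorem conjBy_mem_unipotent {C : Subgroup G} (hC : C ∈ unipotentSubgroups A B) {x : G}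
    (hx : x ∈ A ⊔ B) : conjBy C x ∈ unipotentSubgroups A B := by
  obtain ⟨y, hy, rfl⟩ := hC
  exact ⟨x * y, mul_mem hx hy, (conjBy_mul _ _ _).symm⟩

theorem exists_conj_pair (h : IsRankOnePair A B) {C D : Subgroup G} (hC : C ∈ unipotentSubgroups A B)
    (hD : D ∈ unipotentSubgroups A B) (hCD : C ≠ D) :
    ∃ x ∈ A ⊔ B, conjBy A x = C ∧ conjBy B x = D := by
  obtain ⟨x, hx, rfl⟩ := hC
  have hD' := conjBy_mem_unipotent hD (inv_mem hx)
  rw [unipotentSubgroups_eq h] at hD'
  rcases hD' with e | ⟨a, ha, e⟩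
  · exact absurd (by rw [← conjBy_conjBy_inv D x, e]) hCD
  · exact ⟨x * a, mul_mem hx (le_sup_left (a := A) ha), by rw [conjBy_mul, conjBy_of_mem ha],
      by rw [conjBy_mul, ← e, conjBy_conjBy_inv]⟩

/-- Two distinct unipotent subgroups form a rank one pair generating the same group. -/
theorem pair_of_mem (h : IsRankOnePair A B) {C D : Subgroup G} (hC : C ∈ unipotentSubgroups A B)
    (hD : D ∈ unipotentSubgroups A B) (hCD : C ≠ D) : IsRankOnePair C D ∧ C ⊔ D = A ⊔ B := by
  obtain ⟨x, hx, rfl, rfl⟩ := exists_conj_pair h hC hD hCD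
  exact ⟨pair_conj h x, by rw [← conjBy_sup, conjBy_of_mem hx]⟩

/-- An element normalising all unipotent subgroups and lying in a normal subgroup doing so centralises. -/
theorem le_centralizer_of_fix (h : IsRankOnePair A B) {N : Set G}
    (hfix : ∀ n ∈ N, conjBy A n = A ∧ conjBy B n = B)
    (hnorm : ∀ n ∈ N, ∀ x ∈ A ⊔ B, x * n⁻¹ * x⁻¹ ∈ N) :
    ∀ n ∈ N, ∀ x ∈ A ⊔ B, n * x = x * n := by
  have key : ∀ {C D : Subgroup G}, IsRankOnePair C D → C ≤ A ⊔ B →
      (∀ n ∈ N, conjBy C n = C ∧ conjBy D n = D) → ∀ n ∈ N, ∀ c ∈ C, n * c = c * n := by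
    intro C D hCD hle hfix n hn c hc
    have h1 : n * c * n⁻¹ * c⁻¹ = 1 := by
      refine eq_one_of_normalizes hCD (C.mul_mem ?_ (C.inv_mem hc)) ?_
      · have := conjBy_conj_mem (g := n) hc
        rwa [(hfix n hn).1] at this
      · have hm := hnorm n hn c (hle hc)
        rw [show n * c * n⁻¹ * c⁻¹ = n * (c * n⁻¹ * c⁻¹) by group, conjBy_mul, (hfix _ hm).2,
          (hfix n hn).2]
    rw [mul_inv_eq_one, mul_inv_eq_iff_eq_mul] at h1
    exact h1
  intro n hn x hx
  rw [← Subgroup.closure_eq A, ← Subgroup.closure_eq B, ← Subgroup.closure_union] at hx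
  induction hx using Subgroup.closure_induction with
  | mem x hx =>
    rcases hx with hx | hx
    · exact key h le_sup_left hfix n hn x hx
    · exact key (RankOnePair_symm h) le_sup_right (fun m hm => (hfix m hm).symm) n hn x hx
  | one => simp
  | mul x y _ _ ihx ihy => rw [← mul_assoc, ihx, mul_assoc, ihy, mul_assoc]
  | inv x _ ih => rw [eq_inv_mul_iff_mul_eq, ← mul_assoc, ← ih, mul_inv_cancel_right]

/-- In a set of root subgroups a conjugate of a member by an element of another member generates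
with it an abelian group in the commutator case. -/
theorem commutatorCase_conj {S : Set (Subgroup G)} (hC : RootCommutatorCase S A B)
    (hBc : IsMulCommutative B) {a b x : G} (ha : a ∈ A) (hb : b ∈ B) (hx : x ∈ conjBy B a) :
    x * b = b * x := by
  obtain ⟨b', hb', rfl⟩ := hx
  simp only [MulEquiv.coe_toMonoidHom, MulAut.conj_apply]
  have hk : a * b' * a⁻¹ * b'⁻¹ ∈ ⁅A, B⁆ := Subgroup.commutator_mem_commutator ha hb'
  have h1 := hC.2.1 _ hk b (le_sup_right (a := A) hb)
  have h2 : b' * b = b * b' := congrArg Subtype.val (hBc.1.comm ⟨b', hb'⟩ ⟨b, hb⟩)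
  calc a * b' * a⁻¹ * b = a * b' * a⁻¹ * b'⁻¹ * (b' * b) := by group
    _ = (a * b' * a⁻¹ * b'⁻¹ * b) * b' := by rw [h2]; group
    _ = b * (a * b' * a⁻¹) := by rw [h1]; group

theorem commutes_of_bot (h : ⁅A, B⁆ = ⊥) {a b : G} (ha : a ∈ A) (hb : b ∈ B) : a * b = b * a := by
  have h' := Subgroup.commutator_eq_bot_iff_le_centralizer.mp h ha
  exact (Subgroup.mem_centralizer_iff.mp h' b hb).symm

theorem commCase_swap {S : Set (Subgroup G)} (hC : RootCommutatorCase S A B) :
    RootCommutatorCase S B A := by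
  obtain ⟨h1, h2, h3, h4⟩ := hC
  have he : ∀ a b : G, b * a * b⁻¹ * a⁻¹ = (a * b * a⁻¹ * b⁻¹)⁻¹ := fun a b => by group
  rw [RootCommutatorCase, Subgroup.commutator_comm B A]
  refine ⟨h1, fun c hc x hx => h2 c hc x (sup_comm B A ▸ hx), fun b hb hb1 => ?_, fun a ha ha1 => ?_⟩
  · rw [← h4 b hb hb1, ← Subgroup.closure_inv]
    congr 1
    ext x
    simp only [Set.mem_inv, Set.mem_image, SetLike.mem_coe]
    constructor <;> rintro ⟨a, ha, e⟩ <;> refine ⟨a, ha, ?_⟩
    · rw [he a b] at e; exact inv_injective e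
    · rw [he a b, e]
  · rw [← h3 a ha ha1, ← Subgroup.closure_inv]
    congr 1
    ext x
    simp only [Set.mem_inv, Set.mem_image, SetLike.mem_coe]
    constructor <;> rintro ⟨b, hb, e⟩ <;> refine ⟨b, hb, ?_⟩
    · rw [he, e, inv_inv]
    · rw [← e]; group

variable {S : Set (Subgroup G)}

theorem not_commute_pair (h : IsRankOnePair A B) : ⁅A, B⁆ ≠ ⊥ := by
  intro hb
  obtain ⟨⟨a, ha⟩, ha1⟩ := right_ne_bot.exists_ne_one_of_ne_bot (left_ne_bot h)
  exact ha1 (Subtype.ext (eq_one_of_normalizes h ha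
    (conjBy_of_comm fun b hb' => commutes_of_bot hb ha hb')))

theorem not_commCase_pair (hS : IsRootSubgroupSet S) (hB : B ∈ S) (h : IsRankOnePair A B) :
    ¬ RootCommutatorCase S A B := by
  intro hC
  obtain ⟨⟨a, ha⟩, ha1⟩ := right_ne_bot.exists_ne_one_of_ne_bot (left_ne_bot h)
  have ha1 : a ≠ 1 := fun e => ha1 (Subtype.ext e)
  obtain ⟨⟨b, hb⟩, hb1⟩ := right_ne_bot.exists_ne_one_of_ne_bot (right_ne_bot h)
  have hne : conjBy B a ≠ B := fun e => ha1 (eq_one_of_normalizes h ha e)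
  have hp := (pair_of_mem h (right_mem_unipotent h)
    (conjBy_mem_unipotent (right_mem_unipotent h) (le_sup_left (a := A) ha)) hne.symm).1
  exact hb1 (Subtype.ext (eq_one_of_normalizes hp hb
    (conjBy_of_comm fun x hx => (commutatorCase_conj hC (hS.commutative B hB) ha hb hx).symm)))

/-- A member with a rank one partner meets every other member trivially. -/
theorem inf_eq_bot_or_eq (hS : IsRootSubgroupSet S) {C : Subgroup G} (hC : C ∈ S)
    (h : IsRankOnePair A C) (hB : B ∈ S) : A ⊓ B = ⊥ ∨ A = B := by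
  by_contra hne
  push Not at hne
  obtain ⟨hinf, hAB⟩ := hne
  obtain ⟨⟨z, hzA, hzB⟩, hz1⟩ := right_ne_bot.exists_ne_one_of_ne_bot hinf
  have hz1 : z ≠ 1 := fun e => hz1 (Subtype.ext e)
  rcases hS.pair B hB C hC with h0 | h0 | h0
  · exact hz1 (eq_one_of_normalizes h hzA (conjBy_of_comm fun c hc => commutes_of_bot h0 hzB hc))
  · obtain ⟨c, hc, -, he⟩ := h.cond_left z hzA hz1
    obtain ⟨c', hc', -, he'⟩ := h0.cond_left z hzB hz1
    have hBA : B = conjBy A (c' * c⁻¹) := by
      rw [conjBy_mul, he, ← he', conjBy_conjBy_inv]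
    have hBm : B ∈ unipotentSubgroups A C :=
      ⟨_, le_sup_right (a := A) (C.mul_mem hc' (C.inv_mem hc)), hBA⟩
    obtain ⟨hp, -⟩ := pair_of_mem h (self_mem_unipotent A C) hBm hAB
    exact hz1 (eq_one_of_normalizes hp hzA (conjBy_of_mem hzB))
  · have hne : conjBy C z ≠ C := fun e => hz1 (eq_one_of_normalizes h hzA e)
    obtain ⟨hp, -⟩ := pair_of_mem h (right_mem_unipotent h)
      (conjBy_mem_unipotent (right_mem_unipotent h) (le_sup_left (a := A) hzA)) hne.symm
    obtain ⟨⟨c, hc⟩, hc1⟩ := right_ne_bot.exists_ne_one_of_ne_bot (right_ne_bot h)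
    exact hc1 (Subtype.ext (eq_one_of_normalizes hp hc
      (conjBy_of_comm fun x hx => (commutatorCase_conj h0 (hS.commutative C hC) hzB hc hx).symm)))

/-- A member lying in a rank one group of two members, and not central, is a unipotent subgroup. -/
theorem mem_unipotent_of_le (hS : IsRootSubgroupSet S) {C D : Subgroup G} (hC : C ∈ S) (hD : D ∈ S)
    (h : IsRankOnePair C D) (hA : A ∈ S) (hle : A ≤ C ⊔ D)
    (hnc : ¬ ∀ a ∈ A, ∀ x ∈ C ⊔ D, a * x = x * a) : A ∈ unipotentSubgroups C D := by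
  have hmem : ∀ E ∈ unipotentSubgroups C D, E ∈ S := by
    rintro E ⟨x, -, rfl⟩; exact hS.conj_mem C hC x
  obtain ⟨E, hE, hEA⟩ : ∃ E, (E = C ∨ E = D) ∧ ⁅A, E⁆ ≠ ⊥ := by
    by_contra hall
    push Not at hall
    apply hnc
    intro a ha x hx
    have h1 : x ∈ Subgroup.centralizer ({a} : Set G) := by
      refine (sup_le ?_ ?_ : C ⊔ D ≤ Subgroup.centralizer ({a} : Set G)) hx
      · intro c hc
        rw [Subgroup.mem_centralizer_singleton_iff]
        exact (commutes_of_bot (hall C (Or.inl rfl)) ha hc).symm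
      · intro c hc
        rw [Subgroup.mem_centralizer_singleton_iff]
        exact (commutes_of_bot (hall D (Or.inr rfl)) ha hc).symm
    exact (Subgroup.mem_centralizer_singleton_iff.mp h1).symm
  have hEu : E ∈ unipotentSubgroups C D := by
    rcases hE with rfl | rfl
    · exact self_mem_unipotent _ _
    · exact right_mem_unipotent h
  obtain ⟨F, hFu, hEF⟩ : ∃ F ∈ unipotentSubgroups C D, E ≠ F := by
    rcases hE with rfl | rfl
    · exact ⟨D, right_mem_unipotent h, h.ne⟩
    · exact ⟨C, self_mem_unipotent _ _, h.ne.symm⟩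
  obtain ⟨hEFp, hEFs⟩ := pair_of_mem h hEu hFu hEF
  rcases hS.pair A hA E (hmem E hEu) with h0 | h0 | h0
  · exact absurd h0 hEA
  · obtain ⟨x, hx, he⟩ : ∃ x ∈ A ⊔ E, A = conjBy E x := by
      obtain ⟨x, hx, he⟩ := right_mem_unipotent h0
      exact ⟨x⁻¹, inv_mem hx, by rw [he, conjBy_inv_conjBy]⟩
    rw [he]
    exact conjBy_mem_unipotent hEu (sup_le hle (hEFs ▸ le_sup_left) hx)
  · exfalso
    have hfix : ∀ a ∈ A, conjBy E a = E := by
      intro a ha
      by_contra hne
      obtain ⟨hp, -⟩ := pair_of_mem h hEu (conjBy_mem_unipotent hEu (hle ha)) (Ne.symm hne)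
      obtain ⟨⟨c, hc⟩, hc1⟩ := right_ne_bot.exists_ne_one_of_ne_bot (hS.ne_bot E (hmem E hEu))
      exact hc1 (Subtype.ext (eq_one_of_normalizes hp hc
        (conjBy_of_comm fun x hx => (commutatorCase_conj h0 (hS.commutative E (hmem E hEu)) ha hc hx).symm)))
    have hKE : ⁅A, E⁆ ≤ E := by
      rw [Subgroup.commutator_le]
      intro a ha e he
      rw [commutatorElement_def]
      refine E.mul_mem ?_ (E.inv_mem he)
      have := conjBy_conj_mem (g := a) he
      rwa [hfix a ha] at this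
    rcases inf_eq_bot_or_eq hS (hmem F hFu) hEFp h0.1 with h1 | h1
    · rw [inf_eq_right.mpr hKE] at h1
      exact hEA h1
    · apply hEA
      rw [Subgroup.commutator_eq_bot_iff_le_centralizer]
      intro a ha
      rw [Subgroup.mem_centralizer_iff]
      intro e he
      exact h0.2.1 e (h1 ▸ he) a (le_sup_left (b := E) ha)

theorem mem_unipotent_of_le_pair (hS : IsRootSubgroupSet S) {C D : Subgroup G} (hC : C ∈ S)
    (hD : D ∈ S) (h : IsRankOnePair C D) (hA : A ∈ S) (hB : IsRankOnePair A B)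
    (hle : A ⊔ B ≤ C ⊔ D) : A ∈ unipotentSubgroups C D := by
  refine mem_unipotent_of_le hS hC hD h hA (le_sup_left.trans hle) fun hc => ?_
  obtain ⟨⟨a, ha⟩, ha1⟩ := right_ne_bot.exists_ne_one_of_ne_bot (left_ne_bot hB)
  exact ha1 (Subtype.ext (eq_one_of_normalizes hB ha
    (conjBy_of_comm fun b hb => hc a ha b (hle (le_sup_right (a := A) hb)))))

/-- No element `z a` with `z ≠ 1` centralising `⟨A, B⟩` and `1 ≠ a ∈ A` is a root element. -/
theorem mul_not_mem_root (hS : IsRootSubgroupSet S) (hA : A ∈ S) (hB : B ∈ S)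
    (h : IsRankOnePair A B) {z a : G} (hz : z ∈ Subgroup.centralizer ((A ⊔ B : Subgroup G) : Set G))
    (hz1 : z ≠ 1) (ha : a ∈ A) (ha1 : a ≠ 1) : z * a ∉ rootElements S := by
  rintro ⟨hne, E, hE, hmem⟩
  have hzc : ∀ x ∈ A ⊔ B, z * x = x * z := fun x hx =>
    (Subgroup.mem_centralizer_iff.mp hz x hx).symm
  have hzB : conjBy B z = B := conjBy_of_comm fun b hb => hzc b (le_sup_right (a := A) hb)
  have hzaA : ∀ a' ∈ A, (z * a) * a' = a' * (z * a) := by
    intro a' ha'
    rw [mul_assoc, show a * a' = a' * a from congrArg Subtype.val ((hS.commutative A hA).1.comm ⟨a, ha⟩ ⟨a', ha'⟩),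
      ← mul_assoc, hzc a' (le_sup_left (b := B) ha'), mul_assoc]
  have hconj : conjBy B (z * a) = conjBy B a := by
    have : z * a = a * z := hzc a (le_sup_left (b := B) ha)
    rw [this, conjBy_mul, hzB]
  have hmove : conjBy B a ≠ B := fun e => ha1 (eq_one_of_normalizes h ha e)
  rcases hS.pair E hE B hB with h0 | h0 | h0
  · exact hmove (hconj.symm.trans (conjBy_of_comm fun b hb => commutes_of_bot h0 hmem hb))
  · obtain ⟨c, hc, -, he⟩ := h.cond_left a⁻¹ (A.inv_mem ha) (by simpa using ha1)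
    obtain ⟨c', hc', -, he'⟩ := h0.cond_left (z * a)⁻¹ (E.inv_mem hmem) (by rw [ne_eq, inv_eq_one]; exact hne)
    rw [inv_inv] at he he'
    rw [hconj] at he'
    have hEA : E = conjBy A (c' * c⁻¹) := by
      rw [conjBy_mul, he, ← he', conjBy_conjBy_inv]
    by_cases hcc : c' * c⁻¹ = 1
    · rw [hcc, conjBy_one] at hEA
      subst hEA
      have hzA : z ∈ E := by simpa using E.mul_mem hmem (E.inv_mem ha)
      exact hz1 (eq_one_of_normalizes h hzA hzB)
    · have hy := B.mul_mem hc' (B.inv_mem hc)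
      have hEA' : A ≠ E := fun e => hcc (eq_one_of_normalizes (RankOnePair_symm h) hy (by rw [← hEA, ← e]))
      obtain ⟨hp, -⟩ := pair_of_mem h (self_mem_unipotent A B)
        ⟨_, le_sup_right (a := A) hy, hEA⟩ hEA'
      exact hne (eq_one_of_normalizes (RankOnePair_symm hp) hmem (conjBy_of_comm hzaA))
  · obtain ⟨hp, -⟩ := pair_of_mem h (right_mem_unipotent h)
      (conjBy_mem_unipotent (right_mem_unipotent h) (le_sup_left (a := A) ha)) hmove.symm
    obtain ⟨⟨c, hc⟩, hc1⟩ := right_ne_bot.exists_ne_one_of_ne_bot (hS.ne_bot B hB)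
    exact hc1 (Subtype.ext (eq_one_of_normalizes hp hc
      (conjBy_of_comm fun x hx =>
        (commutatorCase_conj h0 (hS.commutative B hB) hmem hc (hconj.symm ▸ hx)).symm)))

end CfsgLib.Perm.RankOne
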