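import Mathlib
import Cfsg.Prelude.Def_RootSubgroups
import Cfsg.Agent.Lib.Perm.RankOne

/-! `SL₂` as a rank one group. -/

namespace CfsgLib.Perm.SL2Unipotent

open Cfsg CfsgLib.Perm.RankOne Matrix

variable {k : Type*} [Field k]

local notation "S₂" => Matrix.SpecialLinearGroup (Fin 2) k

def up (c : k) : Matrix.SpecialLinearGroup (Fin 2) k := ⟨!![1, c; 0, 1], by simp⟩
def low (c : k) : Matrix.SpecialLinearGroup (Fin 2) k := ⟨!![1, 0; c, 1], by simp⟩

theorem up_val (c : k) : (up c).1 = !![1, c; 0, 1] := rfl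

theorem low_val (c : k) : (low c).1 = !![1, 0; c, 1] := rfl

theorem sl_ext {g h : S₂} (h00 : g.1 0 0 = h.1 0 0) (h01 : g.1 0 1 = h.1 0 1)
    (h10 : g.1 1 0 = h.1 1 0) (h11 : g.1 1 1 = h.1 1 1) : g = h := by
  ext i j
  fin_cases i <;> fin_cases j <;> assumption

theorem up_mul (c d : k) : up c * up d = up (c + d) := by
  apply sl_ext <;> simp [up_val, Matrix.SpecialLinearGroup.coe_mul, Matrix.mul_apply, Fin.sum_univ_two, add_comm]

theorem low_mul (c d : k) : low c * low d = low (c + d) := by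
  apply sl_ext <;> simp [low_val, Matrix.SpecialLinearGroup.coe_mul, Matrix.mul_apply, Fin.sum_univ_two]

theorem up_zero : up (0 : k) = 1 := by apply sl_ext <;> simp [up_val]
theorem low_zero : low (0 : k) = 1 := by apply sl_ext <;> simp [low_val]
theorem up_inv (c : k) : (up c)⁻¹ = up (-c) :=
  inv_eq_of_mul_eq_one_right (by rw [up_mul, add_neg_cancel, up_zero])
theorem low_inv (c : k) : (low c)⁻¹ = low (-c) :=
  inv_eq_of_mul_eq_one_right (by rw [low_mul, add_neg_cancel, low_zero])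

theorem mem_upper {g : S₂} : g ∈ upperUnipotentSL2 k ↔ ∃ c, g = up c := by
  constructor
  · intro hg
    induction hg using Subgroup.closure_induction with
    | mem x hx => exact ⟨x.1 0 1, by apply sl_ext <;> simp [up_val, hx.1, hx.2.1, hx.2.2]⟩
    | one => exact ⟨0, up_zero.symm⟩
    | mul x y _ _ hx hy =>
      obtain ⟨c, rfl⟩ := hx; obtain ⟨d, rfl⟩ := hy; exact ⟨c + d, up_mul c d⟩
    | inv x _ hx => obtain ⟨c, rfl⟩ := hx; exact ⟨-c, up_inv c⟩
  · rintro ⟨c, rfl⟩; exact Subgroup.subset_closure (by simp [up_val])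

theorem mem_lower {g : S₂} : g ∈ lowerUnipotentSL2 k ↔ ∃ c, g = low c := by
  constructor
  · intro hg
    induction hg using Subgroup.closure_induction with
    | mem x hx => exact ⟨x.1 1 0, by apply sl_ext <;> simp [low_val, hx.1, hx.2.1, hx.2.2]⟩
    | one => exact ⟨0, low_zero.symm⟩
    | mul x y _ _ hx hy =>
      obtain ⟨c, rfl⟩ := hx; obtain ⟨d, rfl⟩ := hy; exact ⟨c + d, low_mul c d⟩
    | inv x _ hx => obtain ⟨c, rfl⟩ := hx; exact ⟨-c, low_inv c⟩
  · rintro ⟨c, rfl⟩; exact Subgroup.subset_closure (by simp [low_val])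

theorem sup_eq_top : lowerUnipotentSL2 k ⊔ upperUnipotentSL2 k = ⊤ := by
  have key : ∀ g : S₂, g.1 1 0 ≠ 0 → g ∈ lowerUnipotentSL2 k ⊔ upperUnipotentSL2 k := by
    intro g hg
    have hdet : g.1 0 0 * g.1 1 1 - g.1 0 1 * g.1 1 0 = 1 := by
      have := g.2; rwa [Matrix.det_fin_two] at this
    have : g = up ((g.1 0 0 - 1) / g.1 1 0) * low (g.1 1 0) * up ((g.1 1 1 - 1) / g.1 1 0) := by
      apply sl_ext <;> simp [up_val, low_val, Matrix.SpecialLinearGroup.coe_mul, Matrix.mul_apply, Fin.sum_univ_two] <;> field_simp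
      · ring
      · linear_combination -hdet
      · ring
    rw [this]
    exact mul_mem (mul_mem (Subgroup.mem_sup_right (mem_upper.mpr ⟨_, rfl⟩))
      (Subgroup.mem_sup_left (mem_lower.mpr ⟨_, rfl⟩))) (Subgroup.mem_sup_right (mem_upper.mpr ⟨_, rfl⟩))
  refine eq_top_iff.mpr fun g _ => ?_
  by_cases hg : g.1 1 0 = 0
  · have h11 : g.1 1 1 ≠ 0 := by
      intro h
      have := g.2
      rw [Matrix.det_fin_two, hg, h] at this
      simp at this
    have h1 := key (g * low 1) (by simpa [low_val, Matrix.SpecialLinearGroup.coe_mul, Matrix.mul_apply, Fin.sum_univ_two, hg] using h11)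
    simpa using mul_mem h1 (inv_mem (Subgroup.mem_sup_left (T := upperUnipotentSL2 k)
      (mem_lower.mpr ⟨(1 : k), rfl⟩)))
  · exact key g hg

theorem conj_low {s : k} (hs : s ≠ 0) (r : k) :
    (low s * up (-s⁻¹)) * low r * (low s * up (-s⁻¹))⁻¹ = up (-r / s ^ 2) := by
  rw [mul_inv_eq_iff_eq_mul]
  apply sl_ext <;> simp [up_val, low_val, Matrix.SpecialLinearGroup.coe_mul, Matrix.mul_apply, Fin.sum_univ_two] <;> field_simp <;> ring_nf <;> simp

theorem conj_eq {s : k} (hs : s ≠ 0) :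
    conjBy (lowerUnipotentSL2 k) (up s⁻¹)⁻¹ = conjBy (upperUnipotentSL2 k) (low s)⁻¹ := by
  have h : conjBy (lowerUnipotentSL2 k) (low s * up (-s⁻¹)) = upperUnipotentSL2 k := by
    ext x
    rw [mem_conjBy, mem_lower, mem_upper]
    constructor
    · rintro ⟨r, hr⟩
      exact ⟨-r / s ^ 2, by rw [← conj_low hs r, ← hr]; group⟩
    · rintro ⟨c, rfl⟩
      refine ⟨-c * s ^ 2, ?_⟩
      have := conj_low hs (-c * s ^ 2)
      rw [show -(-c * s ^ 2) / s ^ 2 = c by field_simp] at this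
      rw [← this]; group
  rw [← up_inv, conjBy_mul, conjBy_eq_iff] at h
  exact h

theorem isSpecialRankOnePair :
    IsSpecialRankOnePair (lowerUnipotentSL2 k) (upperUnipotentSL2 k) ∧
      HasAbelianUnipotents (lowerUnipotentSL2 k) (upperUnipotentSL2 k) := by
  have hAc : IsMulCommutative (lowerUnipotentSL2 k) := ⟨⟨fun x y => Subtype.ext (by
    obtain ⟨c, hc⟩ := mem_lower.mp x.2; obtain ⟨d, hd⟩ := mem_lower.mp y.2
    rw [Subgroup.coe_mul, Subgroup.coe_mul, hc, hd, low_mul, low_mul, add_comm])⟩⟩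
  have hBc : IsMulCommutative (upperUnipotentSL2 k) := ⟨⟨fun x y => Subtype.ext (by
    obtain ⟨c, hc⟩ := mem_upper.mp x.2; obtain ⟨d, hd⟩ := mem_upper.mp y.2
    rw [Subgroup.coe_mul, Subgroup.coe_mul, hc, hd, up_mul, up_mul, add_comm])⟩⟩
  have hup : ∀ c : k, up c = 1 → c = 0 := fun c h => by
    simpa [up_val] using congrArg (fun g : S₂ => g.1 0 1) h
  have hlow : ∀ c : k, low c = 1 → c = 0 := fun c h => by
    simpa [low_val] using congrArg (fun g : S₂ => g.1 1 0) h
  refine ⟨⟨⟨?_, ?_, ?_, ?_, ?_⟩, ?_⟩, hAc, hBc⟩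
  · intro e
    obtain ⟨c, hc⟩ := mem_upper.mp (e ▸ mem_lower.mpr ⟨(1 : k), rfl⟩)
    simpa [up_val, low_val] using congrArg (fun g : S₂ => g.1 1 0) hc
  · exact @CommGroup.isNilpotent _ { (inferInstance : Group _) with mul_comm := hAc.1.comm }
  · exact @CommGroup.isNilpotent _ { (inferInstance : Group _) with mul_comm := hBc.1.comm }
  · intro a ha ha1
    obtain ⟨s, rfl⟩ := mem_lower.mp ha
    have hs : s ≠ 0 := fun e => ha1 (by rw [e, low_zero])
    exact ⟨up s⁻¹, mem_upper.mpr ⟨_, rfl⟩, fun e => hs (inv_eq_zero.mp (hup _ e)), conj_eq hs⟩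
  · intro b hb hb1
    obtain ⟨t, rfl⟩ := mem_upper.mp hb
    have ht : t⁻¹ ≠ 0 := inv_ne_zero fun e => hb1 (by rw [e, up_zero])
    refine ⟨low t⁻¹, mem_lower.mpr ⟨_, rfl⟩, fun e => ht (hlow _ e), ?_⟩
    have := conj_eq ht
    rw [inv_inv] at this
    exact this.symm
  · intro a ha ha1 b hb hb1 he
    obtain ⟨s, rfl⟩ := mem_lower.mp ha
    obtain ⟨t, rfl⟩ := mem_upper.mp hb
    have hs : s ≠ 0 := fun e => ha1 (by rw [e, low_zero])
    have ht : t ≠ 0 := fun e => hb1 (by rw [e, up_zero])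
    have hmem : (up t)⁻¹ * low s * up t ∈ conjBy (upperUnipotentSL2 k) (low s)⁻¹ := by
      rw [← he, mem_conjBy]
      simpa [mul_assoc] using ha
    rw [mem_conjBy, inv_inv, mem_upper] at hmem
    obtain ⟨c, hc⟩ := hmem
    have h00 := congrArg (fun g : S₂ => g.1 0 0) hc
    simp [up_inv, low_inv, up_val, low_val, Matrix.SpecialLinearGroup.coe_mul, Matrix.mul_apply, Fin.sum_univ_two] at h00
    have hst : t = s⁻¹ := by
      have : t * s * (t * s - 1) = 0 := by linear_combination h00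
      rcases mul_eq_zero.mp this with h | h
      · exact absurd h (mul_ne_zero ht hs)
      · field_simp; linear_combination h
    subst hst
    rw [up_inv, low_inv]
    apply sl_ext <;> simp [up_val, low_val, Matrix.SpecialLinearGroup.coe_mul, Matrix.mul_apply, Fin.sum_univ_two] <;> field_simp <;> ring_nf <;> simp

end CfsgLib.Perm.SL2Unipotent
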