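import Cfsg.Agent.Lib.Perm.SharpThreeIndexTwo

/-!
# Sharply triply transitive groups of even degree are not simple

For `x` in the two-point stabiliser outside its invariant subgroup of index two, either `x` is an
odd permutation or the transfer to the stabiliser of the pair does not kill `x`.
-/

set_option autoImplicit false

namespace CfsgLib.Perm.SharpThreeFrame

open MulAction Equiv

variable {α : Type*} [Fintype α] [DecidableEq α] {G : Subgroup (Equiv.Perm α)} {a b c : α} {s : G}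

namespace Frame

variable (D : Frame G a b c s)
include D

theorem fusion {x g : G} (hx : x ∈ D.H) (hx1 : x ≠ 1) (h : g⁻¹ * x * g ∈ D.H) :
    (g • a = a ∧ g • b = b) ∨ (g • a = b ∧ g • b = a) := by
  have key : ∀ y, (g⁻¹ * x * g) • y = y → g • y = a ∨ g • y = b := by
    intro y hy
    rw [mul_smul, mul_smul, inv_smul_eq_iff] at hy
    by_contra hne
    push Not at hne
    exact hx1 (D.free x a b (g • y) D.ab hne.1.symm hne.2.symm hx.1 hx.2 hy)
  rcases key a h.1, key b h.2 with ⟨ha | ha, hb | hb⟩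
  · exact absurd (MulAction.injective g (ha.trans hb.symm)) D.ab
  · exact Or.inl ⟨ha, hb⟩
  · exact Or.inr ⟨ha, hb⟩
  · exact absurd (MulAction.injective g (ha.trans hb.symm)) D.ab

/-- The stabiliser of the pair. -/
def L (_ : Frame G a b c s) : Subgroup G where
  carrier := {g | (g • a = a ∧ g • b = b) ∨ (g • a = b ∧ g • b = a)}
  one_mem' := Or.inl ⟨one_smul _ _, one_smul _ _⟩
  mul_mem' := fun {g k} hg hk => by
    rcases hg with ⟨g1, g2⟩ | ⟨g1, g2⟩ <;> rcases hk with ⟨k1, k2⟩ | ⟨k1, k2⟩ <;>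
      simp [mul_smul, g1, g2, k1, k2]
  inv_mem' := fun {g} hg => by
    rcases hg with ⟨g1, g2⟩ | ⟨g1, g2⟩
    · exact Or.inl ⟨inv_smul_eq_iff.2 g1.symm, inv_smul_eq_iff.2 g2.symm⟩
    · exact Or.inr ⟨inv_smul_eq_iff.2 g2.symm, inv_smul_eq_iff.2 g1.symm⟩

theorem H_le_L : D.H ≤ D.L := fun _ h => Or.inl ⟨h.1, h.2⟩

theorem s_mem_L : s ∈ D.L := Or.inr ⟨D.sa, D.sb⟩

theorem swap_mul {g : G} (h1 : g • a = b) (h2 : g • b = a) : s * g ∈ D.H :=
  ⟨show (s * g) • a = a by rw [mul_smul, h1, D.sb], show (s * g) • b = b by rw [mul_smul, h2, D.sa]⟩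

theorem sign_eq_neg {x : G} (hx : x ∈ D.H) (heven : Even (orderOf x))
    (hodd : Odd ((Subgroup.zpowers x).subgroupOf D.H).index) : Equiv.Perm.sign (x : Perm α) = -1 := by
  classical
  set X := (Subgroup.zpowers x).subgroupOf D.H
  set xH : D.H := ⟨x, hx⟩
  have hxX : xH ∈ X := Subgroup.mem_subgroupOf.2 (Subgroup.mem_zpowers x)
  haveI := Fintype.ofFinite X
  haveI := Fintype.ofFinite (D.H ⧸ X)
  let τ : Perm X := Equiv.mulRight (⟨xH, hxX⟩⁻¹ : X)
  let σ : Perm ((D.H ⧸ X) × X) := Equiv.prodCongrRight fun _ => τ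
  have hzp : ∀ k : X, ∃ n : ℤ, ((k : D.H) : G) = x ^ n := fun k => by
    obtain ⟨n, hn⟩ := Subgroup.mem_zpowers_iff.1 (Subgroup.mem_subgroupOf.1 k.2)
    exact ⟨n, hn.symm⟩
  have hcyc : τ.IsCycle ∧ τ.support = Finset.univ := by
    have hne : ∀ k : X, τ k ≠ k := fun k e => by
      have h : ((k : D.H) : G) * x⁻¹ = (k : D.H) := congrArg (fun w : X => ((w : D.H) : G)) e
      rw [mul_eq_left, inv_eq_one] at h
      rw [h, orderOf_one] at heven
      exact Nat.not_even_one heven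
    refine ⟨⟨1, hne 1, fun k _ => ?_⟩, Finset.eq_univ_of_forall fun k => Perm.mem_support.2 (hne k)⟩
    obtain ⟨n, hn⟩ := hzp k
    refine ⟨-n, Subtype.ext (Subtype.ext ?_)⟩
    simp only [τ, Equiv.zpow_mulRight]
    show (((1 : X) * (⟨xH, hxX⟩⁻¹ : X) ^ (-n) : X) : D.H).1 = ((k : D.H) : G)
    rw [one_mul, inv_zpow', neg_neg, hn]
    rfl
  have hcard : Fintype.card X = orderOf x := by
    rw [← Nat.card_eq_fintype_card, Nat.card_congr (Subgroup.subgroupOfEquivOfLe (Subgroup.zpowers_le.2 hx)).toEquiv,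
      Nat.card_zpowers]
  have hτ : Perm.sign τ = -1 := by
    rw [hcyc.1.sign, hcyc.2, Finset.card_univ, hcard, heven.neg_one_pow]
  have hσ : Perm.sign σ = -1 := by
    rw [show Perm.sign σ = ∏ _q : D.H ⧸ X, Perm.sign τ from Perm.sign_prodCongrRight _, Finset.prod_const,
      Finset.card_univ, hτ, ← Nat.card_eq_fintype_card]
    exact hodd.neg_one_pow
  rw [← hσ]
  let i : (D.H ⧸ X) × X → α := fun p => (((p.1.out * (p.2 : D.H))⁻¹ : D.H) : G) • c
  have hi : Function.Injective i := by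
    rintro ⟨q, k⟩ ⟨q', k'⟩ e
    have e1 : q.out * (k : D.H) = q'.out * (k' : D.H) :=
      inv_injective (Subtype.ext (D.eq_of_smul_c (Subtype.prop _) (Subtype.prop _) e))
    have hq : q = q' := by
      rw [← q.out_eq', ← q'.out_eq']
      refine QuotientGroup.eq.2 ?_
      rw [show q.out⁻¹ * q'.out = (k : D.H) * ((k' : D.H))⁻¹ by
        calc q.out⁻¹ * q'.out = q.out⁻¹ * (q'.out * (k' : D.H)) * ((k' : D.H))⁻¹ := by group
          _ = q.out⁻¹ * (q.out * (k : D.H)) * ((k' : D.H))⁻¹ := by rw [e1]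
          _ = _ := by group]
      exact mul_mem k.2 (X.inv_mem k'.2)
    subst hq
    exact Prod.ext rfl (Subtype.ext (mul_left_cancel e1))
  symm
  refine Perm.sign_bij (fun p _ => i p) (fun p _ _ => ?_) (fun _ _ _ _ e => hi e) fun y hy => ?_
  · show i (σ p) = (x : Perm α) (i p)
    show ((((p.1.out * ((p.2 * (⟨xH, hxX⟩⁻¹ : X) : X) : D.H))⁻¹ : D.H)) : G) • c = x • i p
    rw [show i p = (((p.1.out * (p.2 : D.H))⁻¹ : D.H) : G) • c from rfl, smul_smul]
    congr 1
  · have hya : y ≠ a := fun e => hy (by rw [e]; exact hx.1)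
    have hyb : y ≠ b := fun e => hy (by rw [e]; exact hx.2)
    obtain ⟨g, ga, gb, gc⟩ := D.trans y hya hyb
    set h : D.H := ⟨g, ga, gb⟩⁻¹ with hh
    set q : D.H ⧸ X := (h : D.H ⧸ X) with hq
    have hm : q.out⁻¹ * h ∈ X := QuotientGroup.eq.1 (q.out_eq'.trans hq)
    have hiy : i (q, ⟨_, hm⟩) = y := by
      show (((q.out * (q.out⁻¹ * h))⁻¹ : D.H) : G) • c = y
      rw [mul_inv_cancel_left, hh, inv_inv]
      exact gc
    exact ⟨(q, ⟨_, hm⟩), fun e => by
      have e' : (q.out⁻¹ * h) * (xH⁻¹ : D.H) = q.out⁻¹ * h := congrArg (fun p : (D.H ⧸ X) × X => (p.2 : D.H)) e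
      rw [mul_eq_left, inv_eq_one] at e'
      have hx1 : x = 1 := congrArg Subtype.val e'
      rw [hx1, orderOf_one] at heven
      exact Nat.not_even_one heven, hiy⟩

theorem not_simple : ¬ IsSimpleGroup G := by
  classical
  intro hsimple
  obtain ⟨N, hNH, hNn, hN2, hNs⟩ := D.exists_invariant_index_two
  haveI := hNn
  -- homomorphisms to the signs are trivial
  have htriv : ∀ φ : G →* ℤˣ, ∀ g, φ g = 1 := by
    intro φ g
    rcases (MonoidHom.normal_ker φ).eq_bot_or_eq_top with h | h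
    · exfalso
      have hinj := (MonoidHom.ker_eq_bot_iff φ).1 h
      have h2 := Nat.card_le_card_of_injective φ hinj
      rw [Nat.card_eq_fintype_card (α := ℤˣ), Fintype.card_units_int] at h2
      obtain ⟨k, hk, hkc⟩ := D.Kreg c D.ac.symm
      have hK := D.Kcard ▸ Subgroup.card_subgroup_dvd_card D.K
      have := Nat.le_of_dvd Nat.card_pos hK
      have hp3 : 3 ≤ D.p := by have := D.hp.two_le; have := D.hp2; omega
      have := Nat.le_self_pow D.hf.ne' D.p
      omega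
    · exact MonoidHom.mem_ker.1 (h ▸ Subgroup.mem_top g)
  -- an element of the two-point stabiliser outside `N`
  obtain ⟨x, hx, hxN⟩ : ∃ x ∈ D.H, x ∉ N := by
    by_contra h
    push Not at h
    rw [Subgroup.relIndex_eq_one.2 h] at hN2
    omega
  have hsqN : ∀ g ∈ D.H, g * g ∈ N := fun g hg =>
    Subgroup.mem_subgroupOf.1 (Subgroup.mul_self_mem_of_index_two (H := N.subgroupOf D.H) hN2 ⟨g, hg⟩)
  have heven : Even (orderOf x) := by
    rw [← Nat.not_odd_iff_even]
    rintro ⟨k, hk⟩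
    refine hxN ?_
    have e : x = (x * x) ^ (k + 1) := by
      rw [← pow_two, ← pow_mul, show 2 * (k + 1) = orderOf x + 1 by omega, pow_succ, pow_orderOf_eq_one, one_mul]
    rw [e]
    exact Subgroup.pow_mem _ (hsqN x hx) _
  set X := (Subgroup.zpowers x).subgroupOf D.H with hX
  by_cases hoddX : Odd X.index
  · have h1 := htriv (Perm.sign.comp G.subtype) x
    rw [show (Perm.sign.comp G.subtype) x = Perm.sign (x : Perm α) from rfl, D.sign_eq_neg hx heven hoddX] at h1
    exact absurd h1 (by decide)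
  rw [Nat.not_odd_iff_even] at hoddX
  -- the sign of `L` on the cosets of `N⟨s⟩`
  let M : Subgroup G :=
    { carrier := {g | g ∈ N ∨ s * g ∈ N}
      one_mem' := Or.inl (one_mem _)
      mul_mem' := fun {g k} hg hk => by
        rcases hg with hg | hg <;> rcases hk with hk | hk
        · exact Or.inl (mul_mem hg hk)
        · refine Or.inr ?_
          have := mul_mem (hNs g hg) hk
          rwa [show s * g * s⁻¹ * (s * k) = s * (g * k) by group] at this
        · refine Or.inr ?_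
          rw [← mul_assoc]; exact mul_mem hg hk
        · refine Or.inl ?_
          have := mul_mem (hNs _ hg) hk
          rwa [show s * (s * g) * s⁻¹ * (s * k) = (s * s) * (g * k) by group, D.s_sq, one_mul] at this
      inv_mem' := fun {g} hg => by
        rcases hg with hg | hg
        · exact Or.inl (inv_mem hg)
        · refine Or.inr ?_
          have := hNs _ (inv_mem hg)
          rwa [show s * (s * g)⁻¹ * s⁻¹ = s * g⁻¹ * (s * s)⁻¹ by group, D.s_sq, inv_one, mul_one] at this }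
  have hML : M ≤ D.L := by
    rintro g (hg | hg)
    · exact D.H_le_L (hNH hg)
    · have := mul_mem D.s_mem_L (D.H_le_L (hNH hg))
      rwa [← mul_assoc, D.s_sq, one_mul] at this
  have hxM : ∀ g ∈ D.H, g ∈ M → g ∈ N := by
    rintro g hg (h | h)
    · exact h
    · exact absurd (show (s * g) • a = a from (hNH h).1) (by rw [mul_smul, hg.1, D.sa]; exact D.ab.symm)
  set M' := M.subgroupOf D.L with hM'
  have hMi : M'.index = 2 := by
    rw [Subgroup.index_eq_two_iff]
    refine ⟨⟨x, D.H_le_L hx⟩, fun g => ?_⟩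
    rw [hM', Subgroup.mem_subgroupOf, Subgroup.mem_subgroupOf, Subgroup.coe_mul, xor_iff_iff_not]
    constructor
    · intro h1 h2
      have := mul_mem (M.inv_mem h2) h1
      rw [inv_mul_cancel_left] at this
      exact hxN (hxM x hx this)
    · intro h2
      have key : ∀ h ∈ D.H, h ∉ N → h * x ∈ N := fun h hh hhN =>
        Subgroup.mem_subgroupOf.1 ((Subgroup.mul_mem_iff_of_index_two (H := N.subgroupOf D.H) hN2
          (a := ⟨h, hh⟩) (b := ⟨x, hx⟩)).2 ⟨fun h' => absurd (Subgroup.mem_subgroupOf.1 h') hhN,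
            fun h' => absurd (Subgroup.mem_subgroupOf.1 h') hxN⟩)
      rcases g.2 with ⟨g1, g2⟩ | ⟨g1, g2⟩
      · exact Or.inl (key _ ⟨g1, g2⟩ fun h => h2 (Or.inl h))
      · refine Or.inr ?_
        rw [← mul_assoc]
        exact key _ (D.swap_mul g1 g2) fun h => h2 (Or.inr h)
  haveI : M'.Normal := Subgroup.normal_of_index_eq_two hMi
  haveI := Fintype.ofFinite (D.L ⧸ M')
  let φ : D.L →* ℤˣ := Perm.sign.comp (MulAction.toPermHom D.L (D.L ⧸ M'))
  have hφ : ∀ g : D.L, (g : G) ∉ M → φ g = -1 := by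
    intro g hg
    have hne : ∀ q : D.L ⧸ M', g • q ≠ q := by
      intro q
      induction q using QuotientGroup.induction_on with | H k => ?_
      intro e
      rw [MulAction.Quotient.smul_mk, QuotientGroup.eq, smul_eq_mul] at e
      refine hg (Subgroup.mem_subgroupOf.1 (?_ : g ∈ M'))
      have h2 := Subgroup.Normal.conj_mem inferInstance _ (M'.inv_mem e) k
      rwa [show k * ((g * k)⁻¹ * k)⁻¹ * k⁻¹ = g by group] at h2
    have hcard : Fintype.card (D.L ⧸ M') = 2 := by rw [← Nat.card_eq_fintype_card]; exact hMi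
    have hsupp : (MulAction.toPerm g : Perm (D.L ⧸ M')).support.card = 2 := by
      rw [show (MulAction.toPerm g : Perm (D.L ⧸ M')).support = Finset.univ from
        Finset.eq_univ_of_forall fun q => Perm.mem_support.2 (hne q), Finset.card_univ, hcard]
    show Perm.sign (MulAction.toPerm g : Perm (D.L ⧸ M')) = -1
    exact (Perm.card_support_eq_two.1 hsupp).sign_eq
  -- compute the transfer of `x`
  have hτ := htriv (MonoidHom.transfer φ) x
  haveI := Fintype.ofFinite (Quotient (orbitRel (Subgroup.zpowers x) (G ⧸ D.L)))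
  rw [MonoidHom.transfer_eq_prod_quotient_orbitRel_zpowers_quot] at hτ
  set F : Quotient (orbitRel (Subgroup.zpowers x) (G ⧸ D.L)) → ℤˣ := fun q =>
    φ ⟨q.out.out⁻¹ * x ^ Function.minimalPeriod (x • ·) q.out * q.out.out,
      QuotientGroup.out_conj_pow_minimalPeriod_mem D.L x q.out⟩ with hF
  obtain ⟨z, hz, hz1, hz2⟩ := D.exists_involution
  have hzi : z⁻¹ = z := inv_eq_of_mul_eq_one_right hz2
  obtain ⟨r, hr⟩ := heven
  have hpos : 0 < orderOf x := orderOf_pos x
  have hr0 : 0 < r := by omega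
  have hzr : x ^ r = z := D.involution_unique (Subgroup.pow_mem _ hx r)
    (fun e => by
      have hle := Nat.le_of_dvd hr0 (orderOf_dvd_of_pow_eq_one e)
      omega)
    (by rw [← pow_add, ← hr, pow_orderOf_eq_one]) hz hz1 hz2
  set i₀ : G ⧸ D.L := ((1 : G) : G ⧸ D.L) with hi0
  have hmem0 : ∀ g : G, (g : G ⧸ D.L) = i₀ ↔ g ∈ D.L := fun g => by
    rw [hi0, QuotientGroup.eq, mul_one, inv_mem_iff]
  have hfix : ∀ (g h : G), h • (g : G ⧸ D.L) = g ↔ g⁻¹ * h * g ∈ D.L := fun g h => by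
    rw [MulAction.Quotient.smul_mk, smul_eq_mul, QuotientGroup.eq, ← inv_mem_iff (H := D.L)]
    simp [mul_assoc]
  have hx0 : x • i₀ = i₀ := by rw [hi0, hfix]; simpa using D.H_le_L hx
  -- a point moved by `x` has period `orderOf x`, or half of it if the involution fixes it
  have hper : ∀ i : G ⧸ D.L, i ≠ i₀ → x ^ Function.minimalPeriod (x • ·) i = 1 ∨
      (x ^ Function.minimalPeriod (x • ·) i = z ∧ z • i = i) := by
    intro i hi
    set k := Function.minimalPeriod (x • ·) i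
    induction i using QuotientGroup.induction_on with | H g => ?_
    have h1 : (x ^ k) • (g : G ⧸ D.L) = g := MulAction.pow_smul_eq_iff_minimalPeriod_dvd.2 dvd_rfl
    by_cases hk1 : x ^ k = 1
    · exact Or.inl hk1
    refine Or.inr ⟨?_, ?_⟩
    · have hkH : x ^ k ∈ D.H := Subgroup.pow_mem _ hx _
      have hgL : g ∉ D.L := fun h => hi ((hmem0 g).2 h)
      refine D.involution_unique hkH hk1 ?_ hz hz1 hz2
      by_contra hk2
      rcases (hfix g _).1 h1 with ⟨e1, e2⟩ | ⟨e1, e2⟩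
      · exact hgL (D.fusion hkH hk1 ⟨e1, e2⟩)
      · have hsq : g⁻¹ * (x ^ k * x ^ k) * g = g⁻¹ * x ^ k * g * (g⁻¹ * x ^ k * g) := by group
        exact hgL (D.fusion (mul_mem hkH hkH) hk2 (hsq ▸
          ⟨show (g⁻¹ * x ^ k * g * (g⁻¹ * x ^ k * g)) • a = a by rw [mul_smul, e1, e2],
            show (g⁻¹ * x ^ k * g * (g⁻¹ * x ^ k * g)) • b = b by rw [mul_smul, e2, e1]⟩))
    · have hkH : x ^ k ∈ D.H := Subgroup.pow_mem _ hx _
      have hgL : g ∉ D.L := fun h => hi ((hmem0 g).2 h)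
      have : x ^ k = z := by
        refine D.involution_unique hkH hk1 ?_ hz hz1 hz2
        by_contra hk2
        rcases (hfix g _).1 h1 with ⟨e1, e2⟩ | ⟨e1, e2⟩
        · exact hgL (D.fusion hkH hk1 ⟨e1, e2⟩)
        · have hsq : g⁻¹ * (x ^ k * x ^ k) * g = g⁻¹ * x ^ k * g * (g⁻¹ * x ^ k * g) := by group
          exact hgL (D.fusion (mul_mem hkH hkH) hk2 (hsq ▸
            ⟨show (g⁻¹ * x ^ k * g * (g⁻¹ * x ^ k * g)) • a = a by rw [mul_smul, e1, e2],
              show (g⁻¹ * x ^ k * g * (g⁻¹ * x ^ k * g)) • b = b by rw [mul_smul, e2, e1]⟩))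
      exact this ▸ h1
  -- the cosets fixed by `z` other than the base form one orbit of the stabiliser
  have hzfix : ∀ g : G, g ∉ D.L → z • (g : G ⧸ D.L) = g → z • (g • a) = g • b ∧ g • a ≠ a ∧ g • a ≠ b := by
    intro g hgL h
    have hm := (hfix g z).1 h
    have h1 : ¬ ((g⁻¹ * z * g) • a = a ∧ (g⁻¹ * z * g) • b = b) := fun e => hgL (D.fusion hz hz1 e)
    rcases hm with e | ⟨e1, e2⟩
    · exact absurd e h1
    rw [mul_smul, mul_smul, inv_smul_eq_iff] at e1
    refine ⟨e1, fun e => ?_, fun e => ?_⟩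
    · rw [e, (hz.1 : z • a = a)] at e1
      exact D.ab (MulAction.injective g (e.trans e1))
    · rw [e, (hz.2 : z • b = b)] at e1
      exact D.ab (MulAction.injective g (e.trans e1))
  -- a coset fixed by `z`
  obtain ⟨g₁, g₁L, g₁z⟩ : ∃ g : G, g ∉ D.L ∧ z • (g : G ⧸ D.L) = g := by
    obtain ⟨k, hk, hkc⟩ := D.Kreg c D.ac.symm
    -- the pair `c, z c`
    have hzc : z • c ≠ c := fun e => hz1 (D.free z a b c D.ab D.ac D.bc hz.1 hz.2 e)
    have hzca : z • c ≠ a := fun e => D.ac.symm (MulAction.injective z (e.trans hz.1.symm))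
    have hzcb : z • c ≠ b := fun e => D.bc.symm (MulAction.injective z (e.trans hz.2.symm))
    obtain ⟨k', hk', hk'a⟩ : ∃ k' : G, k' • a = c ∧ k' • b = z • c := by
      -- move `b` to `a` by the swap, then translate and rotate
      obtain ⟨l, hl, hla⟩ := D.Kreg c D.ac.symm
      have h1 : (l * s) • a = c := by rw [mul_smul, D.sa, hla]
      set y := (l * s)⁻¹ • (z • c) with hy
      have hya : y ≠ a := fun e => hzc (by rw [← smul_inv_smul (l * s) (z • c), ← hy, e, h1])
      obtain ⟨l', hl', hl'b⟩ := D.Kreg y hya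
      refine ⟨l * s * l', ?_, ?_⟩
      · rw [mul_smul, D.Kfix l' hl', h1]
      · rw [mul_smul, hl'b, hy, smul_inv_smul]
    refine ⟨k', fun h => ?_, (hfix k' z).2 ?_⟩
    · rcases h with ⟨e1, -⟩ | ⟨e1, -⟩
      · exact D.ac (e1.symm.trans hk')
      · exact D.bc (e1.symm.trans hk')
    · refine Or.inr ⟨?_, ?_⟩ <;> rw [mul_smul, mul_smul, inv_smul_eq_iff]
      · rw [hk', hk'a]
      · rw [hk', hk'a, smul_smul, hz2, one_smul]
  have htrans : ∀ g : G, g ∉ D.L → z • (g : G ⧸ D.L) = g → ∃ h ∈ D.H, (g : G ⧸ D.L) = ((h * g₁ : G) : G ⧸ D.L) := by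
    intro g hgL hgz
    obtain ⟨e, ga, gb⟩ := hzfix g hgL hgz
    obtain ⟨e₁, ha₁, hb₁⟩ := hzfix g₁ g₁L g₁z
    obtain ⟨u, ua, ub, uc⟩ := D.trans _ ha₁ hb₁
    obtain ⟨w, wa, wb, wc⟩ := D.trans _ ga gb
    have hh : w * u⁻¹ ∈ D.H := mul_mem ⟨wa, wb⟩ (D.H.inv_mem ⟨ua, ub⟩)
    refine ⟨w * u⁻¹, hh, ?_⟩
    have k1 : (w * u⁻¹ * g₁) • a = g • a := by
      rw [mul_smul, mul_smul, ← uc, inv_smul_smul, wc]
    have k2 : (w * u⁻¹ * g₁) • b = g • b := by
      rw [mul_smul, ← e₁, smul_smul, D.involution_central hz hz1 hz2 hh, mul_smul, ← mul_smul (w * u⁻¹) g₁, k1, e]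
    refine QuotientGroup.eq.2 (Or.inl ⟨?_, ?_⟩) <;> rw [mul_smul, inv_smul_eq_iff]
    exacts [k1, k2]
  have horb : ∀ i j : G ⧸ D.L, (Quotient.mk'' i : Quotient (orbitRel (Subgroup.zpowers x) (G ⧸ D.L))) = Quotient.mk'' j →
      ∃ n : ℤ, x ^ n • j = i := by
    intro i j e
    obtain ⟨⟨w, hw⟩, hwe⟩ := Quotient.eq''.1 e
    obtain ⟨n, rfl⟩ := Subgroup.mem_zpowers_iff.1 hw
    exact ⟨n, hwe⟩
  -- the contributions
  set cst := φ ⟨g₁⁻¹ * z * g₁, (hfix g₁ z).1 g₁z⟩ with hcst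
  have hval : ∀ h ∈ D.H, F (Quotient.mk'' ((h * g₁ : G) : G ⧸ D.L)) = cst := by
    intro h hh
    set q : Quotient (orbitRel (Subgroup.zpowers x) (G ⧸ D.L)) := Quotient.mk'' ((h * g₁ : G) : G ⧸ D.L) with hq
    obtain ⟨n, hn⟩ := horb q.out _ (q.out_eq'.trans hq)
    have hrep : ((x ^ n * (h * g₁) : G) : G ⧸ D.L) = q.out := hn
    have hH' : x ^ n * h ∈ D.H := mul_mem (Subgroup.zpow_mem _ hx n) hh
    have hzq : z • q.out = q.out := by
      rw [← hrep]
      show ((z * (x ^ n * (h * g₁)) : G) : G ⧸ D.L) = _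
      rw [show z * (x ^ n * (h * g₁)) = z * (x ^ n * h) * g₁ by group,
        ← D.involution_central hz hz1 hz2 hH', show x ^ n * h * z * g₁ = x ^ n * h * (z * g₁) by group,
        show x ^ n * (h * g₁) = x ^ n * h * g₁ by group]
      show (x ^ n * h) • ((z * g₁ : G) : G ⧸ D.L) = (x ^ n * h) • (g₁ : G ⧸ D.L)
      exact congrArg _ g₁z
    have hne : q.out ≠ i₀ := fun e => by
      rw [← hrep] at e
      have h2 := mul_mem (D.L.inv_mem (D.H_le_L hH')) ((hmem0 _).1 e)
      rw [show (x ^ n * h)⁻¹ * (x ^ n * (h * g₁)) = g₁ by group] at h2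
      exact g₁L h2
    have hxz : x ^ Function.minimalPeriod (x • ·) q.out = z := by
      rcases hper _ hne with h1 | ⟨h1, -⟩
      · exfalso
        -- the period divides half the order
        have ho := (orderOf_dvd_iff_pow_eq_one.2 h1)
        have hdvd : Function.minimalPeriod (x • ·) q.out ∣ r :=
          MulAction.pow_smul_eq_iff_minimalPeriod_dvd.1 (by rw [hzr]; exact hzq)
        have := Nat.le_of_dvd hr0 (ho.trans hdvd)
        omega
      · exact h1
    set w := q.out.out with hw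
    have hwL : (x ^ n * (h * g₁))⁻¹ * w ∈ D.L := QuotientGroup.eq.1 (hrep.trans q.out.out_eq'.symm)
    have e : w⁻¹ * z * w = ((x ^ n * (h * g₁))⁻¹ * w)⁻¹ * (g₁⁻¹ * z * g₁) * ((x ^ n * (h * g₁))⁻¹ * w) := by
      calc w⁻¹ * z * w = w⁻¹ * (z * (x ^ n * h)) * (x ^ n * h)⁻¹ * w := by group
        _ = w⁻¹ * ((x ^ n * h) * z) * (x ^ n * h)⁻¹ * w := by rw [D.involution_central hz hz1 hz2 hH']
        _ = _ := by group
    show φ _ = cst
    rw [show (⟨q.out.out⁻¹ * x ^ Function.minimalPeriod (x • ·) q.out * q.out.out,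
        QuotientGroup.out_conj_pow_minimalPeriod_mem D.L x q.out⟩ : D.L) =
        ⟨_, hwL⟩⁻¹ * ⟨g₁⁻¹ * z * g₁, (hfix g₁ z).1 g₁z⟩ * ⟨_, hwL⟩ from Subtype.ext (by
          simp only [Subgroup.coe_mul, Subgroup.coe_inv]; rw [hxz, ← e]),
      map_mul, map_mul, map_inv, mul_comm (φ ⟨_, hwL⟩)⁻¹, inv_mul_cancel_right]
  -- split the product
  have hinj : ∀ h h' : D.H, (Quotient.mk'' (((h : G)⁻¹ * g₁ : G) : G ⧸ D.L) : Quotient (orbitRel (Subgroup.zpowers x) (G ⧸ D.L))) =
      Quotient.mk'' (((h' : G)⁻¹ * g₁ : G) : G ⧸ D.L) ↔ h⁻¹ * h' ∈ X := by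
    intro h h'
    constructor
    · intro e
      obtain ⟨n, hn⟩ := horb _ _ e
      have hm : g₁⁻¹ * ((h : G) * x ^ n * (h' : G)⁻¹) * g₁ ∈ D.L := by
        have := QuotientGroup.eq.1 (show ((x ^ n * ((h' : G)⁻¹ * g₁) : G) : G ⧸ D.L) = _ from hn).symm
        rwa [show ((h : G)⁻¹ * g₁)⁻¹ * (x ^ n * ((h' : G)⁻¹ * g₁)) = g₁⁻¹ * ((h : G) * x ^ n * (h' : G)⁻¹) * g₁ by
          group] at this
      set y := (h : G) * x ^ n * (h' : G)⁻¹ with hy
      have hyH : y ∈ D.H := mul_mem (mul_mem h.2 (Subgroup.zpow_mem _ hx n)) (D.H.inv_mem h'.2)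
      have hyX : y = 1 ∨ y = z := by
        by_cases hy1 : y = 1
        · exact Or.inl hy1
        refine Or.inr (D.involution_unique hyH hy1 ?_ hz hz1 hz2)
        by_contra hy2
        rcases hm with ⟨e1, e2⟩ | ⟨e1, e2⟩
        · exact g₁L (D.fusion hyH hy1 ⟨e1, e2⟩)
        · have hsq : g₁⁻¹ * (y * y) * g₁ = g₁⁻¹ * y * g₁ * (g₁⁻¹ * y * g₁) := by group
          exact g₁L (D.fusion (mul_mem hyH hyH) hy2 (hsq ▸
            ⟨show (g₁⁻¹ * y * g₁ * (g₁⁻¹ * y * g₁)) • a = a by rw [mul_smul, e1, e2],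
              show (g₁⁻¹ * y * g₁ * (g₁⁻¹ * y * g₁)) • b = b by rw [mul_smul, e2, e1]⟩))
      have hzX : z ∈ Subgroup.zpowers x := hzr ▸ Subgroup.pow_mem _ (Subgroup.mem_zpowers x) r
      refine Subgroup.mem_subgroupOf.2 ?_
      show (h : G)⁻¹ * h' ∈ Subgroup.zpowers x
      rcases hyX with hy1 | hy1
      · have : (h : G)⁻¹ * h' = x ^ n := by
          rw [hy, mul_inv_eq_one] at hy1
          rw [← hy1, inv_mul_cancel_left]
        rw [this]; exact Subgroup.zpow_mem _ (Subgroup.mem_zpowers x) n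
      · have : (h : G)⁻¹ * h' = z * x ^ n := by
          calc (h : G)⁻¹ * h' = (h : G)⁻¹ * (y⁻¹ * (h : G)) * x ^ n := by rw [hy]; group
            _ = (h : G)⁻¹ * (z * h) * x ^ n := by rw [hy1, hzi]
            _ = z * x ^ n := by rw [← D.involution_central hz hz1 hz2 h.2, inv_mul_cancel_left]
        rw [this]; exact mul_mem hzX (Subgroup.zpow_mem _ (Subgroup.mem_zpowers x) n)
    · intro hm
      obtain ⟨n, hn⟩ := Subgroup.mem_zpowers_iff.1 (Subgroup.mem_subgroupOf.1 hm)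
      refine Quotient.eq''.2 ⟨⟨x ^ n, Subgroup.zpow_mem _ (Subgroup.mem_zpowers x) n⟩, ?_⟩
      show ((x ^ n * ((h' : G)⁻¹ * g₁) : G) : G ⧸ D.L) = _
      rw [hn]
      show (((h : G)⁻¹ * h' * ((h' : G)⁻¹ * g₁) : G) : G ⧸ D.L) = _
      rw [← mul_assoc, mul_inv_cancel_right]
  let Φ : D.H ⧸ X → Quotient (orbitRel (Subgroup.zpowers x) (G ⧸ D.L)) :=
    Quotient.lift (fun h => Quotient.mk'' (((h : G)⁻¹ * g₁ : G) : G ⧸ D.L))
      fun h h' e => (hinj h h').2 (QuotientGroup.leftRel_apply.1 e)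
  have hΦ : Function.Injective Φ := by
    intro u v
    induction u using QuotientGroup.induction_on with | H h => ?_
    induction v using QuotientGroup.induction_on with | H h' => ?_
    exact fun e => QuotientGroup.eq.2 ((hinj h h').1 e)
  haveI := Fintype.ofFinite (D.H ⧸ X)
  set q₀ : Quotient (orbitRel (Subgroup.zpowers x) (G ⧸ D.L)) := Quotient.mk'' i₀ with hq0
  have hq0n : q₀ ∉ Finset.univ.image Φ := by
    rw [Finset.mem_image]
    rintro ⟨u, -, hu⟩
    induction u using QuotientGroup.induction_on with | H h => ?_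
    obtain ⟨n, hn⟩ := horb _ _ hu
    have h2 : (x ^ n) • i₀ = i₀ := by rw [hi0, hfix]; simpa using D.H_le_L (Subgroup.zpow_mem _ hx n)
    rw [h2] at hn
    have h3 := mul_mem (D.H_le_L h.2) ((hmem0 _).1 hn.symm)
    rw [mul_inv_cancel_left] at h3
    exact g₁L h3
  have hF0 : F q₀ = -1 := by
    obtain ⟨n, hn⟩ := horb q₀.out i₀ q₀.out_eq'
    have h2 : (x ^ n) • i₀ = i₀ := by rw [hi0, hfix]; simpa using D.H_le_L (Subgroup.zpow_mem _ hx n)
    rw [h2] at hn
    have hper0 : Function.minimalPeriod (x • ·) q₀.out = 1 := by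
      rw [← hn, Function.minimalPeriod_eq_one_iff_isFixedPt]
      exact hx0
    have hwL : q₀.out.out ∈ D.L := (hmem0 _).1 (q₀.out.out_eq'.trans hn.symm)
    show φ _ = -1
    rw [show (⟨q₀.out.out⁻¹ * x ^ Function.minimalPeriod (x • ·) q₀.out * q₀.out.out,
        QuotientGroup.out_conj_pow_minimalPeriod_mem D.L x q₀.out⟩ : D.L) =
        ⟨_, hwL⟩⁻¹ * ⟨x, D.H_le_L hx⟩ * ⟨_, hwL⟩ from Subtype.ext (by
          simp only [Subgroup.coe_mul, Subgroup.coe_inv]; rw [hper0, pow_one]),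
      map_mul, map_mul, map_inv, mul_comm (φ ⟨_, hwL⟩)⁻¹, inv_mul_cancel_right]
    exact hφ ⟨x, D.H_le_L hx⟩ fun h => hxN (hxM x hx h)
  rw [← Finset.prod_subset (Finset.subset_univ (insert q₀ (Finset.univ.image Φ)))] at hτ
  · rw [Finset.prod_insert hq0n, Finset.prod_image fun u _ v _ e => hΦ e,
      Finset.prod_congr rfl fun u _ => (by
        induction u using QuotientGroup.induction_on with | H h => ?_
        exact hval _ (D.H.inv_mem h.2) : F (Φ u) = cst),
      Finset.prod_const, Finset.card_univ, ← Nat.card_eq_fintype_card, show Nat.card (D.H ⧸ X) = X.index from rfl] at hτ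
    obtain ⟨r', hr'⟩ := hoddX
    change F q₀ * cst ^ X.index = 1 at hτ
    rw [hF0, hr', ← two_mul, pow_mul, Int.units_sq, one_pow] at hτ
    exact absurd hτ (by decide)
  · intro q _ hq
    rw [Finset.mem_insert, Finset.mem_image] at hq
    push Not at hq
    have hne : q.out ≠ i₀ := fun e => hq.1 (q.out_eq'.symm.trans (congrArg _ e))
    rcases hper _ hne with h1 | ⟨h1, h2⟩
    · show φ _ = 1
      rw [show (⟨q.out.out⁻¹ * x ^ Function.minimalPeriod (x • ·) q.out * q.out.out,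
          QuotientGroup.out_conj_pow_minimalPeriod_mem D.L x q.out⟩ : D.L) = 1 from Subtype.ext (by
            show q.out.out⁻¹ * x ^ _ * q.out.out = 1
            rw [h1]; group), map_one]
    · exfalso
      have hgL : q.out.out ∉ D.L := fun h => hne (q.out.out_eq'.symm.trans ((hmem0 _).2 h))
      obtain ⟨h, hh, e⟩ := htrans q.out.out hgL (by rw [QuotientGroup.out_eq']; exact h2)
      refine hq.2 ((⟨h, hh⟩⁻¹ : D.H) : D.H ⧸ X) (Finset.mem_univ _) ?_
      show Quotient.mk'' ((((⟨h, hh⟩⁻¹ : D.H) : G)⁻¹ * g₁ : G) : G ⧸ D.L) = q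
      rw [show (((⟨h, hh⟩⁻¹ : D.H) : G))⁻¹ = h from inv_inv h, ← e, QuotientGroup.out_eq']
      exact q.out_eq'

end Frame

end CfsgLib.Perm.SharpThreeFrame
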