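import Cfsg.Agent.Lib.Perm.Sharp2
import Cfsg.Agent.Lib.Involution.RecognisePSL2
import Cfsg.Agent.Lib.Classical.Dickson.Subfield

/-!
# Sharply triply transitive groups of odd degree

They satisfy the hypothesis of the recognition of `PSL₂(2^j)`: the centralizer of every involution
is an elementary abelian `2`-group.
-/

set_option autoImplicit false

namespace CfsgLib.Perm.SharpThreeOdd

open MulAction

variable {α : Type*} [Fintype α] [DecidableEq α]

theorem free_of_sharp (G : Subgroup (Equiv.Perm α)) (hsharp : ∀ x : Fin 3 ↪ α, stabilizer G x = ⊥) :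
    ∀ (g : G) (a b c : α), a ≠ b → a ≠ c → b ≠ c → g • a = a → g • b = b → g • c = c → g = 1 := by
  intro g a b c hab hac hbc ha hb hc
  let x : Fin 3 ↪ α := ⟨![a, b, c], fun i j h => by fin_cases i <;> fin_cases j <;> simp_all⟩
  have hg : g ∈ stabilizer G x := by
    rw [mem_stabilizer_iff]
    refine Function.Embedding.ext fun i => ?_
    fin_cases i
    · exact ha
    · exact hb
    · exact hc
  rwa [hsharp x, Subgroup.mem_bot] at hg

theorem free_of_fixedBy (G : Subgroup (Equiv.Perm α))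
    (hfix : ∀ g : G, 3 ≤ Nat.card (MulAction.fixedBy α g) → g = 1) :
    ∀ (g : G) (a b c : α), a ≠ b → a ≠ c → b ≠ c → g • a = a → g • b = b → g • c = c → g = 1 := by
  intro g a b c hab hac hbc ha hb hc
  refine hfix g ?_
  have hsub : ({a, b, c} : Set α) ⊆ MulAction.fixedBy α g := by
    rintro x (rfl | rfl | rfl) <;> assumption
  rw [Nat.card_coe_set_eq]
  refine le_of_eq_of_le ?_ (Set.ncard_le_ncard hsub (Set.toFinite _))
  exact (Set.ncard_eq_three.2 ⟨a, b, c, hab, hac, hbc, rfl⟩).symm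

/-- The degree three case: the whole symmetric group. -/
theorem eq_top_of_card_three (G : Subgroup (Equiv.Perm α)) (h3 : IsMultiplyPretransitive G α 3)
    (h : Fintype.card α = 3) : G = ⊤ := by
  refine eq_top_iff.2 fun σ _ => ?_
  let e : Fin 3 ≃ α := (Fintype.equivFinOfCardEq h).symm
  obtain ⟨g, hg⟩ := (isMultiplyPretransitive_iff.1 h3) e.toEmbedding (e.toEmbedding.trans σ.toEmbedding)
  have hσ : (g : Equiv.Perm α) = σ := by
    ext x
    have := congrArg (fun f : Fin 3 ↪ α => f (e.symm x)) hg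
    simpa [Subgroup.smul_def] using this
  exact hσ ▸ g.2

theorem exists_psl (G : Subgroup (Equiv.Perm α)) (h3 : IsMultiplyPretransitive G α 3)
    (hfree : ∀ (g : G) (a b c : α), a ≠ b → a ≠ c → b ≠ c → g • a = a → g • b = b → g • c = c → g = 1)
    (hodd : Odd (Fintype.card α)) (h5 : 5 ≤ Fintype.card α) :
    ∃ j : ℕ, 2 ≤ j ∧ Fintype.card α = 2 ^ j + 1 ∧ ∃ (F : Type) (_ : Field F) (_ : Fintype F),
      Fintype.card F = 2 ^ j ∧ Nonempty (G ≃* Matrix.ProjectiveSpecialLinearGroup (Fin 2) F) := by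
  classical
  set m := Fintype.card α with hm
  obtain ⟨o⟩ : Nonempty α := Fintype.card_pos_iff.1 (by omega)
  haveI := h3
  haveI : IsMultiplyPretransitive G α 2 := isMultiplyPretransitive_of_le (n := 3) (by norm_num) (by
    rw [Nat.card_eq_fintype_card]; omega)
  haveI : IsPretransitive G α := isPretransitive_of_is_two_pretransitive
  set S := stabilizer G o with hS
  set Ω := SubMulAction.ofStabilizer G o with hΩ
  have hΩcard : Nat.card Ω = m - 1 := by
    have h := SubMulAction.nat_card_ofStabilizer_add_one_eq (G := G) o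
    rw [Nat.card_eq_fintype_card (α := α), ← hm, ← hΩ] at h
    omega
  obtain ⟨p, j, K, hp, hj, hcard, hKn, hKc, hKp, hKt, hKfree, hKmem, hKcard, hScard⟩ :=
    CfsgLib.Perm.Sharp2.structure_thm (G := S) (Ω := Ω)
      ((SubMulAction.ofStabilizer.isMultiplyPretransitive (n := 2)).1 h3)
      (fun g a b hab ha hb => Subtype.ext (hfree (g : G) o a b (Ne.symm a.2) (Ne.symm b.2)
        (fun e => hab (Subtype.ext e)) g.2 (congrArg Subtype.val ha) (congrArg Subtype.val hb)))
      (by omega)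
  have hm1 : p ^ j = m - 1 := by rw [← hcard, hΩcard]
  have hp2 : p = 2 := by
    obtain ⟨r, hr⟩ := hodd
    have h2 : 2 ∣ p ^ j := ⟨r, by omega⟩
    exact ((Nat.prime_dvd_prime_iff_eq Nat.prime_two hp).1 (Nat.prime_two.dvd_of_dvd_pow h2)).symm
  subst hp2
  have hj2 : 2 ≤ j := by
    by_contra hj2
    interval_cases j <;> omega
  set T0 : Subgroup G := K.map S.subtype with hT0
  have hTcard : Nat.card T0 = 2 ^ j := by
    rw [hT0, Subgroup.card_map_of_injective S.subtype_injective, hKcard, hcard]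
  have hGcard : Nat.card G = 2 ^ j * (m * (m - 2)) := by
    rw [CfsgLib.Perm.Basic.card_eq_mul_stabilizer (G := G) o, hScard, Nat.card_eq_fintype_card, ← hm, hcard,
      show 2 ^ j - 1 = m - 2 by omega]
    ring
  have hnd : ¬ 2 ∣ T0.index := by
    have h := T0.card_mul_index
    rw [hTcard, hGcard] at h
    rw [Nat.eq_of_mul_eq_mul_left (pow_pos (by norm_num) j) h]
    obtain ⟨r, hr⟩ := hodd
    rw [Nat.Prime.dvd_mul Nat.prime_two]
    omega
  have hTp : IsPGroup 2 T0 := IsPGroup.of_card hTcard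
  set T : Sylow 2 G := hTp.toSylow hnd with hT
  have hTcoe : (T : Subgroup G) = T0 := rfl
  -- elements of `T0`
  have hTelem : ∀ t ∈ T0, t • o = o ∧ t ^ 2 = 1 ∧ (t ≠ 1 → ∀ a : α, a ≠ o → t • a ≠ a) := by
    rintro _ ⟨k, hk, rfl⟩
    refine ⟨k.2, congrArg Subtype.val (hKp k hk), fun hne a ha e => ?_⟩
    rcases (hKmem k).1 hk with h1 | h1
    · exact hne (by rw [h1]; rfl)
    · exact h1 ⟨a, ha⟩ (Subtype.ext e)
  have hTcomm : ∀ s ∈ T0, ∀ t ∈ T0, s * t = t * s := by
    rintro _ ⟨k, hk, rfl⟩ _ ⟨l, hl, rfl⟩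
    exact congrArg Subtype.val (congrArg Subtype.val (hKc.is_comm.comm ⟨k, hk⟩ ⟨l, hl⟩))
  have hnc : ¬ IsCyclic (T : Subgroup G) := by
    rw [hTcoe]
    intro hcyc
    have hd : Monoid.exponent T0 ∣ 2 := Monoid.exponent_dvd_of_forall_pow_eq_one fun t =>
      Subtype.ext (hTelem t t.2).2.1
    rw [IsCyclic.exponent_eq_card, hTcard] at hd
    have h1 := Nat.le_of_dvd two_pos hd
    have : 2 ^ 2 ≤ 2 ^ j := Nat.pow_le_pow_right two_pos hj2
    omega
  obtain ⟨t₀, ht₀, ht₀1⟩ : ∃ t ∈ T0, t ≠ 1 := (Subgroup.bot_or_exists_ne_one T0).resolve_left fun e => by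
    rw [e, Subgroup.card_bot] at hTcard
    have : 2 ^ 2 ≤ 2 ^ j := Nat.pow_le_pow_right two_pos hj2
    omega
  have hnn : ¬ (T : Subgroup G).Normal := by
    rw [hTcoe]
    intro hn
    obtain ⟨b, hb⟩ := Fintype.exists_ne_of_one_lt_card (show 1 < Fintype.card α by omega) o
    obtain ⟨g, hg⟩ := exists_smul_eq G o b
    have hmem : g⁻¹ * t₀ * g ∈ T0 := by simpa using hn.conj_mem t₀ ht₀ g⁻¹
    have h1 := (hTelem _ hmem).1
    rw [mul_smul, mul_smul, hg, inv_smul_eq_iff, hg] at h1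
    exact (hTelem t₀ ht₀).2.2 ht₀1 b hb h1
  have hcent : ∀ t ∈ T0, t ≠ 1 → ∀ c : G, c * t = t * c → c ∈ T0 := by
    intro t ht ht1 c hc
    obtain ⟨hti, -, htf⟩ := hTelem t ht
    have hci : c • o = o := by
      by_contra h
      refine htf ht1 (c • o) h ?_
      rw [← mul_smul, ← hc, mul_smul, hti]
    obtain ⟨a, ha⟩ := Fintype.exists_ne_of_one_lt_card (show 1 < Fintype.card α by omega) o
    haveI := hKt
    have hca : c • a ≠ o := fun h => ha (MulAction.injective c (h.trans hci.symm))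
    obtain ⟨k, hk⟩ := exists_smul_eq K (⟨a, ha⟩ : Ω) (⟨c • a, hca⟩ : Ω)
    set k' : G := ((k : S) : G) with hk'
    have hk'T : k' ∈ T0 := ⟨k, k.2, rfl⟩
    have hka : k' • a = c • a := congrArg Subtype.val hk
    have hd : k'⁻¹ * c * t = t * (k'⁻¹ * c) := by
      rw [mul_assoc, hc, ← mul_assoc, hTcomm _ (inv_mem hk'T) t ht, mul_assoc]
    have hda : (k'⁻¹ * c) • a = a := by rw [mul_smul, ← hka, inv_smul_smul]
    have hdi : (k'⁻¹ * c) • o = o := by
      rw [mul_smul, hci, inv_smul_eq_iff]; exact ((hTelem k' hk'T).1).symm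
    have hone := hfree (k'⁻¹ * c) o a (t • a) (Ne.symm ha)
      (fun e => ha (MulAction.injective t (hti.trans e).symm))
      (fun e => htf ht1 a ha e.symm) hdi hda (by rw [← mul_smul, hd, mul_smul, hda])
    rw [inv_mul_eq_one] at hone
    exact hone ▸ hk'T
  have hC : ∀ t : G, orderOf t = 2 → IsMulCommutative (Subgroup.centralizer ({t} : Set G)) ∧
      ∀ c ∈ Subgroup.centralizer ({t} : Set G), c ^ 2 = 1 := by
    intro t ht
    obtain ⟨Q, hQ⟩ := (IsPGroup.of_card (n := 1) (show Nat.card (Subgroup.zpowers t) = 2 ^ 1 by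
      rw [Nat.card_zpowers, ht, pow_one])).exists_le_sylow
    obtain ⟨u, hu⟩ := MulAction.exists_smul_eq G Q T
    have ht' : u * t * u⁻¹ ∈ T0 := by
      rw [← hTcoe, ← hu, Sylow.coe_subgroup_smul]
      exact ⟨t, hQ (Subgroup.mem_zpowers t), rfl⟩
    have ht1 : u * t * u⁻¹ ≠ 1 := fun e => by
      rw [conj_eq_one_iff] at e
      rw [e, orderOf_one] at ht
      omega
    have key : ∀ c ∈ Subgroup.centralizer ({t} : Set G), u * c * u⁻¹ ∈ T0 := fun c hc => by
      refine hcent _ ht' ht1 _ ?_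
      have h := Subgroup.mem_centralizer_singleton_iff.1 hc
      calc u * c * u⁻¹ * (u * t * u⁻¹) = u * (c * t) * u⁻¹ := by group
        _ = u * (t * c) * u⁻¹ := by rw [h]
        _ = _ := by group
    refine ⟨⟨⟨fun c d => Subtype.ext ?_⟩⟩, fun c hc => ?_⟩
    · have h := hTcomm _ (key c c.2) _ (key d d.2)
      show (c : G) * d = d * c
      calc (c : G) * d = u⁻¹ * ((u * c * u⁻¹) * (u * d * u⁻¹)) * u := by group
        _ = u⁻¹ * ((u * d * u⁻¹) * (u * c * u⁻¹)) * u := by rw [h]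
        _ = _ := by group
    · have h := (hTelem _ (key c hc)).2.1
      rwa [conj_pow, conj_eq_one_iff] at h
  obtain ⟨F, hF, hFin, hFc, e⟩ := CfsgLib.Involution.RecognisePSL2.nonempty_mulEquiv (T := T) ⟨hnc, hnn, hC⟩
  refine ⟨j, hj2, by omega, F, hF, hFin, ?_, e⟩
  rw [hFc]
  show Nat.card (T : Subgroup G) = _
  rw [hTcoe, hTcard]

section Char2

open Matrix

variable {F : Type*} [Field F] [Fintype F]

/-- In characteristic two `PSL₂ = SL₂`. -/
theorem psl_equiv_sl [CharP F 2] : Nonempty (ProjectiveSpecialLinearGroup (Fin 2) F ≃* SpecialLinearGroup (Fin 2) F) := by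
  have hbij : Function.Bijective (QuotientGroup.mk' (Subgroup.center (SpecialLinearGroup (Fin 2) F))) := by
    refine ⟨(MonoidHom.ker_eq_bot_iff _).1 ?_, QuotientGroup.mk'_surjective _⟩
    rw [QuotientGroup.ker_mk', Subgroup.eq_bot_iff_forall]
    intro z hz
    obtain ⟨r, hr, hz'⟩ := Matrix.SpecialLinearGroup.mem_center_iff.1 hz
    rw [Fintype.card_fin] at hr
    have hr1 : r = 1 := by
      have h0 : (r - 1) ^ 2 = 0 := by
        rw [CharTwo.sub_eq_add, CharTwo.add_sq, hr, one_pow, CharTwo.add_self_eq_zero]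
      exact sub_eq_zero.1 (pow_eq_zero_iff two_ne_zero |>.1 h0)
    refine Subtype.ext ?_
    rw [← hz', hr1]
    simp
  exact ⟨(MulEquiv.ofBijective _ hbij).symm⟩

/-- In characteristic two `PSL₂ = PGL₂`. -/
theorem psl_equiv_pgl [CharP F 2] :
    Nonempty (ProjectiveSpecialLinearGroup (Fin 2) F ≃* ProjGenLinGroup (Fin 2) F) := by
  refine ⟨MulEquiv.ofBijective _ ⟨ProjectiveSpecialLinearGroup.toPGL_injective,
    ProjectiveSpecialLinearGroup.toPGL_surj_of_roots fun r => ?_⟩⟩
  obtain ⟨k, hk⟩ := FiniteField.isSquare_of_char_two (ringChar.eq F 2) (r : F)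
  have hk0 : k ≠ 0 := fun h => r.ne_zero (by rw [hk, h, mul_zero])
  exact ⟨Units.mk0 k hk0, Units.ext (by rw [Fintype.card_fin, Units.val_pow_eq_pow_val, Units.val_mk0, pow_two, hk])⟩

end Char2

open Matrix in
open scoped CfsgLib.Classical.Dickson in
/-- `PGL₂(2)` is the symmetric group of degree three. -/
theorem perm_three_equiv (h : Fintype.card α = 3) :
    Nonempty (Equiv.Perm α ≃* ProjGenLinGroup (Fin 2) (ZMod 2)) := by
  haveI : Fintype (OnePoint (ZMod 2)) := Fintype.ofFinite _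
  have h3 : Fintype.card (OnePoint (ZMod 2)) = 3 := by
    rw [← Nat.card_eq_fintype_card, CfsgLib.Classical.Dickson.natCard_points, Nat.card_zmod]
  let φ : ProjGenLinGroup (Fin 2) (ZMod 2) →* Equiv.Perm α :=
    (Fintype.equivOfCardEq (h3.trans h.symm)).permCongrHom.toMonoidHom.comp
      (MulAction.toPermHom (ProjGenLinGroup (Fin 2) (ZMod 2)) (OnePoint (ZMod 2)))
  have hφ : Function.Injective φ :=
    (MulEquiv.injective (Fintype.equivOfCardEq (h3.trans h.symm)).permCongrHom).comp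
      (MulAction.toPerm_injective (α := ProjGenLinGroup (Fin 2) (ZMod 2)))
  refine ⟨(MulEquiv.ofBijective φ ((Nat.bijective_iff_injective_and_card φ).2 ⟨hφ, ?_⟩)).symm⟩
  rw [CfsgLib.Classical.Dickson.card_pgl2, Nat.card_zmod, Nat.card_perm, Nat.card_eq_fintype_card, h]
  rfl

end CfsgLib.Perm.SharpThreeOdd
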