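import Cfsg.Agent.Lib.Perm.SharpThreeIndexTwo
import Cfsg.Agent.Lib.Perm.Zassenhaus.Regular
import Cfsg.Agent.Lib.Classical.Dickson.Moebius

/-!
# Sharply triply transitive groups of degree `p ^ f + 1` with `f` odd

The two-point stabiliser is commutative, the translations form a field on which it acts by all
multiplications, and the swapping element inverts it: the group is `PGL(2, p ^ f)`.
-/

set_option autoImplicit false

namespace CfsgLib.Perm.SharpThreeFrame

open CfsgLib.Recognition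

theorem ringEquiv_pow_eq_one {p f : ℕ} [Fact p.Prime] {F : Type*} [Field F] [Finite F]
    (hF : Nat.card F = p ^ f) (σ : F ≃+* F) : σ ^ f = 1 := by
  classical
  haveI := Fintype.ofFinite F
  haveI : CharP F p := charP_of_card_eq_prime_pow (f := f) (by rw [← Nat.card_eq_fintype_card, hF])
  letI : Algebra (ZMod p) F := ZMod.algebra F p
  have hfr : Module.finrank (ZMod p) F = f := by
    have h := Module.natCard_eq_pow_finrank (K := ZMod p) (V := F)
    rw [hF, Nat.card_zmod] at h
    exact (Nat.pow_right_injective (Fact.out : p.Prime).two_le h).symm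
  let A : F ≃ₐ[ZMod p] F := AlgEquiv.ofRingEquiv (f := σ) fun x =>
    RingHom.congr_fun (Subsingleton.elim (σ.toRingHom.comp (algebraMap (ZMod p) F))
      (algebraMap (ZMod p) F)) x
  have hA : A ^ f = 1 := by
    have hc : Nat.card (F ≃ₐ[ZMod p] F) = f := by rw [IsGalois.card_aut_eq_finrank, hfr]
    conv_lhs => rw [← hc]
    exact pow_card_eq_one'
  have hpow : ∀ (n : ℕ) (x : F), (σ ^ n) x = (A ^ n) x := by
    intro n
    induction n with
    | zero => intro x; rfl
    | succ n ih => intro x; rw [pow_succ, pow_succ]; exact ih _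
  exact RingEquiv.ext fun x => by rw [hpow, hA]; rfl

namespace Frame

variable {α : Type*} [Fintype α] [DecidableEq α] {G : Subgroup (Equiv.Perm α)}
variable {a b c : α} {s : G} (D : Frame G a b c s)
include D

theorem ne_of_mem_H {g : G} (hg : g ∈ D.H) : g • c ≠ a ∧ g • c ≠ b :=
  ⟨fun e => D.ac.symm (MulAction.injective g (e.trans hg.1.symm)),
    fun e => D.bc.symm (MulAction.injective g (e.trans hg.2.symm))⟩

theorem toK_smul_ne (v : KAdd D) : D.toK v • b ≠ a := fun e =>
  D.ab.symm (MulAction.injective (D.toK v) (e.trans (D.Kfix _ (D.toK_mem v)).symm))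

theorem toK_smul_inj {v w : KAdd D} (h : D.toK v • b = D.toK w • b) : v = w :=
  D.toK_injective (D.eq_of_smul_b (D.toK_mem v) (D.toK_mem w) h)

theorem smul_toK (g : D.H) (v : KAdd D) : (g : G) • (D.toK v • b) = D.toK (D.rep g v) • b := by
  rw [D.smul_trans g.2, D.toK_rep]

theorem rep_transitive (v w : KAdd D) (hv : v ≠ 0) (hw : w ≠ 0) : ∃ g : D.H, D.rep g v = w := by
  have hne : ∀ u : KAdd D, u ≠ 0 → D.toK u • b ≠ b := fun u hu e =>
    hu (D.toK_injective (by rw [D.Kfree _ (D.toK_mem u) e, D.toK_zero]))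
  obtain ⟨g₁, ha₁, hb₁, hc₁⟩ := D.trans _ (D.toK_smul_ne v) (hne v hv)
  obtain ⟨g₂, ha₂, hb₂, hc₂⟩ := D.trans _ (D.toK_smul_ne w) (hne w hw)
  have h₁ : g₁ ∈ D.H := ⟨ha₁, hb₁⟩
  have h₂ : g₂ ∈ D.H := ⟨ha₂, hb₂⟩
  refine ⟨⟨g₂, h₂⟩ * (⟨g₁, h₁⟩ : D.H)⁻¹, D.toK_smul_inj ?_⟩
  rw [← D.smul_toK, Subgroup.coe_mul, Subgroup.coe_inv, mul_smul, ← hc₂]
  exact congrArg (g₂ • ·) (inv_smul_eq_iff.mpr hc₁.symm)

/-- The elements of the two-point stabiliser centralised by the swapping element. -/
theorem eq_of_conj_eq {z h : G} (hz : z ∈ D.H) (hz1 : z ≠ 1) (hz2 : z * z = 1) (hh : h ∈ D.H)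
    (e : s * h * s = h) : h = 1 ∨ h = z := by
  have hsc : s • (h • c) = h • c := by rw [D.s_smul, e]
  have hzc : s • (z • c) = z • c := by rw [D.s_smul, D.s_involution hz hz1 hz2]
  by_contra hne
  push Not at hne
  have h1 : c ≠ h • c := fun h' => hne.1 (D.eq_of_smul_c hh (one_mem _) (by rw [one_smul, ← h']))
  have h2 : c ≠ z • c := fun h' => hz1 (D.eq_of_smul_c hz (one_mem _) (by rw [one_smul, ← h']))
  have h3 : h • c ≠ z • c := fun h' => hne.2 (D.eq_of_smul_c hh hz h')
  have hs1 : s = 1 := D.free s c (h • c) (z • c) h1 h2 h3 D.sc hsc hzc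
  exact D.ab.symm (by rw [← D.sa, hs1, one_smul])

/-- The automorphism of the two-point stabiliser induced by the swapping element. -/
def swapHom (D : Frame G a b c s) : D.H →* D.H where
  toFun g := ⟨s * g * s, D.conj_s_mem g.2⟩
  map_one' := Subtype.ext (by show s * 1 * s = 1; rw [mul_one, D.s_sq])
  map_mul' g h := Subtype.ext (by
    show s * ((g : G) * h) * s = (s * g * s) * (s * h * s)
    calc s * ((g : G) * h) * s = s * g * 1 * h * s := by group
      _ = s * g * (s * s) * h * s := by rw [D.s_sq]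
      _ = _ := by group)

theorem swapHom_coe (g : D.H) : ((D.swapHom g : D.H) : G) = s * g * s := rfl

theorem swapHom_involutive : Function.Involutive D.swapHom := fun g => Subtype.ext (by
  rw [D.swapHom_coe, D.swapHom_coe]
  calc s * (s * (g : G) * s) * s = (s * s) * g * (s * s) := by group
    _ = g := by rw [D.s_sq, one_mul, mul_one])

/-- The two-point stabiliser is commutative. -/
theorem H_comm (hfo : Odd D.f) (x y : D.H) : x * y = y * x := by
  classical
  haveI := D.isSolvable_H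
  have hreg : Nat.card D.H = Nat.card (KAdd D) - 1 := by rw [D.card_H, D.card_KAdd]
  obtain ⟨F, hF, hFt, e, he⟩ : ∃ (F : Type) (_ : Field F) (_ : Fintype F) (e : KAdd D ≃+ F),
      ∀ g : D.H, ∃ (u : F) (σ : F ≃+* F), ∀ v, e (D.rep g v) = u * σ (e v) := by
    rcases (NearField.main D.rep_fpf hreg).1 with h | h
    · exact h
    exfalso
    rw [D.card_KAdd] at h
    simp only [Set.mem_insert_iff, Set.mem_singleton_iff] at h
    obtain ⟨r, hr, hpr⟩ : ∃ r : ℕ, r.Prime ∧ D.p ^ D.f = r ^ 2 := by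
      rcases h with h | h | h | h
      · exact ⟨5, by norm_num, by rw [h]; norm_num⟩
      · exact ⟨7, by norm_num, by rw [h]; norm_num⟩
      · exact ⟨11, by norm_num, by rw [h]; norm_num⟩
      · exact ⟨23, by norm_num, by rw [h]; norm_num⟩
    have hpeq : D.p = r := by
      refine (Nat.prime_dvd_prime_iff_eq D.hp hr).mp (D.hp.dvd_of_dvd_pow (n := 2) ?_)
      rw [← hpr]
      exact dvd_pow_self _ D.hf.ne'
    subst hpeq
    obtain ⟨k, hk⟩ := hfo
    have := Nat.pow_right_injective hr.two_le hpr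
    omega
  choose u τ hτ using he
  have hu : ∀ g, u g ≠ 0 := by
    intro g h0
    obtain ⟨v, hv⟩ := exists_ne (0 : KAdd D)
    have h1 := hτ g v
    rw [h0, zero_mul, map_eq_zero_iff _ e.injective] at h1
    have h2 := NearField.apply_inv_self (ρ := D.rep) g v
    rw [h1, map_zero] at h2
    exact hv h2.symm
  have hmul : ∀ g h : D.H, u (g * h) = u g * τ g (u h) ∧ τ (g * h) = τ g * τ h := by
    intro g h
    have h0 : ∀ w : F, u (g * h) * τ (g * h) w = u g * τ g (u h) * τ g (τ h w) := by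
      intro w
      have h1 := hτ (g * h) (e.symm w)
      rw [e.apply_symm_apply] at h1
      rw [← h1, map_mul, Module.End.mul_apply, hτ, hτ, e.apply_symm_apply, map_mul, mul_assoc]
    have h1 := h0 1
    rw [map_one, map_one, map_one, mul_one, mul_one] at h1
    refine ⟨h1, RingEquiv.ext fun w => ?_⟩
    have h2 := h0 w
    rw [← h1] at h2
    exact mul_left_cancel₀ (hu _) h2
  let T : D.H →* (F ≃+* F) := MonoidHom.mk' τ fun g h => (hmul g h).2
  haveI : Finite F := inferInstance
  have hFc : Nat.card F = D.p ^ D.f := by rw [← Nat.card_congr e.toEquiv, D.card_KAdd]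
  -- `2`-elements are central
  have hcentral : ∀ (k : ℕ) (g : D.H), g ^ 2 ^ k = 1 → ∀ h, h * g = g * h := by
    intro k g hg h
    have hT : ∀ g : D.H, g ^ 2 ^ k = 1 → τ g = 1 := by
      intro g hg
      have h1 : T g ^ 2 ^ k = 1 := by rw [← map_pow, hg, map_one]
      have h2 : T g ^ D.f = 1 := ringEquiv_pow_eq_one hFc _
      have h3 : orderOf (T g) ∣ Nat.gcd (2 ^ k) D.f :=
        Nat.dvd_gcd (orderOf_dvd_of_pow_eq_one h1) (orderOf_dvd_of_pow_eq_one h2)
      rw [Nat.Coprime.gcd_eq_one (Nat.Coprime.pow_left k (Nat.coprime_two_left.mpr hfo)),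
        Nat.dvd_one, orderOf_eq_one_iff] at h3
      exact h3
    have hug : u g ^ 2 ^ k = 1 := by
      have hpow : ∀ n, u (g ^ n) = u g ^ n := by
        intro n
        induction n with
        | zero =>
          have h1 := (hmul 1 1).1
          have h2 : τ 1 = 1 := hT 1 (one_pow _)
          rw [mul_one, h2, RingAut.one_apply] at h1
          rw [pow_zero, pow_zero]
          exact (mul_left_cancel₀ (hu 1) (by rw [mul_one, ← h1])).symm
        | succ n ih => rw [pow_succ', (hmul g _).1, hT g hg, RingAut.one_apply, ih, pow_succ']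
      rw [← hpow, hg]
      simpa using hpow 0
    have hfix : τ h (u g) = u g := by
      have hf' : τ h ^ D.f = 1 := ringEquiv_pow_eq_one hFc _
      clear hg hT
      generalize u g = ζ at hug ⊢
      induction k generalizing ζ with
      | zero => rw [pow_zero, pow_one] at hug; rw [hug, map_one]
      | succ k ih =>
        have h2 := ih (ζ * ζ) (by rw [← pow_two, ← pow_mul, ← pow_succ']; exact hug)
        rw [map_mul, mul_self_eq_mul_self_iff] at h2
        rcases h2 with h2 | h2
        · exact h2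
        · have hn : ∀ n : ℕ, (τ h ^ n) ζ = (-1) ^ n * ζ := by
            intro n
            induction n with
            | zero => simp
            | succ n ihn =>
              rw [pow_succ', RingAut.mul_apply, ihn, map_mul, map_pow, map_neg, map_one, h2,
                pow_succ]
              ring
          have h3 := hn D.f
          rw [hf', RingAut.one_apply, Odd.neg_one_pow hfo, neg_one_mul] at h3
          rw [h2, ← h3]
    refine D.rep_fpf.injective (LinearMap.ext fun v => e.injective ?_)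
    rw [hτ, hτ, (hmul h g).1, (hmul g h).1, (hmul h g).2, (hmul g h).2, hT g hg, hfix,
      RingAut.mul_apply, RingAut.mul_apply, RingAut.one_apply, RingAut.one_apply,
      RingAut.one_apply, mul_comm (u h)]
  haveI : Fact (Nat.Prime 2) := ⟨Nat.prime_two⟩
  obtain ⟨P⟩ : Nonempty (Sylow 2 D.H) := inferInstance
  have hPc : ∀ g ∈ (P : Subgroup D.H), ∀ h, h * g = g * h := by
    intro g hg
    obtain ⟨k, hk⟩ := P.isPGroup' ⟨g, hg⟩
    exact hcentral k g (congrArg Subtype.val hk)
  haveI : (P : Subgroup D.H).Normal :=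
    ⟨fun g hg h => by rw [hPc g hg h, mul_inv_cancel_right]; exact hg⟩
  obtain ⟨O, hO⟩ := Subgroup.exists_right_complement'_of_coprime (N := (P : Subgroup D.H))
    P.card_coprime_index
  have hOodd : Odd (Nat.card O) := by
    rw [← hO.symm.index_eq_card, Nat.odd_iff]
    have := P.not_dvd_index
    omega
  have hOmem : ∀ g : D.H, g ^ Nat.card O = 1 → g ∈ O := by
    intro g hg
    obtain ⟨⟨t, o⟩, hto⟩ := hO.2 g
    have hto' : (t : D.H) * o = g := hto
    have h1 : (t : D.H) ^ Nat.card O = 1 := by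
      rw [← hto', Commute.mul_pow (hPc t t.2 o).symm, show (o : D.H) ^ Nat.card O = 1 from
        congrArg Subtype.val (pow_card_eq_one' (x := o)), mul_one] at hg
      exact hg
    obtain ⟨k, hk⟩ := P.isPGroup' t
    have h2 : orderOf (t : D.H) ∣ Nat.gcd (2 ^ k) (Nat.card O) :=
      Nat.dvd_gcd (orderOf_dvd_of_pow_eq_one (congrArg Subtype.val hk))
        (orderOf_dvd_of_pow_eq_one h1)
    rw [Nat.Coprime.gcd_eq_one (Nat.Coprime.pow_left k (Nat.coprime_two_left.mpr hOodd)),
      Nat.dvd_one, orderOf_eq_one_iff] at h2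
    rw [← hto', h2, one_mul]
    exact o.2
  let φ : O →* O := MonoidHom.mk' (fun g => ⟨D.swapHom g, hOmem _ (by
      rw [← map_pow, show (g : D.H) ^ Nat.card O = 1 from congrArg Subtype.val
        (pow_card_eq_one' (x := g)), map_one])⟩) fun g h => Subtype.ext (map_mul D.swapHom _ _)
  obtain ⟨z, hz, hz1, hz2⟩ := D.exists_involution
  have hfp : MonoidHom.FixedPointFree φ := by
    intro g hg
    have hg' : s * ((g : D.H) : G) * s = ((g : D.H) : G) :=
      congrArg (fun w : O => ((w : D.H) : G)) hg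
    rcases D.eq_of_conj_eq hz hz1 hz2 (g : D.H).2 hg' with h | h
    · exact Subtype.ext (Subtype.ext h)
    · exfalso
      have h1 : orderOf g = 2 := orderOf_eq_prime (Subtype.ext (Subtype.ext (by
        rw [pow_two]; show ((g : D.H) : G) * (g : D.H) = 1; rw [h, hz2]))) fun hg1 => hz1 (by
          rw [← h, hg1]; rfl)
      have h2 : 2 ∣ Nat.card O := h1 ▸ orderOf_dvd_natCard g
      exact (Nat.not_even_iff_odd.mpr hOodd) (even_iff_two_dvd.mpr h2)
  have hinv : ∀ g : O, φ g = g⁻¹ := congrFun (hfp.coe_eq_inv_of_involutive fun g =>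
    Subtype.ext (D.swapHom_involutive g))
  have hOc : ∀ g h : O, g * h = h * g := by
    intro g h
    have h1 := map_mul φ g h
    rw [hinv, hinv, hinv, mul_inv_rev] at h1
    rw [← inv_inj, mul_inv_rev, mul_inv_rev, h1]
  obtain ⟨⟨t, o⟩, hto⟩ := hO.2 x
  obtain ⟨⟨t', o'⟩, hto'⟩ := hO.2 y
  rw [← (show (t : D.H) * o = x from hto), ← (show (t' : D.H) * o' = y from hto')]
  have hoo : (o : D.H) * o' = o' * o := congrArg Subtype.val (hOc o o')
  calc (t : D.H) * o * (t' * o') = t * (o * t') * o' := by group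
    _ = (t * t') * (o * o') := by rw [hPc t' t'.2 o]; group
    _ = (t' * t) * (o' * o) := by rw [hoo, hPc t' t'.2 t]
    _ = t' * (t * o') * o := by group
    _ = _ := by rw [← hPc t t.2 o']; group

/-- The translations form a field on which the two-point stabiliser acts by multiplications. -/
theorem exists_field (hcomm : ∀ x y : D.H, x * y = y * x) {e₀ : KAdd D} (he₀ : e₀ ≠ 0) :
    ∃ (F : Type) (_ : Field F) (_ : Fintype F) (E : KAdd D ≃+ F) (χ : D.H → F),
      Fintype.card F = D.p ^ D.f ∧ E e₀ = 1 ∧ ∀ h v, E (D.rep h v) = χ h * E v := by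
  classical
  haveI : IsMulCommutative (⊤ : Subgroup D.H) := ⟨⟨fun x y => Subtype.ext (hcomm x y)⟩⟩
  haveI hctop : IsCyclic (⊤ : Subgroup D.H) :=
    NearField.isCyclic_of_comm D.rep_fpf ⊤ fun x _ y _ => hcomm x y
  haveI : IsCyclic D.H := Subgroup.topEquiv.isCyclic.mp hctop
  obtain ⟨g₀, hg₀⟩ := IsCyclic.exists_generator (α := D.H)
  set L := Algebra.adjoin (ZMod D.p) {D.rep g₀} with hL
  have hnz : ∀ y ∈ L, ∀ v : KAdd D, v ≠ 0 → y v = 0 → y = 0 := fun y hy v hv =>
    CfsgLib.Perm.Zassenhaus.Regular.no_zero_divisor D.rep_transitive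
      (fun g => by rw [hcomm g g₀, mul_inv_cancel_right]; exact Subgroup.mem_zpowers g₀) hy hv
  have hrepL : ∀ h : D.H, D.rep h ∈ L := by
    intro h
    obtain ⟨n, rfl⟩ := mem_powers_iff_mem_zpowers.mpr (hg₀ h)
    show D.rep (g₀ ^ n) ∈ L
    rw [map_pow]
    exact pow_mem (Algebra.self_mem_adjoin_singleton _ _) _
  letI : CommRing L := Algebra.adjoinCommRingOfComm (ZMod D.p) (s := {D.rep g₀}) (by
    intro y hy z hz
    rw [Set.mem_singleton_iff] at hy hz
    rw [hy, hz])
  let ev : L →+ KAdd D :=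
    { toFun := fun y => (y : Module.End (ZMod D.p) (KAdd D)) e₀
      map_zero' := rfl
      map_add' := fun _ _ => rfl }
  have hinj : Function.Injective ev := (injective_iff_map_eq_zero ev).mpr fun y hy =>
    Subtype.ext (hnz y y.2 e₀ he₀ hy)
  have hsurj : Function.Surjective ev := by
    intro v
    rcases eq_or_ne v 0 with rfl | hv
    · exact ⟨0, map_zero ev⟩
    · obtain ⟨h, hh⟩ := D.rep_transitive e₀ v he₀ hv
      exact ⟨⟨D.rep h, hrepL h⟩, hh⟩
  let evE : L ≃+ KAdd D := AddEquiv.ofBijective ev ⟨hinj, hsurj⟩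
  haveI : Finite L := Finite.of_injective ev hinj
  haveI : Nontrivial L := evE.toEquiv.nontrivial
  haveI : NoZeroDivisors L := ⟨fun {y z} hyz => by
    by_contra hne
    push Not at hne
    have h1 : (z : Module.End (ZMod D.p) (KAdd D)) e₀ ≠ 0 := fun h =>
      hne.2 (Subtype.ext (hnz z z.2 e₀ he₀ h))
    refine hne.1 (Subtype.ext (hnz y y.2 _ h1 ?_))
    exact congrArg (fun w : L => (w : Module.End (ZMod D.p) (KAdd D)) e₀) hyz⟩
  haveI : IsDomain L := NoZeroDivisors.to_isDomain L
  letI : Fintype L := Fintype.ofFinite L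
  letI : Field L := Fintype.fieldOfDomain L
  haveI : Fintype (GaloisField D.p D.f) := Fintype.ofFinite _
  have hcard : Fintype.card L = Fintype.card (GaloisField D.p D.f) := by
    rw [← Nat.card_eq_fintype_card, ← Nat.card_eq_fintype_card, GaloisField.card _ _ D.hf.ne',
      Nat.card_congr evE.toEquiv, D.card_KAdd]
  let ι : L ≃+* GaloisField D.p D.f := FiniteField.ringEquivOfCardEq hcard
  refine ⟨GaloisField D.p D.f, inferInstance, inferInstance, evE.symm.trans ι.toAddEquiv,
    fun h => ι ⟨D.rep h, hrepL h⟩, ?_, ?_, fun h v => ?_⟩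
  · rw [← Nat.card_eq_fintype_card, GaloisField.card _ _ D.hf.ne']
  · show ι (evE.symm e₀) = 1
    rw [show evE.symm e₀ = 1 from (AddEquiv.symm_apply_eq evE).mpr rfl, map_one]
  · show ι (evE.symm (D.rep h v)) = ι ⟨D.rep h, hrepL h⟩ * ι (evE.symm v)
    rw [← map_mul]
    refine congrArg ι ((AddEquiv.symm_apply_eq evE).mpr ?_)
    show D.rep h v = D.rep h (evE (evE.symm v))
    rw [AddEquiv.apply_symm_apply]

/-- The point with given coordinate. -/
def pt {F : Type} [Field F] (D : Frame G a b c s) (E : KAdd D ≃+ F) (x : F) : α :=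
  D.toK (E.symm x) • b

/-- Coordinates with respect to the frame: the swapping element is the inversion. -/
theorem exists_coordinates (hcomm : ∀ x y : D.H, x * y = y * x) :
    ∃ (F : Type) (_ : Field F) (_ : Fintype F) (E : KAdd D ≃+ F),
      Fintype.card F = D.p ^ D.f ∧
      (∀ g ∈ D.H, ∃ u : F, u ≠ 0 ∧ ∀ x, g • D.pt E x = D.pt E (u * x)) ∧
      (∀ x : F, x ≠ 0 → s • D.pt E x = D.pt E x⁻¹) := by
  classical
  obtain ⟨z, e, hz, hz1, hz2, he, hec, hr, hrel⟩ := D.exists_r
  set e₀ : KAdd D := D.ofK e he with he₀def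
  have he₀ : e₀ ≠ 0 := fun h => D.bc (by
    rw [← hec, show e = 1 from (congrArg D.toK h).trans D.toK_zero, one_smul])
  obtain ⟨F, hF, hFt, E, χ, hFc, hE, hEχ⟩ := D.exists_field hcomm he₀
  have hχmul : ∀ g h, χ (g * h) = χ g * χ h := by
    intro g h
    have h1 := hEχ (g * h) e₀
    rw [map_mul, Module.End.mul_apply, hEχ, hEχ, hE, mul_one, mul_one] at h1
    exact h1.symm
  have hχ1 : χ 1 = 1 := by
    have h1 := hEχ 1 e₀
    rwa [map_one, Module.End.one_apply, hE, mul_one, eq_comm] at h1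
  have hχ0 : ∀ g, χ g ≠ 0 := by
    intro g h0
    have h1 := hχmul g g⁻¹
    rw [mul_inv_cancel, h0, zero_mul, hχ1] at h1
    exact one_ne_zero h1
  have hχinv : ∀ g, χ g⁻¹ = (χ g)⁻¹ := fun g =>
    eq_inv_of_mul_eq_one_left (by rw [← hχmul, inv_mul_cancel, hχ1])
  have hχinj : Function.Injective χ := fun g h hgh => D.rep_fpf.injective
    (LinearMap.ext fun v => E.injective (by rw [hEχ, hEχ, hgh]))
  have hχsurj : ∀ x : F, x ≠ 0 → ∃ h, χ h = x := by
    intro x hx
    obtain ⟨h, hh⟩ := D.rep_transitive e₀ (E.symm x) he₀ fun h0 => hx (by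
      rw [← E.apply_symm_apply x, h0, map_zero])
    exact ⟨h, by rw [← E.apply_symm_apply x, ← hh, hEχ, hE, mul_one]⟩
  have hscal : ∀ (g : D.H) (x : F), (g : G) • D.pt E x = D.pt E (χ g * x) := by
    intro g x
    show (g : G) • (D.toK _ • b) = _
    rw [D.smul_toK, show D.rep g (E.symm x) = E.symm (χ g * x) from
      E.injective (by rw [hEχ, E.apply_symm_apply, E.apply_symm_apply])]
    rfl
  have hneg : χ ⟨z, hz⟩ = -1 := by
    have h1 : D.rep ⟨z, hz⟩ e₀ = -e₀ := eq_neg_of_add_eq_zero_left (D.toK_injective (by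
      rw [D.toK_add, D.toK_rep, D.toK_zero]
      show z * e * z⁻¹ * e = 1
      rw [D.involution_inverts hz hz1 hz2 he, inv_mul_cancel]))
    have h2 := hEχ ⟨z, hz⟩ e₀
    rwa [h1, map_neg, hE, mul_one, eq_comm] at h2
  have hone : ∀ h : D.H, D.pt E (χ h) = (h : G) • c := by
    intro h
    rw [← mul_one (χ h), ← hscal]
    congr 1
    show D.toK (E.symm 1) • b = c
    rw [← hE, E.symm_apply_apply, D.toK_ofK, hec]
  have hswap : ∀ h : D.H, s • D.pt E (χ h) = D.pt E (χ (D.swapHom h)) := fun h => by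
    rw [hone, hone, D.s_smul, D.swapHom_coe]
  have hr' : ∀ x : F, (e * z) • D.pt E x = D.pt E (1 - x) := by
    intro x
    show (e * z) • (D.toK (E.symm x) • b) = D.toK (E.symm (1 - x)) • b
    rw [hr _ (D.toK_mem _)]
    congr 1
    rw [map_sub, show E.symm (1 : F) = e₀ from by rw [← hE, E.symm_apply_apply]]
    have h1 : D.toK (e₀ - E.symm x) * D.toK (E.symm x) = e := by
      rw [← D.toK_add, sub_add_cancel]; rfl
    rw [mul_inv_eq_iff_eq_mul]
    exact h1.symm
  have hzc : (D.swapHom ⟨z, hz⟩ : D.H) = ⟨z, hz⟩ := Subtype.ext (D.s_involution hz hz1 hz2)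
  have hzz : (⟨z, hz⟩ : D.H) * ⟨z, hz⟩ = 1 := Subtype.ext hz2
  have hcase : ∀ h : D.H, D.swapHom h = h⁻¹ ∨ D.swapHom h = h⁻¹ * ⟨z, hz⟩ := by
    intro h
    rcases D.eq_of_conj_eq hz hz1 hz2 (h * D.swapHom h).2 (by
      rw [← D.swapHom_coe, map_mul, D.swapHom_involutive, hcomm]) with e1 | e1
    · exact Or.inl (eq_inv_of_mul_eq_one_right (Subtype.ext e1))
    · exact Or.inr (eq_inv_mul_iff_mul_eq.mpr (Subtype.ext e1))
  have hval : ∀ h : D.H, χ (D.swapHom h) = (χ h)⁻¹ ∨ χ (D.swapHom h) = -(χ h)⁻¹ := by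
    intro h
    rcases hcase h with e1 | e1
    · exact Or.inl (by rw [e1, hχinv])
    · exact Or.inr (by rw [e1, hχmul, hχinv, hneg, mul_neg, mul_one])
  have h2F : (2 : F) ≠ 0 := by
    haveI : CharP F D.p := charP_of_card_eq_prime_pow (f := D.f) hFc
    intro h0
    have h1 : ((2 : ℕ) : F) = 0 := by exact_mod_cast h0
    rw [CharP.cast_eq_zero_iff F D.p] at h1
    exact D.hp2 ((Nat.prime_dvd_prime_iff_eq D.hp Nat.prime_two).mp h1)
  -- one is never sent off the elements inverted by the swapping element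
  have hkey : ∀ h : D.H, D.swapHom h = h⁻¹ → χ h ≠ 1 →
      ∃ h₁, χ h₁ = 1 - χ h ∧ D.swapHom h₁ = h₁⁻¹ := by
    intro h hh h1
    have hx0 := hχ0 h
    have hy : 1 - χ h ≠ 0 := sub_ne_zero.mpr (Ne.symm h1)
    have hy' : 1 - (χ h)⁻¹ ≠ 0 := sub_ne_zero.mpr fun e1 => h1 (inv_eq_one.mp e1.symm)
    obtain ⟨h₁, hh₁⟩ := hχsurj _ hy
    obtain ⟨h₂, hh₂⟩ := hχsurj _ hy'
    refine ⟨h₁, hh₁, ?_⟩
    have hrel' : (s * (e * z) * s) • D.pt E (χ h) = (e * z * s * (e * z)) • D.pt E (χ h) := by
      rw [hrel]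
    rw [mul_smul (s * (e * z)) s, mul_smul s (e * z), mul_smul (e * z * s) (e * z),
      mul_smul (e * z) s, hswap, hh, hχinv, hr', ← hh₂, hswap, hr', ← hh₁, hswap, hr'] at hrel'
    have hAB : χ (D.swapHom h₂) = 1 - χ (D.swapHom h₁) := by
      have := D.toK_smul_inj hrel'
      exact E.symm.injective this
    rcases hcase h₁ with e1 | e1
    · exact e1
    exfalso
    rw [e1, hχmul, hχinv, hneg, hh₁] at hAB
    rcases hval h₂ with e2 | e2
    · rw [e2, hh₂] at hAB
      field_simp at hAB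
      ring_nf at hAB
      apply h2F
      apply mul_left_cancel₀ hy
      linear_combination hAB
    · rw [e2, hh₂] at hAB
      field_simp at hAB
      ring_nf at hAB
      apply h2F
      apply mul_left_cancel₀ (mul_ne_zero hy hy)
      linear_combination hAB
  have hall : ∀ h : D.H, D.swapHom h = h⁻¹ := by
    by_contra hne
    push Not at hne
    obtain ⟨h₀, hh₀⟩ := hne
    have hh₀' := (hcase h₀).resolve_left hh₀
    have hgoodmul : ∀ g h : D.H, D.swapHom g = g⁻¹ → D.swapHom h = h⁻¹ →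
        D.swapHom (g * h) = (g * h)⁻¹ := fun g h hg hh => by
      rw [map_mul, hg, hh, mul_inv_rev, hcomm]
    have hgoodz : D.swapHom (⟨z, hz⟩ : D.H) = (⟨z, hz⟩ : D.H)⁻¹ := by
      rw [hzc]; exact eq_inv_of_mul_eq_one_left hzz
    have hgood1 : D.swapHom (1 : D.H) = (1 : D.H)⁻¹ := by rw [map_one, inv_one]
    let S : Set F := {x | x = 0 ∨ ∃ h : D.H, D.swapHom h = h⁻¹ ∧ χ h = x}
    have hSneg : ∀ x ∈ S, -x ∈ S := by
      rintro x (rfl | ⟨h, hh, rfl⟩)
      · exact Or.inl neg_zero
      · exact Or.inr ⟨⟨z, hz⟩ * h, hgoodmul _ _ hgoodz hh, by rw [hχmul, hneg, neg_one_mul]⟩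
    have hS1 : ∀ x ∈ S, 1 + x ∈ S := by
      intro x hx
      rcases hSneg x hx with h0 | ⟨h, hh, hxh⟩
      · rw [neg_eq_zero] at h0
        exact Or.inr ⟨1, hgood1, by rw [hχ1, h0, add_zero]⟩
      · by_cases h1 : χ h = 1
        · exact Or.inl (by rw [h1, eq_comm, neg_eq_iff_eq_neg] at hxh; rw [hxh, add_neg_cancel])
        · obtain ⟨h₁, hh₁, hh₁'⟩ := hkey h hh h1
          exact Or.inr ⟨h₁, hh₁', by rw [hh₁, hxh, sub_neg_eq_add]⟩
    have hSmul : ∀ g : D.H, D.swapHom g = g⁻¹ → ∀ x ∈ S, χ g * x ∈ S := by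
      rintro g hg x (rfl | ⟨h, hh, rfl⟩)
      · exact Or.inl (mul_zero _)
      · exact Or.inr ⟨g * h, hgoodmul g h hg hh, hχmul g h⟩
    let W : AddSubgroup F :=
      { carrier := S
        zero_mem' := Or.inl rfl
        add_mem' := fun {x y} hx hy => by
          rcases hx with rfl | ⟨g, hg, rfl⟩
          · rwa [zero_add]
          · have h1 : (χ g)⁻¹ * y ∈ S := by
              rw [← hχinv]
              exact hSmul g⁻¹ (by rw [map_inv, hg]) y hy
            have h2 := hSmul g hg _ (hS1 _ h1)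
            rwa [mul_add, mul_one, mul_inv_cancel_left₀ (hχ0 g)] at h2
        neg_mem' := fun {x} hx => hSneg x hx }
    have himg : (fun x => χ h₀ * x) '' ((W : Set F) \ {0}) = (W : Set F)ᶜ := by
      ext y
      constructor
      · rintro ⟨x, ⟨hx, hx0⟩, rfl⟩ hy
        rcases hx with hx' | ⟨g, hg, rfl⟩
        · exact hx0 hx'
        rcases hy with hy' | ⟨k, hk, hk'⟩
        · exact mul_ne_zero (hχ0 h₀) (hχ0 g) hy'
        · have h1 : k = h₀ * g := hχinj (by rw [hk', hχmul])
          subst h1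
          apply hh₀
          have h2 : h₀ = h₀ * g * g⁻¹ := (mul_inv_cancel_right h₀ g).symm
          rw [h2]
          exact hgoodmul _ _ hk (by rw [map_inv, hg])
      · intro hy
        have hy0 : y ≠ 0 := fun h => hy (h ▸ W.zero_mem)
        obtain ⟨k, rfl⟩ := hχsurj y hy0
        have hk : ¬ D.swapHom k = k⁻¹ := fun h => hy (Or.inr ⟨k, h, rfl⟩)
        have hk' := (hcase k).resolve_left hk
        refine ⟨χ (h₀⁻¹ * k), ⟨Or.inr ⟨_, ?_, rfl⟩, hχ0 _⟩, ?_⟩
        · letI : CommGroup D.H := { (inferInstance : Group D.H) with mul_comm := hcomm }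
          rw [map_mul, map_inv, hh₀', hk']
          simp [mul_comm, mul_left_comm, mul_assoc]
        · show χ h₀ * χ (h₀⁻¹ * k) = χ k
          rw [← hχmul, mul_inv_cancel_left]
    have hcard : Nat.card W - 1 = Nat.card F - Nat.card W := by
      have h1 := Set.ncard_image_of_injective ((W : Set F) \ {0})
        (mul_right_injective₀ (hχ0 h₀))
      rw [himg, Set.ncard_compl, Set.ncard_sdiff (Set.singleton_subset_iff.mpr W.zero_mem),
        Set.ncard_singleton] at h1
      exact h1.symm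
    have hdvd : Nat.card W ∣ Nat.card F := AddSubgroup.card_addSubgroup_dvd_card W
    have hW2 : 2 ≤ Nat.card W := by
      have : (1 : F) ∈ W := Or.inr ⟨1, hgood1, hχ1⟩
      haveI : Nontrivial W := ⟨⟨1, this⟩, 0, fun h => one_ne_zero (congrArg Subtype.val h)⟩
      exact Finite.one_lt_card
    have hle : Nat.card W ≤ Nat.card F := Nat.le_of_dvd Nat.card_pos hdvd
    have hdvd' : Nat.card W ∣ 2 * Nat.card W - 1 := by
      rwa [show Nat.card F = 2 * Nat.card W - 1 by omega] at hdvd
    have hone' : Nat.card W ∣ 1 := by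
      have h2 : Nat.card W ∣ 2 * Nat.card W := dvd_mul_left _ _
      have h3 := Nat.dvd_sub h2 hdvd'
      rwa [show 2 * Nat.card W - (2 * Nat.card W - 1) = 1 by omega] at h3
    have := Nat.le_of_dvd one_pos hone'
    omega
  refine ⟨F, hF, hFt, E, hFc, fun g hg => ⟨χ ⟨g, hg⟩, hχ0 _, fun x => hscal ⟨g, hg⟩ x⟩,
    fun x hx => ?_⟩
  obtain ⟨h, rfl⟩ := hχsurj x hx
  rw [hswap, hall, hχinv]

section Iso

open CfsgLib.Classical.Dickson OnePoint
open scoped MatrixGroups

/-- The inversion `x ↦ x⁻¹` of the projective line. -/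
noncomputable def invPGL (F : Type) [Field F] : Matrix.ProjGenLinGroup (Fin 2) F :=
  Matrix.ProjGenLinGroup.mk
    (Matrix.GeneralLinearGroup.mkOfDetNeZero !![(0 : F), 1; 1, 0] (by simp [Matrix.det_fin_two]))

omit D in
theorem invPGL_smul {F : Type} [Field F] [DecidableEq F] :
    invPGL F • (∞ : OnePoint F) = ((0 : F) : OnePoint F) ∧
    invPGL F • ((0 : F) : OnePoint F) = ∞ ∧
    ∀ x : F, x ≠ 0 → invPGL F • (x : OnePoint F) = ((x⁻¹ : F) : OnePoint F) := by
  refine ⟨?_, ?_, fun x hx => ?_⟩ <;> simp only [invPGL, mk_smul]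
  · rw [smul_infty_eq_ite]; simp
  · rw [smul_some_eq_ite]; simp
  · rw [smul_some_eq_ite]; simp [hx]

/-- With a commutative two-point stabiliser the group is the projective general linear group. -/
theorem nonempty_equiv_pgl_of_comm (h3 : MulAction.IsMultiplyPretransitive G α 3)
    (hcomm : ∀ x y : D.H, x * y = y * x) :
    ∃ (F : Type) (_ : Field F) (_ : Fintype F), Fintype.card F = D.p ^ D.f ∧
      Nonempty (G ≃* Matrix.ProjGenLinGroup (Fin 2) F) := by
  classical
  obtain ⟨F, hF, hFt, E, hFc, hH, hs⟩ := D.exists_coordinates hcomm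
  refine ⟨F, hF, hFt, hFc, ?_⟩
  let φ₀ : OnePoint F → α := fun x => x.elim a (D.pt E)
  have hφinf : φ₀ ∞ = a := rfl
  have hφx : ∀ x : F, φ₀ (x : OnePoint F) = D.pt E x := fun _ => rfl
  have hpt0 : D.pt E 0 = b := by
    show D.toK (E.symm 0) • b = b
    rw [map_zero, D.toK_zero, one_smul]
  have hbij : Function.Bijective φ₀ := by
    constructor
    · intro x y hxy
      cases x <;> cases y
      · rfl
      · exact absurd hxy.symm (D.toK_smul_ne _)
      · exact absurd hxy (D.toK_smul_ne _)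
      · exact congrArg _ (E.symm.injective (D.toK_smul_inj hxy))
    · intro y
      by_cases hy : y = a
      · exact ⟨∞, hy.symm⟩
      · obtain ⟨k, hk, hky⟩ := D.Kreg y hy
        exact ⟨((E (D.ofK k hk) : F) : OnePoint F), by
          rw [hφx]; show D.toK (E.symm (E (D.ofK k hk))) • b = y
          rw [E.symm_apply_apply, D.toK_ofK, hky]⟩
  let φ : OnePoint F ≃ α := Equiv.ofBijective φ₀ hbij
  let Ψ : Matrix.ProjGenLinGroup (Fin 2) F →* Equiv.Perm α :=
    φ.permCongrHom.toMonoidHom.comp (MulAction.toPermHom _ (OnePoint F))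
  have hΨ : ∀ g x, Ψ g (φ x) = φ (g • x) := by
    intro g x
    show φ (g • φ.symm (φ x)) = _
    rw [φ.symm_apply_apply]
  have hΨinj : Function.Injective Ψ :=
    φ.permCongrHom.injective.comp MulAction.toPerm_injective
  have hφa : φ ∞ = a := rfl
  have hφb : φ ((0 : F) : OnePoint F) = b := hpt0
  have hof : ∀ (g : G) (g' : Matrix.ProjGenLinGroup (Fin 2) F),
      (∀ x, g • φ x = φ (g' • x)) → (g : Equiv.Perm α) ∈ Ψ.range := by
    intro g g' h
    refine ⟨g', Equiv.ext fun y => ?_⟩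
    obtain ⟨x, rfl⟩ := φ.surjective y
    rw [hΨ, ← h]
    rfl
  have hK : ∀ k ∈ D.K, ((k : G) : Equiv.Perm α) ∈ Ψ.range := by
    intro k hk
    refine hof k (aff 1 (E (D.ofK k hk))) fun x => ?_
    cases x with
    | infty => rw [aff_smul_infty]; exact D.Kfix k hk
    | coe x =>
      rw [aff_smul_coe, Units.val_one, one_mul]
      show k • (D.toK (E.symm x) • b) = D.toK (E.symm (x + E (D.ofK k hk))) • b
      rw [map_add, E.symm_apply_apply, D.toK_add, D.toK_ofK, ← mul_smul,
        D.Kcomm k hk _ (D.toK_mem _)]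
  have hHr : ∀ g ∈ D.H, ((g : G) : Equiv.Perm α) ∈ Ψ.range := by
    intro g hg
    obtain ⟨u, hu, hux⟩ := hH g hg
    refine hof g (aff (Units.mk0 u hu) 0) fun x => ?_
    cases x with
    | infty => rw [aff_smul_infty]; exact hg.1
    | coe x => rw [aff_smul_coe, Units.val_mk0, add_zero]; exact hux x
  have hsr : (s : Equiv.Perm α) ∈ Ψ.range := by
    obtain ⟨i1, i2, i3⟩ := invPGL_smul (F := F)
    refine hof s (invPGL F) fun x => ?_
    cases x with
    | infty => rw [i1, hφb]; exact D.sa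
    | coe x =>
      rcases eq_or_ne x 0 with rfl | hx
      · rw [i2, hφa, hφb]; exact D.sb
      · rw [i3 x hx]; exact hs x hx
  have hle : ∀ g : G, (g : Equiv.Perm α) ∈ Ψ.range := by
    have hfixa : ∀ g : G, g • a = a → (g : Equiv.Perm α) ∈ Ψ.range := by
      intro g hg
      obtain ⟨k, hk, hkb⟩ := D.Kreg (g • b) fun e1 =>
        D.ab.symm (MulAction.injective g (e1.trans hg.symm))
      have h1 : k⁻¹ * g ∈ D.H :=
        ⟨show (k⁻¹ * g) • a = a by rw [mul_smul, hg, inv_smul_eq_iff, D.Kfix k hk],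
        show (k⁻¹ * g) • b = b by rw [mul_smul, inv_smul_eq_iff, hkb]⟩
      have h2 := mul_mem (hK k hk) (hHr _ h1)
      rwa [← Subgroup.coe_mul, mul_inv_cancel_left] at h2
    intro g
    by_cases hg : g • a = a
    · exact hfixa g hg
    · obtain ⟨k, hk, hkb⟩ := D.Kreg (g • a) hg
      have h1 : (s * k⁻¹ * g) • a = a := by
        rw [mul_smul, mul_smul, ← hkb, inv_smul_smul, D.sb]
      have h2 := mul_mem (mul_mem (hK k hk) hsr) (hfixa _ h1)
      rwa [← Subgroup.coe_mul, ← Subgroup.coe_mul, mul_assoc, ← mul_assoc s, ← mul_assoc s,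
        D.s_sq, one_mul, mul_inv_cancel_left] at h2
  have hrange : Ψ.range = G := by
    refine le_antisymm ?_ fun g hg => hle ⟨g, hg⟩
    rintro _ ⟨g', rfl⟩
    have hne : φ (g' • (∞ : OnePoint F)) ≠ φ (g' • ((0 : F) : OnePoint F)) ∧
        φ (g' • (∞ : OnePoint F)) ≠ φ (g' • ((1 : F) : OnePoint F)) ∧
        φ (g' • ((0 : F) : OnePoint F)) ≠ φ (g' • ((1 : F) : OnePoint F)) := by
      simp only [ne_eq, φ.injective.eq_iff, (MulAction.injective g').eq_iff]
      simp
    let x₁ : Fin 3 ↪ α := ⟨fun i => φ (![∞, ((0 : F) : OnePoint F), ((1 : F) : OnePoint F)] i),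
      φ.injective.comp (fun i j h => by fin_cases i <;> fin_cases j <;> simp_all)⟩
    let x₂ : Fin 3 ↪ α := ⟨fun i => φ (g' • ![∞, ((0 : F) : OnePoint F), ((1 : F) : OnePoint F)] i),
      φ.injective.comp ((MulAction.injective g').comp
        (fun i j h => by fin_cases i <;> fin_cases j <;> simp_all))⟩
    obtain ⟨g, hg⟩ := (MulAction.isMultiplyPretransitive_iff.1 h3) x₁ x₂
    obtain ⟨g'', hg''⟩ := hle g
    have he : ∀ i : Fin 3, g'' • ![∞, ((0 : F) : OnePoint F), ((1 : F) : OnePoint F)] i =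
        g' • ![∞, ((0 : F) : OnePoint F), ((1 : F) : OnePoint F)] i := by
      intro i
      apply φ.injective
      rw [← hΨ, hg'']
      exact congrArg (fun f : Fin 3 ↪ α => f i) hg
    rw [← eq_of_smul_three (x := (∞ : OnePoint F)) (y := ((0 : F) : OnePoint F))
      (z := ((1 : F) : OnePoint F)) (by simp) (by simp) (by simp) (he 0) (he 1) (he 2), hg'']
    exact g.2
  exact ⟨((MonoidHom.ofInjective hΨinj).trans (MulEquiv.subgroupCongr hrange)).symm⟩

/-- The group is the projective general linear group. -/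
theorem nonempty_equiv_pgl (h3 : MulAction.IsMultiplyPretransitive G α 3) (hfo : Odd D.f) :
    ∃ (F : Type) (_ : Field F) (_ : Fintype F), Fintype.card F = D.p ^ D.f ∧
      Nonempty (G ≃* Matrix.ProjGenLinGroup (Fin 2) F) :=
  D.nonempty_equiv_pgl_of_comm h3 (D.H_comm hfo)

end Iso

end Frame

end CfsgLib.Perm.SharpThreeFrame
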