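import Mathlib
import Cfsg.Prelude.Def_Perm
import Cfsg.Agent.Lib.Perm.Basic

/-! Permutation modules: equivariant maps, constants, fixed vectors in characteristic p. -/

namespace CfsgLib.Perm.PermRep

open MulAction

variable {G : Type*} [Group G] {K : Type*} [Field K] {Ω : Type*} [MulAction G Ω]

theorem permRep_apply (g : G) (v : Ω → K) (x : Ω) : Cfsg.permRep K G Ω g v x = v (g⁻¹ • x) := rfl

theorem permRep_single [DecidableEq Ω] (g : G) (a : Ω) (c : K) :
    Cfsg.permRep K G Ω g (Pi.single a c) = Pi.single (g • a) c := by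
  funext x
  rw [permRep_apply]
  by_cases h : x = g • a
  · subst h; simp
  · rw [Pi.single_eq_of_ne h, Pi.single_eq_of_ne]
    rwa [Ne, inv_smul_eq_iff]

theorem mem_permConstants {v : Ω → K} :
    v ∈ (Cfsg.permConstants K G Ω).toSubmodule ↔ ∃ c : K, v = fun _ => c := by
  change v ∈ Submodule.span K {fun _ => (1 : K)} ↔ _
  rw [Submodule.mem_span_singleton]
  constructor
  · rintro ⟨c, rfl⟩; exact ⟨c, funext fun _ => mul_one c⟩
  · rintro ⟨c, rfl⟩; exact ⟨c, funext fun _ => mul_one c⟩

theorem mem_permSumZero [Fintype Ω] {v : Ω → K} :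
    v ∈ (Cfsg.permSumZero K G Ω).toSubmodule ↔ ∑ x, v x = 0 := Iff.rfl

theorem subrep_ext {W W' : Subrepresentation (Cfsg.permRep K G Ω)}
    (h : W.toSubmodule = W'.toSubmodule) : W = W' := by
  cases W; cases W'; simp_all

theorem eq_const_of_fixed [IsPretransitive G Ω] {v : Ω → K}
    (h : ∀ g : G, Cfsg.permRep K G Ω g v = v) (a : Ω) : v = fun _ => v a := by
  funext x
  obtain ⟨g, rfl⟩ := exists_smul_eq G a x
  conv_lhs => rw [← h g]
  rw [permRep_apply, inv_smul_smul]

/-- A non-zero invariant subgroup of vectors of a `p`-group in characteristic `p` contains a non-zero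
fixed vector. -/
theorem exists_fixed {P : Type*} [Group P] [Finite P] {p : ℕ} [Fact p.Prime] [CharP K p]
    (hP : IsPGroup p P) {V : Type*} [AddCommGroup V] [Module K V] (ρ : Representation K P V)
    (W : Submodule K V) (hW : ∀ g : P, ∀ w ∈ W, ρ g w ∈ W) (hne : W ≠ ⊥) :
    ∃ w ∈ W, w ≠ 0 ∧ ∀ g : P, ρ g w = w := by
  classical
  obtain ⟨w₀, hw₀, hw₀0⟩ := Submodule.exists_mem_ne_zero_of_ne_bot hne
  letI : Algebra (ZMod p) K := ZMod.algebra K p
  letI : Module (ZMod p) V := Module.compHom V (algebraMap (ZMod p) K)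
  have : IsScalarTower (ZMod p) K V := ⟨fun r s x => by
    change (r • s) • x = algebraMap (ZMod p) K r • (s • x)
    rw [Algebra.smul_def, mul_smul]⟩
  let U : Submodule (ZMod p) V := Submodule.span (ZMod p) (Set.range fun g : P => ρ g w₀)
  have hUfin : Module.Finite (ZMod p) U := Module.Finite.span_of_finite _ (Set.finite_range _)
  have : Finite U := Module.finite_of_finite (ZMod p)
  have hUW : ∀ u ∈ U, u ∈ W := by
    intro u hu
    induction hu using Submodule.span_induction with
    | mem x hx => obtain ⟨g, rfl⟩ := hx; exact hW g _ hw₀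
    | zero => exact W.zero_mem
    | add x y _ _ hx hy => exact W.add_mem hx hy
    | smul r x _ hx => exact W.smul_mem (algebraMap (ZMod p) K r) hx
  have hUP : ∀ g : P, ∀ u ∈ U, ρ g u ∈ U := by
    intro g u hu
    induction hu using Submodule.span_induction with
    | mem x hx =>
      obtain ⟨h, rfl⟩ := hx
      exact Submodule.subset_span ⟨g * h, by simp⟩
    | zero => simp
    | add x y _ _ hx hy => rw [map_add]; exact U.add_mem hx hy
    | smul r x _ hx =>
      have : ρ g (r • x) = r • ρ g x := (ρ g).map_smul (algebraMap (ZMod p) K r) x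
      rw [this]; exact U.smul_mem r hx
  letI : MulAction P U :=
    { smul := fun g u => ⟨ρ g u, hUP g u u.2⟩
      one_smul := fun u => Subtype.ext (by change ρ 1 (u : V) = u; simp)
      mul_smul := fun g h u => Subtype.ext (by
        change ρ (g * h) (u : V) = ρ g (ρ h u); simp) }
  have hcard : p ∣ Nat.card U := by
    rw [Module.natCard_eq_pow_finrank (K := ZMod p) (V := U), Nat.card_zmod]
    refine dvd_pow_self p (fun h0 => hw₀0 ?_)
    have hs : Subsingleton U := Module.finrank_zero_iff.mp h0
    have : (⟨w₀, Submodule.subset_span ⟨1, by simp⟩⟩ : U) = 0 := Subsingleton.elim _ _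
    exact congrArg Subtype.val this
  have h0 : (0 : U) ∈ fixedPoints P U := fun g => Subtype.ext (map_zero (ρ g))
  obtain ⟨u, hu, hu0⟩ := hP.exists_fixed_point_of_prime_dvd_card_of_fixed_point U hcard h0
  exact ⟨u, hUW u u.2, fun h => hu0 (Subtype.ext h.symm), fun g => congrArg Subtype.val (hu g)⟩

/-- In characteristic `p`, every non-zero submodule of a transitive permutation module of degree
`p ^ f` contains the constants. -/
theorem constants_le [Finite G] [Finite Ω] [IsPretransitive G Ω] {p f : ℕ} [Fact p.Prime] [CharP K p]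
    (hcard : Nat.card Ω = p ^ f) (W : Subrepresentation (Cfsg.permRep K G Ω))
    (hW : W.toSubmodule ≠ ⊥) : (Cfsg.permConstants K G Ω).toSubmodule ≤ W.toSubmodule := by
  obtain ⟨P⟩ := (inferInstance : Nonempty (Sylow p G))
  have := CfsgLib.Perm.Basic.sylow_isPretransitive hcard P
  obtain ⟨w, hw, hw0, hfix⟩ := exists_fixed P.isPGroup'
    ((Cfsg.permRep K G Ω).comp (P : Subgroup G).subtype) W.toSubmodule
    (fun g w hw => W.apply_mem_toSubmodule g hw) hW
  intro v hv
  obtain ⟨c, rfl⟩ := mem_permConstants.mp hv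
  have : Nonempty Ω := by
    by_contra h
    rw [not_nonempty_iff] at h
    exact hw0 (funext fun x => isEmptyElim x)
  obtain ⟨a⟩ := this
  have hc : w = fun _ => w a := by
    funext x
    obtain ⟨g, rfl⟩ := exists_smul_eq (P : Subgroup G) a x
    conv_lhs => rw [← hfix g]
    change w ((g : G)⁻¹ • (g : G) • a) = w a
    rw [inv_smul_smul]
  have ha : w a ≠ 0 := fun h => hw0 (by rw [hc, h]; rfl)
  have h := W.toSubmodule.smul_mem (c / w a) hw
  convert h using 1
  rw [hc]
  funext x
  simp [div_mul_cancel₀ _ ha]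

/-- The orthogonal of an invariant subspace for the standard pairing. -/
noncomputable def orth [Fintype Ω] (W : Subrepresentation (Cfsg.permRep K G Ω)) :
    Subrepresentation (Cfsg.permRep K G Ω) where
  toSubmodule :=
    { carrier := {u | ∀ w ∈ W.toSubmodule, ∑ x, u x * w x = 0}
      add_mem' := fun {u v} hu hv w hw => by
        simp only [Pi.add_apply, add_mul, Finset.sum_add_distrib, hu w hw, hv w hw, add_zero]
      zero_mem' := fun w _ => by simp
      smul_mem' := fun c u hu w hw => by
        simp only [Pi.smul_apply, smul_eq_mul, mul_assoc, ← Finset.mul_sum, hu w hw, mul_zero] }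
  apply_mem_toSubmodule g u hu w hw := by
    have hw' := W.apply_mem_toSubmodule g⁻¹ hw
    rw [← hu _ hw']
    refine Fintype.sum_equiv (MulAction.toPerm g⁻¹) _ _ fun x => ?_
    simp [permRep_apply]

theorem mem_orth [Fintype Ω] {W : Subrepresentation (Cfsg.permRep K G Ω)} {u : Ω → K} :
    u ∈ (orth W).toSubmodule ↔ ∀ w ∈ W.toSubmodule, ∑ x, u x * w x = 0 := Iff.rfl

theorem orth_ne_bot [Fintype Ω] {W : Subrepresentation (Cfsg.permRep K G Ω)}
    (hW : W.toSubmodule ≠ ⊤) : (orth W).toSubmodule ≠ ⊥ := by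
  classical
  obtain ⟨f, hf0, hf⟩ := Submodule.exists_le_ker_of_lt_top W.toSubmodule (lt_top_iff_ne_top.mpr hW)
  intro h
  let u : Ω → K := fun x => f (Pi.single x 1)
  have hu : ∀ w : Ω → K, ∑ x, u x * w x = f w := fun w => by
    have hw : ∑ x, w x • (Pi.single x (1 : K) : Ω → K) = w := by
      funext y; simp [Finset.sum_apply, Pi.single_apply]
    conv_rhs => rw [← hw]
    simp [u, map_sum, mul_comm]
  have hu0 : u ∈ (orth W).toSubmodule := fun w hw => by rw [hu]; exact hf hw
  rw [h, Submodule.mem_bot] at hu0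
  apply hf0
  refine LinearMap.ext fun w => ?_
  rw [← hu w, hu0]
  simp

/-- In characteristic `p` and degree `p ^ f`, a proper invariant subspace consists of sum-zero
functions. -/
theorem le_sumZero [Finite G] [Fintype Ω] [IsPretransitive G Ω] {p f : ℕ} [Fact p.Prime] [CharP K p]
    (hcard : Nat.card Ω = p ^ f) (W : Subrepresentation (Cfsg.permRep K G Ω))
    (hW : W.toSubmodule ≠ ⊤) : W.toSubmodule ≤ (Cfsg.permSumZero K G Ω).toSubmodule := by
  intro w hw
  have h1 : (fun _ => (1 : K)) ∈ (orth W).toSubmodule :=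
    constants_le hcard (orth W) (orth_ne_bot hW) (mem_permConstants.mpr ⟨1, rfl⟩)
  rw [mem_permSumZero]
  simpa using h1 w hw

end CfsgLib.Perm.PermRep
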