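import Mathlib
import Cfsg.Prelude.Def_Perm
import Cfsg.Agent.Lib.Perm.PermRep

/-! Shift-invariant function spaces on `ZMod p` and prime-degree transitive groups. -/

namespace CfsgLib.Perm.PrimeDegree

open Polynomial MulAction

variable {p : ℕ} [Fact p.Prime] {K : Type*} [Field K] [CharP K p]

/-- the polynomial function on `ZMod p` -/
noncomputable def evalFun (p : ℕ) (K : Type*) [Field K] [CharP K p] : K[X] →ₗ[K] (ZMod p → K) where
  toFun P := fun j => P.eval (ZMod.cast j : K)
  map_add' P Q := funext fun j => eval_add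
  map_smul' c P := funext fun j => by simp [eval_smul]

/-- polynomial functions of degree less than `r` -/
noncomputable def polyFun (p : ℕ) (K : Type*) [Field K] [CharP K p] (r : ℕ) : Submodule K (ZMod p → K) :=
  (degreeLT K r).map (evalFun p K)

theorem cast_inj {i j : ZMod p} (h : (ZMod.cast i : K) = ZMod.cast j) : i = j :=
  RingHom.injective (ZMod.castHom (dvd_refl p) K) h

theorem evalFun_eq_zero {P : K[X]} (hd : P.degree < p) (h : evalFun p K P = 0) : P = 0 := by
  classical
  refine Polynomial.eq_zero_of_degree_lt_of_eval_finset_eq_zero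
    (Finset.univ.image fun j : ZMod p => (ZMod.cast j : K)) ?_ ?_
  · rwa [Finset.card_image_of_injective _ (fun i j h => cast_inj h), Finset.card_univ, ZMod.card]
  · intro x hx
    obtain ⟨j, -, rfl⟩ := Finset.mem_image.mp hx
    exact congrFun h j

theorem mem_polyFun {r : ℕ} {f : ZMod p → K} :
    f ∈ polyFun p K r ↔ ∃ P : K[X], P.degree < r ∧ ∀ j, f j = P.eval (ZMod.cast j : K) := by
  simp only [polyFun, Submodule.mem_map, mem_degreeLT]
  exact ⟨fun ⟨P, h, e⟩ => ⟨P, h, fun j => (congrFun e j).symm⟩,
    fun ⟨P, h, e⟩ => ⟨P, h, funext fun j => (e j).symm⟩⟩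

theorem finrank_polyFun {r : ℕ} (hr : r ≤ p) : Module.finrank K (polyFun p K r) = r := by
  have hi : Function.Injective ((evalFun p K).domRestrict (degreeLT K r)) := by
    rw [← LinearMap.ker_eq_bot, Submodule.eq_bot_iff]
    intro x hx
    exact Subtype.ext (evalFun_eq_zero ((mem_degreeLT.mp x.2).trans_le (by exact_mod_cast hr)) hx)
  rw [polyFun, ← LinearMap.range_domRestrict, LinearMap.finrank_range_of_inj hi,
    (degreeLTEquiv K r).finrank_eq, Module.finrank_fin_fun]

/-- backward difference -/
def diff (p : ℕ) (K : Type*) [Field K] : (ZMod p → K) →ₗ[K] (ZMod p → K) where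
  toFun f j := f j - f (j - 1)
  map_add' f g := funext fun j => by simp; ring
  map_smul' c f := funext fun j => by simp; ring

theorem diff_pow_p : (diff p K) ^ p = 0 := by
  let T : Module.End K (ZMod p → K) := LinearMap.funLeft K K (fun j => j - 1)
  have hT : ∀ n : ℕ, ∀ f j, (T ^ n) f j = f (j - n) := by
    intro n
    induction n with
    | zero => simp
    | succ n ih =>
      intro f j
      rw [pow_succ, Module.End.mul_apply, ih]
      simp [T, LinearMap.funLeft_apply, sub_sub]
  have h1 : (diff p K : Module.End K (ZMod p → K)) = 1 - T := rfl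
  haveI : CharP (Module.End K (ZMod p → K)) p :=
    charP_of_injective_algebraMap (FaithfulSMul.algebraMap_injective K _) p
  rw [h1, sub_pow_char_of_commute _ (Commute.one_left T), one_pow, sub_eq_zero]
  refine LinearMap.ext fun f => funext fun j => ?_
  rw [hT]; simp

theorem ker_diff : LinearMap.ker (diff p K) = Submodule.span K {fun _ => 1} := by
  ext f
  rw [LinearMap.mem_ker, Submodule.mem_span_singleton]
  constructor
  · intro h
    refine ⟨f 0, funext fun j => ?_⟩
    have hn : ∀ n : ℕ, f (n : ZMod p) = f 0 := by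
      intro n
      induction n with
      | zero => simp
      | succ n ih =>
        have := congrFun h ((n + 1 : ℕ) : ZMod p)
        simp only [diff, LinearMap.coe_mk, AddHom.coe_mk, Pi.zero_apply, sub_eq_zero,
          Nat.cast_add, Nat.cast_one, add_sub_cancel_right] at this
        push_cast
        rw [this, ih]
    simp [← hn j.val]
  · rintro ⟨c, rfl⟩
    funext j; simp [diff]

theorem finrank_ker_pow (r : ℕ) : Module.finrank K (LinearMap.ker ((diff p K) ^ r)) ≤ r := by
  induction r with
  | zero => simp [Module.End.one_eq_id]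
  | succ r ih =>
    set N := LinearMap.ker ((diff p K) ^ (r + 1))
    let φ : N →ₗ[K] LinearMap.ker ((diff p K) ^ r) :=
      ((diff p K).domRestrict N).codRestrict _ fun x => by
        rw [LinearMap.mem_ker, LinearMap.domRestrict_apply, ← Module.End.mul_apply, ← pow_succ]
        exact x.2
    have h := LinearMap.finrank_range_add_finrank_ker φ
    have h1 : Module.finrank K (LinearMap.range φ) ≤ r := (Submodule.finrank_le _).trans ih
    have h2 : Module.finrank K (LinearMap.ker φ) ≤ 1 := by
      let ψ : LinearMap.ker φ →ₗ[K] LinearMap.ker (diff p K) :=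
        ((N.subtype).comp (LinearMap.ker φ).subtype).codRestrict _ fun x => by
          exact congrArg Subtype.val (LinearMap.mem_ker.mp x.2)
      refine (LinearMap.finrank_le_finrank_of_injective (f := ψ) fun x y h => by
        apply Subtype.ext; apply Subtype.ext; exact congrArg (fun z : LinearMap.ker (diff p K) => (z : ZMod p → K)) h).trans ?_
      rw [ker_diff]
      refine (finrank_span_le_card _).trans ?_
      simp
    omega

theorem polyFun_le_ker (r : ℕ) : polyFun p K r ≤ LinearMap.ker ((diff p K) ^ r) := by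
  induction r with
  | zero =>
    intro f hf
    obtain ⟨P, hP, hf⟩ := mem_polyFun.mp hf
    have : P = 0 := by
      rw [← degree_eq_bot]
      exact WithBot.lt_coe_bot.mp hP
    have hf0 : f = 0 := funext fun j => by rw [hf, this, eval_zero]; rfl
    simp [hf0]
  | succ r ih =>
    intro f hf
    obtain ⟨P, hP, hf⟩ := mem_polyFun.mp hf
    rw [LinearMap.mem_ker, pow_succ, Module.End.mul_apply]
    refine ih (mem_polyFun.mpr ⟨P - P.comp (X - C 1), ?_, fun j => ?_⟩)
    · by_cases hP0 : P = 0
      · simp [hP0]
      have hlead : (P.comp (X - C 1)).degree = P.degree ∧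
          (P.comp (X - C 1)).leadingCoeff = P.leadingCoeff := by
        refine ⟨?_, ?_⟩
        · rw [degree_eq_natDegree (by
            intro h
            exact hP0 (by
              have := congrArg (fun Q => Q.comp (X + C 1)) h
              simpa [comp_assoc] using this)),
            degree_eq_natDegree hP0, natDegree_comp, natDegree_X_sub_C, mul_one]
        · rw [leadingCoeff_comp (by rw [natDegree_X_sub_C]; exact one_ne_zero), leadingCoeff_X_sub_C,
            one_pow, mul_one]
      have hlt := degree_sub_lt hlead.1.symm hP0 hlead.2.symm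
      have hle : P.natDegree ≤ r := by
        rw [← Nat.lt_succ_iff, natDegree_lt_iff_degree_lt hP0]; exact hP
      exact hlt.trans_le ((degree_le_natDegree).trans (by exact_mod_cast hle))
    · simp only [diff, LinearMap.coe_mk, AddHom.coe_mk, hf, eval_sub, eval_comp, eval_X, eval_C]
      rw [ZMod.cast_sub (dvd_refl p), ZMod.cast_one (dvd_refl p)]

/-- Shift-invariant spaces of functions on `ZMod p` are the spaces of polynomial functions of
bounded degree. -/
theorem eq_polyFun (W : Submodule K (ZMod p → K)) (hW : ∀ f ∈ W, (fun j => f (j - 1)) ∈ W) :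
    Module.finrank K W ≤ p ∧ W = polyFun p K (Module.finrank K W) := by
  set r := Module.finrank K W
  have hr : r ≤ p := (Submodule.finrank_le W).trans (by
    rw [Module.finrank_fintype_fun_eq_card, ZMod.card])
  have hWd : ∀ f ∈ W, diff p K f ∈ W := fun f hf => W.sub_mem hf (hW f hf)
  have hnil : IsNilpotent ((diff p K).restrict hWd) := by
    refine ⟨p, ?_⟩
    refine LinearMap.ext fun x => Subtype.ext ?_
    rw [Module.End.pow_restrict p hWd]
    simp [diff_pow_p, LinearMap.restrict_apply]
  have h1 : W ≤ LinearMap.ker ((diff p K) ^ r) := by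
    intro f hf
    have h0 : ((diff p K).restrict hWd) ^ r = 0 := by
      have := ((diff p K).restrict hWd).aeval_self_charpoly
      rwa [hnil.charpoly_eq_X_pow_finrank, map_pow, aeval_X] at this
    rw [Module.End.pow_restrict r hWd] at h0
    exact congrArg Subtype.val (LinearMap.congr_fun h0 ⟨f, hf⟩)
  have hk := finrank_ker_pow (p := p) (K := K) r
  refine ⟨hr, ?_⟩
  have e1 := Submodule.eq_of_le_of_finrank_le h1 hk
  have e2 := Submodule.eq_of_le_of_finrank_le (polyFun_le_ker (p := p) (K := K) r)
    (hk.trans (finrank_polyFun hr).ge)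
  exact e1.trans e2.symm

/-- Power sums over `ZMod p`. -/
theorem sum_pow_eq_zero {k : ℕ} (hk : k < p - 1) : ∑ j : ZMod p, (ZMod.cast j : K) ^ k = 0 := by
  have := FiniteField.sum_pow_lt_card_sub_one (ZMod p) k (by rwa [ZMod.card])
  have h := congrArg (ZMod.castHom (dvd_refl p) K) this
  simpa using h

theorem sum_pow_top : ∑ j : ZMod p, (ZMod.cast j : K) ^ (p - 1) = -1 := by
  have hp : 1 < p := (Fact.out : p.Prime).one_lt
  have : ∀ j : ZMod p, j ^ (p - 1) = if j = 0 then 0 else 1 := fun j => by
    split_ifs with h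
    · rw [h, zero_pow (by omega)]
    · exact ZMod.pow_card_sub_one_eq_one h
  have h2 : ∑ j : ZMod p, j ^ (p - 1) = -1 := by
    simp_rw [this, Finset.sum_ite, Finset.sum_const_zero, zero_add, Finset.sum_const, nsmul_eq_mul,
      mul_one]
    rw [Finset.filter_ne' Finset.univ (0 : ZMod p), Finset.card_erase_of_mem (Finset.mem_univ _),
      Finset.card_univ, ZMod.card, Nat.cast_sub hp.le]
    simp
  have h := congrArg (ZMod.castHom (dvd_refl p) K) h2
  simpa using h

/-- Coordinates for a transitive group of prime degree. -/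
theorem exists_coord {α : Type*} [Finite α] (hα : Nat.card α = p) (G : Subgroup (Equiv.Perm α))
    [IsPretransitive G α] (a : α) :
    ∃ (s : G) (e : α ≃ ZMod p), orderOf s = p ∧ e a = 0 ∧ ∀ x, e (s • x) = e x + 1 := by
  have hdvd : p ∣ Nat.card G := by
    have : Nonempty α := ⟨a⟩
    exact hα ▸ CfsgLib.Perm.Basic.card_dvd_card (G := G) (Ω := α)
  obtain ⟨s, hs⟩ := exists_prime_orderOf_dvd_card' (G := G) p hdvd
  classical
  letI := Fintype.ofFinite α
  have hp : p.Prime := Fact.out
  have hs' : orderOf (s : Equiv.Perm α) = p := by rw [Subgroup.orderOf_coe, hs]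
  have hcyc : (s : Equiv.Perm α).IsCycle := Equiv.Perm.isCycle_of_prime_order''
    (by rw [← Nat.card_eq_fintype_card, hα]; exact hp) (by rw [hs', ← hα, Nat.card_eq_fintype_card])
  have hsupp : (s : Equiv.Perm α).support = Finset.univ := by
    rw [← Finset.card_eq_iff_eq_univ, ← hcyc.orderOf, hs', ← hα, Nat.card_eq_fintype_card]
  let F : ZMod p → α := fun j => (s ^ j.val) • a
  have hsp : ∀ n : ℕ, (s ^ (n % p)) • a = (s ^ n) • a := fun n => by rw [← hs, pow_mod_orderOf]
  have hF : Function.Surjective F := fun x => by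
    obtain ⟨n, hn⟩ := hcyc.exists_pow_eq (Equiv.Perm.mem_support.mp (hsupp ▸ Finset.mem_univ a))
      (Equiv.Perm.mem_support.mp (hsupp ▸ Finset.mem_univ x))
    refine ⟨(n : ZMod p), ?_⟩
    change s ^ (n : ZMod p).val • a = x
    rw [ZMod.val_natCast, hsp]
    exact hn
  have hb : Function.Bijective F :=
    (Nat.bijective_iff_surjective_and_card F).mpr ⟨hF, by rw [Nat.card_zmod, hα]⟩
  let e : ZMod p ≃ α := Equiv.ofBijective F hb
  refine ⟨s, e.symm, hs, ?_, fun x => ?_⟩
  · rw [Equiv.symm_apply_eq]
    change a = F 0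
    simp [F]
  · obtain ⟨j, rfl⟩ := hF x
    rw [show e.symm (F j) = j from e.symm_apply_apply j, Equiv.symm_apply_eq]
    change s • F j = F (j + 1)
    simp only [F]
    rw [ZMod.val_add, hsp, ZMod.val_one, add_comm, pow_add, pow_one, mul_smul]

theorem natDegree_lt_of_mem {r : ℕ} (hr : r ≤ p) {f : ZMod p → K} (hf : f ∈ polyFun p K r)
    (P : K[X]) (hP : P.natDegree < p) (he : ∀ j, f j = P.eval (ZMod.cast j : K)) :
    P.degree < r := by
  obtain ⟨Q, hQ, hQe⟩ := mem_polyFun.mp hf
  have hd : P.degree < p := degree_le_natDegree.trans_lt (by exact_mod_cast hP)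
  have : P - Q = 0 := evalFun_eq_zero
    ((degree_sub_le _ _).trans_lt (max_lt hd (hQ.trans_le (by exact_mod_cast hr))))
    (funext fun j => by simp [evalFun, eval_sub, ← he, ← hQe])
  rwa [sub_eq_zero.mp this]

/-- A permutation of `ZMod p` preserving a space of polynomial functions of bounded degree is affine. -/
theorem affine_of_preserves {r : ℕ} (hr2 : 2 ≤ r) (hrp : 2 * r ≤ p) (σ : Equiv.Perm (ZMod p))
    (hσ : ∀ f ∈ polyFun p K r, (fun j => f (σ j)) ∈ polyFun p K r) :
    ∀ j, σ j = (σ 1 - σ 0) * j + σ 0 := by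
  have hmem : ∀ (i : ℕ), i < r → (fun j => (ZMod.cast (σ j) : K) ^ i) ∈ polyFun p K r := fun i hi =>
    hσ (fun j => (ZMod.cast j : K) ^ i) (mem_polyFun.mpr ⟨X ^ i, by
      rw [degree_X_pow]; exact_mod_cast hi, fun j => by simp⟩)
  obtain ⟨Q, hQ, hQe⟩ := mem_polyFun.mp (hmem 1 (by omega))
  simp only [pow_one] at hQe
  have hm1 : Q.natDegree ≤ 1 := by
    by_contra hm
    have hr' : r ≤ (r - 1) * Q.natDegree := by
      calc r ≤ (r - 1) * 2 := by omega
        _ ≤ (r - 1) * Q.natDegree := Nat.mul_le_mul_left _ (by omega)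
    classical
    have hex : ∃ i, r ≤ i * Q.natDegree := ⟨r - 1, hr'⟩
    have hi := Nat.find_spec hex
    have hir : Nat.find hex < r := (Nat.find_le (h := hex) hr').trans_lt (by omega : r - 1 < r)
    have hQ0 : Q ≠ 0 := fun h => hm (by simp [h])
    have hQr : Q.natDegree < r := (natDegree_lt_iff_degree_lt hQ0).mpr hQ
    have hlt : Nat.find hex * Q.natDegree < r + Q.natDegree := by
      rcases hk : Nat.find hex with _ | k
      · simp; omega
      · have := Nat.find_min hex (m := k) (by omega)
        rw [Nat.succ_mul]; omega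
    have := natDegree_lt_of_mem (by omega) (hmem _ hir) (Q ^ Nat.find hex)
      (by rw [natDegree_pow]; omega) (fun j => by rw [eval_pow, ← hQe])
    rw [← natDegree_lt_iff_degree_lt (pow_ne_zero _ hQ0), natDegree_pow] at this
    omega
  obtain ⟨c, d, rfl⟩ := exists_eq_X_add_C_of_natDegree_le_one hm1
  intro j
  apply cast_inj (K := K)
  have h0 := hQe 0
  have h1 := hQe 1
  simp only [eval_add, eval_mul, eval_C, eval_X, ZMod.cast_zero, mul_zero, zero_add,
    ZMod.cast_one (dvd_refl p), mul_one] at h0 h1
  rw [hQe j, ZMod.cast_add (dvd_refl p), ZMod.cast_mul (dvd_refl p), ZMod.cast_sub (dvd_refl p),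
    h1, h0]
  simp only [eval_add, eval_mul, eval_C, eval_X]
  ring

theorem two_le_and_add_le {r r' : ℕ} (h2 : 2 ≤ r) (hrp : r ≤ p - 2)
    (hr' : r' ≤ p) (horth : ∀ u : ZMod p → K,
      u ∈ polyFun p K r' ↔ ∀ w ∈ polyFun p K r, ∑ j, u j * w j = 0) :
    2 ≤ r' ∧ r + r' ≤ p := by
  have hp : 2 ≤ p := (Fact.out : p.Prime).two_le
  constructor
  · have hX : (fun j : ZMod p => (ZMod.cast j : K)) ∈ polyFun p K r' := by
      rw [horth]
      intro w hw
      obtain ⟨P, hP, hPe⟩ := mem_polyFun.mp hw
      have hnd : P.natDegree < r := by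
        by_cases hP0 : P = 0
        · rw [hP0, natDegree_zero]; omega
        · exact (natDegree_lt_iff_degree_lt hP0).mpr hP
      simp only [hPe, eval_eq_sum_range, Finset.mul_sum]
      rw [Finset.sum_comm]
      refine Finset.sum_eq_zero fun i hi => ?_
      rw [Finset.mem_range] at hi
      have := sum_pow_eq_zero (p := p) (K := K) (k := i + 1) (by omega)
      simp only [mul_left_comm (ZMod.cast (_ : ZMod p) : K), ← pow_succ', ← Finset.mul_sum, this,
        mul_zero]
    by_contra h
    have := natDegree_lt_of_mem hr' hX X (by rw [natDegree_X]; omega) (fun j => by simp)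
    rw [degree_X] at this
    have : 1 < r' := by exact_mod_cast this
    omega
  · by_contra h
    have hk : (fun j : ZMod p => (ZMod.cast j : K) ^ (r - 1)) ∈ polyFun p K r :=
      mem_polyFun.mpr ⟨X ^ (r - 1), by rw [degree_X_pow]; exact_mod_cast (by omega : r - 1 < r),
        fun j => by simp⟩
    have hu : (fun j : ZMod p => (ZMod.cast j : K) ^ (p - r)) ∈ polyFun p K r' :=
      mem_polyFun.mpr ⟨X ^ (p - r), by rw [degree_X_pow]; exact_mod_cast (by omega : p - r < r'),
        fun j => by simp⟩
    have := (horth _).mp hu _ hk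
    simp only [← pow_add] at this
    rw [show p - r + (r - 1) = p - 1 by omega, sum_pow_top] at this
    exact neg_ne_zero.mpr one_ne_zero this

theorem isSolvable_of_affine {α : Type*} (G : Subgroup (Equiv.Perm α)) (e : α ≃ ZMod p)
    (h : ∀ g : G, ∃ a b : ZMod p, ∀ x, e (g • x) = a * e x + b) : Group.IsSolvable G := by
  choose A B hAB using h
  have hA : ∀ g : G, ∀ a b : ZMod p, (∀ x, e (g • x) = a * e x + b) → A g = a := fun g a b hab => by
    have h0 := (hAB g (e.symm 0)).symm.trans (hab (e.symm 0))
    have h1 := (hAB g (e.symm 1)).symm.trans (hab (e.symm 1))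
    simp only [Equiv.apply_symm_apply, mul_zero, zero_add, mul_one] at h0 h1
    rwa [h0, add_left_inj] at h1
  let φ : G →* ZMod p :=
    { toFun := A
      map_one' := hA 1 1 0 fun x => by simp
      map_mul' := fun g g' => hA _ _ (A g * B g' + B g) fun x => by
        rw [mul_smul, hAB, hAB]; ring }
  have hker : IsMulCommutative φ.ker := ⟨⟨fun u v => by
    apply Subtype.ext; apply Subtype.ext
    refine Equiv.ext fun x => e.injective ?_
    change e ((u : G) • (v : G) • x) = e ((v : G) • (u : G) • x)
    have hu : A (u : G) = 1 := u.2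
    have hv : A (v : G) = 1 := v.2
    simp only [hAB, hu, hv, one_mul]
    ring⟩⟩
  let ψ : G →* (ZMod p)ˣ := φ.toHomUnits
  have hk : ψ.ker = φ.ker := by
    ext g; simp [ψ, MonoidHom.mem_ker, Units.ext_iff]
  haveI : Group.IsSolvable φ.ker := Group.isSolvable_of_comm fun a b => hker.1.comm a b
  exact Group.isSolvable_of_ker_le_range φ.ker.subtype ψ (by
    rw [Subgroup.range_subtype, hk])

theorem isSolvable_of_le_three {α : Type*} [Finite α] (hα : Nat.card α = p) (hp3 : p ≤ 3)
    (G : Subgroup (Equiv.Perm α)) : Group.IsSolvable G := by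
  have e : α ≃ ZMod p := Classical.choice (Finite.card_eq.mp (hα.trans (Nat.card_zmod p).symm))
  refine isSolvable_of_affine G e fun g => ?_
  have key : ∀ σ : Equiv.Perm (ZMod p), ∃ a b : ZMod p, ∀ x, σ x = a * x + b := by
    have := (Fact.out : p.Prime).two_le
    interval_cases p <;> decide +kernel +revert
  obtain ⟨a, b, h⟩ := key ((e.symm.trans (g : Equiv.Perm α)).trans e)
  exact ⟨a, b, fun x => by
    have := h (e x)
    simpa [Subgroup.smul_def, Equiv.Perm.smul_def] using this⟩

end CfsgLib.Perm.PrimeDegree
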