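import Mathlib
import Cfsg.Agent.Lib.Perm.Basic
import Cfsg.Agent.Lib.Perm.Sharp2

/-! Regular and transitive normal subgroups of (multiply) transitive and primitive groups. -/

namespace CfsgLib.Perm.Normal

open MulAction

variable {G : Type*} [Group G] {Ω : Type*} [MulAction G Ω]

theorem isPretransitive_normal [FaithfulSMul G Ω] [IsPreprimitive G Ω] (N : Subgroup G) [N.Normal]
    (hN : N ≠ ⊥) : IsPretransitive N Ω := by
  refine IsQuasiPreprimitive.isPretransitive_of_normal fun h => hN ?_
  rw [Subgroup.eq_bot_iff_forall]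
  intro n hn
  refine eq_of_smul_eq_smul (α := Ω) fun x => ?_
  rw [one_smul]
  exact (Set.eq_univ_iff_forall.mp h x) ⟨n, hn⟩

theorem regular_inj {N : Subgroup G} (hreg : ∀ x : Ω, stabilizer N x = ⊥) {n n' : N} {x : Ω}
    (h : (n : G) • x = (n' : G) • x) : n = n' := by
  have : n'⁻¹ * n ∈ stabilizer N x := by
    rw [mem_stabilizer_iff, mul_smul, inv_smul_eq_iff]; exact h
  rw [hreg, Subgroup.mem_bot, inv_mul_eq_one] at this
  exact this.symm

theorem regular_card (N : Subgroup G) [IsPretransitive N Ω]
    (hreg : ∀ x : Ω, stabilizer N x = ⊥) (a : Ω) : Nat.card N = Nat.card Ω := by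
  refine Nat.card_congr (Equiv.ofBijective (fun n : N => (n : G) • a) ⟨fun n n' h => regular_inj hreg h, fun x => ?_⟩)
  obtain ⟨n, hn⟩ := exists_smul_eq N a x
  exact ⟨n, hn⟩

/-- An abelian transitive subgroup of a faithful action is semiregular. -/
theorem stabilizer_eq_bot_of_comm [FaithfulSMul G Ω] (N : Subgroup G) (hc : IsMulCommutative N)
    [IsPretransitive N Ω] (a : Ω) : stabilizer N a = ⊥ := by
  rw [Subgroup.eq_bot_iff_forall]
  intro n hn
  apply Subtype.ext
  refine eq_of_smul_eq_smul (α := Ω) fun x => ?_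
  rw [Subgroup.coe_one, one_smul]
  refine CfsgLib.Perm.Basic.eq_self_of_commute (G := N) (c := fun y => (n : G) • y) (fun g y => ?_) (a := a) hn x
  change (n : G) • (g : G) • y = (g : G) • (n : G) • y
  rw [smul_smul, smul_smul, ← Subgroup.coe_mul, ← Subgroup.coe_mul, hc.1.comm]

theorem preprimitive_stabilizer [IsPretransitive G Ω] (h2 : IsMultiplyPreprimitive G Ω 2) (a : Ω) :
    IsPreprimitive (stabilizer G a) (SubMulAction.ofStabilizer G a) :=
  (is_one_preprimitive_iff _ _).mp
    ((isMultiplyPreprimitive_succ_iff_ofStabilizer G Ω (n := 1) le_rfl).mp h2)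

/-- A regular normal subgroup of a doubly primitive group. -/
theorem regular_two_primitive [Finite Ω] (hX : 2 ≤ Nat.card Ω) (h2 : IsMultiplyPreprimitive G Ω 2)
    (N : Subgroup G) [N.Normal] (htrans : IsPretransitive N Ω) (hreg : ∀ x : Ω, stabilizer N x = ⊥) :
    Nat.card Ω = 3 ∨ (IsMulCommutative N ∧ (∀ n ∈ N, n ^ 2 = 1) ∧ ∃ m : ℕ, Nat.card Ω = 2 ^ m) := by
  have h2t : IsMultiplyPretransitive G Ω 2 := h2.isMultiplyPretransitive
  haveI : IsPretransitive G Ω := isPretransitive_of_is_two_pretransitive (h2 := h2t)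
  obtain ⟨⟨a⟩, -⟩ := Nat.card_pos_iff.mp (by omega : 0 < Nat.card Ω)
  have hcard : Nat.card N = Nat.card Ω := regular_card N hreg a
  haveI : Finite N := Nat.finite_of_card_ne_zero (by omega)
  have hprim := preprimitive_stabilizer h2 a
  let Y := SubMulAction.ofStabilizer G a
  have hne : ∀ n : N, n ≠ 1 → (n : G) • a ∈ Y := fun n hn h => hn
    (regular_inj hreg (n' := 1) (by rw [Subgroup.coe_one, one_smul]; exact h))
  have hconj : ∀ n m : N, n ≠ 1 → m ≠ 1 → ∃ g ∈ stabilizer G a, (g * n * g⁻¹ : G) = m := by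
    intro n m hn hm
    obtain ⟨g, hg⟩ := exists_smul_eq (stabilizer G a) (⟨_, hne n hn⟩ : Y) ⟨_, hne m hm⟩
    have hg' : (g : G) • (n : G) • a = (m : G) • a := congrArg Subtype.val hg
    refine ⟨g, g.2, congrArg Subtype.val (regular_inj hreg (n := ⟨_, (inferInstance : N.Normal).conj_mem n n.2 g⟩) (n' := m) (x := a) ?_)⟩
    change ((g : G) * n * (g : G)⁻¹) • a = _
    rw [mul_smul, mul_smul, inv_smul_eq_iff.mpr (show a = (g : G) • a from g.2.symm), hg']
  obtain ⟨p, hp, hpd⟩ := Nat.exists_prime_and_dvd (n := Nat.card N) (by omega)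
  haveI : Fact p.Prime := ⟨hp⟩
  obtain ⟨n₀, hn₀⟩ := exists_prime_orderOf_dvd_card' (G := N) p hpd
  have hn₀1 : n₀ ≠ 1 := fun h => by rw [h, orderOf_one] at hn₀; exact hp.one_lt.ne hn₀
  have hexp : ∀ n : N, n ^ p = 1 := by
    intro n
    by_cases hn : n = 1
    · rw [hn, one_pow]
    obtain ⟨g, -, hg⟩ := hconj n₀ n hn₀1 hn
    apply Subtype.ext
    rw [Subgroup.coe_pow, ← hg, conj_pow, ← Subgroup.coe_pow, ← hn₀, pow_orderOf_eq_one]
    simp
  by_cases hp2 : p = 2
  · subst hp2
    have hcomm : IsMulCommutative N := ⟨⟨fun x y => by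
      have h : ∀ z : N, z⁻¹ = z := fun z => inv_eq_of_mul_eq_one_right (by rw [← pow_two, hexp])
      calc x * y = (x * y)⁻¹ := (h _).symm
        _ = y * x := by rw [mul_inv_rev, h, h]⟩⟩
    obtain ⟨m, hm⟩ := IsPGroup.iff_card.mp (fun n => ⟨1, by rw [pow_one, hexp]⟩ : IsPGroup 2 N)
    exact Or.inr ⟨hcomm, fun n hn => congrArg Subtype.val (hexp ⟨n, hn⟩), m, by rw [← hcard, hm]⟩
  · left
    have hinv : n₀⁻¹ ≠ n₀ := by
      intro h
      have h2 : n₀ ^ 2 = 1 := by
        rw [pow_two]; nth_rw 1 [← h]; exact inv_mul_cancel n₀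
      have := orderOf_dvd_of_pow_eq_one h2
      rw [hn₀] at this
      exact hp2 ((Nat.prime_dvd_prime_iff_eq hp Nat.prime_two).mp this)
    let u : Y := ⟨_, hne n₀ hn₀1⟩
    let v : Y := ⟨_, hne n₀⁻¹ (by simpa using hn₀1)⟩
    have hblock : IsBlock (stabilizer G a) ({u, v} : Set Y) := by
      rw [isBlock_iff_smul_eq_or_disjoint]
      intro g
      have ga : ∀ z : N, (g : G) • (z : G) • a = ((g : G) * z * (g : G)⁻¹) • a := fun z => by
        rw [mul_smul, mul_smul, inv_smul_eq_iff.mpr (show a = (g : G) • a from g.2.symm)]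
      let z : N := ⟨_, (inferInstance : N.Normal).conj_mem n₀ n₀.2 g⟩
      have e1 : ((g • u : Y) : Ω) = (z : G) • a := ga n₀
      have e2 : ((g • v : Y) : Ω) = ((z⁻¹ : N) : G) • a := by
        change (g : G) • ((n₀⁻¹ : N) : G) • a = _
        rw [ga, Subgroup.coe_inv, Subgroup.coe_inv]
        congr 1
        simp [z, mul_assoc]
      by_cases hz : z = n₀ ∨ z = n₀⁻¹
      · left
        rw [← Set.image_smul, Set.image_pair]
        rcases hz with hz | hz
        · rw [hz] at e1 e2
          rw [show g • u = u from Subtype.ext e1, show g • v = v from Subtype.ext e2]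
        · rw [hz] at e1 e2
          rw [inv_inv] at e2
          rw [show g • u = v from Subtype.ext e1, show g • v = u from Subtype.ext e2, Set.pair_comm]
      · right
        push Not at hz
        rw [← Set.image_smul, Set.image_pair, Set.disjoint_left]
        intro w hw hw'
        simp only [Set.mem_insert_iff, Set.mem_singleton_iff] at hw hw'
        rcases hw with rfl | rfl <;> rcases hw' with h | h
        · exact hz.1 (regular_inj hreg (e1.symm.trans (congrArg Subtype.val h)))
        · exact hz.2 (regular_inj hreg (e1.symm.trans (congrArg Subtype.val h)))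
        · exact hz.2 (inv_eq_iff_eq_inv.mp (regular_inj hreg (e2.symm.trans (congrArg Subtype.val h))))
        · exact hz.1 (inv_injective (regular_inj hreg (e2.symm.trans (congrArg Subtype.val h))))
    have huv : u ≠ v := fun h => hinv (regular_inj hreg (congrArg Subtype.val h)).symm
    have huniv := (hprim.isTrivialBlock_of_isBlock hblock).resolve_left
      (fun hs => huv (hs (Set.mem_insert _ _) (Set.mem_insert_of_mem _ rfl)))
    have hY : Nat.card Y = 2 := by
      rw [← Set.ncard_univ, ← huniv, Set.ncard_pair huv]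
    have := SubMulAction.nat_card_ofStabilizer_eq G a
    rw [hY] at this
    omega

/-- A regular normal subgroup of a triply primitive group. -/
theorem regular_three_primitive [Finite Ω] (hX : 3 ≤ Nat.card Ω) (h3 : IsMultiplyPreprimitive G Ω 3)
    (N : Subgroup G) [N.Normal] (htrans : IsPretransitive N Ω) (hreg : ∀ x : Ω, stabilizer N x = ⊥) :
    Nat.card Ω = 3 ∨ Nat.card Ω = 4 := by
  haveI := h3
  have h2 : IsMultiplyPreprimitive G Ω 2 := isMultiplyPreprimitive_of_le G Ω h3 (by norm_num)
    (by rw [ENat.card_eq_coe_natCard]; exact_mod_cast hX)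
  rcases regular_two_primitive (by omega) h2 N htrans hreg with h | ⟨hc, he, -⟩
  · exact Or.inl h
  obtain ⟨⟨a⟩, -⟩ := Nat.card_pos_iff.mp (by omega : 0 < Nat.card Ω)
  haveI : Nontrivial Ω := Finite.one_lt_card_iff_nontrivial.mp (by omega)
  obtain ⟨b, hb⟩ := exists_ne a
  have hprim := IsMultiplyPreprimitive.isPreprimitive_ofFixingSubgroup (M := G) (α := Ω) 3
    (s := ({a, b} : Set Ω)) (by rw [Set.encard_pair hb.symm]; rfl)
  obtain ⟨n, hn⟩ := exists_smul_eq N a b
  let Y := SubMulAction.ofFixingSubgroup G ({a, b} : Set Ω)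
  have hnn : ∀ x : Ω, (n : G) • (n : G) • x = x := fun x => by
    rw [smul_smul, ← pow_two, he n n.2, one_smul]
  have hnfix : ∀ x : Ω, (n : G) • x ≠ x := fun x hx => hb (by
    have : n = 1 := regular_inj hreg (n' := 1) (by rw [Subgroup.coe_one, one_smul]; exact hx)
    rw [this, one_smul] at hn; exact hn.symm)
  have hmem : ∀ x : Ω, x ∈ Y ↔ x ≠ a ∧ x ≠ b := fun x => by
    simp [Y, SubMulAction.mem_ofFixingSubgroup_iff]
  have hmap : ∀ x : Y, (n : G) • (x : Ω) ∈ Y := fun x => by
    rw [hmem]
    obtain ⟨h1, h2⟩ := (hmem x).mp x.2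
    refine ⟨fun h => h2 ?_, fun h => h1 ?_⟩
    · rw [← hnn (x : Ω), h]; exact hn
    · exact MulAction.injective (n : G) (h.trans hn.symm)
  rcases isEmpty_or_nonempty Y with hY | ⟨⟨c⟩⟩
  · left
    exfalso
    have hsub : (Set.univ : Set Ω) ⊆ {a, b} := fun x _ => by
      by_contra hx
      simp only [Set.mem_insert_iff, Set.mem_singleton_iff, not_or] at hx
      exact hY.false ⟨x, (hmem x).mpr hx⟩
    have := Set.ncard_le_ncard hsub (Set.toFinite _)
    rw [Set.ncard_univ, Set.ncard_pair hb.symm] at this
    omega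
  · right
    let d : Y := ⟨_, hmap c⟩
    have hcd : c ≠ d := fun h => hnfix c (congrArg Subtype.val h).symm
    have hblock : IsBlock (fixingSubgroup G ({a, b} : Set Ω)) ({c, d} : Set Y) := by
      rw [isBlock_iff_smul_eq_or_disjoint]
      intro g
      have hga : (g : G) • a = a := (mem_fixingSubgroup_iff G).mp g.2 a (by simp)
      have hgb : (g : G) • b = b := (mem_fixingSubgroup_iff G).mp g.2 b (by simp)
      have hgn : ((g : G) * n * (g : G)⁻¹) = n := congrArg Subtype.val
        (regular_inj hreg (n := ⟨_, (inferInstance : N.Normal).conj_mem n n.2 g⟩) (n' := n) (x := a) (by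
          change ((g : G) * n * (g : G)⁻¹) • a = _
          rw [mul_smul, mul_smul, inv_smul_eq_iff.mpr hga.symm, show (n : G) • a = b from hn, hgb]))
      have hgd : ∀ x : Ω, (g : G) • (n : G) • x = (n : G) • (g : G) • x := fun x => by
        conv_rhs => rw [← hgn]
        rw [mul_smul, mul_smul, inv_smul_smul]
      by_cases hc' : g • c = c ∨ g • c = d
      · left
        rw [← Set.image_smul, Set.image_pair]
        rcases hc' with h | h
        · have e2 : g • d = d := Subtype.ext (by
            change (g : G) • (n : G) • (c : Ω) = (n : G) • (c : Ω)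
            rw [hgd, show (g : G) • (c : Ω) = c from congrArg Subtype.val h])
          rw [h, e2]
        · have e2 : g • d = c := Subtype.ext (by
            change (g : G) • (n : G) • (c : Ω) = (c : Ω)
            rw [hgd, show (g : G) • (c : Ω) = (n : G) • c from congrArg Subtype.val h, hnn])
          rw [h, e2]; exact Set.pair_comm _ _
      · right
        push Not at hc'
        rw [← Set.image_smul, Set.image_pair, Set.disjoint_left]
        intro w hw hw'
        simp only [Set.mem_insert_iff, Set.mem_singleton_iff] at hw hw'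
        rcases hw with rfl | rfl
        · rcases hw' with h | h
          · exact hc'.1 h
          · exact hc'.2 h
        · rcases hw' with h | h
          · refine hc'.2 (Subtype.ext ?_)
            change (g : G) • (c : Ω) = (n : G) • c
            have := congrArg Subtype.val h
            change (g : G) • (n : G) • (c : Ω) = c at this
            rw [hgd] at this
            rw [← congrArg ((n : G) • ·) this, hnn]
          · refine hc'.1 (Subtype.ext ?_)
            have := congrArg Subtype.val h
            change (g : G) • (n : G) • (c : Ω) = (n : G) • c at this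
            rw [hgd] at this
            exact MulAction.injective (n : G) this
    have huniv := (hprim.isTrivialBlock_of_isBlock hblock).resolve_left
      (fun hs => hcd (hs (Set.mem_insert _ _) (Set.mem_insert_of_mem _ rfl)))
    have hY2 : Nat.card Y = 2 := by rw [← Set.ncard_univ, ← huniv, Set.ncard_pair hcd]
    have hcompl : (Y : Set Ω) = ({a, b} : Set Ω)ᶜ := rfl
    have : Nat.card Y = ({a, b} : Set Ω)ᶜ.ncard := by
      rw [← hcompl, ← Nat.card_coe_set_eq]; rfl
    rw [hY2, Set.ncard_compl, Set.ncard_pair hb.symm] at this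
    omega

/-- the trace of a normal subgroup on a point stabiliser -/
abbrev normalStab (N : Subgroup G) (a : Ω) : Subgroup (stabilizer G a) := N.subgroupOf (stabilizer G a)

theorem normalStab_eq_bot {N : Subgroup G} {a : Ω} (h : normalStab N a = ⊥) : stabilizer N a = ⊥ := by
  rw [Subgroup.eq_bot_iff_forall] at h ⊢
  intro n hn
  exact Subtype.ext (congrArg (fun z : stabilizer G a => (z : G)) (h ⟨(n : G), hn⟩ n.2))

theorem faithful_ofStabilizer [FaithfulSMul G Ω] (a : Ω) :
    FaithfulSMul (stabilizer G a) (SubMulAction.ofStabilizer G a) := by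
  refine ⟨fun {g g'} h => Subtype.ext (eq_of_smul_eq_smul (α := Ω) fun x => ?_)⟩
  by_cases hx : x = a
  · rw [hx, show (g : G) • a = a from g.2, show (g' : G) • a = a from g'.2]
  · exact congrArg Subtype.val (h ⟨x, hx⟩)

/-- transitivity of a normal subgroup from its stabiliser -/
theorem succ_pretransitive {N : Subgroup G} [IsPretransitive N Ω] {a : Ω} {n : ℕ}
    (h : IsMultiplyPretransitive (normalStab N a) (SubMulAction.ofStabilizer G a) n) :
    IsMultiplyPretransitive N Ω n.succ := by
  rw [SubMulAction.ofStabilizer.isMultiplyPretransitive (a := a), isMultiplyPretransitive_iff]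
  intro x y
  let lift : (Fin n ↪ SubMulAction.ofStabilizer N a) → (Fin n ↪ SubMulAction.ofStabilizer G a) :=
    fun x => ⟨fun i => ⟨(x i : Ω), (x i).2⟩, fun i j e => x.injective (Subtype.ext (congrArg (fun z : SubMulAction.ofStabilizer G a => (z : Ω)) e))⟩
  obtain ⟨g, hg⟩ := exists_smul_eq (normalStab N a) (lift x) (lift y)
  refine ⟨⟨⟨((g : stabilizer G a) : G), g.2⟩, (g : stabilizer G a).2⟩, Function.Embedding.ext fun i => Subtype.ext ?_⟩
  exact congrArg (fun z : Fin n ↪ SubMulAction.ofStabilizer G a => (z i : Ω)) hg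

end CfsgLib.Perm.Normal
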