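import Mathlib
import Cfsg.Prelude.Def_Transfer
import Cfsg.Agent.Lib.Perm.RankOne

/-! Special rank one groups and quadratic actions of rank one groups. -/

set_option autoImplicit false

namespace CfsgLib.Perm.SpecialRankOne

open Cfsg CfsgLib.Perm.RankOne

variable {G : Type*} [Group G] {A B : Subgroup G}

/-- `(a, b)` are partners: `b` is `b(a)`. -/
def Partner (A B : Subgroup G) (a b : G) : Prop :=
  a ∈ A ∧ a ≠ 1 ∧ b ∈ B ∧ b ≠ 1 ∧ conjBy A b⁻¹ = conjBy B a⁻¹

theorem Partner.swap {a b : G} (h : Partner A B a b) : Partner B A b a :=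
  ⟨h.2.2.1, h.2.2.2.1, h.1, h.2.1, h.2.2.2.2.symm⟩

theorem special_swap (h : IsSpecialRankOnePair A B) : IsSpecialRankOnePair B A :=
  ⟨RankOnePair_symm h.1, fun b hb hb1 a ha ha1 he => by
    calc a⁻¹ * b * a = (a⁻¹ * b⁻¹ * a)⁻¹ := by group
      _ = (b⁻¹ * a * b)⁻¹ := by rw [h.2 a ha ha1 b hb hb1 he.symm]
      _ = b⁻¹ * a⁻¹ * b := by group⟩

/-- In a special rank one pair the partner of `a⁻¹` is the inverse of the partner of `a`. -/
theorem partner_inv (hs : IsSpecialRankOnePair A B) {a b : G} (h : Partner A B a b) :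
    conjBy A b = conjBy B a := by
  obtain ⟨ha, ha1, hb, hb1, he⟩ := h
  have hsp := hs.2 a ha ha1 b hb hb1 he
  have h3 : a * b⁻¹ * a = b⁻¹ * a * b⁻¹ := by
    calc a * b⁻¹ * a = a * (b⁻¹ * a * b) * b⁻¹ := by group
      _ = a * (a⁻¹ * b⁻¹ * a) * b⁻¹ := by rw [hsp]
      _ = b⁻¹ * a * b⁻¹ := by group
  have h4 : a⁻¹ * b * a⁻¹ = b * a⁻¹ * b := by
    calc a⁻¹ * b * a⁻¹ = (a * b⁻¹ * a)⁻¹ := by group
      _ = (b⁻¹ * a * b⁻¹)⁻¹ := by rw [h3]
      _ = b * a⁻¹ * b := by group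
  have hbr : b * a⁻¹ * b⁻¹ = a * b * a⁻¹ := by
    calc b * a⁻¹ * b⁻¹ = a * (a⁻¹ * b * a⁻¹) * b⁻¹ := by group
      _ = a * (b * a⁻¹ * b) * b⁻¹ := by rw [h4]
      _ = a * b * a⁻¹ := by group
  by_contra hne
  obtain ⟨hp, -⟩ := pair_of_mem hs.1
    (conjBy_mem_unipotent (self_mem_unipotent A B) (le_sup_right (a := A) hb))
    (conjBy_mem_unipotent (right_mem_unipotent hs.1) (le_sup_left (b := B) ha)) hne
  have h1 : b * a⁻¹ * b⁻¹ ∈ conjBy A b := conjBy_conj_mem (A.inv_mem ha)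
  have h2 : b * a⁻¹ * b⁻¹ ∈ conjBy B a := hbr ▸ conjBy_conj_mem hb
  exact ha1 (by simpa using eq_one_of_normalizes hp h1 (conjBy_of_mem h2))

/-- The key identity: in a special rank one pair with abelian `A`, `b(aⁿ)ⁿ = b(a)`. -/
theorem partner_pow (n : ℕ) : ∀ {A B : Subgroup G}, IsSpecialRankOnePair A B →
    ∀ {a b g : G}, Partner A B a b → a ^ n ≠ 1 → Partner A B (a ^ n) g → g ^ n = b := by
  induction n with
  | zero => intro A B _ a b g _ h; exact absurd (pow_zero a) h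
  | succ m ih =>
    intro A B hs a b g hab hne hg
    have hR := hs.1
    obtain ⟨ha, ha1, hb, hb1, he⟩ := hab
    have hsp := hs.2 a ha ha1 b hb hb1 he
    rcases Nat.eq_zero_or_pos m with rfl | hm
    · simp only [pow_one, zero_add] at hne hg ⊢
      exact (existsUnique_b hR ha ha1).unique ⟨hg.2.2.1, hg.2.2.2.1, hg.2.2.2.2⟩ ⟨hb, hb1, he⟩
    have hbm : b ^ m = a * b⁻¹ * (a ^ m)⁻¹ * b * a⁻¹ := by
      have h1 : (b⁻¹ * a * b) ^ m = (a⁻¹ * b⁻¹ * a) ^ m := by rw [hsp]
      have hcp : ∀ x y : G, (x⁻¹ * y * x) ^ m = x⁻¹ * y ^ m * x := fun x y => by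
        simpa using (map_pow (MulAut.conj x⁻¹) y m).symm
      have e1 : (b⁻¹ * a * b) ^ m = b⁻¹ * a ^ m * b := hcp b a
      have e2 : (a⁻¹ * b⁻¹ * a) ^ m = a⁻¹ * (b ^ m)⁻¹ * a := by rw [hcp a b⁻¹, inv_pow]
      rw [e1, e2] at h1
      have h2 := congrArg (fun x => (a * x * a⁻¹)⁻¹) h1
      simp only [mul_inv_rev, inv_inv] at h2
      symm
      calc a * b⁻¹ * (a ^ m)⁻¹ * b * a⁻¹ = a * (b⁻¹ * ((a ^ m)⁻¹ * b)) * a⁻¹ := by group
        _ = b ^ m := by simpa [mul_assoc] using h2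
    by_cases ham : a ^ m = 1
    · have hbm1 : b ^ m = 1 := by rw [hbm, ham]; group
      have hg' : Partner A B a g := by rwa [pow_succ, ham, one_mul] at hg
      have hgb : g = b :=
        (existsUnique_b hR ha ha1).unique ⟨hg'.2.2.1, hg'.2.2.2.1, hg'.2.2.2.2⟩ ⟨hb, hb1, he⟩
      rw [hgb, pow_succ, hbm1, one_mul]
    have hbm1 : b ^ m ≠ 1 := by
      intro e
      rw [hbm, mul_inv_eq_one, mul_assoc, mul_assoc] at e
      have e2 : b⁻¹ * ((a ^ m)⁻¹ * b) = 1 := mul_eq_left.mp e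
      apply ham
      have e3 : (a ^ m)⁻¹ = 1 := by
        calc (a ^ m)⁻¹ = b * (b⁻¹ * ((a ^ m)⁻¹ * b)) * b⁻¹ := by group
          _ = 1 := by rw [e2]; group
      exact inv_eq_one.mp e3
    obtain ⟨c, hc, hc1, hce⟩ := hR.cond_right (b ^ m) (B.pow_mem hb m) hbm1
    have hcp : Partner A B c (b ^ m) := ⟨hc, hc1, B.pow_mem hb m, hbm1, hce.symm⟩
    have hcm : c ^ m = a :=
      ih (special_swap hs) (Partner.swap ⟨ha, ha1, hb, hb1, he⟩) hbm1 (Partner.swap hcp)
    have hcne : c ^ (m + 1) ≠ 1 := by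
      intro e
      apply hne
      rw [← hcm, ← pow_mul, mul_comm, pow_mul, e, one_pow]
    obtain ⟨d, hd, hd1, hde⟩ := hR.cond_left (c ^ (m + 1)) (A.pow_mem hc _) hcne
    have hd_m : g ^ m = d := by
      refine ih hs ⟨A.pow_mem hc _, hcne, hd, hd1, hde⟩ ?_ ?_
      · rw [← pow_mul, mul_comm, pow_mul, hcm]; exact hne
      · rw [← pow_mul, mul_comm, pow_mul, hcm]; exact hg
    -- the partner of `c ^ (m + 1)` is also `g⁻¹ * b`
    have hd2 : d = g⁻¹ * b := by
      have hca : (c ^ (m + 1))⁻¹ = a⁻¹ * c⁻¹ := by rw [pow_succ', mul_inv_rev, hcm]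
      have hBc : conjBy B (c ^ (m + 1))⁻¹ = conjBy A (g⁻¹ * b)⁻¹ := by
        calc conjBy B (c ^ (m + 1))⁻¹
            = conjBy (conjBy B c⁻¹) a⁻¹ := by rw [hca, conjBy_mul]
          _ = conjBy A (a⁻¹ * (b ^ m)⁻¹) := by rw [hce, conjBy_mul]
          _ = conjBy A (b⁻¹ * a ^ m * b * a⁻¹) := by
              rw [hbm, show a⁻¹ * (a * b⁻¹ * (a ^ m)⁻¹ * b * a⁻¹)⁻¹ = b⁻¹ * a ^ m * b * a⁻¹ by group]
          _ = conjBy (conjBy A b) (b⁻¹ * a ^ m) := by
              rw [conjBy_mul, conjBy_of_mem (A.inv_mem ha), conjBy_mul]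
          _ = conjBy (conjBy B (a ^ (m + 1))) b⁻¹ := by
              rw [partner_inv hs ⟨ha, ha1, hb, hb1, he⟩, ← conjBy_mul, ← conjBy_mul, pow_succ, mul_assoc]
          _ = conjBy A (g⁻¹ * b)⁻¹ := by
              rw [← partner_inv hs hg, ← conjBy_mul, mul_inv_rev, inv_inv]
      exact inv_injective (eq_of_conj_eq (RankOnePair_symm hR) (B.inv_mem hd)
        (B.inv_mem (B.mul_mem (B.inv_mem hg.2.2.1) hb)) (hde.trans hBc))
    rw [hd2] at hd_m
    rw [pow_succ', hd_m, mul_inv_cancel_left]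

/-- In a special rank one group with abelian unipotent subgroups, `A` is elementary abelian or
torsion-free and divisible. -/
theorem dichotomy (hs : IsSpecialRankOnePair A B) (hA : IsMulCommutative A) :
    (∃ p : ℕ, p.Prime ∧ IsElementaryAbelian p A) ∨
      ((∀ a ∈ A, a ≠ 1 → ¬ IsOfFinOrder a) ∧ ∀ a ∈ A, ∀ n : ℕ, 0 < n → ∃ c ∈ A, c ^ n = a) := by
  by_cases htor : ∀ a ∈ A, a ≠ 1 → ¬ IsOfFinOrder a
  · refine Or.inr ⟨htor, fun a ha n hn => ?_⟩
    by_cases ha1 : a = 1
    · exact ⟨1, A.one_mem, by rw [one_pow, ha1]⟩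
    obtain ⟨b, hb, hb1, he⟩ := hs.1.cond_left a ha ha1
    have hbn : b ^ n ≠ 1 := by
      intro e
      -- `b` would be a torsion element
      obtain ⟨x, hx, hxe⟩ := right_mem_unipotent hs.1
      have hb' : x⁻¹ * b * x ∈ A := by rw [hxe] at hb; exact mem_conjBy.mp hb
      have hpow : (x⁻¹ * b * x) ^ n = 1 := by
        have h := (map_pow (MulAut.conj x⁻¹) b n).symm
        simp only [MulAut.conj_apply, inv_inv] at h
        rw [h, e, mul_one, inv_mul_cancel]
      refine htor _ hb' (fun h => hb1 ?_) (isOfFinOrder_iff_pow_eq_one.mpr ⟨n, hn, hpow⟩)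
      calc b = x * (x⁻¹ * b * x) * x⁻¹ := by group
        _ = 1 := by rw [h]; group
    obtain ⟨c, hc, hc1, hce⟩ := hs.1.cond_right (b ^ n) (B.pow_mem hb n) hbn
    exact ⟨c, hc, partner_pow n (special_swap hs) ⟨hb, hb1, ha, ha1, he.symm⟩ hbn
      ⟨B.pow_mem hb n, hbn, hc, hc1, hce⟩⟩
  · push Not at htor
    obtain ⟨a, ha, ha1, hfin⟩ := htor
    have hn : orderOf a ≠ 1 := fun h => ha1 (orderOf_eq_one_iff.mp h)
    have hpos : 0 < orderOf a := hfin.orderOf_pos
    set p := (orderOf a).minFac with hp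
    have hpp : p.Prime := Nat.minFac_prime hn
    set a' := a ^ (orderOf a / p) with ha'
    have ha'1 : a' ≠ 1 := pow_ne_one_of_lt_orderOf
      (Nat.div_pos (Nat.le_of_dvd hpos (Nat.minFac_dvd _)) hpp.pos).ne' (Nat.div_lt_self hpos hpp.one_lt)
    have ha'p : a' ^ p = 1 := by
      rw [ha', ← pow_mul, Nat.div_mul_cancel (Nat.minFac_dvd _), pow_orderOf_eq_one]
    refine Or.inl ⟨p, hpp, hA, fun c hc => ?_⟩
    by_contra hcp
    have hcomm : a' * c = c * a' := congrArg Subtype.val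
      (hA.1.comm (⟨a', A.pow_mem ha _⟩ : A) ⟨c, hc⟩)
    have hpow : (a' * c) ^ p = c ^ p := by rw [(show Commute a' c from hcomm).mul_pow, ha'p, one_mul]
    have hc1 : c ≠ 1 := fun h => hcp (by rw [h, one_pow])
    have hac1 : a' * c ≠ 1 := fun h => hcp (by rw [← hpow, h, one_pow])
    obtain ⟨d, hd, hd1, hde⟩ := hs.1.cond_left c hc hc1
    obtain ⟨d', hd', hd'1, hde'⟩ := hs.1.cond_left (a' * c) (A.mul_mem (A.pow_mem ha _) hc) hac1
    obtain ⟨g, hg, hg1, hge⟩ := hs.1.cond_left (c ^ p) (A.pow_mem hc p) hcp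
    have e1 : g ^ p = d := partner_pow p hs ⟨hc, hc1, hd, hd1, hde⟩ hcp ⟨A.pow_mem hc p, hcp, hg, hg1, hge⟩
    have e2 : g ^ p = d' := partner_pow p hs ⟨A.mul_mem (A.pow_mem ha _) hc, hac1, hd', hd'1, hde'⟩
      (hpow ▸ hcp) ⟨A.pow_mem (A.mul_mem (A.pow_mem ha _) hc) p, hpow ▸ hcp, hg, hg1, hpow.symm ▸ hge⟩
    rw [← e2, e1, hde] at hde'
    exact ha'1 (mul_eq_right.mp (inv_injective (eq_of_conj_eq hs.1 (A.inv_mem hc)
      (A.inv_mem (A.mul_mem (A.pow_mem ha _) hc)) hde')).symm)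

section Quadratic

variable {N : Type*} [AddCommGroup N] [DistribMulAction G N]

/-- `[N, A]`. -/
def U (N : Type*) [AddCommGroup N] [DistribMulAction G N] (A : Subgroup G) : AddSubgroup N :=
  AddSubgroup.closure {x | ∃ a ∈ A, ∃ n : N, x = a • n - n}

theorem mem_U {a : G} (ha : a ∈ A) (n : N) : a • n - n ∈ U N A :=
  AddSubgroup.subset_closure ⟨a, ha, n, rfl⟩

theorem smul_mem_U (g : G) {u : N} (hu : u ∈ U N A) : g • u ∈ U N (conjBy A g) := by
  induction hu using AddSubgroup.closure_induction with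
  | mem x hx =>
    obtain ⟨a, ha, n, rfl⟩ := hx
    have h := mem_U (N := N) (conjBy_conj_mem (g := g) ha) (g • n)
    rwa [mul_smul, mul_smul, inv_smul_smul, ← smul_sub] at h
  | zero => rw [smul_zero]; exact zero_mem _
  | add x y _ _ hx hy => rw [smul_add]; exact add_mem hx hy
  | neg x _ hx => rw [smul_neg]; exact neg_mem hx

variable (N) in
/-- `A` acts quadratically. -/
def Quadratic (A : Subgroup G) : Prop := ∀ a ∈ A, ∀ a' ∈ A, ∀ n : N, a' • (a • n - n) = a • n - n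

theorem fix_U (hq : Quadratic N A) {a : G} (ha : a ∈ A) {u : N} (hu : u ∈ U N A) : a • u = u := by
  induction hu using AddSubgroup.closure_induction with
  | mem x hx => obtain ⟨a', ha', n, rfl⟩ := hx; exact hq a' ha' a ha n
  | zero => rw [smul_zero]
  | add x y _ _ hx hy => rw [smul_add, hx, hy]
  | neg x _ hx => rw [smul_neg, hx]

theorem quadratic_conj (hq : Quadratic N A) (g : G) : Quadratic N (conjBy A g) := by
  intro c hc c' hc' n
  rw [mem_conjBy] at hc hc'
  have h := hq _ hc _ hc' (g⁻¹ • n)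
  have e : ∀ x : G, ∀ y : N, (g⁻¹ * x * g) • (g⁻¹ • y) = g⁻¹ • (x • y) := fun x y => by
    rw [smul_smul, smul_smul]; congr 1; group
  rw [e, ← smul_sub, e] at h
  exact MulAction.injective g⁻¹ h

theorem quadratic_right (hR : IsRankOnePair A B) (hq : Quadratic N A) : Quadratic N B := by
  obtain ⟨x, -, rfl⟩ := right_mem_unipotent hR
  exact quadratic_conj hq x

variable (N) in
/-- The fixed points of the whole group. -/
def fixedZ : AddSubgroup N where
  carrier := {z | ∀ g : G, g • z = z}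
  zero_mem' := fun g => smul_zero g
  add_mem' := fun hx hy g => by rw [smul_add, hx g, hy g]
  neg_mem' := fun hx g => by rw [smul_neg, hx g]

theorem mem_fixedZ {z : N} : z ∈ fixedZ (G := G) N ↔ ∀ g : G, g • z = z := Iff.rfl

variable (hR : IsRankOnePair A B) (htop : A ⊔ B = ⊤)
include hR htop

/-- One nontrivial element of `A` together with `B` generates. -/
theorem mem_fixedZ_of_fixed {a : G} (ha : a ∈ A) (ha1 : a ≠ 1) {z : N} (haz : a • z = z)
    (hBz : ∀ b ∈ B, b • z = z) : z ∈ fixedZ (G := G) N := by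
  obtain ⟨b, hb, -, he⟩ := hR.cond_left a ha ha1
  rw [mem_fixedZ]
  suffices h : A ⊔ B ≤ MulAction.stabilizer G z by
    intro g; exact h (htop ▸ Subgroup.mem_top g)
  refine sup_le (fun a' ha' => ?_) (fun b' hb' => hBz b' hb')
  have h1 : b⁻¹ * a' * b ∈ conjBy B a⁻¹ := he ▸ (by simpa using conjBy_conj_mem (g := b⁻¹) ha')
  rw [mem_conjBy, inv_inv] at h1
  have h2 := hBz _ h1
  have hbz : b • z = z := hBz b hb
  have hbz' : b⁻¹ • z = z := inv_smul_eq_iff.mpr hbz.symm
  have haz' : a⁻¹ • z = z := inv_smul_eq_iff.mpr haz.symm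
  simp only [mul_smul, haz', hbz] at h2
  have h3 : b⁻¹ • a' • z = z := by
    have := congrArg (a⁻¹ • ·) h2
    simpa [haz'] using this
  exact inv_smul_eq_iff.mp h3 |>.trans hbz

/-- Quadratic action which is not quadratic for the whole group forces the group to be special. -/
theorem special_of_quadratic (hq : Quadratic N A)
    (hX : ∃ x y : G, ∃ n : N, y • (x • n - n) ≠ x • n - n) : IsSpecialRankOnePair A B := by
  refine ⟨hR, fun a ha ha1 b hb hb1 he => ?_⟩
  have hqB := quadratic_right hR hq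
  set Z := fixedZ (G := G) N with hZ
  set M := U N A ⊔ U N B with hM
  -- the basic congruence
  have hkey : ∀ {a b : G}, a ∈ A → a ≠ 1 → b ∈ B → b ≠ 1 → conjBy A b⁻¹ = conjBy B a⁻¹ →
      ∀ u ∈ U N A, (a • (b • u - u) - (b • u - u)) - u ∈ Z ∧ ∃ w ∈ U N B, u + (a • w - w) ∈ Z := by
    intro a b ha ha1 hb hb1 he u hu
    have h1 : b⁻¹ • u ∈ U N (conjBy B a⁻¹) := he ▸ smul_mem_U b⁻¹ hu
    obtain ⟨w, hw, hwu⟩ : ∃ w ∈ U N B, a⁻¹ • w = b⁻¹ • u := by
      refine ⟨a • b⁻¹ • u, ?_, inv_smul_smul a _⟩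
      have := smul_mem_U a h1
      rwa [conjBy_conjBy_inv] at this
    -- `u - (b • u - u) = w - (a • w - w)`
    have hbu : b⁻¹ • u = u - (b • u - u) := by
      rw [inv_smul_eq_iff, smul_sub, hqB b hb b hb u]
      abel
    have haw : a⁻¹ • w = w - (a • w - w) := by
      rw [inv_smul_eq_iff, smul_sub, hq a ha a ha w]
      abel
    rw [hbu, haw] at hwu
    have hz : u + (a • w - w) ∈ Z := by
      refine mem_fixedZ_of_fixed hR htop ha ha1 (fix_U hq ha (add_mem hu (mem_U ha w))) fun b' hb' => ?_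
      have : u + (a • w - w) = w + (b • u - u) :=
        sub_eq_zero.mp (by rw [show u + (a • w - w) - (w + (b • u - u)) = (u - (b • u - u)) - (w - (a • w - w)) by abel, hwu, sub_self])
      rw [this]
      exact fix_U hqB hb' (add_mem hw (mem_U hb u))
    refine ⟨?_, w, hw, hz⟩
    have hy : b • u - u = u + (a • w - w) - w := by
      rw [show u + (a • w - w) - w = u - (w - (a • w - w)) + (0 : N) by abel, hwu]; abel
    have hzf : a • (u + (a • w - w)) = u + (a • w - w) := mem_fixedZ.mp hz a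
    rw [hy, smul_sub, hzf,
      show u + (a • w - w) - a • w - (u + (a • w - w) - w) - u = -(u + (a • w - w)) by abel]
    exact neg_mem hz
  have hkeyA := hkey ha ha1 hb hb1 he
  -- the same with the roles of A and B exchanged
  have hkeyB : ∀ w ∈ U N B, (b • (a • w - w) - (a • w - w)) - w ∈ Z := by
    intro w hw
    have h1 : a⁻¹ • w ∈ U N (conjBy A b⁻¹) := he.symm ▸ smul_mem_U a⁻¹ hw
    obtain ⟨u, hu, huw⟩ : ∃ u ∈ U N A, b⁻¹ • u = a⁻¹ • w := by
      refine ⟨b • a⁻¹ • w, ?_, inv_smul_smul b _⟩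
      have := smul_mem_U b h1
      rwa [conjBy_conjBy_inv] at this
    have hbu : b⁻¹ • u = u - (b • u - u) := by
      rw [inv_smul_eq_iff, smul_sub, hqB b hb b hb u]
      abel
    have haw : a⁻¹ • w = w - (a • w - w) := by
      rw [inv_smul_eq_iff, smul_sub, hq a ha a ha w]
      abel
    rw [hbu, haw] at huw
    have hz : u + (a • w - w) ∈ Z := by
      refine mem_fixedZ_of_fixed hR htop ha ha1 (fix_U hq ha (add_mem hu (mem_U ha w))) fun b' hb' => ?_
      have : u + (a • w - w) = w + (b • u - u) :=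
        sub_eq_zero.mp (by rw [show u + (a • w - w) - (w + (b • u - u)) = (u - (b • u - u)) - (w - (a • w - w)) by abel, huw, sub_self])
      rw [this]
      exact fix_U hqB hb' (add_mem hw (mem_U hb u))
    have hy : a • w - w = (u + (a • w - w)) - u := by abel
    rw [hy, smul_sub, mem_fixedZ.mp hz b,
      show u + (a • w - w) - b • u - (u + (a • w - w) - u) - w = -(w + (b • u - u)) by abel]
    refine neg_mem ?_
    have : u + (a • w - w) = w + (b • u - u) :=
      sub_eq_zero.mp (by rw [show u + (a • w - w) - (w + (b • u - u)) = (u - (b • u - u)) - (w - (a • w - w)) by abel, huw, sub_self])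
    exact this ▸ hz
  set y := b⁻¹ * a * b with hy
  set z := a⁻¹ * b⁻¹ * a with hz
  have hbinv : ∀ m : N, b⁻¹ • m = m - (b • m - m) := fun m => by
    rw [inv_smul_eq_iff, smul_sub, hqB b hb b hb m]; abel
  have hainv : ∀ m : N, a⁻¹ • m = m - (a • m - m) := fun m => by
    rw [inv_smul_eq_iff, smul_sub, hq a ha a ha m]; abel
  have hU : ∀ u ∈ U N A, y • u - z • u ∈ Z := by
    intro u hu
    have hau : a • u = u := fix_U hq ha hu
    set p := b • u - u with hp
    have hbp : b • p = p := hqB b hb b hb u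
    have hbu : b • u = u + p := by rw [hp]; abel
    have hz0 := hkeyA u hu
    obtain ⟨hz0, -⟩ := hz0
    set e := a • p - p - u with he0
    have hap : a • p = p + u + e := by rw [he0]; abel
    have hbe : b⁻¹ • e = e := mem_fixedZ.mp hz0 b⁻¹
    have hy1 : y • u = u + u - p + e := by
      rw [hy, mul_smul, mul_smul, hbu, smul_add, hau, hap]
      simp only [smul_add, hbinv u, hbe, show b⁻¹ • p = p from inv_smul_eq_iff.mpr hbp.symm, ← hp]
      abel
    have hz1 : z • u = u + u - p + e := by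
      rw [hz, mul_smul, mul_smul, hau, hbinv u, ← hp, smul_sub, hainv u, hau, hainv p, hap]
      abel
    rw [hy1, hz1, sub_self]
    exact zero_mem _
  have hW : ∀ w ∈ U N B, y • w - z • w ∈ Z := by
    intro w hw
    have hbw : b • w = w := fix_U hqB hb hw
    set r := a • w - w with hr
    have har : a • r = r := hq a ha a ha w
    have haw : a • w = w + r := by rw [hr]; abel
    have hz0 := hkeyB w hw
    set e := b • r - r - w with he0
    have hbr : b • r = r + w + e := by rw [he0]; abel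
    have hae : a⁻¹ • e = e := mem_fixedZ.mp hz0 a⁻¹
    have hbw' : b⁻¹ • w = w := inv_smul_eq_iff.mpr hbw.symm
    have hy1 : y • w = r - e := by
      rw [hy, mul_smul, mul_smul, hbw, haw, smul_add, hbw', hbinv r, hbr]
      abel
    have hz1 : z • w = r - e := by
      rw [hz, mul_smul, mul_smul, haw, smul_add, hbw', hbinv r, hbr,
        show w + (r - (r + w + e - r)) = r - e by abel, smul_sub, hae,
        inv_smul_eq_iff.mpr har.symm]
    rw [hy1, hz1, sub_self]
    exact zero_mem _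
  have hMd : ∀ m ∈ M, y • m - z • m ∈ Z := by
    intro m hm
    obtain ⟨u, hu, w, hw, rfl⟩ := AddSubgroup.mem_sup.mp hm
    rw [smul_add, smul_add, show y • u + y • w - (z • u + z • w) = (y • u - z • u) + (y • w - z • w) by abel]
    exact add_mem (hU u hu) (hW w hw)
  -- conjugate the discrepancy into `A`
  have hyC : y ∈ conjBy A b⁻¹ := by rw [hy]; simpa using conjBy_conj_mem (g := b⁻¹) ha
  have hzC : z ∈ conjBy A b⁻¹ := by rw [he, hz]; simpa using conjBy_conj_mem (g := a⁻¹) (B.inv_mem hb)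
  have hk : b * (y * z⁻¹) * b⁻¹ ∈ A := by
    have := mem_conjBy.mp ((conjBy A b⁻¹).mul_mem hyC ((conjBy A b⁻¹).inv_mem hzC))
    simpa using this
  set a₀ := b * (y * z⁻¹) * b⁻¹ with ha₀
  by_cases hk1 : a₀ = 1
  · have : y * z⁻¹ = 1 := by
      calc y * z⁻¹ = b⁻¹ * a₀ * b := by rw [ha₀]; group
        _ = 1 := by rw [hk1]; group
    exact mul_inv_eq_one.mp this
  exfalso
  have hsm : ∀ g : G, (g ∈ A ∨ g ∈ B) → ∀ m ∈ M, g • m ∈ M := by
    intro g hg m hm
    obtain ⟨u, hu, w, hw, rfl⟩ := AddSubgroup.mem_sup.mp hm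
    rw [smul_add]
    rcases hg with hg | hg
    · rw [fix_U hq hg hu, show g • w = w + (g • w - w) by abel]
      exact add_mem (AddSubgroup.mem_sup_left hu)
        (add_mem (AddSubgroup.mem_sup_right hw) (AddSubgroup.mem_sup_left (mem_U hg w)))
    · rw [fix_U hqB hg hw, show g • u = u + (g • u - u) by abel]
      exact add_mem (add_mem (AddSubgroup.mem_sup_left hu) (AddSubgroup.mem_sup_right (mem_U hg u)))
        (AddSubgroup.mem_sup_right hw)
  have ha₀M : ∀ m ∈ M, a₀ • m - m ∈ Z := by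
    intro m hm
    have hm' : z⁻¹ • b⁻¹ • m ∈ M := by
      rw [hz, show (a⁻¹ * b⁻¹ * a)⁻¹ = a⁻¹ * (b * a) by group, mul_smul, mul_smul]
      exact hsm _ (Or.inl (A.inv_mem ha)) _ (hsm _ (Or.inr hb) _ (hsm _ (Or.inl ha) _
        (hsm _ (Or.inr (B.inv_mem hb)) _ hm)))
    have h1 := hMd _ hm'
    rw [smul_inv_smul] at h1
    have h2 : a₀ • m - m = b • (y • z⁻¹ • b⁻¹ • m - b⁻¹ • m) := by
      rw [ha₀, smul_sub, smul_inv_smul, mul_smul, mul_smul, mul_smul]
    rw [h2, mem_fixedZ.mp h1 b]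
    exact h1
  obtain ⟨b₀, hb₀, hb₀1, he₀⟩ := hR.cond_left a₀ hk hk1
  have hUAZ : U N A ≤ Z := by
    intro u hu
    obtain ⟨h1, -⟩ := hkey hk hk1 hb₀ hb₀1 he₀ u hu
    have h2 := ha₀M _ (AddSubgroup.mem_sup_right (mem_U hb₀ u))
    have h3 := sub_mem h2 h1
    rwa [show (a₀ • (b₀ • u - u) - (b₀ • u - u)) - (a₀ • (b₀ • u - u) - (b₀ • u - u) - u) = u by abel] at h3
  have hUBZ : U N B ≤ Z := by
    intro w hw
    obtain ⟨x, -, hx⟩ := right_mem_unipotent hR
    have h1 : x⁻¹ • w ∈ U N A := by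
      have := smul_mem_U x⁻¹ hw
      rwa [hx, conjBy_inv_conjBy] at this
    have h2 := hUAZ h1
    have h3 := mem_fixedZ.mp h2 x
    rw [smul_inv_smul] at h3
    rw [h3]; exact h2
  obtain ⟨x₁, y₁, n, hne⟩ := hX
  apply hne
  suffices h : ∀ g : G, ∀ m : N, g • m - m ∈ Z from mem_fixedZ.mp (h x₁ n) y₁
  intro g
  have hg : g ∈ Subgroup.closure ((A : Set G) ∪ B) := by
    rw [Subgroup.closure_union, Subgroup.closure_eq, Subgroup.closure_eq, htop]; exact Subgroup.mem_top g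
  induction hg using Subgroup.closure_induction with
  | mem g hg => exact fun m => hg.elim (fun h => hUAZ (mem_U h m)) (fun h => hUBZ (mem_U h m))
  | one => intro m; rw [one_smul, sub_self]; exact zero_mem _
  | mul g h _ _ hg hh =>
    intro m
    rw [mul_smul, show g • h • m - m = (g • h • m - h • m) + (h • m - m) by abel]
    exact add_mem (hg _) (hh m)
  | inv g _ hg =>
    intro m
    have := neg_mem (hg (g⁻¹ • m))
    rwa [smul_inv_smul, neg_sub] at this

omit htop in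
/-- A faithful quadratic action: torsion-free or elementary abelian. -/
theorem quadratic_dichotomy (hf : ∀ x : G, (∀ v : N, x • v = v) → x = 1) (hq : Quadratic N A) :
    (∀ a ∈ A, a ≠ 1 → ¬ IsOfFinOrder a) ∨ ∃ p : ℕ, p.Prime ∧ IsElementaryAbelian p A := by
  by_cases htor : ∀ a ∈ A, a ≠ 1 → ¬ IsOfFinOrder a
  · exact Or.inl htor
  push Not at htor
  obtain ⟨a, ha, ha1, hfin⟩ := htor
  have hqB := quadratic_right hR hq
  have smul_nsmul : ∀ (g : G) (n : ℕ) (v : N), g • (n • v) = n • (g • v) := fun g n v => smul_comm g n v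
  have hadd : ∀ {C : Subgroup G}, Quadratic N C → ∀ c ∈ C, ∀ n : ℕ, ∀ v : N, c ^ n • v - v = n • (c • v - v) := by
    intro C hC c hc n v
    induction n with
    | zero => simp
    | succ k ih =>
      rw [pow_succ', mul_smul, succ_nsmul, show c ^ k • v = v + k • (c • v - v) by rw [← ih]; abel,
        smul_add, smul_nsmul, hC c hc c hc v]
      abel
  have hn : orderOf a ≠ 1 := fun h => ha1 (orderOf_eq_one_iff.mp h)
  have hpos : 0 < orderOf a := hfin.orderOf_pos
  set p := (orderOf a).minFac with hp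
  have hpp : p.Prime := Nat.minFac_prime hn
  set a' := a ^ (orderOf a / p) with ha'
  have ha'A : a' ∈ A := A.pow_mem ha _
  have ha'1 : a' ≠ 1 := pow_ne_one_of_lt_orderOf
    (Nat.div_pos (Nat.le_of_dvd hpos (Nat.minFac_dvd _)) hpp.pos).ne' (Nat.div_lt_self hpos hpp.one_lt)
  have ha'p : a' ^ p = 1 := by
    rw [ha', ← pow_mul, Nat.div_mul_cancel (Nat.minFac_dvd _), pow_orderOf_eq_one]
  have hfixp : ∀ v : N, a' • (p • v) = p • v := fun v => by
    have := hadd hq a' ha'A p v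
    rw [ha'p, one_smul, sub_self, smul_sub, ← smul_nsmul] at this
    exact (sub_eq_zero.mp this.symm)
  have hcommA : IsMulCommutative A := ⟨⟨fun x y => Subtype.ext (mul_inv_eq_one.mp (hf _ fun v => by
    have h1 : ∀ w : N, (x : G) • (y : G) • w = (y : G) • (x : G) • w := fun w => by
      have e1 : (y : G) • w = w + ((y : G) • w - w) := by abel
      have e2 : (x : G) • w = w + ((x : G) • w - w) := by abel
      conv_lhs => rw [e1, smul_add, hq y y.2 x x.2 w]
      conv_rhs => rw [e2, smul_add, hq x x.2 y y.2 w]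
      abel
    rw [mul_smul, Subgroup.coe_mul, mul_smul, h1, ← mul_smul, ← Subgroup.coe_mul, smul_inv_smul]))⟩⟩
  refine Or.inr ⟨p, hpp, hcommA, fun c hc => ?_⟩
  obtain ⟨b, hb, -, he⟩ := hR.cond_left a' ha'A ha'1
  -- on `p • N` the element `a'` is trivial, so `c` agrees there with an element of `B`
  have hc' : b⁻¹ * c * b ∈ conjBy B a'⁻¹ := by
    rw [← he]; simpa using conjBy_conj_mem (g := b⁻¹) hc
  rw [mem_conjBy, inv_inv] at hc'
  set b₁ := a' * (b⁻¹ * c * b) * a'⁻¹ with hb₁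
  have hb' : b * b₁ * b⁻¹ ∈ B := B.mul_mem (B.mul_mem hb hc') (B.inv_mem hb)
  have hagree : ∀ v : N, (b * b₁ * b⁻¹) • (p • v) = c • (p • v) := by
    intro v
    have hfix' : ∀ w : N, a'⁻¹ • (p • w) = p • w := fun w => inv_smul_eq_iff.mpr (hfixp w).symm
    have h1 : a'⁻¹ • b⁻¹ • p • v = b⁻¹ • p • v := by rw [smul_nsmul b⁻¹, hfix']
    have h2 : a' • (b⁻¹ * c * b) • b⁻¹ • p • v = (b⁻¹ * c * b) • b⁻¹ • p • v := by
      rw [smul_nsmul b⁻¹, smul_nsmul (b⁻¹ * c * b), hfixp]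
    rw [hb₁, mul_smul, mul_smul, mul_smul, mul_smul, h1, h2, mul_smul, mul_smul, smul_inv_smul, smul_inv_smul]
  have heq : (b * b₁ * b⁻¹) ^ p = c ^ p := by
    refine inv_mul_eq_one.mp (hf _ fun v => ?_) |>.symm
    rw [mul_smul, inv_smul_eq_iff]
    have h1 := hadd hqB _ hb' p v
    have h2 := hadd hq c hc p v
    rw [smul_sub, ← smul_nsmul, hagree v] at h1
    rw [smul_sub, ← smul_nsmul] at h2
    exact sub_left_injective (h1.trans h2.symm)
  exact eq_one_of_normalizes hR (A.pow_mem hc p) (conjBy_of_mem (heq ▸ B.pow_mem hb' p))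

end Quadratic

end CfsgLib.Perm.SpecialRankOne
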