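import Cfsg.Agent.S0676
import Cfsg.Agent.Lib.Perm.SharpThreeOdd

/-!
# Prime degree, Sylow normaliser of order twice the degree

With `f` the number of fixed points and `h = (p - 1) / 2`, the sum over the group of the square
of `f ^ 2 - (3 + h) * f + p` exceeds its part coming from the elements of order `p`.  In a triply
transitive group this bounds the fixed points of three-point stabilisers from below, and they
have to be trivial.
-/

set_option autoImplicit false

open scoped Classical

namespace CfsgLib.Perm.PrimeDegreeDihedral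

open MulAction

variable {α : Type*} [Fintype α] {G : Subgroup (Equiv.Perm α)}

/-- The number of fixed points. -/
noncomputable def fixNum (g : G) : ℕ := (Finset.univ.filter fun y : α => g • y = y).card

lemma fixNum_one : fixNum (1 : G) = Fintype.card α := by
  simp [fixNum]

lemma card_fixed_emb (g : G) (n : ℕ) :
    (Finset.univ.filter fun x : Fin n ↪ α => g • x = x).card = (fixNum g).descFactorial n := by
  have e : {x : Fin n ↪ α // g • x = x} ≃ (Fin n ↪ {y : α // g • y = y}) :=
    { toFun := fun x => ⟨fun i => ⟨x.1 i, congrArg (fun z : Fin n ↪ α => z i) x.2⟩,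
        fun i j h => x.1.injective (congrArg Subtype.val h)⟩
      invFun := fun y => ⟨y.trans (Function.Embedding.subtype _),
        Function.Embedding.ext fun i => (y i).2⟩
      left_inv := fun x => Subtype.ext (Function.Embedding.ext fun i => rfl)
      right_inv := fun y => Function.Embedding.ext fun i => rfl }
  rw [← Fintype.card_subtype, Fintype.card_congr e, Fintype.card_embedding_eq, Fintype.card_fin,
    fixNum, Fintype.card_subtype]

lemma sum_desc (n : ℕ) (w : G → ℕ) :
    ∑ g : G, (fixNum g).descFactorial n * w g =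
      ∑ x : Fin n ↪ α, ∑ g ∈ Finset.univ.filter (fun g : G => g • x = x), w g := by
  calc ∑ g : G, (fixNum g).descFactorial n * w g
      = ∑ g : G, ∑ x ∈ Finset.univ.filter (fun x : Fin n ↪ α => g • x = x), w g := by
        simp only [Finset.sum_const, card_fixed_emb, smul_eq_mul]
    _ = _ := by
        simp only [Finset.sum_filter]
        exact Finset.sum_comm

lemma card_filter_stab {n : ℕ} (x : Fin n ↪ α) :
    (Finset.univ.filter fun g : G => g • x = x).card = Nat.card (stabilizer G x) := by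
  rw [Nat.card_eq_fintype_card]
  exact (Fintype.card_subtype _).symm

lemma card_mul_stab {n : ℕ} (h : IsMultiplyPretransitive G α n) (x : Fin n ↪ α) :
    (Fintype.card α).descFactorial n * Nat.card (stabilizer G x) = Nat.card G := by
  have hidx := @index_stabilizer_of_transitive G (Fin n ↪ α) _ _ x ⟨h.exists_smul_eq⟩
  rw [← (stabilizer G x).card_mul_index, hidx, Nat.card_eq_fintype_card (α := Fin n ↪ α),
    Fintype.card_embedding_eq, Fintype.card_fin, mul_comm]

lemma sum_desc_trans {n : ℕ} (h : IsMultiplyPretransitive G α n) (hn : n ≤ Fintype.card α) :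
    ∑ g : G, (fixNum g).descFactorial n = Nat.card G := by
  have h1 := sum_desc (G := G) n (fun _ => 1)
  simp only [mul_one, Finset.sum_const, smul_eq_mul, card_filter_stab] at h1
  obtain ⟨x₀⟩ : Nonempty (Fin n ↪ α) :=
    Function.Embedding.nonempty_of_card_le (by rwa [Fintype.card_fin])
  have hne : 0 < (Fintype.card α).descFactorial n := Nat.descFactorial_pos.2 hn
  rw [h1, Finset.sum_congr rfl fun x _ => Nat.eq_of_mul_eq_mul_left hne
      ((card_mul_stab h x).trans (card_mul_stab h x₀).symm), Finset.sum_const, Finset.card_univ,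
    Fintype.card_embedding_eq, Fintype.card_fin, smul_eq_mul, card_mul_stab h x₀]

lemma cast_desc_succ (f k : ℕ) :
    ((f.descFactorial (k + 1) : ℕ) : ℤ) = ((f : ℤ) - k) * (f.descFactorial k : ℕ) := by
  rw [Nat.descFactorial_succ]
  rcases le_or_gt k f with h | h
  · rw [Nat.cast_mul, Nat.cast_sub h]
  · simp [Nat.descFactorial_of_lt h]

variable {p : ℕ} [Fact p.Prime]

lemma fixNum_orderOf_prime (hα : Fintype.card α = p) {g : G} (hg : orderOf g = p) :
    fixNum g = 0 := by
  have hp : p.Prime := Fact.out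
  have ho : orderOf (g : Equiv.Perm α) = p := by rw [Subgroup.orderOf_coe, hg]
  have hcyc : (g : Equiv.Perm α).IsCycle := Equiv.Perm.isCycle_of_prime_order''
    (by rw [hα]; exact hp) (by rw [ho, hα])
  have hsupp : (g : Equiv.Perm α).support = Finset.univ := by
    rw [← Finset.card_eq_iff_eq_univ, ← hcyc.orderOf, ho, hα]
  rw [fixNum, Finset.card_eq_zero, Finset.filter_eq_empty_iff]
  intro y _ hy
  exact Equiv.Perm.mem_support.1 (hsupp ▸ Finset.mem_univ y) hy

lemma card_sylow_mul_le (P : Sylow p G) (hP : Nat.card P = p) :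
    Nat.card (Sylow p G) * (p - 1) ≤ (Finset.univ.filter fun g : G => orderOf g = p).card := by
  have hp : p.Prime := Fact.out
  letI : Fintype (Sylow p G) := Fintype.ofFinite _
  have hcard : ∀ Q : Sylow p G, Nat.card Q = p := fun Q => by
    rw [Q.card_eq_multiplicity, ← P.card_eq_multiplicity, hP]
  let T : Sylow p G → Finset G := fun Q => Finset.univ.filter fun g => g ∈ Q ∧ g ≠ 1
  have hgen : ∀ Q : Sylow p G, ∀ g ∈ T Q, Subgroup.zpowers g = Q ∧ orderOf g = p := by
    intro Q g hg
    obtain ⟨-, hgQ, hg1⟩ := Finset.mem_filter.1 hg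
    have hd : orderOf g ∣ p := hcard Q ▸ Subgroup.orderOf_dvd_natCard (Q : Subgroup G) hgQ
    have ho : orderOf g = p :=
      (hp.eq_one_or_self_of_dvd _ hd).resolve_left fun e => hg1 (orderOf_eq_one_iff.1 e)
    refine ⟨Subgroup.eq_of_le_of_card_ge (Subgroup.zpowers_le.2 hgQ) ?_, ho⟩
    rw [Nat.card_zpowers, ho]
    exact (hcard Q).le
  have hT : ∀ Q, (T Q).card = p - 1 := by
    intro Q
    have h1 : (Finset.univ.filter fun g : G => g ∈ Q).card = p := by
      refine Eq.trans ?_ (hcard Q)
      rw [← Fintype.card_subtype, ← Nat.card_eq_fintype_card]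
      rfl
    have h2 : T Q = (Finset.univ.filter fun g : G => g ∈ Q).erase 1 := by
      ext g; simp [T, and_comm]
    rw [h2, Finset.card_erase_of_mem (by simp [one_mem]), h1]
  have hdisj : ∀ Q ∈ (Finset.univ : Finset (Sylow p G)), ∀ R ∈ (Finset.univ : Finset (Sylow p G)),
      Q ≠ R → Disjoint (T Q) (T R) := fun Q _ R _ hQR => Finset.disjoint_left.2 fun g h1 h2 =>
    hQR (Sylow.ext ((hgen Q g h1).1.symm.trans (hgen R g h2).1))
  have := Finset.card_biUnion (s := Finset.univ) (t := T) hdisj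
  rw [Finset.sum_congr rfl fun Q _ => hT Q, Finset.sum_const, Finset.card_univ, smul_eq_mul] at this
  rw [Nat.card_eq_fintype_card, ← this]
  refine Finset.card_le_card fun g hg => ?_
  obtain ⟨Q, -, hgQ⟩ := Finset.mem_biUnion.1 hg
  exact Finset.mem_filter.2 ⟨Finset.mem_univ _, (hgen Q g hgQ).2⟩

/-- The fourth moment bound. -/
lemma sum_desc_four (hα : Fintype.card α = p) {h : ℕ} (hph : p = 2 * h + 1) (h2 : 2 ≤ h)
    (h3 : IsMultiplyPretransitive G α 3) (P : Sylow p G) (hP : Nat.card P = p)
    (hN : Nat.card (Subgroup.normalizer ((P : Subgroup G) : Set G)) = 2 * p) :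
    (h - 1) * Nat.card G < ∑ g : G, (fixNum g).descFactorial 4 := by
  haveI := h3
  have hc : (3 : ℕ∞) ≤ ENat.card α := by
    rw [ENat.card_eq_coe_fintype_card, hα]; exact_mod_cast (show 3 ≤ p by omega)
  have d1 := sum_desc_trans (G := G) (n := 1) (isMultiplyPretransitive_of_le (n := 3) (by norm_num)
    (by rw [Nat.card_eq_fintype_card]; omega)) (by omega)
  have d2 := sum_desc_trans (G := G) (n := 2) (isMultiplyPretransitive_of_le (n := 3) (by norm_num)
    (by rw [Nat.card_eq_fintype_card]; omega)) (by omega)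
  have d3 := sum_desc_trans (G := G) h3 (by omega)
  set A : ℤ := 3 + h with hA
  let q : G → ℤ := fun g => (fixNum g : ℤ) ^ 2 - A * fixNum g + p
  have hexp : ∀ g, q g ^ 2 = ((fixNum g).descFactorial 4 : ℕ)
      + (6 - 2 * A) * ((fixNum g).descFactorial 3 : ℕ)
      + (7 - 6 * A + A ^ 2 + 2 * p) * ((fixNum g).descFactorial 2 : ℕ)
      + (1 - 2 * A + A ^ 2 + 2 * p - 2 * p * A) * ((fixNum g).descFactorial 1 : ℕ) + (p : ℤ) ^ 2 := by
    intro g
    simp only [q, cast_desc_succ, Nat.descFactorial_zero, Nat.cast_one, Nat.cast_ofNat, Nat.cast_zero]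
    ring
  set N : ℤ := (Nat.card G : ℤ) with hNdef
  set D : ℕ := ∑ g : G, (fixNum g).descFactorial 4 with hD
  have hsum : ∑ g, q g ^ 2 = (D : ℤ) + N * (2 * (h : ℤ) ^ 2 + 1) := by
    rw [Finset.sum_congr rfl fun g _ => hexp g]
    simp only [Finset.sum_add_distrib, ← Finset.mul_sum, Finset.sum_const, Finset.card_univ,
      nsmul_eq_mul, ← Nat.cast_sum, d1, d2, d3, ← Nat.card_eq_fintype_card, ← hD, ← hNdef]
    rw [hA, hph]; push_cast; ring
  set W := Finset.univ.filter fun g : G => orderOf g = p with hW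
  have h1W : (1 : G) ∉ W := by
    simp only [hW, Finset.mem_filter, Finset.mem_univ, true_and, orderOf_one]
    omega
  have hlow : (W.card : ℤ) * (p : ℤ) ^ 2 + q 1 ^ 2 ≤ ∑ g, q g ^ 2 := by
    refine le_of_eq_of_le ?_ (Finset.sum_le_sum_of_subset_of_nonneg (Finset.subset_univ (insert 1 W))
      fun g _ _ => sq_nonneg (q g))
    rw [Finset.sum_insert h1W, Finset.sum_congr rfl (g := fun _ => (p : ℤ) ^ 2) fun g hg => ?_,
      Finset.sum_const, nsmul_eq_mul, add_comm]
    simp only [q, fixNum_orderOf_prime hα (Finset.mem_filter.1 hg).2]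
    simp
  have hq1 : 0 < q 1 ^ 2 := by
    have : q 1 = (p : ℤ) * ((h : ℤ) - 1) := by
      simp only [q, fixNum_one, hα, hA, hph]; push_cast; ring
    rw [this]
    exact pow_pos (mul_pos (by exact_mod_cast (Fact.out : p.Prime).pos) (by omega)) 2
  have hidx : Nat.card G = 2 * p * Nat.card (Sylow p G) := by
    rw [P.card_eq_index_normalizer, ← hN]
    exact (Subgroup.card_mul_index _).symm
  have hWc : (Nat.card (Sylow p G) : ℤ) * (2 * h) ≤ W.card := by
    have h4 := card_sylow_mul_le P hP
    rw [show p - 1 = 2 * h by omega] at h4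
    exact_mod_cast h4
  have hNn : N = 2 * (p : ℤ) * Nat.card (Sylow p G) := by rw [hNdef, hidx]; push_cast; ring
  have hge : N * ((h : ℤ) * p) ≤ (W.card : ℤ) * (p : ℤ) ^ 2 := by
    refine le_of_eq_of_le ?_ (mul_le_mul_of_nonneg_right hWc (sq_nonneg (p : ℤ)))
    rw [hNn]; ring
  have hfin : N * ((h : ℤ) - 1) < D := by
    have : N * ((h : ℤ) * p) = N * (2 * (h : ℤ) ^ 2 + h) := by rw [hph]; push_cast; ring
    nlinarith
  have : (((h - 1) * Nat.card G : ℕ) : ℤ) < D := by
    rw [Nat.cast_mul, Nat.cast_sub (by omega : 1 ≤ h), ← hNdef, Nat.cast_one, mul_comm]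
    exact hfin
  exact_mod_cast this

/-- Each triple has a fourth point fixed by its stabiliser. -/
def FourthPoint (G : Subgroup (Equiv.Perm α)) : Prop :=
  ∀ x : Fin 3 ↪ α, ∃ u, u ∉ Set.range x ∧ ∀ g ∈ stabilizer G x, g • u = u

lemma mem_stab {n : ℕ} {g : G} {x : Fin n ↪ α} : g ∈ stabilizer G x ↔ ∀ i, g • x i = x i :=
  ⟨fun h i => congrArg (fun z : Fin n ↪ α => z i) (mem_stabilizer_iff.1 h),
    fun h => mem_stabilizer_iff.2 (Function.Embedding.ext h)⟩

/-- Three distinct points as an embedding. -/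
def triple {a b c : α} (hab : a ≠ b) (hac : a ≠ c) (hbc : b ≠ c) : Fin 3 ↪ α :=
  ⟨![a, b, c], fun i j h => by fin_cases i <;> fin_cases j <;> simp_all⟩

lemma mem_stab_triple {g : G} {a b c : α} (hab : a ≠ b) (hac : a ≠ c) (hbc : b ≠ c) :
    g ∈ stabilizer G (triple hab hac hbc) ↔ g • a = a ∧ g • b = b ∧ g • c = c := by
  rw [mem_stab, Fin.forall_fin_succ, Fin.forall_fin_succ, Fin.forall_fin_one]
  rfl

lemma stab_eq_of_le (h3 : IsMultiplyPretransitive G α 3) (h3c : 3 ≤ Fintype.card α)
    {x y : Fin 3 ↪ α} (h : stabilizer G x ≤ stabilizer G y) :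
    stabilizer G x = stabilizer G y :=
  Subgroup.eq_of_le_of_card_ge h (le_of_eq (Nat.eq_of_mul_eq_mul_left
    (Nat.descFactorial_pos.2 h3c) ((card_mul_stab h3 y).trans (card_mul_stab h3 x).symm)))

lemma two_fixNum_le (h3 : IsMultiplyPretransitive G α 3) (h3c : 3 ≤ Fintype.card α)
    (h4 : FourthPoint G) {g : G} (hg : g ≠ 1) : 2 * fixNum g ≤ Fintype.card α := by
  obtain ⟨d, hd⟩ : ∃ d : α, g • d ≠ d := by
    by_contra hc
    refine hg (Subtype.ext (Equiv.ext fun y => ?_))
    exact not_not.1 fun e => hc ⟨y, e⟩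
  set F := Finset.univ.filter fun y : α => g • y = y with hF
  change 2 * F.card ≤ _
  rcases F.eq_empty_or_nonempty with h0 | ⟨a, ha⟩
  · rw [h0, Finset.card_empty]; omega
  have haF : g • a = a := (Finset.mem_filter.1 ha).2
  have had : a ≠ d := fun e => hd (e ▸ haF)
  have hmem : ∀ x ∈ F.erase a, a ≠ x ∧ d ≠ x ∧ g • x = x := fun x hx => by
    obtain ⟨h1, h2⟩ := Finset.mem_erase.1 hx
    have h3 : g • x = x := (Finset.mem_filter.1 h2).2
    exact ⟨Ne.symm h1, fun e => hd (e.symm ▸ h3), h3⟩
  have hch : ∀ x : {x // x ∈ F.erase a}, ∃ u : α, a ≠ u ∧ d ≠ u ∧ (x : α) ≠ u ∧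
      ∀ k : G, k • a = a → k • d = d → k • (x : α) = (x : α) → k • u = u := by
    rintro ⟨x, hx⟩
    obtain ⟨hax, hdx, -⟩ := hmem x hx
    obtain ⟨u, hu, hfix⟩ := h4 (triple had hax hdx)
    exact ⟨u, fun e => hu ⟨0, e⟩, fun e => hu ⟨1, e⟩, fun e => hu ⟨2, e⟩,
      fun k h1 h2 h3 => hfix k ((mem_stab_triple had hax hdx).2 ⟨h1, h2, h3⟩)⟩
  choose y hay hdy hxy hfixy using hch
  have hnot : ∀ x, y x ∉ F := fun x hy => by
    obtain ⟨hax, hdx, hgx⟩ := hmem _ x.2
    have hgy : g • y x = y x := (Finset.mem_filter.1 hy).2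
    have hle : stabilizer G (triple had hax hdx) ≤ stabilizer G (triple hax (hay x) (hxy x)) := by
      intro k hk
      obtain ⟨h1, h2, h3'⟩ := (mem_stab_triple had hax hdx).1 hk
      exact (mem_stab_triple _ _ _).2 ⟨h1, h3', hfixy x k h1 h2 h3'⟩
    have hgm : g ∈ stabilizer G (triple had hax hdx) := by
      rw [stab_eq_of_le h3 h3c hle, mem_stab_triple]
      exact ⟨haF, hgx, hgy⟩
    exact hd ((mem_stab_triple had hax hdx).1 hgm).2.1
  have hinj : Function.Injective y := by
    intro x x' e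
    by_contra hne
    obtain ⟨hax, hdx, hgx⟩ := hmem _ x.2
    obtain ⟨hax', hdx', hgx'⟩ := hmem _ x'.2
    have hxx' : (x : α) ≠ (x' : α) := fun e => hne (Subtype.ext e)
    have hle : ∀ (z : {x // x ∈ F.erase a}) (h1 : a ≠ (z : α)) (h2 : d ≠ (z : α)), y z = y x →
        stabilizer G (triple had h1 h2) ≤ stabilizer G (triple had (hay x) (hdy x)) := by
      intro z h1 h2 hz k hk
      obtain ⟨k1, k2, k3⟩ := (mem_stab_triple had h1 h2).1 hk
      exact (mem_stab_triple _ _ _).2 ⟨k1, k2, hz ▸ hfixy z k k1 k2 k3⟩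
    have heq : stabilizer G (triple had hax hdx) = stabilizer G (triple had hax' hdx') :=
      (stab_eq_of_le h3 h3c (hle x hax hdx rfl)).trans
        (stab_eq_of_le h3 h3c (hle x' hax' hdx' e.symm)).symm
    have hle2 : stabilizer G (triple had hax hdx) ≤ stabilizer G (triple hax hax' hxx') := by
      intro k hk
      obtain ⟨k1, -, k3⟩ := (mem_stab_triple had hax hdx).1 hk
      rw [heq] at hk
      exact (mem_stab_triple _ _ _).2 ⟨k1, k3, ((mem_stab_triple had hax' hdx').1 hk).2.2⟩
    have hgm : g ∈ stabilizer G (triple had hax hdx) := by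
      rw [stab_eq_of_le h3 h3c hle2, mem_stab_triple]
      exact ⟨haF, hgx, hgx'⟩
    exact hd ((mem_stab_triple had hax hdx).1 hgm).2.1
  have hsub : Finset.univ.image y ⊆ (Finset.univ \ F).erase d := fun u hu => by
    obtain ⟨x, -, rfl⟩ := Finset.mem_image.1 hu
    exact Finset.mem_erase.2 ⟨(hdy x).symm, Finset.mem_sdiff.2 ⟨Finset.mem_univ _, hnot x⟩⟩
  have hdF : d ∈ Finset.univ \ F :=
    Finset.mem_sdiff.2 ⟨Finset.mem_univ d, fun h => hd (Finset.mem_filter.1 h).2⟩
  have hle := Finset.card_le_card hsub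
  rw [Finset.card_image_of_injective _ hinj, Finset.card_univ, Fintype.card_coe,
    Finset.card_erase_of_mem ha, Finset.card_erase_of_mem hdF,
    Finset.card_univ_diff] at hle
  have : 1 ≤ F.card := Finset.card_pos.2 ⟨a, ha⟩
  have : F.card < Fintype.card α := Finset.card_lt_univ_of_notMem (x := d)
    fun h => hd (Finset.mem_filter.1 h).2
  omega

lemma exists_rich (hα : Fintype.card α = p) {h : ℕ} (hph : p = 2 * h + 1) (h2 : 2 ≤ h)
    (h3 : IsMultiplyPretransitive G α 3) (P : Sylow p G) (hP : Nat.card P = p)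
    (hN : Nat.card (Subgroup.normalizer ((P : Subgroup G) : Set G)) = 2 * p) :
    ∃ x : Fin 3 ↪ α, (h - 1) * Nat.card (stabilizer G x) <
      ∑ g ∈ Finset.univ.filter (fun g : G => g • x = x), (fixNum g - 3) := by
  by_contra hc
  have hlt := sum_desc_four hα hph h2 h3 P hP hN
  have e : ∀ g : G, (fixNum g).descFactorial 4 = (fixNum g).descFactorial 3 * (fixNum g - 3) :=
    fun g => by rw [Nat.descFactorial_succ, mul_comm]
  rw [Finset.sum_congr rfl fun g _ => e g, sum_desc] at hlt
  refine absurd hlt (not_lt.2 ((Finset.sum_le_sum fun x _ =>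
    (not_lt.1 fun h' => hc ⟨x, h'⟩ :
      ∑ g ∈ Finset.univ.filter (fun g : G => g • x = x), (fixNum g - 3) ≤
        (h - 1) * Nat.card (stabilizer G x))).trans (le_of_eq ?_)))
  obtain ⟨x₀⟩ : Nonempty (Fin 3 ↪ α) :=
    Function.Embedding.nonempty_of_card_le (by rw [Fintype.card_fin]; omega)
  have hpos : 0 < (Fintype.card α).descFactorial 3 := Nat.descFactorial_pos.2 (by omega)
  rw [Finset.sum_congr rfl fun x _ => congrArg ((h - 1) * ·) (Nat.eq_of_mul_eq_mul_left hpos
      ((card_mul_stab h3 x).trans (card_mul_stab h3 x₀).symm)),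
    Finset.sum_const, Finset.card_univ, smul_eq_mul, Fintype.card_embedding_eq, Fintype.card_fin,
    mul_left_comm, card_mul_stab h3 x₀]

lemma fourthPoint_of_rich (hα : Fintype.card α = p) {h : ℕ} (hph : p = 2 * h + 1)
    (h3 : IsMultiplyPretransitive G α 3) {x : Fin 3 ↪ α}
    (hx : (h - 1) * Nat.card (stabilizer G x) <
      ∑ g ∈ Finset.univ.filter (fun g : G => g • x = x), (fixNum g - 3)) : FourthPoint G := by
  set M := stabilizer G x with hM
  set R := Finset.univ.image x with hR
  set S := Finset.univ.filter (fun g : G => g • x = x) with hS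
  have hRc : R.card = 3 := by
    rw [hR, Finset.card_image_of_injective _ x.injective, Finset.card_univ, Fintype.card_fin]
  have hu : ∃ u, u ∉ R ∧ ∀ g ∈ M, g • u = u := by
    by_contra hc
    have hb : ∀ u ∈ Finset.univ \ R, 2 * (S.filter fun g => g • u = u).card ≤ Nat.card M := by
      intro u hu
      obtain ⟨g₀, hg₀, hne⟩ : ∃ g ∈ M, g • u ≠ u := by
        by_contra hc'
        exact hc ⟨u, (Finset.mem_sdiff.1 hu).2, fun g hg => not_not.1 fun e => hc' ⟨g, hg, e⟩⟩
      set K := M ⊓ stabilizer G u with hK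
      have hKlt : K < M := lt_of_le_of_ne inf_le_left fun e => hne (by
        rw [← e] at hg₀; exact hg₀.2)
      have hKc : (S.filter fun g => g • u = u).card = Nat.card K := by
        rw [hS, Finset.filter_filter, ← Fintype.card_subtype, ← Nat.card_eq_fintype_card]
        rfl
      obtain ⟨c, hc2⟩ := Subgroup.card_dvd_of_le hKlt.le
      have hc1 : c ≠ 1 := fun e => hKlt.ne (Subgroup.eq_of_le_of_card_ge hKlt.le (by
        rw [hc2, e, mul_one]))
      have hc0 : c ≠ 0 := fun e => Nat.card_pos.ne' (hc2.trans (by rw [e, mul_zero]))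
      rw [hKc, hc2, mul_comm 2]
      exact Nat.mul_le_mul_left _ (by omega)
    have hsw : ∑ g ∈ S, (fixNum g - 3) = ∑ u ∈ Finset.univ \ R, (S.filter fun g => g • u = u).card := by
      have h1 : ∀ g ∈ S, fixNum g - 3 = ((Finset.univ \ R).filter fun u => g • u = u).card := by
        intro g hg
        have hgx : g ∈ M := (Finset.mem_filter.1 hg).2
        have hsub : R ⊆ Finset.univ.filter fun u : α => g • u = u := fun u hu => by
          obtain ⟨i, -, rfl⟩ := Finset.mem_image.1 hu
          exact Finset.mem_filter.2 ⟨Finset.mem_univ _, mem_stab.1 hgx i⟩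
        rw [fixNum, ← hRc, ← Finset.card_sdiff_of_subset hsub]
        congr 1
        ext u
        simp [and_comm]
      rw [Finset.sum_congr rfl h1]
      simp only [Finset.card_filter]
      exact Finset.sum_comm
    have h2 := Finset.sum_le_sum hb
    rw [← Finset.mul_sum, ← hsw, Finset.sum_const, smul_eq_mul, Finset.card_univ_diff, hRc, hα,
      show p - 3 = 2 * (h - 1) by omega, mul_assoc] at h2
    omega
  obtain ⟨u, huR, hufix⟩ := hu
  intro y
  obtain ⟨k, hk⟩ := h3.exists_smul_eq x y
  have hki : ∀ i, k • x i = y i := fun i => congrArg (fun z : Fin 3 ↪ α => z i) hk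
  refine ⟨k • u, ?_, fun g hg => ?_⟩
  · rintro ⟨i, hi⟩
    refine huR (Finset.mem_image.2 ⟨i, Finset.mem_univ _, ?_⟩)
    rw [← hki i] at hi
    exact MulAction.injective k hi
  · have hm : k⁻¹ * g * k ∈ M := by
      rw [hM, mem_stab]
      intro i
      rw [mul_smul, mul_smul, hki, mem_stab.1 hg i, ← hki, inv_smul_smul]
    have := hufix _ hm
    rw [mul_smul, mul_smul, inv_smul_eq_iff] at this
    exact this

/-- The three-point stabilisers are trivial. -/
theorem card_stab_eq_one (hα : Fintype.card α = p) {h : ℕ} (hph : p = 2 * h + 1) (h2 : 2 ≤ h)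
    (h3 : IsMultiplyPretransitive G α 3) (P : Sylow p G) (hP : Nat.card P = p)
    (hN : Nat.card (Subgroup.normalizer ((P : Subgroup G) : Set G)) = 2 * p) (x₀ : Fin 3 ↪ α) :
    Nat.card (stabilizer G x₀) = 1 := by
  obtain ⟨x, hx⟩ := exists_rich hα hph h2 h3 P hP hN
  have h3c : 3 ≤ Fintype.card α := by omega
  have h4 := fourthPoint_of_rich hα hph h3 hx
  set m := Nat.card (stabilizer G x) with hm
  have hmx : Nat.card (stabilizer G x₀) = m := Nat.eq_of_mul_eq_mul_left
    (Nat.descFactorial_pos.2 h3c) ((card_mul_stab h3 x₀).trans (card_mul_stab h3 x).symm)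
  have hm0 : 0 < m := Nat.card_pos
  set S := Finset.univ.filter (fun g : G => g • x = x) with hS
  have h1S : (1 : G) ∈ S := Finset.mem_filter.2 ⟨Finset.mem_univ _, one_smul _ _⟩
  have hSle : ∑ g ∈ S, (fixNum g - 3) ≤ (p - 3) + (m - 1) * (h - 3) := by
    rw [← Finset.add_sum_erase S _ h1S, fixNum_one, hα]
    refine Nat.add_le_add_left ((Finset.sum_le_sum (g := fun _ => h - 3) fun g hg => ?_).trans ?_) _
    · have h5 := two_fixNum_le h3 h3c h4 (Finset.mem_erase.1 hg).1
      omega
    · rw [Finset.sum_const, smul_eq_mul, Finset.card_erase_of_mem h1S, hS, card_filter_stab]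
  have hlt : m < p := by
    by_contra hc
    rcases Nat.lt_or_ge h 3 with hh | hh
    · have : h = 2 := by omega
      subst this
      simp at hx hSle
      omega
    · obtain ⟨e, rfl⟩ : ∃ e, h = e + 3 := ⟨h - 3, by omega⟩
      obtain ⟨n, hn⟩ : ∃ n, m = n + 1 := ⟨m - 1, by omega⟩
      simp only [Nat.add_sub_cancel, show e + 3 - 1 = e + 2 by omega, hn] at hx hSle
      nlinarith [show p - 3 = 2 * e + 4 by omega]
  have hidx : Nat.card G = 2 * p * Nat.card (Sylow p G) := by
    rw [P.card_eq_index_normalizer, ← hN]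
    exact (Subgroup.card_mul_index _).symm
  have hp : p.Prime := Fact.out
  have hcount : (p - 2) * (p - 1) * m = 2 * Nat.card (Sylow p G) := by
    have h5 := (card_mul_stab h3 x).trans hidx
    simp only [Nat.descFactorial_succ, Nat.descFactorial_zero, hα, Nat.sub_zero, mul_one, ← hm] at h5
    refine Nat.eq_of_mul_eq_mul_left hp.pos ?_
    linarith
  have hz := congrArg (Nat.cast : ℕ → ZMod p) hcount
  have hs : (Nat.card (Sylow p G) : ZMod p) = ((1 : ℕ) : ZMod p) :=
    (ZMod.natCast_eq_natCast_iff _ _ _).2 (card_sylow_modEq_one p G)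
  simp only [Nat.cast_mul, Nat.cast_sub (show 2 ≤ p by omega), Nat.cast_sub (show 1 ≤ p by omega),
    ZMod.natCast_self, hs, Nat.cast_one, Nat.cast_ofNat] at hz
  have h2ne : (2 : ZMod p) ≠ 0 := fun e => by
    have : ((2 : ℕ) : ZMod p) = 0 := by exact_mod_cast e
    rw [ZMod.natCast_eq_zero_iff] at this
    have := Nat.le_of_dvd two_pos this
    omega
  have hm1 : (m : ZMod p) = ((1 : ℕ) : ZMod p) := by
    refine mul_left_cancel₀ h2ne ?_
    rw [Nat.cast_one]
    linear_combination hz
  rw [hmx]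
  have := congrArg ZMod.val hm1
  rwa [ZMod.val_natCast, ZMod.val_natCast, Nat.mod_eq_of_lt hlt, Nat.mod_eq_of_lt (by omega)] at this

/-- A solvable transitive group of prime degree has a normal Sylow subgroup. -/
theorem sylow_normal_of_isSolvable (hα : Fintype.card α = p) [IsPretransitive G α]
    (hG : Group.IsSolvable G) (P : Sylow p G) (hP : Nat.card P = p) : (P : Subgroup G).Normal := by
  have hp : p.Prime := Fact.out
  obtain ⟨n, hn⟩ := (Group.isSolvable_def G).1 hG
  have hne : derivedSeries G 0 ≠ ⊥ := by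
    rw [derivedSeries_zero]
    intro e
    have : Nat.card (P : Subgroup G) ≤ Nat.card (⊥ : Subgroup G) :=
      Subgroup.card_le_of_le (e ▸ le_top)
    rw [Subgroup.card_bot, hP] at this
    exact absurd this (by have := hp.two_le; omega)
  obtain ⟨k, hk, hk1⟩ : ∃ k, derivedSeries G k ≠ ⊥ ∧ derivedSeries G (k + 1) = ⊥ := by
    by_contra hc
    have : ∀ k, derivedSeries G k ≠ ⊥ := fun k => Nat.recOn k hne fun k ih e => hc ⟨k, ih, e⟩
    exact this n hn
  set A := derivedSeries G k with hA
  haveI : A.Normal := derivedSeries_normal G k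
  have hAc : ∀ a ∈ A, ∀ b ∈ A, a * b = b * a := by
    intro a ha b hb
    have hb' : ⁅A, A⁆ = ⊥ := by rw [hA, ← derivedSeries_succ]; exact hk1
    exact Subgroup.mem_centralizer_iff.1 (Subgroup.commutator_eq_bot_iff_le_centralizer.1 hb' hb) a ha
  haveI : IsPreprimitive G α := IsPreprimitive.of_prime_card (by rwa [Nat.card_eq_fintype_card, hα])
  haveI hAt : IsPretransitive A α := by
    refine IsQuasiPreprimitive.isPretransitive_of_normal (N := A) fun e => hk ?_
    rw [Subgroup.eq_bot_iff_forall]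
    intro a ha
    refine Subtype.ext (Equiv.ext fun y => ?_)
    have hy : y ∈ fixedPoints A α := by rw [e]; trivial
    exact hy ⟨a, ha⟩
  obtain ⟨y⟩ : Nonempty α := Fintype.card_pos_iff.1 (hα ▸ hp.pos)
  have hAcard : Nat.card A = p := by
    rw [← hα, ← Nat.card_eq_fintype_card]
    refine Nat.card_eq_of_bijective (fun a : A => a • y) ⟨fun a b hab => ?_, exists_smul_eq A y⟩
    refine Subtype.ext (Subtype.ext (Equiv.ext fun z => ?_))
    obtain ⟨c, rfl⟩ := exists_smul_eq A y z
    have e1 : a * c = c * a := Subtype.ext (hAc _ a.2 _ c.2)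
    have e2 : b * c = c * b := Subtype.ext (hAc _ b.2 _ c.2)
    change a • c • y = b • c • y
    rw [← mul_smul, e1, mul_smul, ← mul_smul b, e2, mul_smul]
    exact congrArg (c • ·) hab
  obtain ⟨Q, hQ⟩ := (IsPGroup.of_card (p := p) (n := 1) (by rw [hAcard, pow_one]) :
    IsPGroup p A).exists_le_sylow
  have hAQ : A = (Q : Subgroup G) := Subgroup.eq_of_le_of_card_ge hQ (by
    rw [hAcard]
    exact (show Nat.card Q = p by rw [Q.card_eq_multiplicity, ← P.card_eq_multiplicity, hP]).le)
  obtain ⟨g, hg⟩ := exists_smul_eq G Q P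
  have hQn : (Q : Subgroup G).Normal := hAQ ▸ inferInstance
  rw [← hg, Sylow.smul_eq_of_normal]
  exact hQn

omit [Fintype α] in
lemma charP_two {F : Type} [Field F] [Fintype F] {j : ℕ} (hF : Fintype.card F = 2 ^ j) :
    CharP F 2 := by
  haveI := ringChar.charP F
  obtain ⟨n, hr, hn⟩ := FiniteField.card F (ringChar F)
  have hd : ringChar F ∣ 2 ^ j := by rw [← hF, hn]; exact dvd_pow_self _ n.pos.ne'
  have h2 := (Nat.prime_dvd_prime_iff_eq hr Nat.prime_two).1 (hr.dvd_of_dvd_pow hd)
  exact h2 ▸ ringChar.charP F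

/-- Ito's theorem: prime degree with Sylow normaliser of order twice the degree. -/
theorem normal_or_sl_two [DecidableEq α] (hp2 : 2 < p) (hα : Fintype.card α = p) (P : Sylow p G)
    (hN : Nat.card (Subgroup.normalizer ((P : Subgroup G) : Set G)) = 2 * p) :
    (P : Subgroup G).Normal ∨ ∃ (a : ℕ) (F : Type) (_ : Field F) (_ : Fintype F),
      p = 2 ^ a + 1 ∧ Fintype.card F = 2 ^ a ∧
        Nonempty (G ≃* Matrix.SpecialLinearGroup (Fin 2) F) := by
  by_cases hnorm : (P : Subgroup G).Normal
  · exact Or.inl hnorm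
  right
  have hp : p.Prime := Fact.out
  have hdG : p ∣ Nat.card G := by
    by_contra hd
    refine hnorm ?_
    have hc : Nat.card P = 1 := by
      rw [P.card_eq_multiplicity, Nat.factorization_eq_zero_of_not_dvd hd, pow_zero]
    rw [Subgroup.eq_bot_of_card_eq _ hc]
    infer_instance
  obtain ⟨s, hs⟩ := exists_prime_orderOf_dvd_card' (G := G) p hdG
  haveI : IsPretransitive G α := by
    have ho : orderOf (s : Equiv.Perm α) = p := by rw [Subgroup.orderOf_coe, hs]
    have hcyc : (s : Equiv.Perm α).IsCycle := Equiv.Perm.isCycle_of_prime_order''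
      (by rw [hα]; exact hp) (by rw [ho, hα])
    have hsupp : (s : Equiv.Perm α).support = Finset.univ := by
      rw [← Finset.card_eq_iff_eq_univ, ← hcyc.orderOf, ho, hα]
    refine ⟨fun y z => ?_⟩
    obtain ⟨n, hn⟩ := hcyc.exists_pow_eq (Equiv.Perm.mem_support.mp (hsupp ▸ Finset.mem_univ y))
      (Equiv.Perm.mem_support.mp (hsupp ▸ Finset.mem_univ z))
    exact ⟨s ^ n, by rw [Subgroup.smul_def, SubmonoidClass.coe_pow]; exact hn⟩
  have hP : Nat.card P = p := by
    have hdvd : Nat.card G ∣ Nat.factorial p := by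
      rw [← hα, ← Fintype.card_perm, ← Nat.card_eq_fintype_card]
      exact Subgroup.card_subgroup_dvd_card G
    rw [P.card_eq_multiplicity]
    have h1 : (Nat.card G).factorization p = 1 := by
      refine le_antisymm ?_ (hp.factorization_pos_of_dvd Nat.card_pos.ne' hdG)
      refine ((Nat.factorization_le_iff_dvd Nat.card_pos.ne' (Nat.factorial_ne_zero _)).2 hdvd p).trans ?_
      have hnd : ¬ p ∣ Nat.factorial (p - 1) := fun hd => by
        have := hp.dvd_factorial.1 hd
        omega
      rw [show p = (p - 1) + 1 by omega, Nat.factorial_succ, show p - 1 + 1 = p by omega,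
        Nat.factorization_mul hp.ne_zero (Nat.factorial_ne_zero _), Finsupp.add_apply,
        hp.factorization_self, Nat.factorization_eq_zero_of_not_dvd hnd]
    rw [h1, pow_one]
  have hns : ¬ Group.IsSolvable G := fun h => hnorm (sylow_normal_of_isSolvable hα h P hP)
  have h3 : IsMultiplyPretransitive G α 3 :=
    Cfsg.Agent.S0676.result hα G hns P (by rw [hN]; exact even_two_mul p)
  have hp5 : 5 ≤ p := by
    by_contra hc
    exact hns (CfsgLib.Perm.PrimeDegree.isSolvable_of_le_three
      (by rw [Nat.card_eq_fintype_card, hα]) (by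
        rcases Nat.lt_or_ge p 4 with h | h
        · omega
        · exact absurd (show p = 4 by omega ▸ hp) (by norm_num)) G)
  obtain ⟨h, hph⟩ := hp.odd_of_ne_two (by omega)
  have hfree : ∀ (g : G) (a b c : α), a ≠ b → a ≠ c → b ≠ c → g • a = a → g • b = b → g • c = c →
      g = 1 := by
    intro g a b c hab hac hbc ha hb hc
    have hm : g ∈ stabilizer G (triple hab hac hbc) :=
      (mem_stab_triple hab hac hbc).2 ⟨ha, hb, hc⟩
    rwa [Subgroup.eq_bot_of_card_eq _ (card_stab_eq_one hα hph (by omega) h3 P hP hN _),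
      Subgroup.mem_bot] at hm
  obtain ⟨j, -, hj, F, hF, hFf, hFc, ⟨e⟩⟩ := CfsgLib.Perm.SharpThreeOdd.exists_psl G h3 hfree
    (hα ▸ ⟨h, hph⟩) (hα ▸ hp5)
  haveI := charP_two hFc
  obtain ⟨e2⟩ := CfsgLib.Perm.SharpThreeOdd.psl_equiv_sl (F := F)
  exact ⟨j, F, hF, hFf, hα.symm.trans hj, hFc, ⟨e.trans e2⟩⟩

end CfsgLib.Perm.PrimeDegreeDihedral
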