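import Mathlib
import Cfsg.Prelude.Def_Characters
import Cfsg.Prelude.Def_Perm
import Cfsg.Agent.Lib.Char.Linear
import Cfsg.Agent.Lib.Char.ClassSum
import Cfsg.Agent.Lib.Char.Perm
import Cfsg.Agent.Lib.CharDeep.IrrTools
import Cfsg.Agent.Lib.Perm.PermRep

/-!
Endomorphisms commuting with a complex representation, and the centraliser ring of a
permutation representation.
-/

set_option autoImplicit false

namespace CfsgLib.Perm.CentralizerRing

open scoped ComplexConjugate
open MulAction CfsgLib.Char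

universe u

variable {G : Type u} [Group G] [Fintype G] {V : Type*} [AddCommGroup V] [Module ℂ V]
  [FiniteDimensional ℂ V]

/-- The central idempotent of a representation attached to a character. -/
noncomputable def proj (ρ : Representation ℂ G V) (χ : G → ℂ) : Module.End ℂ V :=
  (χ 1 / Nat.card G) • ∑ g : G, conj (χ g) • ρ g

omit [FiniteDimensional ℂ V] in
theorem proj_commute (ρ : Representation ℂ G V) (χ : G → ℂ) {X : Module.End ℂ V}
    (hX : ∀ g, X * ρ g = ρ g * X) : X * proj ρ χ = proj ρ χ * X := by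
  simp only [proj, mul_smul_comm, smul_mul_assoc, Finset.mul_sum, Finset.sum_mul, hX]

omit [FiniteDimensional ℂ V] in
theorem proj_equivariant (ρ : Representation ℂ G V) {χ : G → ℂ} (hχ : Cfsg.IsClassFunction G χ)
    (g : G) : proj ρ χ * ρ g = ρ g * proj ρ χ := by
  simp only [proj, mul_smul_comm, smul_mul_assoc, Finset.mul_sum, Finset.sum_mul, ← map_mul]
  congr 1
  refine Fintype.sum_equiv (MulAut.conj g⁻¹).toEquiv _ _ fun x => ?_
  have h : χ ((MulAut.conj g⁻¹).toEquiv x) = χ x := by
    simpa [MulAut.conj_apply] using hχ x g⁻¹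
  rw [h]
  congr 2
  simp [MulAut.conj_apply, mul_assoc]

omit [FiniteDimensional ℂ V] in
theorem proj_mul [DecidableEq (G → ℂ)] (ρ : Representation ℂ G V) {χ ψ : G → ℂ}
    (hχ : Cfsg.IsIrrCharacter G χ) (hψ : Cfsg.IsIrrCharacter G ψ) :
    proj ρ χ * proj ρ ψ = if χ = ψ then proj ρ χ else 0 := by
  have key : (∑ g : G, conj (χ g) • ρ g) * (∑ g : G, conj (ψ g) • ρ g) =
      ∑ x : G, conj (∑ g, χ g * ψ (g⁻¹ * x)) • ρ x := by
    simp only [map_sum, map_mul (starRingEnd ℂ), Finset.sum_smul]
    rw [Finset.sum_mul_sum]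
    conv_rhs => rw [Finset.sum_comm]
    refine Fintype.sum_congr _ _ fun g => ?_
    refine Fintype.sum_equiv (Equiv.mulLeft g) _ _ fun h => ?_
    simp [smul_smul, ← map_mul, mul_comm]
  simp only [proj, smul_mul_smul_comm, key, IsIrrCharacter.sum_mul_apply hχ hψ]
  have hχ1 := IsIrrCharacter.apply_one_ne_zero hχ
  have hreal : conj (χ 1) = χ 1 := by
    obtain ⟨d, -, hd⟩ := IsIrrCharacter.apply_one_eq hχ
    rw [hd, Complex.conj_natCast]
  split_ifs with h
  · subst h
    simp only [Finset.smul_sum, smul_smul]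
    refine Fintype.sum_congr _ _ fun x => ?_
    congr 1
    rw [map_div₀, map_mul, Complex.conj_natCast, hreal]
    have hG : (Nat.card G : ℂ) ≠ 0 := CfsgLib.Char.card_ne_zero
    field_simp
  · simp

omit [FiniteDimensional ℂ V] in
theorem trace_proj (ρ : Representation ℂ G V) (χ : G → ℂ) :
    LinearMap.trace ℂ V (proj ρ χ) = χ 1 * Cfsg.classInner ρ.character χ := by
  simp only [proj, map_smul, map_sum, smul_eq_mul, Cfsg.classInner, Representation.character]
  rw [div_eq_mul_inv, mul_assoc]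
  congr 2
  exact Fintype.sum_congr _ _ fun g => mul_comm _ _

/-- The multiplicity of an irreducible character in a representation. -/
noncomputable def mult (ρ : Representation ℂ G V) (φ : Cfsg.IrrCharacter G) : ℕ :=
  (IsCharacter.classInner_nat (isCharacter_of_rep ρ) (isCharacter_irr φ)).choose

theorem classInner_eq_mult (ρ : Representation ℂ G V) (φ : Cfsg.IrrCharacter G) :
    Cfsg.classInner ρ.character (φ : G → ℂ) = mult ρ φ :=
  (IsCharacter.classInner_nat (isCharacter_of_rep ρ) (isCharacter_irr φ)).choose_spec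

theorem sum_sq_mult (ρ : Representation ℂ G V) :
    (∑ φ, mult ρ φ ^ 2) = Module.finrank ℂ (ρ.linHom ρ).invariants := by
  have h := CharDeep.IrrTools.classInner_eq_finrank ρ ρ
  rw [classInner_eq_sum_irr (IsCharacter.isClassFunction (isCharacter_of_rep ρ))] at h
  rw [LinearEquiv.finrank_eq (Representation.invariantsEquivIntertwiningMap ρ ρ)]
  have h2 : ((∑ φ, mult ρ φ ^ 2 : ℕ) : ℂ) =
      (Module.finrank ℂ (Representation.IntertwiningMap ρ ρ) : ℂ) := by
    rw [← h, Nat.cast_sum]
    refine Fintype.sum_congr _ _ fun φ => ?_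
    rw [IsCharacter.classInner_comm (isCharacter_irr φ) (isCharacter_of_rep ρ),
      classInner_eq_mult, Nat.cast_pow, sq]
  exact_mod_cast h2

theorem mem_invariants_iff (ρ : Representation ℂ G V) (X : Module.End ℂ V) :
    X ∈ (ρ.linHom ρ).invariants ↔ ∀ g, X * ρ g = ρ g * X := by
  rw [Representation.mem_invariants]
  refine forall_congr' fun g => ?_
  rw [Representation.linHom_apply]
  change ρ g * (X * ρ g⁻¹) = X ↔ X * ρ g = ρ g * X
  constructor
  · intro h
    nth_rewrite 1 [← h]
    rw [mul_assoc, mul_assoc, ← map_mul, inv_mul_cancel, map_one, mul_one]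
  · intro h
    rw [← mul_assoc, ← h, mul_assoc, ← map_mul, mul_inv_cancel, map_one, mul_one]

/-- In a multiplicity free representation the central idempotents span the centraliser. -/
theorem span_proj (ρ : Representation ℂ G V) (hm : ∀ φ, mult ρ φ ≤ 1) {X : Module.End ℂ V}
    (hX : ∀ g, X * ρ g = ρ g * X) :
    X ∈ Submodule.span ℂ (Set.range fun φ : {φ : Cfsg.IrrCharacter G // mult ρ φ ≠ 0} =>
      proj ρ (φ.1 : G → ℂ)) := by
  classical
  let e : {φ : Cfsg.IrrCharacter G // mult ρ φ ≠ 0} → (ρ.linHom ρ).invariants := fun φ =>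
    ⟨proj ρ (φ.1 : G → ℂ), (mem_invariants_iff ρ _).mpr
      fun g => proj_equivariant ρ (IsIrrCharacter.isClassFunction φ.1.2) g⟩
  have hne : ∀ φ : {φ : Cfsg.IrrCharacter G // mult ρ φ ≠ 0}, proj ρ (φ.1 : G → ℂ) ≠ 0 := by
    intro φ h
    have ht := trace_proj ρ (φ.1 : G → ℂ)
    rw [h, map_zero, classInner_eq_mult] at ht
    rcases mul_eq_zero.mp ht.symm with h1 | h1
    · exact IsIrrCharacter.apply_one_ne_zero φ.1.2 h1
    · exact φ.2 (by exact_mod_cast h1)
  have hli : LinearIndependent ℂ e := by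
    rw [Fintype.linearIndependent_iff]
    intro c hc φ
    have hc' : ∑ ψ, c ψ • proj ρ (ψ.1 : G → ℂ) = 0 := by
      have := congrArg Subtype.val hc
      simpa [e] using this
    have := congrArg (fun Y => proj ρ (φ.1 : G → ℂ) * Y) hc'
    simp only [Finset.mul_sum, mul_smul_comm, mul_zero, proj_mul ρ φ.1.2 (Subtype.prop _)] at this
    rw [Finset.sum_eq_single φ (fun ψ _ hψ => by
        rw [if_neg fun h => hψ (Subtype.ext (Subtype.ext h.symm)), smul_zero])
      (fun h => absurd (Finset.mem_univ φ) h), if_pos rfl] at this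
    exact (smul_eq_zero.mp this).resolve_right (hne φ)
  have hcard : Fintype.card {φ : Cfsg.IrrCharacter G // mult ρ φ ≠ 0} =
      Module.finrank ℂ (ρ.linHom ρ).invariants := by
    rw [← sum_sq_mult, Fintype.card_subtype, Finset.card_filter]
    refine Fintype.sum_congr _ _ fun φ => ?_
    have := hm φ
    rcases Nat.le_one_iff_eq_zero_or_eq_one.mp this with h | h <;> simp [h]
  have hmem : (⟨X, (mem_invariants_iff ρ X).mpr hX⟩ : (ρ.linHom ρ).invariants) ∈
      Submodule.span ℂ (Set.range e) := by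
    rw [hli.span_eq_top_of_card_eq_finrank' hcard]
    exact Submodule.mem_top
  have := Submodule.mem_map_of_mem (f := (ρ.linHom ρ).invariants.subtype) hmem
  rw [Submodule.map_span, ← Set.range_comp] at this
  exact this

theorem commute_of_mult_le_one (ρ : Representation ℂ G V) (hm : ∀ φ, mult ρ φ ≤ 1)
    {X Y : Module.End ℂ V} (hX : ∀ g, X * ρ g = ρ g * X) (hY : ∀ g, Y * ρ g = ρ g * Y) :
    X * Y = Y * X := by
  have hs := span_proj ρ hm hY
  clear hY
  induction hs using Submodule.span_induction with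
  | mem Z hZ =>
    obtain ⟨φ, rfl⟩ := hZ
    exact proj_commute ρ _ hX
  | zero => rw [mul_zero, zero_mul]
  | add A B _ _ hA hB => rw [mul_add, add_mul, hA, hB]
  | smul c A _ hA => rw [mul_smul_comm, smul_mul_assoc, hA]

omit [FiniteDimensional ℂ V] in
/-- An equivariant left inverse of an injective intertwiner. -/
theorem exists_retraction {W : Type*} [AddCommGroup W] [Module ℂ W]
    (σ : Representation ℂ G W) (ρ : Representation ℂ G V) (S : W →ₗ[ℂ] V)
    (hS : ∀ g w, S (σ g w) = ρ g (S w)) (hinj : Function.Injective S) :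
    ∃ R : V →ₗ[ℂ] W, (∀ g v, R (ρ g v) = σ g (R v)) ∧ ∀ w, R (S w) = w := by
  obtain ⟨R₀, hR₀⟩ := S.exists_leftInverse_of_injective (LinearMap.ker_eq_bot.mpr hinj)
  refine ⟨(Nat.card G : ℂ)⁻¹ • ∑ g : G, σ g ∘ₗ R₀ ∘ₗ ρ g⁻¹, fun h v => ?_, fun w => ?_⟩
  · simp only [LinearMap.smul_apply, LinearMap.sum_apply, LinearMap.comp_apply, map_smul, map_sum]
    congr 1
    refine Fintype.sum_equiv (Equiv.mulLeft h⁻¹) _ _ fun g => ?_
    simp only [Equiv.coe_mulLeft, ← Module.End.mul_apply, ← map_mul, mul_inv_rev, inv_inv]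
    simp [← mul_assoc]
  · simp only [LinearMap.smul_apply, LinearMap.sum_apply, LinearMap.comp_apply, ← hS]
    have h1 : ∀ g : G, σ g (R₀ (S (σ g⁻¹ w))) = w := fun g => by
      rw [show R₀ (S (σ g⁻¹ w)) = σ g⁻¹ w from LinearMap.congr_fun hR₀ _,
        ← Module.End.mul_apply, ← map_mul, mul_inv_cancel, map_one, Module.End.one_apply]
    simp only [h1, Finset.sum_const, Finset.card_univ, ← Nat.card_eq_fintype_card]
    rw [← Nat.cast_smul_eq_nsmul ℂ, smul_smul, inv_mul_cancel₀ CfsgLib.Char.card_ne_zero, one_smul]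

theorem mult_le_one_of_commute (ρ : Representation ℂ G V)
    (hcomm : ∀ X Y : Module.End ℂ V, (∀ g, X * ρ g = ρ g * X) → (∀ g, Y * ρ g = ρ g * Y) →
      X * Y = Y * X) (φ : Cfsg.IrrCharacter G) : mult ρ φ ≤ 1 := by
  classical
  by_contra! hlt
  obtain ⟨n, σ, hσ, hσφ⟩ := φ.2
  haveI := hσ
  have hfr : Module.finrank ℂ (Representation.IntertwiningMap σ ρ) = mult ρ φ := by
    have h := CharDeep.IrrTools.classInner_eq_finrank σ ρ
    rw [hσφ, classInner_eq_mult] at h
    exact_mod_cast h.symm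
  have hne := CharDeep.IrrTools.apply_ne_zero_of_isIrreducible σ
  have hinj : ∀ S : Representation.IntertwiningMap σ ρ, S ≠ 0 →
      Function.Injective S.toLinearMap := by
    intro S hS
    rw [← LinearMap.ker_eq_bot]
    refine (CharDeep.IrrTools.eq_bot_or_top_of_invariant σ (LinearMap.ker S.toLinearMap)
      fun g v hv => ?_).resolve_right fun h => hS ?_
    · rw [LinearMap.mem_ker] at hv ⊢
      have := LinearMap.congr_fun (S.isIntertwining' g) v
      simp only [LinearMap.comp_apply] at this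
      rw [this, hv, map_zero]
    · exact Representation.IntertwiningMap.ext (LinearMap.ker_eq_top.mp h)
  haveI : Nontrivial (Representation.IntertwiningMap σ ρ) :=
    Module.nontrivial_of_finrank_pos (R := ℂ) (by omega)
  obtain ⟨S₁, hS₁⟩ := exists_ne (0 : Representation.IntertwiningMap σ ρ)
  obtain ⟨S₂', hS₂'⟩ : ∃ S : Representation.IntertwiningMap σ ρ, ∀ c : ℂ, c • S₁ ≠ S := by
    by_contra! hall
    exact absurd (finrank_le_one S₁ hall) (by omega)
  have hi : ∀ S : Representation.IntertwiningMap σ ρ, ∀ g w,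
      S.toLinearMap (σ g w) = ρ g (S.toLinearMap w) := fun S g w =>
    LinearMap.congr_fun (S.isIntertwining' g) w
  obtain ⟨R₁, hR₁, hR₁S⟩ := exists_retraction σ ρ S₁.toLinearMap (hi S₁) (hinj S₁ hS₁)
  obtain ⟨c, hc⟩ := CharDeep.IrrTools.exists_smul_of_commute σ (R₁ ∘ₗ S₂'.toLinearMap) fun g => by
    apply LinearMap.ext; intro w
    change R₁ (S₂'.toLinearMap (σ g w)) = σ g (R₁ (S₂'.toLinearMap w))
    rw [hi, hR₁]
  let S₂ := S₂' - c • S₁
  have hS₂ : S₂ ≠ 0 := fun h => hS₂' c (sub_eq_zero.mp h).symm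
  have hS₂R : ∀ w, R₁ (S₂.toLinearMap w) = 0 := by
    intro w
    have h := LinearMap.congr_fun hc w
    simp only [LinearMap.comp_apply, LinearMap.smul_apply, Module.End.one_apply] at h
    change R₁ (S₂'.toLinearMap w - c • S₁.toLinearMap w) = 0
    rw [map_sub, map_smul, hR₁S, h, sub_self]
  obtain ⟨R₂, hR₂, hR₂S⟩ := exists_retraction σ ρ S₂.toLinearMap (hi S₂) (hinj S₂ hS₂)
  let A : Module.End ℂ V := S₁.toLinearMap ∘ₗ R₁
  let B : Module.End ℂ V := S₁.toLinearMap ∘ₗ R₂
  have hA : ∀ g, A * ρ g = ρ g * A := fun g => by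
    ext1 v
    change S₁.toLinearMap (R₁ (ρ g v)) = ρ g (S₁.toLinearMap (R₁ v))
    rw [hR₁, hi]
  have hB : ∀ g, B * ρ g = ρ g * B := fun g => by
    ext1 v
    change S₁.toLinearMap (R₂ (ρ g v)) = ρ g (S₁.toLinearMap (R₂ v))
    rw [hR₂, hi]
  obtain ⟨w, hw⟩ : ∃ w, S₁.toLinearMap w ≠ 0 := by
    by_contra! h
    exact hS₁ (Representation.IntertwiningMap.ext (LinearMap.ext fun w => by rw [h w]; rfl))
  have h := LinearMap.congr_fun (hcomm A B hA hB) (S₂.toLinearMap w)
  simp only [A, B, Module.End.mul_apply, LinearMap.comp_apply, hR₂S, hR₁S, hS₂R, map_zero] at h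
  exact hw h

/-- The class function `g ↦ trace (X * ρ g)` of an integral commuting endomorphism has
algebraic integers as Fourier coefficients. -/
theorem exists_integral (ρ : Representation ℂ G V) {X : Module.End ℂ V}
    (hX : ∀ g, X * ρ g = ρ g * X) (hint : IsIntegral ℤ X) (φ : Cfsg.IrrCharacter G) :
    ∃ x : ℂ, IsIntegral ℤ x ∧
      Cfsg.classInner (fun g => LinearMap.trace ℂ V (X * ρ g)) (φ : G → ℂ) = x ∧
      (mult ρ φ = 0 → x = 0) := by
  classical
  set N : ℂ → Submodule ℂ V := fun μ => X.maxGenEigenspace μ with hN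
  have hint' : DirectSum.IsInternal N :=
    DirectSum.isInternal_submodule_of_iSupIndep_of_iSup_eq_top
      (Module.End.independent_maxGenEigenspace X) (Module.End.iSup_maxGenEigenspace_eq_top X)
  have hfin : {μ | N μ ≠ ⊥}.Finite :=
    WellFoundedGT.finite_ne_bot_of_iSupIndep (Module.End.independent_maxGenEigenspace X)
  have hmap : ∀ g μ, Set.MapsTo (ρ g) (N μ) (N μ) := fun g μ =>
    Module.End.mapsTo_maxGenEigenspace_of_comm (hX g) μ
  let S : ℂ → Subrepresentation ρ := fun μ => ⟨N μ, fun g v hv => hmap g μ hv⟩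
  let ψ : ℂ → G → ℂ := fun μ => (S μ).toRepresentation.character
  have hmapX : ∀ μ, Set.MapsTo X (N μ) (N μ) := fun μ =>
    Module.End.mapsTo_maxGenEigenspace_of_comm (Commute.refl X) μ
  have hpi : ∀ g, ρ.character g = ∑ μ ∈ hfin.toFinset, ψ μ g := fun g =>
    LinearMap.trace_eq_sum_trace_restrict' hint' hfin (hmap g)
  have hth : ∀ g, LinearMap.trace ℂ V (X * ρ g) = ∑ μ ∈ hfin.toFinset, μ * ψ μ g := by
    intro g
    rw [LinearMap.trace_eq_sum_trace_restrict' hint' hfin
      (fun μ => (hmapX μ).comp (hmap g μ) : ∀ μ, Set.MapsTo (X * ρ g) (N μ) (N μ))]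
    refine Finset.sum_congr rfl fun μ _ => ?_
    have hsub := Module.End.mapsTo_maxGenEigenspace_of_comm
      (Algebra.mul_sub_algebraMap_commutes X μ) μ
    set Nl : Module.End ℂ (N μ) := (X - algebraMap ℂ (Module.End ℂ V) μ).restrict hsub with hNl
    have hnil : IsNilpotent Nl :=
      Module.End.isNilpotent_restrict_maxGenEigenspace_sub_algebraMap X μ hsub
    have hcm : Commute Nl ((S μ).toRepresentation g) := by
      refine LinearMap.ext fun v => Subtype.ext ?_
      change X (ρ g v) - μ • ρ g v = ρ g (X v - μ • (v : V))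
      rw [map_sub, map_smul]
      exact congrArg (· - μ • ρ g (v : V)) (LinearMap.congr_fun (hX g) v)
    have hzero : LinearMap.trace ℂ (N μ) (Nl * (S μ).toRepresentation g) = 0 :=
      (LinearMap.isNilpotent_trace_of_isNilpotent (hcm.isNilpotent_mul_right hnil)).eq_zero
    have hdec : LinearMap.restrict (p := N μ) (q := N μ) (X * ρ g) ((hmapX μ).comp (hmap g μ)) =
        Nl * (S μ).toRepresentation g + μ • (S μ).toRepresentation g := by
      refine LinearMap.ext fun v => Subtype.ext ?_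
      change X (ρ g v) = (X (ρ g v) - μ • ρ g v) + μ • ρ g v
      rw [sub_add_cancel]
    rw [hdec, map_add, map_smul, hzero, zero_add, smul_eq_mul]
    rfl
  have hμint : ∀ μ ∈ hfin.toFinset, IsIntegral ℤ μ := by
    intro μ hμ
    rw [Set.Finite.mem_toFinset] at hμ
    have hev : X.HasEigenvalue μ :=
      Module.End.HasUnifEigenvalue.lt (k := ⊤) zero_lt_one hμ
    obtain ⟨v, hv⟩ := hev.exists_hasEigenvector
    obtain ⟨P, hPm, hP⟩ := hint
    have hP0 : Polynomial.aeval X (P.map (algebraMap ℤ ℂ)) = 0 := by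
      rw [Polynomial.aeval_map_algebraMap, Polynomial.aeval_def]
      exact hP
    have h := Module.End.aeval_apply_of_hasEigenvector (p := P.map (algebraMap ℤ ℂ)) hv
    rw [hP0, LinearMap.zero_apply] at h
    have h0 := (smul_eq_zero.mp h.symm).resolve_right hv.2
    rw [Polynomial.eval_map] at h0
    exact ⟨P, hPm, h0⟩
  choose k hk using fun μ =>
    IsCharacter.classInner_nat (isCharacter_of_rep (S μ).toRepresentation) (isCharacter_irr φ)
  have h1 : Cfsg.classInner ρ.character (φ : G → ℂ) = ∑ μ ∈ hfin.toFinset, (k μ : ℂ) := by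
    rw [show ρ.character = ∑ μ ∈ hfin.toFinset, ψ μ from funext fun g => by
      rw [hpi g, Finset.sum_apply], classInner_sum_left]
    exact Finset.sum_congr rfl fun μ _ => hk μ
  have h2 : Cfsg.classInner (fun g => LinearMap.trace ℂ V (X * ρ g)) (φ : G → ℂ) =
      ∑ μ ∈ hfin.toFinset, μ * (k μ : ℂ) := by
    rw [show (fun g => LinearMap.trace ℂ V (X * ρ g)) = ∑ μ ∈ hfin.toFinset, μ • ψ μ from
      funext fun g => by rw [hth g, Finset.sum_apply]; rfl, classInner_sum_left]
    exact Finset.sum_congr rfl fun μ _ => by rw [classInner_smul_left]; exact congrArg _ (hk μ)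
  refine ⟨_, ?_, h2, fun h0 => Finset.sum_eq_zero fun μ hμ => ?_⟩
  · exact IsIntegral.sum _ fun μ hμ => (hμint μ hμ).mul (map_natCast (algebraMap ℤ ℂ) (k μ) ▸
      isIntegral_algebraMap)
  · rw [classInner_eq_mult, h0, ← Nat.cast_sum, Nat.cast_inj] at h1
    rw [Finset.sum_eq_zero_iff.mp h1.symm μ hμ, Nat.cast_zero, mul_zero]

omit [FiniteDimensional ℂ V] in
theorem isClassFunction_trace (ρ : Representation ℂ G V) {X : Module.End ℂ V}
    (hX : ∀ g, X * ρ g = ρ g * X) :
    Cfsg.IsClassFunction G fun g => LinearMap.trace ℂ V (X * ρ g) := by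
  intro g h
  dsimp only
  rw [map_mul ρ, map_mul ρ, ← mul_assoc, ← mul_assoc, hX h, LinearMap.trace_mul_comm ℂ,
    ← mul_assoc, ← mul_assoc, ← map_mul ρ, inv_mul_cancel, map_one ρ, one_mul]

section Perm

variable {Ω : Type*} [Fintype Ω] [MulAction G Ω]

theorem character_eq (g : G) :
    (Cfsg.permRep ℂ G Ω).character g = (Nat.card (fixedBy Ω g) : ℂ) := by
  classical
  rw [Representation.character, LinearMap.trace_eq_matrix_trace ℂ (Pi.basisFun ℂ Ω),
    Matrix.trace, Nat.card_eq_fintype_card, Fintype.card_subtype, Finset.card_filter, Nat.cast_sum]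
  refine Fintype.sum_congr _ _ fun x => ?_
  rw [Matrix.diag_apply, LinearMap.toMatrix_apply, Pi.basisFun_repr, Pi.basisFun_apply,
    PermRep.permRep_single, Pi.single_apply]
  simp [eq_comm]

theorem character_fun_eq :
    (Cfsg.permRep ℂ G Ω).character = fun g : G => (Nat.card (fixedBy Ω g) : ℂ) :=
  funext character_eq

variable [DecidableEq Ω]

theorem toMatrix_permRep (g : G) (i j : Ω) :
    LinearMap.toMatrix' (Cfsg.permRep ℂ G Ω g) i j = if i = g • j then 1 else 0 := by
  rw [LinearMap.toMatrix'_apply, PermRep.permRep_single, Pi.single_apply]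

/-- Commuting with the permutation representation means invariance of the matrix. -/
theorem commute_iff (X : Module.End ℂ (Ω → ℂ)) :
    (∀ g : G, X * Cfsg.permRep ℂ G Ω g = Cfsg.permRep ℂ G Ω g * X) ↔
      ∀ (g : G) (i j : Ω), LinearMap.toMatrix' X (g • i) (g • j) = LinearMap.toMatrix' X i j := by
  have key : ∀ (g : G) (i j : Ω),
      (LinearMap.toMatrix' (X * Cfsg.permRep ℂ G Ω g)) i j = LinearMap.toMatrix' X i (g • j) ∧
      (LinearMap.toMatrix' (Cfsg.permRep ℂ G Ω g * X)) i j =
        LinearMap.toMatrix' X (g⁻¹ • i) j := by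
    intro g i j
    simp only [LinearMap.toMatrix'_mul, Matrix.mul_apply, toMatrix_permRep]
    constructor
    · simp
    · rw [Finset.sum_eq_single (g⁻¹ • i)]
      · rw [if_pos (smul_inv_smul g i).symm, one_mul]
      · intro b _ hb
        rw [if_neg (fun h => hb (by rw [h, inv_smul_smul])), zero_mul]
      · simp
  constructor
  · intro h g i j
    rw [← (key g (g • i) j).1, h g, (key g (g • i) j).2, inv_smul_smul]
  · intro h g
    apply LinearMap.toMatrix'.injective
    ext i j
    rw [(key g i j).1, (key g i j).2]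
    conv_lhs => rw [← smul_inv_smul g i, h g]

theorem toMatrix_proj_transpose {χ : G → ℂ} (hχ : Cfsg.IsIrrCharacter G χ) :
    (LinearMap.toMatrix' (proj (Cfsg.permRep ℂ G Ω) χ)).transpose =
      LinearMap.toMatrix' (proj (Cfsg.permRep ℂ G Ω) fun g => conj (χ g)) := by
  obtain ⟨d, -, hd⟩ := IsIrrCharacter.apply_one_eq hχ
  ext i j
  simp only [proj, map_smul, map_sum, Matrix.transpose_apply, Matrix.smul_apply, Matrix.sum_apply,
    toMatrix_permRep, hd, Complex.conj_natCast]
  congr 1
  refine Fintype.sum_equiv (Equiv.inv G) _ _ fun g => ?_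
  simp only [Equiv.inv_apply, IsIrrCharacter.apply_inv hχ, Complex.conj_conj]
  congr 1
  exact if_congr ⟨fun h => by rw [h, inv_smul_smul], fun h => by rw [h, smul_inv_smul]⟩ rfl rfl

end Perm

end CfsgLib.Perm.CentralizerRing
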