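import Mathlib
import Cfsg.Prelude.Def_LieExceptional
import Cfsg.Agent.Lib.Perm.Normal
import Cfsg.Agent.Lib.FrobRealize.Theorem

/-!
# Normal subgroups of Zassenhaus groups

A transitive action in which only the identity fixes two points has a regular normal subgroup
(Frobenius); hence normal subgroups of Zassenhaus groups are Zassenhaus groups, and in odd degree
there are none besides the trivial ones.
-/

set_option autoImplicit false
set_option linter.style.haveILetI false

namespace CfsgLib.Perm.ZassenhausNormal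

open MulAction
open scoped Pointwise

variable {G : Type*} [Group G] {Ω : Type*} [MulAction G Ω]

theorem conj_stab (g : G) (a : Ω) : MulAut.conj g • stabilizer G a = stabilizer G (g • a) := by
  rw [stabilizer_smul_eq_stabilizer_map_conj]; rfl

/-- Frobenius' theorem for actions. -/
theorem exists_kernel [Finite G] [FaithfulSMul G Ω] [IsPretransitive G Ω] (a : Ω)
    (hfree : ∀ g : G, ∀ x y : Ω, x ≠ y → g • x = x → g • y = y → g = 1) :
    ∃ K : Subgroup G, K.Normal ∧ (∀ g : G, g ∈ K ↔ g = 1 ∨ ∀ x : Ω, g • x ≠ x) ∧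
      IsPretransitive K Ω ∧ ∀ x : Ω, stabilizer K x = ⊥ := by
  have hfix : ∀ K : Subgroup G, (∀ g : G, g ∈ K ↔ g = 1 ∨ ∀ x : Ω, g • x ≠ x) →
      ∀ x : Ω, stabilizer K x = ⊥ := fun K hK x => by
    rw [Subgroup.eq_bot_iff_forall]
    intro k hk
    rcases (hK k).1 k.2 with h | h
    · exact Subtype.ext h
    · exact absurd hk (h x)
  rcases eq_or_ne (stabilizer G a) ⊥ with hb | hb
  · have hmem : ∀ g : G, g ∈ (⊤ : Subgroup G) ↔ g = 1 ∨ ∀ x : Ω, g • x ≠ x := fun g => by
      simp only [Subgroup.mem_top, true_iff]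
      refine or_iff_not_imp_left.2 fun hg x hx => hg ?_
      obtain ⟨t, rfl⟩ := exists_smul_eq G a x
      have h1 : t⁻¹ * g * t ∈ stabilizer G a := by
        rw [mem_stabilizer_iff, mul_smul, mul_smul, hx, inv_smul_smul]
      rw [hb, Subgroup.mem_bot] at h1
      calc g = t * (t⁻¹ * g * t) * t⁻¹ := by group
        _ = 1 := by rw [h1]; group
    refine ⟨⊤, inferInstance, hmem, ⟨fun x y => ?_⟩, hfix _ hmem⟩
    obtain ⟨g, hg⟩ := exists_smul_eq G x y
    exact ⟨⟨g, trivial⟩, hg⟩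
  · have hH : Cfsg.IsFrobeniusComplement (stabilizer G a) := by
      refine ⟨hb, fun htop => hb ?_, fun g hg => ?_⟩
      · rw [Subgroup.eq_bot_iff_forall]
        intro h hh
        refine eq_of_smul_eq_smul (α := Ω) fun x => ?_
        obtain ⟨t, rfl⟩ := exists_smul_eq G a x
        have ht : t • a = a := mem_stabilizer_iff.1 (htop ▸ Subgroup.mem_top t)
        rw [ht, one_smul]; exact hh
      · rw [conj_stab, Subgroup.eq_bot_iff_forall]
        exact fun x hx => hfree x a (g • a) (fun h => hg h.symm) hx.1 hx.2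
    obtain ⟨K, hset, hKn, hc⟩ := FrobRealize.exists_normal_kernel hH
    have hmem : ∀ g : G, g ∈ K ↔ g = 1 ∨ ∀ x : Ω, g • x ≠ x := fun g => by
      rw [← SetLike.mem_coe, hset]
      refine or_congr Iff.rfl ⟨fun h x hx => ?_, fun h t ht => ?_⟩
      · obtain ⟨t, rfl⟩ := exists_smul_eq G a x
        apply h t
        rw [conj_stab]
        exact hx
      · rw [conj_stab] at ht
        exact h _ ht
    refine ⟨K, hKn, hmem, ⟨fun x y => ?_⟩, hfix _ hmem⟩
    have key : ∀ z : Ω, ∃ k : K, k • a = z := fun z => by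
      obtain ⟨g, rfl⟩ := exists_smul_eq G a z
      obtain ⟨⟨k, h⟩, hp⟩ := hc.2 g
      refine ⟨k, ?_⟩
      rw [← hp]
      show (k : G) • a = ((k : G) * (h : G)) • a
      rw [mul_smul, mem_stabilizer_iff.1 h.2]
    obtain ⟨k, rfl⟩ := key x
    obtain ⟨k', rfl⟩ := key y
    exact ⟨k' * k⁻¹, by rw [mul_smul, inv_smul_smul]⟩

theorem regular_unique {M : Subgroup G} (hreg : ∀ x : Ω, stabilizer M x = ⊥) {m m' : G}
    (hm : m ∈ M) (hm' : m' ∈ M) {x : Ω} (h : m • x = m' • x) : m = m' :=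
  congrArg Subtype.val (Perm.Normal.regular_inj hreg (n := ⟨m, hm⟩) (n' := ⟨m', hm'⟩) h)

/-- A regular normal subgroup of a doubly transitive group is abelian. -/
theorem regular_comm [Finite Ω] (h2 : IsMultiplyPretransitive G Ω 2) (M : Subgroup G) [M.Normal]
    [IsPretransitive M Ω] (hreg : ∀ x : Ω, stabilizer M x = ⊥) (a : Ω) :
    ∀ x ∈ M, ∀ y ∈ M, x * y = y * x := by
  have hconj : ∀ m1 : G, m1 ∈ M → m1 ≠ 1 → ∀ m2 : G, m2 ∈ M → m2 ≠ 1 →
      ∃ t : G, t * m1 * t⁻¹ = m2 := by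
    intro m1 h1 h1' m2 h2' h2''
    have e1 : a ≠ m1 • a := fun h => h1' (regular_unique hreg h1 (one_mem M) (by rw [← h, one_smul]))
    have e2 : a ≠ m2 • a := fun h => h2'' (regular_unique hreg h2' (one_mem M) (by rw [← h, one_smul]))
    obtain ⟨t, ht, ht'⟩ := is_two_pretransitive_iff.mp h2 e1 e2
    refine ⟨t, regular_unique hreg (Subgroup.Normal.conj_mem ‹_› _ h1 t) h2' (x := a) ?_⟩
    rw [mul_smul, mul_smul, inv_smul_eq_iff.mpr ht.symm, ht']
  haveI : Finite M := Finite.of_injective (fun m : M => (m : G) • a) fun m n h =>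
    Perm.Normal.regular_inj hreg h
  intro x hx y hy
  rcases eq_or_ne x 1 with rfl | hx1
  · simp
  haveI : Nontrivial M := ⟨⟨x, hx⟩, 1, fun h => hx1 (congrArg Subtype.val h)⟩
  have hp : Fact (Nat.card M).minFac.Prime :=
    ⟨Nat.minFac_prime (Finite.one_lt_card (α := M)).ne'⟩
  obtain ⟨m0, hm0⟩ := exists_prime_orderOf_dvd_card' (G := M) (Nat.card M).minFac (Nat.minFac_dvd _)
  have hm0' : (m0 : G) ≠ 1 := fun h => hp.out.one_lt.ne' (by
    rw [← hm0, ← Subgroup.orderOf_coe, h, orderOf_one])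
  have hP : IsPGroup (Nat.card M).minFac M := fun m => ⟨1, by
    rw [pow_one]
    rcases eq_or_ne (m : G) 1 with h | h
    · rw [show m = 1 from Subtype.ext h, one_pow]
    · obtain ⟨t, ht⟩ := hconj m0 m0.2 hm0' m m.2 h
      apply Subtype.ext
      rw [Subgroup.coe_pow, ← ht, conj_pow, Subgroup.coe_one, ← hm0, ← Subgroup.orderOf_coe,
        pow_orderOf_eq_one, mul_one, mul_inv_cancel]⟩
  haveI := hP.center_nontrivial
  obtain ⟨z, hz⟩ := exists_ne (1 : Subgroup.center M)
  have hz' : ((z : M) : G) ≠ 1 := fun h => hz (Subtype.ext (Subtype.ext h))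
  obtain ⟨t, rfl⟩ := hconj _ (z : M).2 hz' x hx hx1
  have hc := congrArg Subtype.val
    (Subgroup.mem_center_iff.1 z.2 ⟨t⁻¹ * y * t, by simpa using Subgroup.Normal.conj_mem ‹_› _ hy t⁻¹⟩)
  simp only [Subgroup.coe_mul] at hc
  calc t * ((z : M) : G) * t⁻¹ * y = t * (((z : M) : G) * (t⁻¹ * y * t)) * t⁻¹ := by group
    _ = t * ((t⁻¹ * y * t) * ((z : M) : G)) * t⁻¹ := by rw [hc]
    _ = y * (t * ((z : M) : G) * t⁻¹) := by group

/-- A doubly transitive group has at most one regular normal subgroup. -/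
theorem regular_normal_unique [Finite Ω] [FaithfulSMul G Ω] (h2 : IsMultiplyPretransitive G Ω 2)
    (M M' : Subgroup G) [M.Normal] [M'.Normal] [IsPretransitive M Ω] [IsPretransitive M' Ω]
    (hreg : ∀ x : Ω, stabilizer M x = ⊥) (hreg' : ∀ x : Ω, stabilizer M' x = ⊥) (a : Ω) :
    M = M' := by
  haveI := isPreprimitive_of_is_two_pretransitive h2
  rcases eq_or_ne (M ⊓ M') ⊥ with hI | hI
  · have hcomm : ∀ x ∈ M, ∀ y ∈ M', x * y = y * x := fun x hx y hy =>
      Subgroup.commute_of_normal_of_disjoint M M' ‹_› ‹_› (disjoint_iff.mpr hI) x y hx hy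
    have hMc := regular_comm h2 M hreg a
    have hle : M' ≤ M := fun m' hm' => by
      obtain ⟨m, hm⟩ := exists_smul_eq M a (m' • a)
      have hd : (m : G)⁻¹ * m' = 1 := eq_of_smul_eq_smul (α := Ω) fun y => by
        obtain ⟨x, rfl⟩ := exists_smul_eq M a y
        rw [one_smul]
        show ((m : G)⁻¹ * m') • (x : G) • a = (x : G) • a
        have e : ((m : G)⁻¹ * m') * x = x * ((m : G)⁻¹ * m') := by
          rw [mul_assoc, ← hcomm x x.2 m' hm', ← mul_assoc, ← mul_assoc,
            hMc _ (inv_mem m.2) x x.2]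
        rw [smul_smul, e, mul_smul, mul_smul, ← hm]
        congr 1
        exact inv_smul_smul (m : G) a
      rw [inv_mul_eq_one] at hd
      exact hd ▸ m.2
    rw [inf_eq_right.mpr hle] at hI
    subst hI
    refine le_antisymm (fun m hm => ?_) bot_le
    obtain ⟨b, hb⟩ := exists_smul_eq (⊥ : Subgroup G) a (m • a)
    have e : ((b : (⊥ : Subgroup G)) : G) = 1 := Subgroup.mem_bot.1 b.2
    change (b : G) • a = m • a at hb
    rw [e] at hb
    exact Subgroup.mem_bot.2 (regular_unique hreg hm (one_mem M) hb.symm)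
  · haveI := Perm.Normal.isPretransitive_normal (Ω := Ω) (M ⊓ M') hI
    refine le_antisymm (fun m hm => ?_) (fun m hm => ?_) <;>
    obtain ⟨i, hi⟩ := exists_smul_eq (M ⊓ M' : Subgroup G) a (m • a)
    · exact regular_unique hreg hm i.2.1 hi.symm ▸ i.2.2
    · exact regular_unique hreg' hm i.2.2 hi.symm ▸ i.2.1

/-- A non-trivial normal subgroup of a Zassenhaus group is a Zassenhaus group. -/
theorem normal_isZassenhaus [Finite Ω] (hZ : Cfsg.IsZassenhausGroup G Ω) (N : Subgroup G)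
    [N.Normal] (hN : N ≠ ⊥) : Cfsg.IsZassenhausGroup N Ω := by
  obtain ⟨hfaith, h2, h3, hfix, hnoreg⟩ := hZ
  haveI := hfaith
  haveI : Finite G := Finite.of_injective (MulAction.toPerm : G → Equiv.Perm Ω) MulAction.toPerm_injective
  haveI := isPreprimitive_of_is_two_pretransitive h2
  haveI hNt : IsPretransitive N Ω := Perm.Normal.isPretransitive_normal N hN
  haveI : FaithfulSMul N Ω := ⟨fun {m n} h => Subtype.ext (eq_of_smul_eq_smul (α := Ω) h)⟩
  have h3N : ∀ g : N, ∀ a b c : Ω, a ≠ b → b ≠ c → a ≠ c → g • a = a → g • b = b → g • c = c →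
      g = 1 := fun g a b c hab hbc hac ha hb hc => Subtype.ext (h3 g a b c hab hbc hac ha hb hc)
  have hfixN : ∃ g : N, g ≠ 1 ∧ ∃ a b : Ω, a ≠ b ∧ g • a = a ∧ g • b = b := by
    by_contra hno
    push Not at hno
    obtain ⟨g, hg, a, -⟩ := hfix
    obtain ⟨K, hKn, hK, hKt, hKr⟩ := exists_kernel (G := N) a fun g x y hxy hx hy => by
      by_contra hg
      exact hno g hg x y hxy hx hy
    haveI : (K.map N.subtype).Normal := ⟨fun k hk t => by
      obtain ⟨k, hk', rfl⟩ := Subgroup.mem_map.1 hk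
      refine Subgroup.mem_map.2 ⟨⟨t * k * t⁻¹, Subgroup.Normal.conj_mem ‹_› _ k.2 t⟩, (hK _).2 ?_, rfl⟩
      rcases (hK k).1 hk' with rfl | h
      · exact Or.inl (Subtype.ext (by simp))
      · refine Or.inr fun x hx => h (t⁻¹ • x) ?_
        change (t * (k : G) * t⁻¹) • x = x at hx
        show (k : G) • t⁻¹ • x = t⁻¹ • x
        rw [mul_smul, mul_smul] at hx
        rw [eq_inv_smul_iff]
        exact hx⟩
    have ht : IsPretransitive (K.map N.subtype) Ω := ⟨fun x y => by
      obtain ⟨k, hk⟩ := exists_smul_eq K x y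
      exact ⟨⟨_, Subgroup.mem_map_of_mem _ k.2⟩, hk⟩⟩
    obtain ⟨x, hx⟩ := hnoreg _ inferInstance ht
    refine hx ((Subgroup.eq_bot_iff_forall _).2 ?_)
    rintro ⟨m, hm⟩ hmx
    obtain ⟨k, hk, rfl⟩ := Subgroup.mem_map.1 hm
    have : (⟨k, hk⟩ : K) ∈ stabilizer K x := hmx
    rw [hKr, Subgroup.mem_bot] at this
    apply Subtype.ext
    exact congrArg (fun z : K => ((z : N) : G)) this
  obtain ⟨h, hh, a, b, hab, ha, hb⟩ := hfixN
  change (h : G) • a = a at ha
  change (h : G) • b = b at hb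
  -- the kernel of the stabiliser of `a` lies in `N`
  let X := SubMulAction.ofStabilizer G a
  have hXne : ∀ x : X, (x : Ω) ≠ a := fun x => (SubMulAction.mem_ofStabilizer_iff _ _).1 x.2
  haveI : FaithfulSMul (stabilizer G a) X := Perm.Normal.faithful_ofStabilizer a
  haveI : IsPretransitive (stabilizer G a) X := ⟨fun x y => by
    obtain ⟨g, hg, hg'⟩ := is_two_pretransitive_iff.mp h2 (hXne x).symm (hXne y).symm
    exact ⟨⟨g, hg⟩, Subtype.ext hg'⟩⟩
  let b' : X := ⟨b, (SubMulAction.mem_ofStabilizer_iff _ _).2 hab.symm⟩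
  obtain ⟨F, hFn, hF, hFt, hFr⟩ := exists_kernel (G := stabilizer G a) b' fun g x y hxy hx hy =>
    Subtype.ext (h3 g a x y (hXne x).symm (fun e => hxy (Subtype.ext e)) (hXne y).symm g.2
      (congrArg Subtype.val hx) (congrArg Subtype.val hy))
  let h' : stabilizer G a := ⟨h, ha⟩
  have hh' : h' • b' = b' := Subtype.ext hb
  have hfpf : ∀ u : F, (h' * u * h'⁻¹ : stabilizer G a) = u → u = 1 := fun u hu => by
    by_contra hu1
    have e : h' • ((u : stabilizer G a) • b') = (u : stabilizer G a) • b' := by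
      conv_rhs => rw [← hu]
      rw [mul_smul, mul_smul, inv_smul_eq_iff.mpr hh'.symm]
    have hne : ((u : stabilizer G a) • b' : X) ≠ b' := ((hF u).1 u.2).resolve_left
      (fun e => hu1 (Subtype.ext e)) b'
    exact hh (Subtype.ext (h3 h a b _ hab (fun e => hne (Subtype.ext e.symm))
      (hXne _).symm ha hb (congrArg Subtype.val e)))
  let f : F → F := fun u => ⟨h' * u * h'⁻¹ * (u : stabilizer G a)⁻¹,
    mul_mem (hFn.conj_mem _ u.2 _) (inv_mem u.2)⟩
  have hfinj : Function.Injective f := fun u v e => by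
    have e' : h' * u * h'⁻¹ * (u : stabilizer G a)⁻¹ = h' * v * h'⁻¹ * (v : stabilizer G a)⁻¹ :=
      congrArg Subtype.val e
    have : (h' * ((v⁻¹ * u : F) : stabilizer G a) * h'⁻¹ : stabilizer G a) = (v⁻¹ * u : F) := by
      calc (h' * ((v⁻¹ * u : F) : stabilizer G a) * h'⁻¹ : stabilizer G a)
          = (h' * v * h'⁻¹)⁻¹ * ((h' * u * h'⁻¹ * (u : stabilizer G a)⁻¹) * u) := by
            simp only [Subgroup.coe_mul, Subgroup.coe_inv]; group
        _ = _ := by rw [e']; simp only [Subgroup.coe_mul, Subgroup.coe_inv]; group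
    exact (inv_mul_eq_one.1 (hfpf _ this)).symm
  have hFN : ∀ u : F, ((u : stabilizer G a) : G) ∈ N := fun u => by
    obtain ⟨v, rfl⟩ := Finite.surjective_of_injective hfinj u
    show (h : G) * ((v : stabilizer G a) : G) * (h : G)⁻¹ * ((v : stabilizer G a) : G)⁻¹ ∈ N
    rw [mul_assoc, mul_assoc]
    exact mul_mem h.2 (by simpa [mul_assoc] using Subgroup.Normal.conj_mem ‹_› _ (inv_mem h.2) _)
  have key : ∀ y : Ω, y ≠ a → ∃ n : N, n • a = a ∧ n • b = y := fun y hy => by
    obtain ⟨u, hu⟩ := exists_smul_eq F b' ⟨y, (SubMulAction.mem_ofStabilizer_iff _ _).2 hy⟩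
    exact ⟨⟨_, hFN u⟩, (u : stabilizer G a).2, congrArg Subtype.val hu⟩
  have key2 : ∀ x y : Ω, x ≠ y → ∃ n : N, n • a = x ∧ n • b = y := fun x y hxy => by
    obtain ⟨n, rfl⟩ := exists_smul_eq N a x
    obtain ⟨m, hm, hm'⟩ := key (n⁻¹ • y) fun e => hxy (by rw [← e, smul_inv_smul])
    exact ⟨n * m, by rw [mul_smul, hm], by rw [mul_smul, hm', smul_inv_smul]⟩
  have h2N : IsMultiplyPretransitive N Ω 2 := is_two_pretransitive_iff.mpr fun {x y z w} hxy hzw => by
    obtain ⟨n, h1, h2⟩ := key2 x y hxy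
    obtain ⟨m, h1', h2'⟩ := key2 z w hzw
    exact ⟨m * n⁻¹, by rw [mul_smul, ← h1, inv_smul_smul, h1'], by
      rw [mul_smul, ← h2, inv_smul_smul, h2']⟩
  refine ⟨inferInstance, h2N, h3N, ⟨h, hh, a, b, hab, ha, hb⟩, fun M hMn hMt => ?_⟩
  by_contra hall
  push Not at hall
  haveI := hMt
  have hMG : (M.map N.subtype).Normal := ⟨fun m hm t => by
    obtain ⟨m, hm', rfl⟩ := Subgroup.mem_map.1 hm
    let φ := (MulAut.conjNormal (H := N) t : N ≃* N)
    haveI : (M.map φ.toMonoidHom).Normal := hMn.map _ φ.surjective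
    haveI : IsPretransitive (M.map φ.toMonoidHom) Ω := ⟨fun x y => by
      obtain ⟨k, hk⟩ := exists_smul_eq M (t⁻¹ • x) (t⁻¹ • y)
      refine ⟨⟨_, Subgroup.mem_map_of_mem φ.toMonoidHom k.2⟩, ?_⟩
      show (t * ((k : N) : G) * t⁻¹) • x = y
      change ((k : N) : G) • t⁻¹ • x = t⁻¹ • y at hk
      rw [mul_smul, mul_smul, hk, smul_inv_smul]⟩
    have hr : ∀ x : Ω, stabilizer (M.map φ.toMonoidHom) x = ⊥ := fun x => by
      rw [Subgroup.eq_bot_iff_forall]
      rintro ⟨_, k, hk, rfl⟩ hkx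
      change (t * (k : G) * t⁻¹) • x = x at hkx
      have h1 : (⟨k, hk⟩ : M) ∈ stabilizer M (t⁻¹ • x) := by
        show (k : G) • t⁻¹ • x = t⁻¹ • x
        rw [mul_smul, mul_smul] at hkx
        rw [eq_inv_smul_iff]
        exact hkx
      rw [hall, Subgroup.mem_bot] at h1
      apply Subtype.ext
      show φ k = 1
      rw [show k = 1 from congrArg Subtype.val h1, map_one]
    have e := regular_normal_unique h2N M (M.map φ.toMonoidHom) hall hr a
    have : φ m ∈ M := by rw [e]; exact Subgroup.mem_map_of_mem φ.toMonoidHom hm'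
    exact Subgroup.mem_map.2 ⟨φ m, this, rfl⟩⟩
  obtain ⟨x, hx⟩ := hnoreg _ hMG ⟨fun u v => by
    obtain ⟨k, hk⟩ := exists_smul_eq M u v
    exact ⟨⟨_, Subgroup.mem_map_of_mem _ k.2⟩, hk⟩⟩
  refine hx ((Subgroup.eq_bot_iff_forall _).2 ?_)
  rintro ⟨_, k, hk, rfl⟩ hkx
  have h1 : (⟨k, hk⟩ : M) ∈ stabilizer M x := hkx
  rw [hall, Subgroup.mem_bot] at h1
  apply Subtype.ext
  exact congrArg (fun z : M => ((z : N) : G)) h1

/-- A Zassenhaus group of odd degree is simple. -/
theorem isSimple_of_odd [Fintype Ω] (hZ : Cfsg.IsZassenhausGroup G Ω) (hodd : Odd (Fintype.card Ω)) :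
    IsSimpleGroup G := by
  classical
  haveI := hZ.1
  haveI : Finite G := Finite.of_injective (MulAction.toPerm : G → Equiv.Perm Ω) MulAction.toPerm_injective
  obtain ⟨g0, hg0, a, b, hab, -, -⟩ := id hZ.2.2.2.1
  haveI : Nontrivial G := ⟨⟨g0, 1, hg0⟩⟩
  -- an involution fixes exactly one point
  have hinv : ∀ t : G, t ≠ 1 → t * t = 1 → ∃! x : Ω, t • x = x := by
    intro t ht htt
    let σ : Equiv.Perm Ω := MulAction.toPerm t
    have hσ2 : σ ^ (2 ^ 1) = 1 := by
      ext x
      show t • t • x = x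
      rw [smul_smul, htt, one_smul]
    haveI : Fact (Nat.Prime 2) := ⟨Nat.prime_two⟩
    have heq := Equiv.Perm.card_compl_support_modEq hσ2
    have hset : σ.supportᶜ = Finset.univ.filter (fun x : Ω => t • x = x) := by
      ext x; simp [σ]
    rw [hset] at heq
    have hoddc : Odd (Finset.univ.filter (fun x : Ω => t • x = x)).card := by
      rw [Nat.odd_iff] at hodd ⊢
      rw [← hodd]; exact heq
    have hle : (Finset.univ.filter (fun x : Ω => t • x = x)).card ≤ 2 := by
      by_contra hlt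
      push Not at hlt
      obtain ⟨x, y, z, hx, hy, hz, hxy, hxz, hyz⟩ := Finset.two_lt_card_iff.1 hlt
      simp only [Finset.mem_filter, Finset.mem_univ, true_and] at hx hy hz
      exact ht (hZ.2.2.1 t x y z hxy hyz hxz hx hy hz)
    have hone : (Finset.univ.filter (fun x : Ω => t • x = x)).card = 1 := by
      rcases hoddc with ⟨k, hk⟩; omega
    obtain ⟨x, hx⟩ := Finset.card_eq_one.1 hone
    have hmem : ∀ y : Ω, t • y = y ↔ y = x := fun y => by
      have := congrArg (fun s : Finset Ω => y ∈ s) hx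
      simpa using this
    exact ⟨x, (hmem x).2 rfl, fun y hy => (hmem y).1 hy⟩
  refine { eq_bot_or_eq_top_of_normal := fun N hNn => or_iff_not_imp_left.2 fun hN => ?_ }
  obtain ⟨hNf, h2N, -, -, -⟩ := normal_isZassenhaus hZ N hN
  -- `N` has even order
  have hev : 2 ∣ Nat.card N := by
    haveI : IsPretransitive N Ω := isPretransitive_of_is_two_pretransitive
    haveI : IsPretransitive (stabilizer N a) (SubMulAction.ofStabilizer N a) := ⟨fun x y => by
      obtain ⟨n, hn, hn'⟩ := is_two_pretransitive_iff.mp h2N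
        ((SubMulAction.mem_ofStabilizer_iff _ _).1 x.2).symm ((SubMulAction.mem_ofStabilizer_iff _ _).1 y.2).symm
      exact ⟨⟨n, hn⟩, Subtype.ext hn'⟩⟩
    haveI : Nonempty (SubMulAction.ofStabilizer N a) :=
      ⟨⟨b, (SubMulAction.mem_ofStabilizer_iff _ _).2 hab.symm⟩⟩
    have h1 := Perm.Basic.card_dvd_card (G := stabilizer N a) (Ω := SubMulAction.ofStabilizer N a)
    rw [SubMulAction.nat_card_ofStabilizer_eq, Nat.card_eq_fintype_card] at h1
    refine (Dvd.dvd.trans ?_ h1).trans (Subgroup.card_subgroup_dvd_card _)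
    obtain ⟨k, hk⟩ := hodd
    exact ⟨k, by omega⟩
  haveI : Fact (Nat.Prime 2) := ⟨Nat.prime_two⟩
  obtain ⟨t0, ht0⟩ := exists_prime_orderOf_dvd_card' (G := N) 2 hev
  have ht0' : (t0 : G) * t0 = 1 := by
    rw [← pow_two, ← ht0, ← Subgroup.orderOf_coe, pow_orderOf_eq_one]
  have ht0ne : (t0 : G) ≠ 1 := fun h => by
    rw [← Subgroup.orderOf_coe, h, orderOf_one] at ht0; omega
  obtain ⟨x0, -, hx0'⟩ := hinv _ ht0ne ht0'
  obtain ⟨x, hx⟩ : ∃ x : Ω, (t0 : G) • x ≠ x := by
    by_contra hall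
    push Not at hall
    exact ht0ne (eq_of_smul_eq_smul (α := Ω) fun w => by rw [hall w, one_smul])
  obtain ⟨s, hs, hs'⟩ := is_two_pretransitive_iff.mp hZ.2.1 (Ne.symm hx) hab
  set t : G := s * t0 * s⁻¹ with ht
  have htN : t ∈ N := hNn.conj_mem _ t0.2 s
  have hta : t • a = b := by rw [ht, ← hs, mul_smul, mul_smul, inv_smul_smul, hs']
  have htt : t * t = 1 := by
    rw [ht, show s * (t0 : G) * s⁻¹ * (s * t0 * s⁻¹) = s * ((t0 : G) * t0) * s⁻¹ by group, ht0']
    group
  have htne : t ≠ 1 := fun h => hab (by rw [← hta, h, one_smul])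
  have htb : t • b = a := by rw [← hta, smul_smul, htt, one_smul]
  obtain ⟨c, hc, hcu⟩ := hinv t htne htt
  have hca : c ≠ a := fun e => hab (by rw [← hta, ← e, hc, e])
  have hcb : c ≠ b := fun e => hab (by rw [← htb, ← e, hc, e])
  -- the two-point stabiliser is inverted by `t`
  set H := stabilizer G a ⊓ stabilizer G b with hHdef
  have hH : ∀ h : G, h ∈ H ↔ h • a = a ∧ h • b = b := fun h => Iff.rfl
  have htinv : t⁻¹ = t := inv_eq_of_mul_eq_one_right htt
  have hconj : ∀ h ∈ H, t * h * t⁻¹ ∈ H := fun h hh => by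
    rw [hH] at hh ⊢
    rw [htinv]
    exact ⟨by rw [mul_smul, mul_smul, hta, hh.2, htb], by rw [mul_smul, mul_smul, htb, hh.1, hta]⟩
  let φ : H →* H :=
    { toFun := fun h => ⟨t * h * t⁻¹, hconj h h.2⟩
      map_one' := Subtype.ext (by simp)
      map_mul' := fun h k => Subtype.ext (by simp [mul_assoc]) }
  have hφ : MonoidHom.FixedPointFree φ := fun h hh => by
    have e : t * (h : G) * t⁻¹ = h := congrArg Subtype.val hh
    apply Subtype.ext
    have e' : t * (h : G) = h * t := mul_inv_eq_iff_eq_mul.1 e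
    have : (h : G) • c = c := hcu _ (show t • ((h : G) • c) = (h : G) • c by rw [smul_smul, e', mul_smul, hc])
    exact hZ.2.2.1 h a b c hab hcb.symm hca.symm ((hH _).1 h.2).1 ((hH _).1 h.2).2 this
  have hφ2 : Function.Involutive φ := fun h => Subtype.ext (by
    show t * (t * (h : G) * t⁻¹) * t⁻¹ = h
    rw [htinv, show t * (t * (h : G) * t) * t = (t * t) * h * (t * t) by group, htt]; group)
  have hHN : H ≤ N := fun h hh => by
    have e : t * h * t⁻¹ = h⁻¹ := congrArg Subtype.val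
      (congrFun (MonoidHom.FixedPointFree.coe_eq_inv_of_involutive hφ hφ2) ⟨h, hh⟩)
    have hsq : h ^ 2 ∈ N := by
      have : h ^ 2 = (h * t * h⁻¹) * t⁻¹ := by
        calc h ^ 2 = h * (h⁻¹)⁻¹ := by rw [inv_inv, pow_two]
          _ = h * (t * h * t⁻¹)⁻¹ := by rw [e]
          _ = _ := by group
      rw [this]; exact mul_mem (hNn.conj_mem _ htN h) (inv_mem htN)
    have hodd' : Odd (orderOf h) := by
      rw [← Nat.not_even_iff_odd]
      intro hev
      have ho : 0 < orderOf h := orderOf_pos h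
      obtain ⟨j, hj⟩ := hev
      have hj1 : h ^ j ≠ 1 := pow_ne_one_of_lt_orderOf (by omega) (by omega)
      have hj2 : h ^ j * h ^ j = 1 := by rw [← pow_add, ← hj, pow_orderOf_eq_one]
      have hjH := (hH _).1 (pow_mem hh j)
      exact hab ((hinv _ hj1 hj2).unique hjH.1 hjH.2)
    obtain ⟨j, hj⟩ := hodd'
    have : h = (h ^ 2) ^ (j + 1) := by
      rw [← pow_mul, show 2 * (j + 1) = orderOf h + 1 by omega, pow_succ, pow_orderOf_eq_one, one_mul]
    rw [this]; exact pow_mem hsq _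
  refine eq_top_iff.2 fun g _ => ?_
  have hga : g • a ≠ g • b := fun e => hab (MulAction.injective g e)
  obtain ⟨n, hn, hn'⟩ := is_two_pretransitive_iff.mp h2N hab hga
  change (n : G) • a = g • a at hn
  change (n : G) • b = g • b at hn'
  have : (n : G)⁻¹ * g ∈ N := hHN ((hH _).2
    ⟨by rw [mul_smul, ← hn, inv_smul_smul], by rw [mul_smul, ← hn', inv_smul_smul]⟩)
  simpa using mul_mem n.2 this

end CfsgLib.Perm.ZassenhausNormal
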