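import Mathlib
import Cfsg.Prelude.Def_RootSubgroups

/-!
# Sets of root involutions: triples and adjacency

A triple is a pair of commuting members of `D` whose product is again a member. A member adjacent
to one of the three is adjacent to at least one more and commutes with neither of the other two.
-/

set_option autoImplicit false

namespace CfsgLib.Perm.RootInvolution

open Cfsg

variable {G : Type*} [Group G] {D : Set G}

/-- Two commuting members of `D` with product in `D`. -/
structure Tri (D : Set G) (a x : G) : Prop where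
  left : a ∈ D
  right : x ∈ D
  comm : Commute a x
  mem : a * x ∈ D

theorem sq_one (hD : IsRootInvolutionSet D) {d : G} (hd : d ∈ D) : d * d = 1 := by
  rw [← pow_two, ← hD.orderOf_eq d hd, pow_orderOf_eq_one]

theorem inv_eq (hD : IsRootInvolutionSet D) {d : G} (hd : d ∈ D) : d⁻¹ = d :=
  inv_eq_of_mul_eq_one_right (sq_one hD hd)

theorem ne_one (hD : IsRootInvolutionSet D) {d : G} (hd : d ∈ D) : d ≠ 1 := by
  intro h
  have := hD.orderOf_eq d hd
  simp [h] at this

/-- Cancel an involution at the left. -/
theorem cancel (hD : IsRootInvolutionSet D) {d : G} (hd : d ∈ D) (x : G) : d * (d * x) = x := by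
  rw [← mul_assoc, sq_one hD hd, one_mul]

theorem conj_self_mem (hD : IsRootInvolutionSet D) {g d : G} (hg : g ∈ D) (hd : d ∈ D) :
    g * d * g ∈ D := by
  simpa [inv_eq hD hg] using hD.conj_mem d hd g

/-- Conjugation by an involution of `D` undoes itself. -/
theorem conj_conj (hD : IsRootInvolutionSet D) {g : G} (hg : g ∈ D) (x : G) :
    g * (g * x * g) * g = x := by
  simp only [mul_assoc, cancel hD hg, sq_one hD hg, mul_one]

theorem conj_eq_of_commute (hD : IsRootInvolutionSet D) {g x : G} (hg : g ∈ D) (h : Commute g x) :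
    g * x * g = x := by
  rw [h.eq, mul_assoc, sq_one hD hg, mul_one]

theorem commute_of_conj_eq (hD : IsRootInvolutionSet D) {g x : G} (hg : g ∈ D)
    (h : g * x * g = x) : Commute g x := by
  calc g * x = g * x * g * g := by rw [mul_assoc (g * x), sq_one hD hg, mul_one]
    _ = x * g := by rw [h]

/-- The commutator of two involutions is the square of their product. -/
theorem comm_eq_sq (hD : IsRootInvolutionSet D) {a b : G} (ha : a ∈ D) (hb : b ∈ D) :
    a * b * a⁻¹ * b⁻¹ = a * b * a * b := by
  rw [inv_eq hD ha, inv_eq hD hb]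

theorem oddAdj_symm (hD : IsRootInvolutionSet D) {a b : G} (h : OddAdj D a b) : OddAdj D b a := by
  obtain ⟨ha, hb, hne, hodd⟩ := h
  refine ⟨hb, ha, hne.symm, ?_⟩
  have : b * a = (a * b)⁻¹ := by rw [mul_inv_rev, inv_eq hD ha, inv_eq hD hb]
  rwa [this, orderOf_inv]

theorem oddAdj_conj (hD : IsRootInvolutionSet D) {a b : G} (h : OddAdj D a b) (g : G) :
    OddAdj D (g * a * g⁻¹) (g * b * g⁻¹) := by
  obtain ⟨ha, hb, hne, hodd⟩ := h
  refine ⟨hD.conj_mem a ha g, hD.conj_mem b hb g, fun e => hne (by simpa using e), ?_⟩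
  have : g * a * g⁻¹ * (g * b * g⁻¹) = g * (a * b) * g⁻¹ := by group
  rw [this, ← MulAut.conj_apply, MulEquiv.orderOf_eq]
  exact hodd

theorem oddAdj_conj_iff (hD : IsRootInvolutionSet D) {a b : G} (g : G) :
    OddAdj D (g * a * g⁻¹) (g * b * g⁻¹) ↔ OddAdj D a b := by
  refine ⟨fun h => ?_, fun h => oddAdj_conj hD h g⟩
  simpa [mul_assoc] using oddAdj_conj hD h g⁻¹

/-- Adjacent members do not commute. -/
theorem not_commute (hD : IsRootInvolutionSet D) {a b : G} (h : OddAdj D a b) :
    ¬ Commute a b := by
  obtain ⟨ha, hb, hne, hodd⟩ := h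
  intro hc
  have h2 : orderOf (a * b) ∣ 2 := by
    apply orderOf_dvd_of_pow_eq_one
    rw [hc.mul_pow, pow_two, pow_two, sq_one hD ha, sq_one hD hb, one_mul]
  rcases (Nat.dvd_prime Nat.prime_two).mp h2 with h' | h'
  · apply hne
    rw [orderOf_eq_one_iff] at h'
    rw [← mul_one a, ← sq_one hD hb, ← mul_assoc, h', one_mul]
  · rw [h'] at hodd
    exact (by decide : ¬ Odd 2) hodd

theorem conj_of_oddAdj (hD : IsRootInvolutionSet D) {a b : G} (h : OddAdj D a b) :
    ∃ g : G, g * a * g⁻¹ = b := by
  obtain ⟨ha, hb, -, j, hj⟩ := h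
  refine ⟨(b * a) ^ (j + 1), ?_⟩
  have hinv : b * a = (a * b)⁻¹ := by rw [mul_inv_rev, inv_eq hD ha, inv_eq hD hb]
  have hswap : ∀ i : ℕ, a * (a * b) ^ i = ((a * b) ^ i)⁻¹ * a := by
    intro i
    have h1 : a * (a * b) ^ i * a⁻¹ = (a * (a * b) * a⁻¹) ^ i := by
      rw [conj_pow]
    have h2 : a * (a * b) * a⁻¹ = (a * b)⁻¹ := by
      rw [← hinv, inv_eq hD ha, cancel hD ha]
    rw [h2, inv_pow] at h1
    rw [← h1, inv_mul_cancel_right]
  have hone : (a * b) ^ (2 * j + 1) = 1 := by rw [← hj, pow_orderOf_eq_one]
  rw [hinv, inv_pow, inv_inv, mul_assoc, hswap, ← mul_assoc, ← mul_inv_rev, ← pow_add,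
    show j + 1 + (j + 1) = 2 * j + 1 + 1 by omega, pow_succ, hone, one_mul, ← hinv, mul_assoc,
    sq_one hD ha, mul_one]

theorem not_oddAdj_of_commute (hD : IsRootInvolutionSet D) {a b : G} (h : Commute a b) :
    ¬ OddAdj D a b := fun e => not_commute hD e h

/-- A non-adjacent, non-commuting pair has product of order four, with square in `D`. -/
theorem order_four (hD : IsRootInvolutionSet D) {a b : G} (ha : a ∈ D) (hb : b ∈ D)
    (hn : ¬ OddAdj D a b) (hc : ¬ Commute a b) :
    orderOf (a * b) = 4 ∧ a * b * a * b ∈ D := by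
  rcases hD.pair a ha b hb with h | h | ⟨h1, h2⟩
  · exact absurd h hc
  · have hne : a ≠ b := by rintro rfl; exact hc (Commute.refl a)
    exact absurd ⟨ha, hb, hne, h⟩ hn
  · refine ⟨h1, ?_⟩
    rwa [pow_two, ← mul_assoc] at h2

theorem Tri.symm {a x : G} (h : Tri D a x) : Tri D x a :=
  ⟨h.right, h.left, h.comm.symm, by rw [h.comm.symm.eq]; exact h.mem⟩

theorem Tri.third (hD : IsRootInvolutionSet D) {a x : G} (h : Tri D a x) : Tri D (a * x) x := by
  refine ⟨h.mem, h.right, h.comm.mul_left (Commute.refl x), ?_⟩
  rw [mul_assoc, sq_one hD h.right, mul_one]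
  exact h.left

theorem Tri.third' (hD : IsRootInvolutionSet D) {a x : G} (h : Tri D a x) : Tri D (a * x) a :=
  h.comm.eq ▸ h.symm.third hD

theorem Tri.conj (hD : IsRootInvolutionSet D) {a x : G} (h : Tri D a x) (g : G) :
    Tri D (g * a * g⁻¹) (g * x * g⁻¹) := by
  refine ⟨hD.conj_mem a h.left g, hD.conj_mem x h.right g, h.comm.conj g, ?_⟩
  have : g * a * g⁻¹ * (g * x * g⁻¹) = g * (a * x) * g⁻¹ := by group
  rw [this]
  exact hD.conj_mem _ h.mem g

theorem Tri.ne (hD : IsRootInvolutionSet D) {a x : G} (h : Tri D a x) : a ≠ x := by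
  rintro rfl
  exact ne_one hD h.mem (sq_one hD h.left)

/-- The pair made from an element and its commutator with a member it does not centralise. -/
theorem tri_bracket (hD : IsRootInvolutionSet D) {a b : G} (ha : a ∈ D) (hb : b ∈ D)
    (hn : ¬ OddAdj D a b) (hc : ¬ Commute a b) :
    Tri D a (a * b * a * b) ∧ Tri D b (a * b * a * b) := by
  obtain ⟨h4, hm⟩ := order_four hD ha hb hn hc
  have hi : (a * b * a * b)⁻¹ = a * b * a * b := inv_eq hD hm
  have h1 : a * (a * b * a * b) = b * a * b := by rw [mul_assoc a b a, mul_assoc a, cancel hD ha]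
  have h1' : a * b * a * b * a = b * a * b := by
    have e := congrArg (fun t => t⁻¹) h1
    simp only [mul_inv_rev, hi, inv_eq hD ha, inv_eq hD hb] at e
    rw [e, mul_assoc]
  have h2 : a * b * a * b * b = a * b * a := by rw [mul_assoc _ b b, sq_one hD hb, mul_one]
  have h2' : b * (a * b * a * b) = a * b * a := by
    have e := congrArg (fun t => t⁻¹) h2
    simp only [mul_inv_rev, hi, inv_eq hD ha, inv_eq hD hb] at e
    rw [e, mul_assoc]
  exact ⟨⟨ha, hm, h1.trans h1'.symm, h1 ▸ conj_self_mem hD hb ha⟩,
    ⟨hb, hm, h2'.trans h2.symm, by rw [h2']; exact conj_self_mem hD ha hb⟩⟩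

/-- A neighbour of one member of a triple commutes with no other member. -/
theorem not_commute_of_adj (hD : IsRootInvolutionSet D) {a x y : G} (h : Tri D a x)
    (hy : OddAdj D x y) : ¬ Commute a y := by
  intro hay
  have hxy : orderOf (x * y) ≠ 1 := by
    rw [ne_eq, orderOf_eq_one_iff]
    intro e
    exact hy.2.2.1 (by rw [← mul_one x, ← sq_one hD hy.2.1, ← mul_assoc, e, one_mul])
  have hord : orderOf (a * x * y) = 2 * orderOf (x * y) := by
    rw [mul_assoc, (h.comm.mul_right hay).orderOf_mul_eq_mul_orderOf_of_coprime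
      (by rw [hD.orderOf_eq a h.left]; exact Nat.coprime_two_left.mpr hy.2.2.2),
      hD.orderOf_eq a h.left]
  rcases hD.pair (a * x) h.mem y hy.2.1 with e | e | ⟨e, -⟩
  · apply not_commute hD hy
    have : a * (x * y) = a * (y * x) := by
      rw [← mul_assoc, e, ← mul_assoc, ← hay.eq, mul_assoc]
    exact mul_left_cancel this
  · rw [hord] at e
    exact (Nat.not_odd_iff_even.mpr (even_two_mul _)) e
  · rw [hord] at e
    obtain ⟨j, hj⟩ := hy.2.2.2
    omega

/-- A member adjacent to one member of a triple is adjacent to one more. -/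
theorem adj_or (hD : IsRootInvolutionSet D) {a x y : G} (h : Tri D a x) (hy : OddAdj D x y) :
    OddAdj D a y ∨ OddAdj D (a * x) y := by
  by_contra hno
  rw [not_or] at hno
  obtain ⟨hn1, hn2⟩ := hno
  have hx := h.right
  have hyD := hy.2.1
  have hc1 : ¬ Commute a y := not_commute_of_adj hD h hy
  have hc2 : ¬ Commute (a * x) y := not_commute_of_adj hD (h.third hD) hy
  obtain ⟨hta, hty⟩ := tri_bracket hD h.left hyD hn1 hc1
  obtain ⟨htb, htyf⟩ := tri_bracket hD h.mem hyD hn2 hc2
  have haya : a * y * a = y * (a * y * a * y) := by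
    rw [hty.comm.eq, mul_assoc _ y y, sq_one hD hyD, mul_one]
  have hf : a * x * y * (a * x) * y = x * y * (a * y * a * y) * x * y := by
    have h0 : a * x * y * (a * x) * y = x * (a * y * a) * x * y := by
      nth_rewrite 1 [h.comm.eq]
      simp only [mul_assoc]
    calc a * x * y * (a * x) * y = x * (a * y * a) * x * y := h0
      _ = x * (y * (a * y * a * y)) * x * y := by rw [← haya]
      _ = _ := by simp only [mul_assoc]
  rw [hf] at htyf htb
  generalize a * y * a * y = e at hta hty htb htyf haya hf
  have hxe : ¬ Commute x e := by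
    intro hc
    have h1 : x * y * e * x * y = x * y * (x * y) * e := by
      have he : Commute e (x * y) := hc.symm.mul_right hty.comm.symm
      calc x * y * e * x * y = x * y * (e * (x * y)) := by simp only [mul_assoc]
        _ = x * y * (x * y) * e := by rw [he.eq]; simp only [mul_assoc]
    have h2 : Commute (x * y * (x * y)) e :=
      ((hc.mul_left hty.comm).mul_left (hc.mul_left hty.comm))
    have h4 : (x * y) ^ 4 = 1 := by
      have := sq_one hD htb.right
      rw [h1] at this
      have h3 : x * y * (x * y) * e * (x * y * (x * y) * e) =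
          (x * y * (x * y)) * (x * y * (x * y)) * (e * e) := by
        rw [mul_assoc, ← mul_assoc e, ← h2.eq]; simp only [mul_assoc]
      rw [h3, sq_one hD hta.right, mul_one] at this
      rw [← this]
      simp only [pow_succ, pow_zero, one_mul, mul_assoc]
    have hdvd := orderOf_dvd_of_pow_eq_one h4
    have h1' : orderOf (x * y) = 1 := by
      have hcop : Nat.Coprime (orderOf (x * y)) 4 := by
        have : Nat.Coprime (orderOf (x * y)) 2 := Nat.coprime_two_right.mpr hy.2.2.2
        simpa using this.mul_right this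
      exact Nat.eq_one_of_dvd_coprimes hcop dvd_rfl hdvd
    rw [orderOf_eq_one_iff] at h1'
    exact hy.2.2.1 (by rw [← mul_one x, ← sq_one hD hyD, ← mul_assoc, h1', one_mul])
  have hxn : ¬ OddAdj D x e := fun h' => not_commute_of_adj hD h h' hta.comm
  obtain ⟨htx, hte⟩ := tri_bracket hD hx hta.right hxn hxe
  generalize hgdef : x * e * x * e = g at htx hte
  have hye : y * e = e * y := hty.comm.eq
  have hxex : x * e * x = e * g := by
    rw [hte.comm.eq, ← hgdef, mul_assoc _ e e, sq_one hD hta.right, mul_one]
  -- `r` has odd order and is inverted by `y`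
  have hxyx : x * y * x = (x * y * x * y) * y := by rw [mul_assoc _ y y, sq_one hD hyD, mul_one]
  have hf1 : x * y * e * x * y = e * g * (x * y * x * y) := by
    calc x * y * e * x * y = x * e * (y * x * y) := by
          rw [mul_assoc x y e, hye]; simp only [mul_assoc]
      _ = x * e * x * (x * y * x * y) := by simp only [mul_assoc, cancel hD hx]
      _ = e * g * (x * y * x * y) := by rw [hxex]
  have hf2 : x * y * e * x * y = (x * y * x * y) * e * (y * g * y) := by
    calc x * y * e * x * y = x * y * x * (x * e * x) * y := by simp only [mul_assoc, cancel hD hx]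
      _ = x * y * x * y * (y * (e * g) * y) := by rw [hxex]; simp only [mul_assoc, cancel hD hyD]
      _ = (x * y * x * y) * e * (y * g * y) := by
          rw [← mul_assoc y e g, hye]; simp only [mul_assoc]
  have hre : x * y * x * y * e = e * (y * x * y * x) := by
    have h' : y * x * y * e * x = x * y * e * x * y := by
      calc y * x * y * e * x = y * (x * y * e * x * y) * y := by
            simp only [mul_assoc, sq_one hD hyD, mul_one]
        _ = _ := conj_eq_of_commute hD hyD htyf.comm
    calc x * y * x * y * e = x * (y * x * y * e * x) * x := by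
          simp only [mul_assoc, sq_one hD hx, mul_one]
      _ = x * (x * y * e * x * y) * x := by rw [h']
      _ = y * e * (x * y * x) := by simp only [mul_assoc, cancel hD hx]
      _ = _ := by rw [hye]; simp only [mul_assoc]
  -- `y` sends `g` to `g r r`
  have hA : y * g * y = g * (x * y * x * y) * (x * y * x * y) := by
    have h' : y * (e * g * (x * y * x * y)) * y = e * g * (x * y * x * y) := by
      rw [← hf1]; exact conj_eq_of_commute hD hyD htyf.comm
    have h'' : y * (e * g * (x * y * x * y)) * y = e * (y * g * y) * (y * x * y * x) := by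
      rw [← mul_assoc y (e * g), ← mul_assoc y e g, hye]
      simp only [mul_assoc, cancel hD hyD, sq_one hD hyD, mul_one]
    rw [h''] at h'
    calc y * g * y = e * (e * (y * g * y) * (y * x * y * x)) * (x * y * x * y) := by
          simp only [mul_assoc, cancel hD hta.right, cancel hD hx, cancel hD hyD, sq_one hD hx,
            sq_one hD hyD, mul_one]
      _ = _ := by rw [h']; simp only [mul_assoc, cancel hD hta.right]
  have hB : Commute g (x * y * x * y) := by
    have h' : e * g * (x * y * x * y) = e * (y * x * y * x) * (y * g * y) := by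
      rw [← hre, ← hf1, hf2]
    rw [hA, mul_assoc e g, mul_assoc e] at h'
    have h'' := mul_left_cancel h'
    have h3 : g * (x * y * x * y) = (y * x * y * x) * g * (x * y * x * y) * (x * y * x * y) := by
      rw [h'']; simp only [mul_assoc]
    have h4 : g = (y * x * y * x) * g * (x * y * x * y) :=
      mul_right_cancel h3
    calc g * (x * y * x * y) = g * (x * y * x * y) := rfl
      _ = (x * y * x * y) * ((y * x * y * x) * g * (x * y * x * y)) := by
          simp only [mul_assoc, cancel hD hx, cancel hD hyD]
      _ = _ := by rw [← h4]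
  have h8 : (x * y) ^ 8 = 1 := by
    have h' : y * g * y * (y * g * y) = 1 := by
      simp only [mul_assoc, cancel hD hyD, cancel hD hte.right, sq_one hD hyD]
    rw [hA] at h'
    have hc : Commute (g * (x * y * x * y)) (x * y * x * y) := hB.mul_left (Commute.refl _)
    have h2 : ((g * (x * y * x * y)) * (x * y * x * y)) ^ 2 = 1 := by rw [pow_two, h']
    rw [hc.mul_pow, hB.mul_pow, pow_two g, sq_one hD hte.right, one_mul, ← pow_add] at h2
    rw [show x * y * x * y = (x * y) ^ 2 by rw [pow_two, ← mul_assoc], ← pow_mul] at h2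
    exact h2
  have hcop : Nat.Coprime (orderOf (x * y)) 8 := by
    have h2 : Nat.Coprime (orderOf (x * y)) 2 := Nat.coprime_two_right.mpr hy.2.2.2
    simpa using (h2.mul_right h2).mul_right h2
  have h1 := Nat.eq_one_of_dvd_coprimes hcop dvd_rfl (orderOf_dvd_of_pow_eq_one h8)
  rw [orderOf_eq_one_iff] at h1
  exact hy.2.2.1 (by rw [← mul_one x, ← sq_one hD hyD, ← mul_assoc, h1, one_mul])

/-- A member adjacent to neither `a` nor `a * x` of a triple is not adjacent to `x`. -/
theorem not_adj (hD : IsRootInvolutionSet D) {a x y : G} (h : Tri D a x)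
    (h1 : ¬ OddAdj D a y) (h2 : ¬ OddAdj D (a * x) y) : ¬ OddAdj D x y :=
  fun hy => (adj_or hD h hy).elim h1 h2

/-- Two non-isolated members of a triple lie in the same component. -/
theorem reach_of_tri (hD : IsRootInvolutionSet D) {a x d d' : G} (h : Tri D a x)
    (hd : OddAdj D a d) (hd' : OddAdj D x d') : Relation.ReflTransGen (OddAdj D) a x := by
  rcases adj_or hD h.symm hd with hx | hx
  · exact (Relation.ReflTransGen.single hd).tail (oddAdj_symm hD hx)
  · rw [← h.comm.eq] at hx
    rcases adj_or hD h hd' with ha | ha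
    · exact (Relation.ReflTransGen.single ha).tail (oddAdj_symm hD hd')
    · exact (((Relation.ReflTransGen.single hd).tail (oddAdj_symm hD hx)).tail ha).tail
        (oddAdj_symm hD hd')

theorem reach_symm (hD : IsRootInvolutionSet D) {a b : G}
    (h : Relation.ReflTransGen (OddAdj D) a b) : Relation.ReflTransGen (OddAdj D) b a := by
  induction h with
  | refl => rfl
  | tail _ h2 ih => exact ih.head (oddAdj_symm hD h2)

end CfsgLib.Perm.RootInvolution
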