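import Mathlib
import Cfsg.Agent.Lib.Perm.RootInvolution

/-!
# Writing a member of a triple as a commutator

If `a`, `b` are in a triple and `z` is adjacent to `a` but not to `b`, then `b` is the square of
`a * c` for a member `c` centralising `z`. The proof follows the orbit of `(b z)²` under the
dihedral group of `a` and `z`, an elementary abelian 2-group containing `b`.
-/

set_option autoImplicit false

namespace CfsgLib.Perm.RootInvolution

open Cfsg

variable {G : Type*} [Group G] {D : Set G}

/-- `a` at even and `z` at odd places. -/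
def alt (a z : G) (n : ℕ) : G := if Even n then a else z

/-- Iterated commutators of `k` with `a` and `z` in turn. -/
def chain (a z k : G) : ℕ → G
  | 0 => k
  | n + 1 => chain a z k n * (alt a z n * chain a z k n * alt a z n)

theorem alt_add (a z : G) (i : ℕ) {m : ℕ} (hm : Even m) : alt a z (i + m) = alt a z i := by
  simp [alt, Nat.even_add, hm]

theorem alt_two_mul (a z : G) (i : ℕ) : alt a z (2 * i) = a := by
  simp [alt, even_two_mul]

theorem alt_two_mul_add (a z : G) (i : ℕ) : alt a z (2 * i + 1) = z := by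
  simp [alt, Nat.even_add_one, even_two_mul]

variable {a z k : G}

theorem alt_mem (ha : a ∈ D) (hz : z ∈ D) (n : ℕ) : alt a z n ∈ D := by
  unfold alt; split_ifs
  exacts [ha, hz]

variable (hD : IsRootInvolutionSet D) (ha : a ∈ D) (hz : z ∈ D) (hk : k ∈ D) (hzk : Commute z k)
  (hak : ¬ OddAdj D a k)

include hD ha hz hk hzk hak

theorem chain_spec (n : ℕ) : chain a z k n = 1 ∨ (chain a z k n ∈ D ∧
    Commute (alt a z (n + 1)) (chain a z k n) ∧ ¬ OddAdj D (alt a z n) (chain a z k n)) := by
  induction n with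
  | zero => exact Or.inr ⟨hk, by simpa [alt, chain] using hzk, by simpa [alt, chain] using hak⟩
  | succ n ih =>
    have hg := alt_mem (D := D) ha hz n
    simp only [chain]
    rcases ih with h1 | ⟨hs, hc, hn⟩
    · left; rw [h1]; simp [sq_one hD hg]
    · by_cases hgs : Commute (alt a z n) (chain a z k n)
      · left; rw [conj_eq_of_commute hD hg hgs, sq_one hD hs]
      · obtain ⟨hts, htg⟩ := tri_bracket hD hs hg (fun e => hn (oddAdj_symm hD e))
          (fun e => hgs e.symm)
        have he : chain a z k n * (alt a z n * chain a z k n * alt a z n) =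
            chain a z k n * alt a z n * chain a z k n * alt a z n := by simp only [mul_assoc]
        rw [he]
        refine Or.inr ⟨hts.right, ?_, fun e => ?_⟩
        · rw [show n + 1 + 1 = n + 2 by rfl, alt_add a z n (by decide : Even 2)]
          exact htg.comm
        · exact not_commute_of_adj hD hts (oddAdj_symm hD e) hc.symm

theorem chain_sq (n : ℕ) : chain a z k n * chain a z k n = 1 := by
  rcases chain_spec hD ha hz hk hzk hak n with h | ⟨h, -, -⟩
  · rw [h, mul_one]
  · exact sq_one hD h

theorem alt_fix (n : ℕ) : Commute (alt a z (n + 1)) (chain a z k n) := by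
  rcases chain_spec hD ha hz hk hzk hak n with h | ⟨-, h, -⟩
  · rw [h]; exact Commute.one_right _
  · exact h

theorem alt_conj (n : ℕ) :
    alt a z n * chain a z k n * alt a z n = chain a z k n * chain a z k (n + 1) := by
  rw [chain, ← mul_assoc (chain a z k n) (chain a z k n), chain_sq hD ha hz hk hzk hak, one_mul]

theorem chain_commute_succ (n : ℕ) : Commute (chain a z k n) (chain a z k (n + 1)) := by
  have hg := alt_mem (D := D) ha hz n
  rcases chain_spec hD ha hz hk hzk hak n with h | ⟨hs, -, hn⟩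
  · rw [h]; exact Commute.one_left _
  · simp only [chain]
    by_cases hgs : Commute (alt a z n) (chain a z k n)
    · rw [conj_eq_of_commute hD hg hgs, sq_one hD hs]; exact Commute.one_right _
    · have h := (tri_bracket hD hs hg (fun e => hn (oddAdj_symm hD e)) (fun e => hgs e.symm)).1.comm
      have he : chain a z k n * (alt a z n * chain a z k n * alt a z n) =
          chain a z k n * alt a z n * chain a z k n * alt a z n := by simp only [mul_assoc]
      rwa [he]

theorem chain_commute : ∀ d i : ℕ, Commute (chain a z k i) (chain a z k (i + d)) := by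
  intro d
  induction d using Nat.strong_induction_on with
  | _ d ih =>
    intro i
    match d with
    | 0 => exact Commute.refl _
    | 1 => exact chain_commute_succ hD ha hz hk hzk hak i
    | d + 2 =>
      rw [show i + (d + 2) = i + (d + 1) + 1 by omega]
      have hij := ih (d + 1) (by omega) i
      have hg := alt_mem (D := D) ha hz (i + (d + 1))
      have hconj := hij.conj (alt a z (i + (d + 1)))
      rw [inv_eq hD hg, alt_conj hD ha hz hk hzk hak] at hconj
      have key : Commute (chain a z k i)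
          (chain a z k (i + (d + 1)) * chain a z k (i + (d + 1) + 1)) := by
        rcases Nat.even_or_odd (d + 1) with he | ho
        · rw [alt_add a z i he, alt_conj hD ha hz hk hzk hak] at hconj
          have h1 : Commute (chain a z k (i + 1))
              (chain a z k (i + (d + 1)) * chain a z k (i + (d + 1) + 1)) := by
            refine Commute.mul_right ?_ ?_
            · have := ih d (by omega) (i + 1)
              rwa [show i + 1 + d = i + (d + 1) by omega] at this
            · have := ih (d + 1) (by omega) (i + 1)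
              rwa [show i + 1 + (d + 1) = i + (d + 1) + 1 by omega] at this
          have h2 := hconj.mul_left h1
          rwa [mul_assoc, chain_sq hD ha hz hk hzk hak, mul_one] at h2
        · have he : Even d := by
            obtain ⟨j, hj⟩ := ho; exact ⟨j, by omega⟩
          have halt : alt a z (i + (d + 1)) = alt a z (i + 1) := by
            rw [show i + (d + 1) = i + 1 + d by omega, alt_add a z (i + 1) he]
          rwa [halt, conj_eq_of_commute hD (alt_mem (D := D) ha hz _)
            (alt_fix hD ha hz hk hzk hak i)] at hconj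
      have := hij.mul_right key
      rwa [← mul_assoc, chain_sq hD ha hz hk hzk hak, one_mul] at this

theorem chain_commute' (i j : ℕ) : Commute (chain a z k i) (chain a z k j) := by
  rcases le_total i j with h | h
  · obtain ⟨d, rfl⟩ := Nat.exists_eq_add_of_le h
    exact chain_commute hD ha hz hk hzk hak d i
  · obtain ⟨d, rfl⟩ := Nat.exists_eq_add_of_le h
    exact (chain_commute hD ha hz hk hzk hak d j).symm

omit hD ha hz hk hzk hak in
/-- A member of a triple is the square of the product of its partner with some member centralising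
a given neighbour of that partner. -/
theorem exists_comm [Finite G] (hD : IsRootInvolutionSet D) {a b z : G} (hab : Tri D a b)
    (hz : OddAdj D a z) (hzb : ¬ OddAdj D b z) :
    ∃ c ∈ D, Commute z c ∧ ¬ OddAdj D a c ∧ orderOf (a * c) = 4 ∧ (a * c) ^ 2 = b := by
  have ha := hab.left
  have hb := hab.right
  have hzD := hz.2.1
  have hbz : ¬ Commute b z := not_commute_of_adj hD hab.symm hz
  obtain ⟨htb, htz⟩ := tri_bracket hD hb hzD hzb hbz
  have habz : OddAdj D (a * b) z := by
    rcases adj_or hD hab.symm hz with h | h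
    · exact absurd h hzb
    · rwa [hab.comm.eq]
  have hak : ¬ OddAdj D a (b * z * b * z) := fun e =>
    not_commute_of_adj hD hab.symm e htb.comm
  have hbzb : b * z * b = b * z * b * z * z := by rw [mul_assoc _ z z, sq_one hD hzD, mul_one]
  have hk0 : b * (z * b * z) = b * z * b * z := by simp only [mul_assoc]
  generalize b * z * b * z = k at htb htz hak hbzb hk0
  have hk := htb.right
  set s := chain a z k with hs
  let B : Subgroup G := Subgroup.closure (Set.range s)
  have hsB : ∀ n, s n ∈ B := fun n => Subgroup.subset_closure ⟨n, rfl⟩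
  have hgen : ∀ x ∈ B, ∀ n, Commute x (s n) := by
    intro x hx n
    induction hx using Subgroup.closure_induction with
    | mem y hy =>
      obtain ⟨m, rfl⟩ := hy
      exact chain_commute' hD ha hzD hk htz.comm hak m n
    | one => exact Commute.one_left _
    | mul u v _ _ hu hv => exact hu.mul_left hv
    | inv u _ hu => exact hu.inv_left
  have hcB : ∀ x ∈ B, ∀ y ∈ B, Commute x y := by
    intro x hx y hy
    induction hy using Subgroup.closure_induction with
    | mem w hw => obtain ⟨m, rfl⟩ := hw; exact hgen x hx m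
    | one => exact Commute.one_right _
    | mul u v _ _ hu hv => exact hu.mul_right hv
    | inv u _ hu => exact hu.inv_right
  have hsq : ∀ x ∈ B, x * x = 1 := by
    intro x hx
    induction hx using Subgroup.closure_induction with
    | mem w hw => obtain ⟨m, rfl⟩ := hw; exact chain_sq hD ha hzD hk htz.comm hak m
    | one => exact mul_one 1
    | mul u v hu' hv' hu hv =>
      rw [(hcB v hv' u hu').mul_mul_mul_comm, hu, hv, mul_one]
    | inv u _ hu => rw [← mul_inv_rev, hu, inv_one]
  have hinv : ∀ x ∈ B, x⁻¹ = x := fun x hx => inv_eq_of_mul_eq_one_right (hsq x hx)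
  have hmapmul : ∀ g ∈ D, ∀ u v : G, g * (u * v) * g = (g * u * g) * (g * v * g) := by
    intro g hg u v; simp only [mul_assoc, cancel hD hg]
  have hfixE : ∀ i, z * s (2 * i) * z = s (2 * i) := by
    intro i
    refine conj_eq_of_commute hD hzD ?_
    have h := alt_fix hD ha hzD hk htz.comm hak (2 * i)
    rwa [alt_two_mul_add] at h
  have hfixO : ∀ i, a * s (2 * i + 1) * a = s (2 * i + 1) := by
    intro i
    refine conj_eq_of_commute hD ha ?_
    have h := alt_fix hD ha hzD hk htz.comm hak (2 * i + 1)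
    rwa [show 2 * i + 1 + 1 = 2 * i + 2 by rfl, alt_add a z _ (by decide : Even 2),
      alt_two_mul] at h
  have hmoveE : ∀ i, a * s (2 * i) * a = s (2 * i) * s (2 * i + 1) := by
    intro i
    have h := alt_conj hD ha hzD hk htz.comm hak (2 * i)
    rwa [alt_two_mul] at h
  have hmoveO : ∀ i, z * s (2 * i + 1) * z = s (2 * i + 1) * s (2 * i + 2) := by
    intro i
    have h := alt_conj hD ha hzD hk htz.comm hak (2 * i + 1)
    rwa [alt_two_mul_add] at h
  have hstab : ∀ g ∈ D, (∀ n, g * s n * g ∈ B) → ∀ x ∈ B, g * x * g ∈ B := by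
    intro g hg h x hx
    induction hx using Subgroup.closure_induction with
    | mem w hw => obtain ⟨m, rfl⟩ := hw; exact h m
    | one => simp [sq_one hD hg]
    | mul u v _ _ hu hv => rw [hmapmul g hg]; exact mul_mem hu hv
    | inv u _ hu =>
      have : g * u⁻¹ * g = (g * u * g)⁻¹ := by simp [mul_inv_rev, inv_eq hD hg, mul_assoc]
      rw [this]; exact inv_mem hu
  have haB : ∀ x ∈ B, a * x * a ∈ B := hstab a ha fun n => by
    rcases Nat.even_or_odd' n with ⟨i, rfl | rfl⟩
    · rw [hmoveE]; exact mul_mem (hsB _) (hsB _)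
    · rw [hfixO]; exact hsB _
  have hzB : ∀ x ∈ B, z * x * z ∈ B := hstab z hzD fun n => by
    rcases Nat.even_or_odd' n with ⟨i, rfl | rfl⟩
    · rw [hfixE]; exact hsB _
    · rw [hmoveO]; exact mul_mem (hsB _) (hsB _)
  have hkB : k ∈ B := hsB 0
  have hbs : ∀ n, Commute b (s n) := by
    intro n
    induction n with
    | zero => exact htb.comm
    | succ n ih =>
      have hrec : s (n + 1) = s n * (alt a z n * s n * alt a z n) := rfl
      rw [hrec]
      refine ih.mul_right ?_
      by_cases he : Even n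
      · simp only [alt, if_pos he]
        exact (hab.comm.symm.mul_right ih).mul_right hab.comm.symm
      · simp only [alt, if_neg he]
        apply commute_of_conj_eq hD hb
        have hzsz := hzB _ (hsB n)
        calc b * (z * s n * z) * b = (b * z * b) * (b * s n * b) * (b * z * b) := by
              simp only [mul_assoc, cancel hD hb]
          _ = k * (z * s n * z) * k := by
              rw [hbzb, conj_eq_of_commute hD hb ih]
              nth_rewrite 2 [← htz.comm.eq]
              simp only [mul_assoc]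
          _ = _ := by rw [(hcB _ hkB _ hzsz).eq, mul_assoc, hsq _ hkB, mul_one]
  have hbB : ∀ x ∈ B, Commute b x := by
    intro x hx
    induction hx using Subgroup.closure_induction with
    | mem w hw => obtain ⟨m, rfl⟩ := hw; exact hbs m
    | one => exact Commute.one_right _
    | mul u v _ _ hu hv => exact hu.mul_right hv
    | inv u _ hu => exact hu.inv_right
  -- `b` lies in `B`
  have hnorm : ∀ g ∈ D, (∀ x ∈ B, g * x * g ∈ B) → g ∈ Subgroup.normalizer (B : Set G) := by
    intro g hg h
    rw [Subgroup.mem_normalizer_iff]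
    intro x
    rw [inv_eq hD hg]
    exact ⟨h x, fun hx => conj_conj hD hg x ▸ h _ hx⟩
  have haN := hnorm a ha haB
  have hzN := hnorm z hzD hzB
  have hbN := hnorm b hb fun x hx => by rwa [conj_eq_of_commute hD hb (hbB x hx)]
  have hb_mem : b ∈ B := by
    let N := Subgroup.normalizer (B : Set G)
    haveI : (B.subgroupOf N).Normal := Subgroup.normal_in_normalizer
    let q := QuotientGroup.mk' (B.subgroupOf N)
    have hq1 : ∀ x : N, (x : G) ∈ B → q x = 1 := fun x hx =>
      (QuotientGroup.eq_one_iff x).mpr hx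
    set A := q ⟨a, haN⟩ with hA
    set Z := q ⟨z, hzN⟩ with hZ
    set V := q ⟨b, hbN⟩ with hV
    have hAV : Commute V A :=
      (show Commute (⟨b, hbN⟩ : N) ⟨a, haN⟩ from Subtype.ext hab.comm.symm).map q
    have hV2 : V * V = 1 := by
      rw [hV, ← map_mul]; exact hq1 _ (by simpa [sq_one hD hb] using one_mem B)
    have hZ2 : Z * Z = 1 := by
      rw [hZ, ← map_mul]; exact hq1 _ (by simpa [sq_one hD hzD] using one_mem B)
    have hVZ : Commute V Z := by
      have h : V * (Z * V * Z) = 1 := by
        rw [hV, hZ, ← map_mul, ← map_mul, ← map_mul]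
        exact hq1 _ (by simpa [hk0] using hkB)
      have hzvz : Z * V * Z = V := by
        calc Z * V * Z = V * V * (Z * V * Z) := by rw [hV2, one_mul]
          _ = V := by rw [mul_assoc, h, mul_one]
      calc V * Z = Z * V * Z * Z := by rw [hzvz]
        _ = Z * V := by rw [mul_assoc _ Z Z, hZ2, mul_one]
    have h1 : (A * Z) ^ orderOf (a * z) = 1 := by
      rw [hA, hZ, ← map_mul, ← map_pow]
      exact hq1 _ (by simpa [pow_orderOf_eq_one] using one_mem B)
    have h2 : (A * V * Z) ^ orderOf (a * b * z) = 1 := by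
      rw [hA, hV, hZ, ← map_mul, ← map_mul, ← map_pow]
      exact hq1 _ (by simpa [pow_orderOf_eq_one] using one_mem B)
    have h3 : A * V * Z = V * (A * Z) := by rw [← hAV.eq, mul_assoc]
    rw [h3, (hAV.mul_right hVZ).mul_pow] at h2
    obtain ⟨j, hj⟩ := hz.2.2.2.mul habz.2.2.2
    have h4 : V ^ (2 * j + 1) = 1 := by
      have := congrArg (fun t => t ^ orderOf (a * z)) h2
      simp only [one_pow] at this
      have hc : Commute (V ^ orderOf (a * b * z)) ((A * Z) ^ orderOf (a * b * z)) :=
        (hAV.mul_right hVZ).pow_pow _ _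
      rw [hc.mul_pow, ← pow_mul, ← pow_mul, mul_comm (orderOf (a * b * z)), hj] at this
      have h5 : (A * Z) ^ (2 * j + 1) = 1 := by rw [← hj, pow_mul, h1, one_pow]
      rwa [h5, mul_one] at this
    rw [pow_succ, pow_mul, pow_two, hV2, one_pow, one_mul] at h4
    exact (QuotientGroup.eq_one_iff (⟨b, hbN⟩ : N)).mp h4
  -- the two halves of `B`
  let E : Subgroup G := Subgroup.closure (Set.range fun i => s (2 * i))
  let O : Subgroup G := Subgroup.closure (Set.range fun i => s (2 * i + 1))
  have hEB : E ≤ B := (Subgroup.closure_le _).mpr (by rintro _ ⟨i, rfl⟩; exact hsB _)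
  have hOB : O ≤ B := (Subgroup.closure_le _).mpr (by rintro _ ⟨i, rfl⟩; exact hsB _)
  let F : B →* G := MonoidHom.mk' (fun x => (x : G) * (a * (x : G) * a)) fun x y => by
    simp only [Subgroup.coe_mul]
    rw [hmapmul a ha, (hcB _ y.2 _ (haB _ x.2)).mul_mul_mul_comm]
  let Z : B →* G := MonoidHom.mk' (fun x => (x : G) * (z * (x : G) * z)) fun x y => by
    simp only [Subgroup.coe_mul]
    rw [hmapmul z hzD, (hcB _ y.2 _ (hzB _ x.2)).mul_mul_mul_comm]
  have hF : ∀ (x : G) (hx : x ∈ B), F ⟨x, hx⟩ = x * (a * x * a) := fun _ _ => rfl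
  have hZ : ∀ (x : G) (hx : x ∈ B), Z ⟨x, hx⟩ = x * (z * x * z) := fun _ _ => rfl
  have hFE : ∀ (x : G) (hx : x ∈ E), F ⟨x, hEB hx⟩ ∈ O := by
    intro x hx
    induction hx using Subgroup.closure_induction with
    | mem w hw =>
      obtain ⟨i, rfl⟩ := hw
      rw [hF, hmoveE, ← mul_assoc, hsq _ (hsB _), one_mul]
      exact Subgroup.subset_closure ⟨i, rfl⟩
    | one => exact (map_one F).symm ▸ one_mem O
    | mul u v hu' hv' hu hv =>
      exact (map_mul F ⟨u, hEB hu'⟩ ⟨v, hEB hv'⟩).symm ▸ mul_mem hu hv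
    | inv u hu' hu => exact (map_inv F ⟨u, hEB hu'⟩).symm ▸ inv_mem hu
  have hFO : ∀ (x : G) (hx : x ∈ O), F ⟨x, hOB hx⟩ = 1 := by
    intro x hx
    induction hx using Subgroup.closure_induction with
    | mem w hw => obtain ⟨i, rfl⟩ := hw; rw [hF, hfixO]; exact hsq _ (hsB _)
    | one => exact map_one F
    | mul u v hu' hv' hu hv =>
      exact (map_mul F ⟨u, hOB hu'⟩ ⟨v, hOB hv'⟩).trans (by rw [hu, hv, mul_one])
    | inv u hu' hu => exact (map_inv F ⟨u, hOB hu'⟩).trans (by rw [hu, inv_one])
  have hZO : ∀ (x : G) (hx : x ∈ O), Z ⟨x, hOB hx⟩ ∈ E := by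
    intro x hx
    induction hx using Subgroup.closure_induction with
    | mem w hw =>
      obtain ⟨i, rfl⟩ := hw
      rw [hZ, hmoveO, ← mul_assoc, hsq _ (hsB _), one_mul]
      exact Subgroup.subset_closure ⟨i + 1, rfl⟩
    | one => exact (map_one Z).symm ▸ one_mem E
    | mul u v hu' hv' hu hv =>
      exact (map_mul Z ⟨u, hOB hu'⟩ ⟨v, hOB hv'⟩).symm ▸ mul_mem hu hv
    | inv u hu' hu => exact (map_inv Z ⟨u, hOB hu'⟩).symm ▸ inv_mem hu
  have hZE : ∀ (x : G) (hx : x ∈ E), Z ⟨x, hEB hx⟩ = 1 := by
    intro x hx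
    induction hx using Subgroup.closure_induction with
    | mem w hw => obtain ⟨i, rfl⟩ := hw; rw [hZ, hfixE]; exact hsq _ (hsB _)
    | one => exact map_one Z
    | mul u v hu' hv' hu hv =>
      exact (map_mul Z ⟨u, hEB hu'⟩ ⟨v, hEB hv'⟩).trans (by rw [hu, hv, mul_one])
    | inv u hu' hu => exact (map_inv Z ⟨u, hEB hu'⟩).trans (by rw [hu, inv_one])
  have hsurjF : ∀ (x : G) (_ : x ∈ O), ∃ (e : G) (he : e ∈ E), F ⟨e, hEB he⟩ = x := by
    intro x hx
    induction hx using Subgroup.closure_induction with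
    | mem w hw =>
      obtain ⟨i, rfl⟩ := hw
      exact ⟨s (2 * i), Subgroup.subset_closure ⟨i, rfl⟩, by
        rw [hF, hmoveE, ← mul_assoc, hsq _ (hsB _), one_mul]⟩
    | one => exact ⟨1, one_mem E, map_one F⟩
    | mul u v _ _ hu hv =>
      obtain ⟨e, he, he'⟩ := hu
      obtain ⟨e', he1, he2⟩ := hv
      exact ⟨e * e', mul_mem he he1, he' ▸ he2 ▸ map_mul F ⟨e, hEB he⟩ ⟨e', hEB he1⟩⟩
    | inv u _ hu =>
      obtain ⟨e, he, he'⟩ := hu
      exact ⟨e⁻¹, inv_mem he, he' ▸ map_inv F ⟨e, hEB he⟩⟩
  let T : E →* E := MonoidHom.mk'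
    (fun x => ⟨Z ⟨F ⟨x, hEB x.2⟩, hOB (hFE _ x.2)⟩, hZO _ (hFE _ x.2)⟩) fun x y => by
      apply Subtype.ext
      simp only [Subgroup.coe_mul]
      rw [← map_mul Z]
      congr 1
      exact Subtype.ext (map_mul F ⟨x, hEB x.2⟩ ⟨y, hEB y.2⟩)
  have hTs : ∀ (i : ℕ) (h : s (2 * i) ∈ E), (T ⟨s (2 * i), h⟩ : G) = s (2 * (i + 1)) := by
    intro i h
    show Z ⟨F ⟨s (2 * i), _⟩, _⟩ = _
    simp only [hF, hmoveE, ← mul_assoc, hsq _ (hsB _), one_mul, hZ, hmoveO]
    rfl
  have hdec : ∀ x ∈ B, ∃ w ∈ E, ∃ o ∈ O, w * o = x := by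
    intro x hx
    induction hx using Subgroup.closure_induction with
    | mem x hx =>
      obtain ⟨n, rfl⟩ := hx
      rcases Nat.even_or_odd' n with ⟨i, rfl | rfl⟩
      · exact ⟨_, Subgroup.subset_closure ⟨i, rfl⟩, 1, one_mem O, mul_one _⟩
      · exact ⟨1, one_mem E, _, Subgroup.subset_closure ⟨i, rfl⟩, one_mul _⟩
    | one => exact ⟨1, one_mem E, 1, one_mem O, one_mul _⟩
    | mul u v _ _ hu hv =>
      obtain ⟨w, hw, o, ho, rfl⟩ := hu
      obtain ⟨w', hw', o', ho', rfl⟩ := hv
      exact ⟨w * w', mul_mem hw hw', o * o', mul_mem ho ho',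
        ((hcB _ (hOB ho) _ (hEB hw')).mul_mul_mul_comm _ _).symm⟩
    | inv u _ hu =>
      obtain ⟨w, hw, o, ho, rfl⟩ := hu
      refine ⟨w, hw, o, ho, ?_⟩
      rw [mul_inv_rev, hinv _ (hOB ho), hinv _ (hEB hw), (hcB _ (hOB ho) _ (hEB hw)).eq]
  obtain ⟨w, hw, o, ho, hwo⟩ := hdec b hb_mem
  have hZb : Z ⟨b, hb_mem⟩ = k := hk0
  have hbwo : (⟨b, hb_mem⟩ : B) = ⟨w, hEB hw⟩ * ⟨o, hOB ho⟩ := Subtype.ext hwo.symm
  have hT : Function.Injective T := by
    rw [Finite.injective_iff_surjective]
    refine MonoidHom.range_eq_top.mp (eq_top_iff.mpr ?_)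
    rintro ⟨x, hx⟩ -
    suffices h : x ∈ T.range.map E.subtype by
      obtain ⟨y, hy, rfl⟩ := h
      exact hy
    refine (Subgroup.closure_le _).mpr ?_ hx
    rintro _ ⟨i, rfl⟩
    match i with
    | 0 =>
      obtain ⟨e, he, heo⟩ := hsurjF o ho
      refine ⟨T ⟨e, he⟩, ⟨_, rfl⟩, ?_⟩
      show Z ⟨F ⟨e, _⟩, _⟩ = k
      simp only [heo]
      rw [← hZb, hbwo, map_mul, hZE w hw, one_mul]
    | i + 1 =>
      exact ⟨T ⟨s (2 * i), Subgroup.subset_closure ⟨i, rfl⟩⟩, ⟨_, rfl⟩, hTs i _⟩
  have hTker : ∀ (e : G) (he : e ∈ E), Z ⟨F ⟨e, hEB he⟩, hOB (hFE _ he)⟩ = 1 → e = 1 := by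
    intro e he h
    have : T ⟨e, he⟩ = T 1 := by rw [map_one]; exact Subtype.ext h
    exact congrArg Subtype.val (hT this)
  have hbo : b = o := by
    have h1 : F ⟨w, hEB hw⟩ = 1 := by
      have h : F ⟨b, hb_mem⟩ = 1 := by
        rw [hF, conj_eq_of_commute hD ha hab.comm, sq_one hD hb]
      rwa [hbwo, map_mul, hFO o ho, mul_one] at h
    have : w = 1 := hTker w hw (by simp only [h1]; exact map_one Z)
    rw [← hwo, this, one_mul]
  -- the orbit of `k` under `T` is periodic
  let σ : Equiv.Perm E := Equiv.ofBijective T ⟨hT, Finite.injective_iff_surjective.mp hT⟩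
  have hiter : ∀ i, (((σ ^ i) ⟨s (2 * 0), Subgroup.subset_closure ⟨0, rfl⟩⟩ : E) : G) = s (2 * i) := by
    intro i
    induction i with
    | zero => rfl
    | succ i ih =>
      rw [pow_succ', Equiv.Perm.mul_apply]
      have : (σ ^ i) ⟨s (2 * 0), Subgroup.subset_closure ⟨0, rfl⟩⟩ =
          ⟨s (2 * i), Subgroup.subset_closure ⟨i, rfl⟩⟩ := Subtype.ext ih
      rw [this]
      exact hTs i _
  obtain ⟨j, hj⟩ : ∃ j, s (2 * (j + 1)) = k := by
    obtain ⟨j, hj⟩ := Nat.exists_eq_add_of_le (orderOf_pos σ : 1 ≤ orderOf σ)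
    refine ⟨j, ?_⟩
    rw [← hiter, add_comm j 1, ← hj, pow_orderOf_eq_one]
    rfl
  have hbs' : b = s (2 * j + 1) := by
    have hsO : s (2 * j + 1) ∈ O := Subgroup.subset_closure ⟨j, rfl⟩
    have hbO : b ∈ O := hbo ▸ ho
    obtain ⟨e, he, hee⟩ := hsurjF _ (mul_mem hbO hsO)
    have hZs : Z ⟨s (2 * j + 1), hsB _⟩ = k := by
      rw [hZ, hmoveO, ← mul_assoc, hsq _ (hsB _), one_mul, ← hj]
      rfl
    have he1 : e = 1 := by
      refine hTker e he ?_
      simp only [hee]
      have := map_mul Z ⟨b, hb_mem⟩ ⟨s (2 * j + 1), hsB _⟩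
      rw [hZb, hZs, hsq k hkB] at this
      exact this
    subst he1
    have h1 : b * s (2 * j + 1) = 1 := hee.symm.trans (map_one F)
    rw [eq_inv_of_mul_eq_one_left h1, hinv _ (hsB _)]
  rcases chain_spec hD ha hzD hk htz.comm hak (2 * j) with h1 | ⟨hcD, hzc, hac⟩
  · exfalso
    apply ne_one hD hb
    have : s (2 * j + 1) = 1 := by
      show chain a z k (2 * j + 1) = 1
      rw [chain, h1, alt_two_mul, mul_one, sq_one hD ha, mul_one]
    rw [hbs', this]
  · rw [alt_two_mul_add] at hzc
    rw [alt_two_mul] at hac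
    have hsq' : (a * s (2 * j)) ^ 2 = b := by
      have h1 : s (2 * j) * (a * s (2 * j) * a) = b := by
        rw [hbs', hmoveE, ← mul_assoc, hsq _ (hsB _), one_mul]
      rw [← inv_eq hD hb, ← h1, pow_two]
      simp [mul_inv_rev, inv_eq hD hcD, inv_eq hD ha, mul_assoc, hs]
    refine ⟨s (2 * j), hcD, hzc, hac, ?_, hsq'⟩
    apply orderOf_eq_prime_pow (p := 2) (n := 1)
    · rw [pow_one, hsq']; exact ne_one hD hb
    · rw [show 2 ^ (1 + 1) = 2 * 2 by norm_num, pow_mul, hsq', pow_two, sq_one hD hb]

end CfsgLib.Perm.RootInvolution
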