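import Mathlib
import Cfsg.Agent.Lib.Perm.RootInvolutionChain
import Cfsg.Agent.Lib.Involution.BaerSuzuki
import Cfsg.Agent.Lib.Solvable.Cores

/-!
# Members with equal neighbourhoods

In a connected set of root involutions of a finite group two members have the same neighbours in
the odd-product graph iff they commute with the same members.
-/

set_option autoImplicit false

namespace CfsgLib.Perm.RootInvolution

open Cfsg

variable {G : Type*} [Group G] {D : Set G}

theorem mem_oddPartners (hD : IsRootInvolutionSet D) {a y : G} (ha : a ∈ D) :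
    y ∈ oddPartners D a ↔ OddAdj D a y :=
  ⟨fun h => ⟨ha, h.1, h.2.1.symm, h.2.2⟩, fun h => ⟨h.2.1, h.2.2.1.symm, h.2.2.2⟩⟩

theorem oddAdj_iff_of_eq (hD : IsRootInvolutionSet D) {a b y : G} (ha : a ∈ D) (hb : b ∈ D)
    (h : oddPartners D a = oddPartners D b) : OddAdj D a y ↔ OddAdj D b y := by
  rw [← mem_oddPartners hD ha, h, mem_oddPartners hD hb]

theorem oddPartners_conj (hD : IsRootInvolutionSet D) (g a : G) :
    oddPartners D (g * a * g⁻¹) = (fun y => g * y * g⁻¹) '' oddPartners D a := by
  ext y
  constructor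
  · rintro ⟨hy, hne, hodd⟩
    refine ⟨g⁻¹ * y * g, ⟨?_, ?_, ?_⟩, by group⟩
    · simpa using hD.conj_mem y hy g⁻¹
    · intro e; apply hne; rw [← e]; group
    · rw [show g * a * g⁻¹ * y = g * (a * (g⁻¹ * y * g)) * g⁻¹ by group, ← MulAut.conj_apply,
        MulEquiv.orderOf_eq] at hodd
      exact hodd
  · rintro ⟨x, ⟨hx, hne, hodd⟩, rfl⟩
    refine ⟨hD.conj_mem x hx g, fun e => hne (by simpa using e), ?_⟩
    show Odd (orderOf (g * a * g⁻¹ * (g * x * g⁻¹)))
    rw [show g * a * g⁻¹ * (g * x * g⁻¹) = g * (a * x) * g⁻¹ by group, ← MulAut.conj_apply,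
      MulEquiv.orderOf_eq]
    exact hodd

theorem oddPartners_conj_eq (hD : IsRootInvolutionSet D) {a b : G}
    (h : oddPartners D a = oddPartners D b) (g : G) :
    oddPartners D (g * a * g⁻¹) = oddPartners D (g * b * g⁻¹) := by
  rw [oddPartners_conj hD, h, ← oddPartners_conj hD]

theorem exists_conj (hD : IsRootInvolutionSet D) (hc : IsConnectedSet (OddAdj D) D) {a b : G}
    (ha : a ∈ D) (hb : b ∈ D) : ∃ g : G, g * a * g⁻¹ = b := by
  have h := hc a ha b hb
  induction h with
  | refl => exact ⟨1, by simp⟩
  | tail _ h2 ih =>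
    obtain ⟨g, hg⟩ := ih h2.1
    obtain ⟨g', hg'⟩ := conj_of_oddAdj hD h2
    exact ⟨g' * g, by rw [← hg', ← hg]; group⟩

theorem ncard_oddPartners (hD : IsRootInvolutionSet D) (hc : IsConnectedSet (OddAdj D) D)
    {a b : G} (ha : a ∈ D) (hb : b ∈ D) :
    (oddPartners D a).ncard = (oddPartners D b).ncard := by
  obtain ⟨g, rfl⟩ := exists_conj hD hc ha hb
  rw [oddPartners_conj hD, Set.ncard_image_of_injective]
  intro x y h
  simpa using h

variable [Finite G] (hD : IsRootInvolutionSet D) (hc : IsConnectedSet (OddAdj D) D)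

include hD hc

/-- If two members of a triple have the same neighbours, so does the third. -/
theorem oddPartners_third {a x : G} (h : Tri D a x)
    (he : oddPartners D (a * x) = oddPartners D a) : oddPartners D x = oddPartners D a := by
  refine Set.eq_of_subset_of_ncard_le (fun y hy => ?_) (ncard_oddPartners hD hc h.left h.right).le
    (Set.toFinite _)
  rw [mem_oddPartners hD h.right] at hy
  rw [mem_oddPartners hD h.left]
  rcases adj_or hD h hy with h' | h'
  · exact h'
  · exact (oddAdj_iff_of_eq hD h.mem h.left he).mp h'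

theorem commute_of_partners_eq {e x : G} (he : e ∈ D) (hx : x ∈ D)
    (h : oddPartners D e = oddPartners D x) : Commute e x := by
  classical
  haveI : Fact (Nat.Prime 2) := ⟨Nat.prime_two⟩
  let K : Set G := {u | u ∈ D ∧ oddPartners D u = oddPartners D e}
  let L : Subgroup G := Subgroup.closure K
  have hno : ∀ u ∈ K, ∀ w ∈ K, ¬ OddAdj D u w := fun u hu w hw hadj => by
    have h' := (oddAdj_iff_of_eq hD hu.1 hw.1 (hu.2.trans hw.2.symm)).mp hadj
    exact h'.2.2.1 rfl
  have hconj : ∀ u ∈ K, ∀ g ∈ L, g * u * g⁻¹ ∈ K := by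
    intro u hu g hg
    induction hg using Subgroup.closure_induction generalizing u with
    | mem w hw =>
      refine ⟨hD.conj_mem u hu.1 w, ?_⟩
      rw [oddPartners_conj_eq hD (hu.2.trans hw.2.symm) w]
      simp [hw.2]
    | one => simpa using hu
    | mul g g' _ _ hg hg' =>
      have := hg _ (hg' u hu)
      simpa [mul_assoc, mul_inv_rev] using this
    | inv g _ hg =>
      have hcinv : ∀ n : ℕ, g ^ n * u * (g ^ n)⁻¹ ∈ K := by
        intro n
        induction n with
        | zero => simpa using hu
        | succ n ihn =>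
          have := hg _ ihn
          simpa [pow_succ', mul_assoc, mul_inv_rev] using this
      obtain ⟨n, hn⟩ := Nat.exists_eq_add_of_le (orderOf_pos g : 1 ≤ orderOf g)
      have : g⁻¹ = g ^ n := by
        apply inv_eq_of_mul_eq_one_right
        rw [← pow_succ', show n + 1 = orderOf g by omega, pow_orderOf_eq_one]
      rw [this]
      exact hcinv n
  have hKL : ∀ u ∈ K, u ∈ L := fun u hu => Subgroup.subset_closure hu
  have hL2 : IsPGroup 2 L := by
    have htop : (⊤ : Subgroup L) ≤ Cfsg.pCore 2 L := by
      rw [← Subgroup.closure_closure_coe_preimage (k := K), Subgroup.closure_le]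
      rintro ⟨w, hwL⟩ hw
      by_contra hnot
      obtain ⟨g, g1, hodd, hinv⟩ := CfsgLib.Involution.BaerSuzuki.exists_inverted_odd
        (⟨w, hwL⟩ : L) ((Subgroup.orderOf_mk w hwL).trans (hD.orderOf_eq w hw.1))
        fun N hN hNp hwN => hnot ((CfsgLib.Solvable.Cores.le_pCore (hn := hN) hNp) hwN)
      have hwg : w * (g : G) * w = (g : G)⁻¹ := by
        have := congrArg Subtype.val hinv
        simpa [inv_eq hD hw.1] using this
      have hprod : w * ((g : G) * w * (g : G)⁻¹) = (g : G)⁻¹ ^ 2 := by
        calc w * ((g : G) * w * (g : G)⁻¹) = (w * (g : G) * w) * (g : G)⁻¹ := by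
              simp only [mul_assoc]
          _ = _ := by rw [hwg, pow_two]
      have hw' := hconj w hw g g.2
      refine hno w hw _ hw' ⟨hw.1, hw'.1, fun e' => ?_, ?_⟩
      · rw [← e', sq_one hD hw.1] at hprod
        have hdvd : orderOf (g : G)⁻¹ ∣ 2 := orderOf_dvd_of_pow_eq_one hprod.symm
        rw [orderOf_inv, Subgroup.orderOf_coe] at hdvd
        rcases (Nat.dvd_prime Nat.prime_two).mp hdvd with e'' | e''
        · exact g1 (orderOf_eq_one_iff.mp e'')
        · rw [e''] at hodd
          exact (by decide : ¬ Odd 2) hodd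
      · rw [hprod]
        refine Odd.of_dvd_nat hodd ?_
        rw [← Subgroup.orderOf_coe, ← orderOf_inv (g : G)]
        exact orderOf_pow_dvd 2
    intro y
    obtain ⟨i, hi⟩ := CfsgLib.Solvable.Cores.isPGroup_pCore (G := L) 2 ⟨y, htop trivial⟩
    exact ⟨i, congrArg Subtype.val hi⟩
  have hKe : e ∈ K := ⟨he, rfl⟩
  -- a member deepest in the lower central series commutes with all
  obtain ⟨u, hu, huc⟩ : ∃ u ∈ K, ∀ v ∈ K, Commute u v := by
    obtain ⟨n, hn⟩ := (Subgroup.isNilpotent_iff_lowerCentralSeries L).mp hL2.isNilpotent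
    have hex : ∃ m, ∀ u ∈ K, u ∉ L.lowerCentralSeries m :=
      ⟨n, fun u hu hun => ne_one hD hu.1 (by rwa [hn, Subgroup.mem_bot] at hun)⟩
    obtain ⟨m, hm⟩ : ∃ m, Nat.find hex = m + 1 := by
      refine Nat.exists_eq_succ_of_ne_zero fun h0 => ?_
      have := Nat.find_spec hex
      rw [h0] at this
      exact this e hKe (by rw [Subgroup.lowerCentralSeries_zero]; exact hKL e hKe)
    have hlt := Nat.find_min hex (m := m) (by omega)
    push Not at hlt
    obtain ⟨u, hu, hum⟩ := hlt
    refine ⟨u, hu, fun v hv => ?_⟩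
    by_contra huv
    obtain ⟨htu, -⟩ := tri_bracket hD hu.1 hv.1 (hno u hu v hv) huv
    have hmem : u * v * u * v ∈ L.lowerCentralSeries (m + 1) := by
      rw [Subgroup.lowerCentralSeries_succ]
      have := Subgroup.commutator_mem_commutator hum (hKL v hv)
      rwa [commutatorElement_def, inv_eq hD hu.1, inv_eq hD hv.1] at this
    have hthird : u * (u * v * u * v) ∈ K := by
      have := hconj u hu v (hKL v hv)
      rw [inv_eq hD hv.1] at this
      rwa [show u * (u * v * u * v) = v * u * v by simp only [mul_assoc, cancel hD hu.1]]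
    refine (hm ▸ Nat.find_spec hex) _ ⟨htu.right, ?_⟩ hmem
    rw [oddPartners_third hD hc htu (hthird.2.trans hu.2.symm), hu.2]
  obtain ⟨g, hg⟩ := exists_conj hD hc hu.1 he
  have hback : g⁻¹ * x * g ∈ K := by
    have h1 := oddPartners_conj_eq hD h.symm g⁻¹
    rw [inv_inv, ← hg, show g⁻¹ * (g * u * g⁻¹) * g = u by group, hu.2] at h1
    exact ⟨by simpa using hD.conj_mem x hx g⁻¹, h1⟩
  have := (huc _ hback).conj g
  rwa [hg, show g * (g⁻¹ * x * g) * g⁻¹ = x by group] at this

/-- Commutators of a member of a class with members centralising a neighbour of the class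
centralise the class. -/
theorem leak {e a z c : G} (he : e ∈ D) (ha : a ∈ D) (hea : Commute e a)
    (hA : oddPartners D e = oddPartners D a) (hz : OddAdj D a z) (hcD : c ∈ D)
    (hzc : Commute z c) (hac : ¬ OddAdj D a c) (h4 : orderOf (a * c) = 4) :
    Commute e ((a * c) ^ 2) := by
  have hnc : ¬ Commute a c := by
    intro h
    have : orderOf (a * c) ∣ 2 := orderOf_dvd_of_pow_eq_one (by
      rw [h.mul_pow, pow_two, pow_two, sq_one hD ha, sq_one hD hcD, one_mul])
    rw [h4] at this
    exact absurd this (by decide)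
  obtain ⟨hta, htc⟩ := tri_bracket hD ha hcD hac hnc
  rw [pow_two, ← mul_assoc]
  have hcac : c * a * c = a * (a * c * a * c) := by simp only [mul_assoc, cancel hD ha]
  generalize a * c * a * c = b at hta htc hcac
  have hb := hta.right
  have hbne : oddPartners D b ≠ oddPartners D a := fun h =>
    not_commute_of_adj hD htc ((oddAdj_iff_of_eq hD hb ha h).mpr hz) hzc.symm
  have hclaim : ∀ w, oddPartners D w = oddPartners D a →
      oddPartners D (c * w * c⁻¹) ≠ oddPartners D a := by
    intro w hw h
    rw [oddPartners_conj_eq hD hw c, inv_eq hD hcD, hcac] at h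
    exact hbne (oddPartners_third hD hc hta h)
  by_contra hnot
  have heb : ¬ OddAdj D e b := fun h =>
    not_commute hD ((oddAdj_iff_of_eq hD he ha hA).mp h) hta.comm
  obtain ⟨hte, htb⟩ := tri_bracket hD he hb heb hnot
  have hbeb : b * e * b = e * (e * b * e * b) := by simp only [mul_assoc, cancel hD he]
  have hebe : e * b * e = b * (e * b * e * b) := by
    rw [htb.comm.eq, mul_assoc _ b b, sq_one hD hb, mul_one]
  generalize e * b * e * b = m at hte htb hbeb hebe
  have hAm : oddPartners D m = oddPartners D a := by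
    have h1 : oddPartners D (b * e * b⁻¹) = oddPartners D a := by
      have := oddPartners_conj_eq hD hA b
      rw [inv_eq hD hb] at this ⊢
      rwa [conj_eq_of_commute hD hb hta.comm.symm] at this
    rw [inv_eq hD hb, hbeb] at h1
    rw [oddPartners_third hD hc hte (h1.trans hA.symm), hA]
  have hec : ¬ OddAdj D e c := fun h => hac ((oddAdj_iff_of_eq hD he ha hA).mp h)
  have hec' : ¬ Commute e c := by
    intro h
    exact hclaim e hA (by rw [inv_eq hD hcD, conj_eq_of_commute hD hcD h.symm]; exact hA)
  obtain ⟨htee, -⟩ := tri_bracket hD he hcD hec hec'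
  have hinv : (e * c * e * c)⁻¹ = c * e * c * e := by
    simp [mul_inv_rev, inv_eq hD he, inv_eq hD hcD, mul_assoc]
  have hAb : oddPartners D (e * c * e * c * a * (e * c * e * c)⁻¹) = oddPartners D a := by
    rw [← oddPartners_conj_eq hD hA, inv_eq hD htee.right,
      conj_eq_of_commute hD htee.right htee.comm.symm]
    exact hA
  have hinv' : e * c * e * c = c * e * c * e := (inv_eq hD htee.right).symm.trans hinv
  have hcalc : e * c * e * c * a * (e * c * e * c)⁻¹ = a * (c * m * c) := by
    rw [inv_eq hD htee.right]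
    nth_rewrite 1 [hinv']
    calc c * e * c * e * a * (e * c * e * c) = c * e * (c * (e * a * e) * c) * e * c := by
          simp only [mul_assoc]
      _ = c * e * (a * b) * e * c := by rw [conj_eq_of_commute hD he hea, hcac]
      _ = c * ((e * a * e) * (e * b * e)) * c := by simp only [mul_assoc, cancel hD he]
      _ = (c * a * c) * (c * b * c) * (c * m * c) := by
          rw [conj_eq_of_commute hD he hea, hebe]; simp only [mul_assoc, cancel hD hcD]
      _ = a * (c * m * c) := by
          rw [hcac, conj_eq_of_commute hD hcD htc.comm, mul_assoc a b b, sq_one hD hb, mul_one]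
  rw [hcalc] at hAb
  have hcm : c * m * c ∈ D := conj_self_mem hD hcD hte.right
  have hmem : a * (c * m * c) ∈ D := hcalc ▸ hD.conj_mem a ha _
  have hcomm : Commute a (c * m * c) := by
    have h1 := congrArg (fun t => t⁻¹) (inv_eq hD hmem)
    simp only [inv_inv] at h1
    rw [mul_inv_rev, inv_eq hD ha, inv_eq hD hcm] at h1
    exact h1
  have := oddPartners_third hD hc (⟨ha, hcm, hcomm, hmem⟩ : Tri D a (c * m * c)) hAb
  rw [← inv_eq hD hcD] at this
  exact hclaim m hAm (by simpa [inv_eq hD hcD] using this)

/-- Members with the same commuting members have the same neighbours, and conversely. -/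
theorem oddPartners_eq_iff {d e : G} (hd : d ∈ D) (he : e ∈ D) :
    oddPartners D d = oddPartners D e ↔ commutingMembers D d = commutingMembers D e := by
  constructor
  · intro hA
    have key : ∀ d e : G, d ∈ D → e ∈ D → oddPartners D d = oddPartners D e →
        ∀ x ∈ D, Commute x d → Commute x e := by
      intro d e hd he hA x hx hxd
      by_contra hxe
      have hn : ¬ OddAdj D e x := fun h =>
        not_commute hD ((oddAdj_iff_of_eq hD hd he hA).mpr h) hxd.symm
      obtain ⟨hte, htx⟩ := tri_bracket hD he hx hn (fun h => hxe h.symm)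
      have hf : (e * x) * (e * x) = e * x * e * x := (mul_assoc (e * x) e x).symm
      have hxex : x * e * x = e * (e * x * e * x) := by simp only [mul_assoc, cancel hD he]
      have hA1 : oddPartners D (x * e * x⁻¹) = oddPartners D e := by
        rw [← oddPartners_conj_eq hD hA x, inv_eq hD hx, conj_eq_of_commute hD hx hxd, hA]
      rw [inv_eq hD hx, hxex] at hA1
      have hAf := oddPartners_third hD hc hte hA1
      by_cases hsub : oddPartners D e ⊆ oddPartners D x
      · exact hxe (commute_of_partners_eq hD hc he hx (Set.eq_of_subset_of_ncard_le hsub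
          (ncard_oddPartners hD hc hx he).le (Set.toFinite _))).symm
      · obtain ⟨z, hz, hzx⟩ := Set.not_subset.mp hsub
        rw [← hAf, mem_oddPartners hD hte.right] at hz
        rw [mem_oddPartners hD hx] at hzx
        obtain ⟨c, hcD, hzc, hnfc, h4, hsq⟩ := exists_comm hD htx.symm hz hzx
        have := leak hD hc he hte.right hte.comm hAf.symm hz hcD hzc hnfc h4
        rw [hsq] at this
        exact hxe this.symm
    ext x
    exact ⟨fun ⟨hx, h⟩ => ⟨hx, key d e hd he hA x hx h⟩,
      fun ⟨hx, h⟩ => ⟨hx, key e d he hd hA.symm x hx h⟩⟩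
  · intro hC
    have key : ∀ d e : G, d ∈ D → e ∈ D → commutingMembers D d = commutingMembers D e →
        ∀ x, OddAdj D d x → OddAdj D e x := by
      intro d e hd he hC x hadj
      by_contra hn
      have hx := hadj.2.1
      have hcd : ∀ y ∈ D, Commute y d ↔ Commute y e := fun y hy =>
        ⟨fun h => (hC ▸ (⟨hy, h⟩ : y ∈ commutingMembers D d) : y ∈ commutingMembers D e).2,
          fun h => (hC.symm ▸ (⟨hy, h⟩ : y ∈ commutingMembers D e) : y ∈ commutingMembers D d).2⟩
      have hxe : ¬ Commute e x := fun h => not_commute hD hadj ((hcd x hx).mpr h.symm).symm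
      obtain ⟨hte, -⟩ := tri_bracket hD he hx hn hxe
      have hde : Commute d e := (hcd d hd).mp (Commute.refl d)
      have hdf : Commute d (e * x * e * x) := ((hcd _ hte.right).mpr hte.comm.symm).symm
      have hxex : x * e * x = e * (e * x * e * x) := by simp only [mul_assoc, cancel hD he]
      have h1 : Commute d (x * e * x) := by rw [hxex]; exact hde.mul_right hdf
      have h2 : Commute (x * d * x) e := by
        have h := h1.conj x
        rwa [inv_eq hD hx, conj_conj hD hx] at h
      have h3 : Commute (x * d * x) d := (hcd _ (conj_self_mem hD hx hd)).mpr h2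
      have h4 : (d * x) ^ 4 = 1 := by
        calc (d * x) ^ 4 = d * (x * d * x) * (d * (x * d * x)) := by
              simp only [pow_succ, pow_zero, one_mul, mul_assoc]
          _ = 1 := by
              rw [← mul_assoc, mul_assoc d _ d, h3.eq, cancel hD hd]
              exact sq_one hD (conj_self_mem hD hx hd)
      have hcop : Nat.Coprime (orderOf (d * x)) 4 := by
        have h2' : Nat.Coprime (orderOf (d * x)) 2 := Nat.coprime_two_right.mpr hadj.2.2.2
        simpa using h2'.mul_right h2'
      have h1' := Nat.eq_one_of_dvd_coprimes hcop dvd_rfl (orderOf_dvd_of_pow_eq_one h4)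
      rw [orderOf_eq_one_iff] at h1'
      exact hadj.2.2.1 (by rw [← mul_one d, ← sq_one hD hx, ← mul_assoc, h1', one_mul])
    ext x
    rw [mem_oddPartners hD hd, mem_oddPartners hD he]
    exact ⟨key d e hd he hC x, key e d he hd hC.symm x⟩

end CfsgLib.Perm.RootInvolution
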