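import Cfsg.Agent.S5045
import Cfsg.Agent.S5047
import Cfsg.Agent.Lib.Involution.Dihedral

/-!
# The product graph of a non-degenerate class of root involutions

For a non-degenerate class of root involutions whose commuting graph is connected (for every such
class), the graph of commuting pairs with product in the class is connected, every odd pair `d`, `x`
together with the product partners of `d` generates the group, and weak TI-subsets commute.

The key facts: a product partner `e` of `d` is conjugate to `d` in every subgroup containing `x`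
and all product partners of `d`; commuting is transitive on the components of the product graph.
-/

set_option autoImplicit false

namespace CfsgLib.Perm.RootInvolution

open Cfsg

universe u

/-- The commuting graph of every non-degenerate class of root involutions is connected. -/
def CommConnected : Prop :=
  ∀ (G : Type u) [Group G] [Finite G] (D : Set G), IsNondegenerateRootInvolutionSet D →
    IsRootInvolutionClass D → IsConnectedSet (CommAdj D) D

variable {G : Type u} [Group G] {D : Set G}

theorem Tri.partner (hD : IsRootInvolutionSet D) {a x : G} (h : Tri D a x) :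
    x ∈ productPartners D a :=
  ⟨⟨h.right, h.comm.symm, (h.ne hD).symm⟩, h.comm.eq ▸ h.mem⟩

theorem tri_of_partner {a x : G} (ha : a ∈ D) (h : x ∈ productPartners D a) : Tri D a x :=
  ⟨ha, h.1.1, h.1.2.1.symm, h.1.2.1 ▸ h.2⟩

theorem Tri.adj (hD : IsRootInvolutionSet D) {a x : G} (h : Tri D a x) : ProdAdj D a x :=
  ⟨h.left, h.right, h.ne hD, h.comm, h.mem⟩

theorem prodAdj_symm {a b : G} (h : ProdAdj D a b) : ProdAdj D b a :=
  ⟨h.2.1, h.1, h.2.2.1.symm, h.2.2.2.1.symm, h.2.2.2.1 ▸ h.2.2.2.2⟩

theorem prodAdj_conj (hD : IsRootInvolutionSet D) {a b : G} (h : ProdAdj D a b) (g : G) :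
    ProdAdj D (g * a * g⁻¹) (g * b * g⁻¹) :=
  Tri.adj hD ((⟨h.1, h.2.1, h.2.2.2.1, h.2.2.2.2⟩ : Tri D a b).conj hD g)

theorem partner_conj (hD : IsRootInvolutionSet D) {a e : G} (ha : a ∈ D)
    (he : e ∈ productPartners D a) (g : G) :
    g * e * g⁻¹ ∈ productPartners D (g * a * g⁻¹) :=
  ((tri_of_partner ha he).conj hD g).partner hD

theorem reach_symm' {a b : G} (h : Relation.ReflTransGen (ProdAdj D) a b) :
    Relation.ReflTransGen (ProdAdj D) b a := by
  induction h with
  | refl => rfl
  | tail _ h2 ih => exact ih.head (prodAdj_symm h2)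

theorem reach_conj (hD : IsRootInvolutionSet D) {a b : G}
    (h : Relation.ReflTransGen (ProdAdj D) a b) (g : G) :
    Relation.ReflTransGen (ProdAdj D) (g * a * g⁻¹) (g * b * g⁻¹) := by
  induction h with
  | refl => rfl
  | tail _ h2 ih => exact ih.tail (prodAdj_conj hD h2 g)

theorem reach_mem {a b : G} (ha : a ∈ D) (h : Relation.ReflTransGen (ProdAdj D) a b) : b ∈ D := by
  induction h with
  | refl => exact ha
  | tail _ h2 _ => exact h2.2.1

/-- Two members whose product has order four are joined in the product graph. -/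
theorem reach_of_not_oddAdj (hD : IsRootInvolutionSet D) {a b : G} (ha : a ∈ D) (hb : b ∈ D)
    (hn : ¬ OddAdj D a b) (hc : ¬ Commute a b) : Relation.ReflTransGen (ProdAdj D) a b :=
  (Relation.ReflTransGen.single ((tri_bracket hD ha hb hn hc).1.adj hD)).tail
    (prodAdj_symm ((tri_bracket hD ha hb hn hc).2.adj hD))

/-- Members of an odd pair inside a subgroup are conjugate in it. -/
theorem conj_in (hD : IsRootInvolutionSet D) {H : Subgroup G} {a b : G} (h : OddAdj D a b)
    (ha : a ∈ H) (hb : b ∈ H) : ∃ g ∈ H, g * a * g⁻¹ = b := by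
  obtain ⟨g, hg, hgab⟩ := CfsgLib.Involution.Dihedral.exists_conj_of_odd
    (hD.orderOf_eq a h.1) (hD.orderOf_eq b h.2.1) h.2.2.2
  exact ⟨g, Subgroup.zpowers_le.2 (mul_mem ha hb) hg, hgab⟩

/-- A class containing an odd pair is connected in the odd-product graph. -/
theorem oddAdj_connected [Finite G] (hD : IsRootInvolutionSet D) (hcl : IsRootInvolutionClass D)
    (hodd : ∃ a ∈ D, ∃ b ∈ D, a ≠ b ∧ Odd (orderOf (a * b))) :
    IsConnectedSet (OddAdj D) D := by
  obtain ⟨a₀, ha₀, b₀, hb₀, hne₀, ho₀⟩ := hodd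
  have hpart : ∀ a ∈ D, ∃ b, OddAdj D a b := fun a ha => by
    obtain ⟨g, rfl⟩ := hcl.2.2 a₀ ha₀ a ha
    exact ⟨_, oddAdj_conj hD ⟨ha₀, hb₀, hne₀, ho₀⟩ g⟩
  obtain ⟨-, -, -, -, hcm, -⟩ := Cfsg.Agent.S5045.result hD
  have hW : {w | IsIsolatedElem (OddAdj D) D w} = ∅ :=
    Set.eq_empty_iff_forall_notMem.2 fun w hw => by
      obtain ⟨b, hb⟩ := hpart w hw.1
      exact (hw.2 b).1 hb
  rw [hW, Subgroup.closure_empty] at hcm
  have hcomp : ∀ a ∈ D, ∃ a' ∈ elemComponentOf (OddAdj D) D a, a' ≠ a := fun a ha => by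
    obtain ⟨b, hb⟩ := hpart a ha
    exact ⟨b, ⟨hb.2.1, Relation.ReflTransGen.single hb⟩, hb.2.2.1.symm⟩
  have hconjR : ∀ {a b : G}, Relation.ReflTransGen (OddAdj D) a b → ∀ g : G,
      Relation.ReflTransGen (OddAdj D) (g * a * g⁻¹) (g * b * g⁻¹) := fun {a b} h g => by
    induction h with
    | refl => rfl
    | tail _ h2 ih => exact ih.tail (oddAdj_conj hD h2 g)
  intro a ha b hb
  obtain ⟨g, rfl⟩ := hcl.2.2 a ha b hb
  have hg : g ∈ Subgroup.closure D := hD.generates ▸ Subgroup.mem_top g
  induction hg using Subgroup.closure_induction with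
  | mem d hd =>
    by_cases h : Relation.ReflTransGen (OddAdj D) a d
    · have h' := hconjR h d
      rw [inv_eq hD hd, sq_one hD hd, one_mul] at h'
      rw [inv_eq hD hd]
      exact h.trans (reach_symm hD h')
    · have h1 := hcm a ha d hd (hcomp a ha) (hcomp d hd) fun e => h (by
        have hd' : d ∈ elemComponentOf (OddAdj D) D a := e ▸ ⟨hd, .refl⟩
        exact hd'.2)
      rw [Subgroup.mem_bot] at h1
      have hc : Commute d a := by
        show d * a = a * d
        calc d * a = (a * d * a⁻¹ * d⁻¹) * (d * a) := by rw [h1, one_mul]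
          _ = a * d := by group
      rw [hc.eq, mul_inv_cancel_right]
  | one => simp [Relation.ReflTransGen.refl]
  | mul x y _ _ hx hy =>
    rw [show x * y * a * (x * y)⁻¹ = x * (y * a * y⁻¹) * x⁻¹ by group]
    exact (hx (hD.conj_mem a ha x)).trans (hconjR (hy (hD.conj_mem a ha y)) x)
  | inv x _ hx =>
    have h' := hconjR (hx (hD.conj_mem a ha x)) x⁻¹
    rw [show x⁻¹ * (x * a * x⁻¹) * x⁻¹⁻¹ = a by group] at h'
    exact reach_symm hD h'

section

variable [Finite G] (hD : IsRootInvolutionSet D) (hc : IsConnectedSet (OddAdj D) D)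

include hD hc

/-- A product partner of `d` has an odd partner in a subgroup containing an odd partner of `d` and
all product partners of `d`. -/
theorem exists_odd_in {H : Subgroup G} {d x e : G} (hdx : OddAdj D d x) (hdH : d ∈ H) (hxH : x ∈ H)
    (hXH : productPartners D d ⊆ (H : Set G)) (he : e ∈ productPartners D d) :
    ∃ z ∈ H, OddAdj D e z := by
  by_cases hex : OddAdj D e x
  · exact ⟨x, hxH, hex⟩
  have hd := hdx.1
  have heD := he.1.1
  have hde : Tri D d e := tri_of_partner hd he
  have hE : d ∉ sameCommutingClass D e := fun h => hex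
    ((oddAdj_iff_of_eq hD heD hd ((oddPartners_eq_iff hD hc heD hd).2 h.2)).2 hdx)
  obtain ⟨y, ⟨hy, hdy⟩, hey⟩ := Cfsg.Agent.S5047.result hD hc heD (hde.symm.partner hD) hE
  have hdy' : ¬ OddAdj D d y := fun h => by
    have h' := h.2.2.2
    rw [hdy] at h'
    exact (by decide : ¬ Odd 4) h'
  have hdyc : ¬ Commute d y := fun h => by
    have h2 : (d * y) ^ 2 = 1 := by
      rw [h.mul_pow, pow_two, pow_two, sq_one hD hd, sq_one hD hy, one_mul]
    have h' := Nat.le_of_dvd (by norm_num) (orderOf_dvd_of_pow_eq_one h2)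
    omega
  obtain ⟨htd, hty⟩ := tri_bracket hD hd hy hdy' hdyc
  have heyo : OddAdj D e y := ⟨heD, hy, fun h => by
    rw [h, sq_one hD hy, orderOf_one] at hey; omega, by rw [hey]; decide⟩
  have hdey : OddAdj D (d * e) y := (adj_or hD hde heyo).resolve_left hdy'
  have hbraid : e * y * e = y * e * y := by
    have h3 : (e * y) ^ 3 = 1 := hey ▸ pow_orderOf_eq_one _
    calc e * y * e = (e * y) ^ 3 * (y * e * y) := by
          simp only [pow_succ, pow_zero, one_mul, mul_assoc, cancel hD hy, cancel hD heD,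
            sq_one hD hy, mul_one]
      _ = y * e * y := by rw [h3, one_mul]
  set f := d * y * d * y with hf
  have hdf : d * f = y * d * y := by rw [hf]; simp only [mul_assoc, cancel hD hd]
  have hef : ¬ Commute e f := fun h =>
    not_commute_of_adj hD hty.symm (oddAdj_symm hD heyo) h.symm
  have hef' : ¬ OddAdj D e f := fun h => not_commute_of_adj hD hde h htd.comm
  obtain ⟨hte, htf⟩ := tri_bracket hD heD htd.right hef' hef
  -- the product `e f e f` is `d`
  have key : (d * e * y) ^ 3 = d * (e * f * e * f) := by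
    calc (d * e * y) ^ 3 = d * e * y * (d * e * y) * (d * e * y) := by
          simp only [pow_succ, pow_zero, one_mul, mul_assoc]
      _ = e * d * y * (d * e * y) * (e * d * y) := by rw [hde.comm.eq]
      _ = e * (d * y * d) * (e * y * e) * (d * y) := by simp only [mul_assoc]
      _ = e * (d * y * d * y) * e * (y * d * y) := by rw [hbraid]; simp only [mul_assoc]
      _ = e * f * e * (d * f) := by rw [← hdf]
      _ = d * (e * f * e * f) := by
          have hc' : Commute d (e * f * e) := (hde.comm.mul_right htd.comm).mul_right hde.comm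
          rw [← mul_assoc (e * f * e), ← hc'.eq]
          simp only [mul_assoc]
  have hdh : Commute d (e * f * e * f) :=
    ((hde.comm.mul_right htd.comm).mul_right hde.comm).mul_right htd.comm
  have hde1 : d * (e * f * e * f) = 1 := by
    rw [← orderOf_eq_one_iff]
    refine Nat.eq_one_of_dvd_coprimes (a := orderOf (d * e * y)) (b := 2)
      (Nat.coprime_two_right.2 hdey.2.2.2) (key ▸ orderOf_pow_dvd 3) (orderOf_dvd_of_pow_eq_one ?_)
    rw [hdh.mul_pow, pow_two, pow_two, sq_one hD hd, sq_one hD hte.right, one_mul]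
  have hdef : e * f * e * f = d := by
    calc e * f * e * f = d * (d * (e * f * e * f)) := (cancel hD hd _).symm
      _ = d := by rw [hde1, mul_one]
  -- `e` is outside the normal two-subgroups of `H`
  have heH : e ∈ H := hXH he
  have hfH : f ∈ H := hXH (htd.partner hD)
  obtain ⟨h, h1, hodd, hinv⟩ := CfsgLib.Involution.BaerSuzuki.exists_inverted_odd (⟨e, heH⟩ : H)
    (by rw [Subgroup.orderOf_mk]; exact hD.orderOf_eq e heD) (fun N hN hN2 heN => by
      have hdN : (⟨d, hdH⟩ : H) ∈ N := by
        have h' := mul_mem heN (hN.conj_mem _ heN ⟨f, hfH⟩)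
        convert h' using 1
        apply Subtype.ext
        simp only [Subgroup.coe_mul, Subgroup.coe_inv, inv_eq hD htd.right, ← mul_assoc]
        exact hdef.symm
      have h' := mul_mem hdN (hN.conj_mem _ hdN ⟨x, hxH⟩)
      obtain ⟨k, hk⟩ := hN2 ⟨_, h'⟩
      have hk' : (d * (x * d * x⁻¹)) ^ 2 ^ k = 1 :=
        congrArg (fun z : N => ((z : H) : G)) hk
      rw [inv_eq hD hdx.2.1, show d * (x * d * x) = (d * x) ^ 2 by
        simp only [pow_two, mul_assoc], ← pow_mul] at hk'
      have h1 : orderOf (d * x) = 1 := Nat.eq_one_of_dvd_coprimes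
        (Nat.Coprime.mul_right (Nat.coprime_two_right.2 hdx.2.2.2)
          (Nat.Coprime.pow_right k (Nat.coprime_two_right.2 hdx.2.2.2)))
        dvd_rfl (orderOf_dvd_of_pow_eq_one hk')
      rw [orderOf_eq_one_iff] at h1
      exact hdx.2.2.1 (by rw [← mul_one d, ← sq_one hD hdx.2.1, ← mul_assoc, h1, one_mul]))
  have hwh : e * (h : G) * e = (h : G)⁻¹ := by
    have h' := congrArg Subtype.val hinv
    simpa [inv_eq hD heD] using h'
  have hprod : e * ((h : G) * e * (h : G)⁻¹) = (h : G)⁻¹ ^ 2 := by
    calc e * ((h : G) * e * (h : G)⁻¹) = e * (h : G) * e * (h : G)⁻¹ := by simp only [mul_assoc]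
      _ = (h : G)⁻¹ ^ 2 := by rw [hwh, pow_two]
  have hho : Odd (orderOf (h : G)) := (Subgroup.orderOf_coe h).symm ▸ hodd
  refine ⟨(h : G) * e * (h : G)⁻¹, mul_mem (mul_mem h.2 heH) (inv_mem h.2),
    heD, hD.conj_mem e heD _, fun he' => ?_, ?_⟩
  · rw [← he', sq_one hD heD] at hprod
    have hdvd := orderOf_dvd_of_pow_eq_one hprod.symm
    rw [orderOf_inv] at hdvd
    exact h1 (Subtype.ext (orderOf_eq_one_iff.1 (Nat.eq_one_of_dvd_coprimes
      (Nat.coprime_two_right.2 hho) dvd_rfl hdvd)))
  · rw [hprod]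
    exact Odd.of_dvd_nat hho (orderOf_inv (h : G) ▸ orderOf_pow_dvd 2)

/-- A product partner of `d` is conjugate to `d` in such a subgroup. -/
theorem exists_conj_in {H : Subgroup G} {d x e : G} (hdx : OddAdj D d x) (hdH : d ∈ H)
    (hxH : x ∈ H) (hXH : productPartners D d ⊆ (H : Set G)) (he : e ∈ productPartners D d) :
    ∃ g ∈ H, g * d * g⁻¹ = e := by
  obtain ⟨z, hzH, hez⟩ := exists_odd_in hD hc hdx hdH hxH hXH he
  have hde : Tri D d e := tri_of_partner hdx.1 he
  have heH : e ∈ H := hXH he
  have trans : ∀ {a b c : G}, (∃ g ∈ H, g * a * g⁻¹ = b) → (∃ g ∈ H, g * b * g⁻¹ = c) →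
      ∃ g ∈ H, g * a * g⁻¹ = c := by
    rintro a b c ⟨g, hg, rfl⟩ ⟨k, hk, rfl⟩
    exact ⟨k * g, mul_mem hk hg, by group⟩
  rcases adj_or hD hde.symm hdx with hex | hedx
  · exact trans (conj_in hD hdx hdH hxH) (conj_in hD (oddAdj_symm hD hex) hxH heH)
  rcases adj_or hD hde hez with hdz | hdez
  · exact trans (conj_in hD hdz hdH hzH) (conj_in hD (oddAdj_symm hD hez) hzH heH)
  rw [← hde.comm.eq] at hedx
  have hedH : d * e ∈ H := mul_mem hdH heH
  exact trans (trans (conj_in hD hdx hdH hxH) (conj_in hD (oddAdj_symm hD hedx) hxH hedH))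
    (trans (conj_in hD hdez hedH hzH) (conj_in hD (oddAdj_symm hD hez) hzH heH))

/-- The component of `d` in the product graph lies in the class of `d` in such a subgroup. -/
theorem component_conj_in {H : Subgroup G} {d x y : G} (hdx : OddAdj D d x) (hdH : d ∈ H)
    (hxH : x ∈ H) (hXH : productPartners D d ⊆ (H : Set G))
    (hy : Relation.ReflTransGen (ProdAdj D) d y) : ∃ g ∈ H, g * d * g⁻¹ = y := by
  induction hy with
  | refl => exact ⟨1, one_mem _, by simp⟩
  | @tail b c _ hbc ih =>
    obtain ⟨g, hg, rfl⟩ := ih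
    have hadj := prodAdj_conj hD hbc g⁻¹
    rw [show g⁻¹ * (g * d * g⁻¹) * g⁻¹⁻¹ = d by group] at hadj
    obtain ⟨k, hk, hkd⟩ := exists_conj_in hD hc hdx hdH hxH hXH
      ((⟨hadj.1, hadj.2.1, hadj.2.2.2.1, hadj.2.2.2.2⟩ : Tri D d _).partner hD)
    exact ⟨g * k, mul_mem hg hk, by
      rw [show g * k * d * (g * k)⁻¹ = g * (k * d * k⁻¹) * g⁻¹ by group, hkd]; group⟩

end

/-- Commuting with a member of another component spreads over the product component. -/
theorem commute_of_reach (hD : IsRootInvolutionSet D) {a a' b : G} (hb : b ∈ D)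
    (hr : Relation.ReflTransGen (ProdAdj D) a a') (hn : ¬ Relation.ReflTransGen (ProdAdj D) a b)
    (hab : Commute a b) : Commute a' b := by
  induction hr with
  | refl => exact hab
  | @tail y z hy hyz ih =>
    by_contra hzb
    by_cases ho : OddAdj D z b
    · exact not_commute_of_adj hD ⟨hyz.1, hyz.2.1, hyz.2.2.2.1, hyz.2.2.2.2⟩ ho ih
    · exact hn ((hy.tail hyz).trans (reach_of_not_oddAdj hD hyz.2.1 hb ho hzb))

theorem prod_connected (hconn : CommConnected.{u}) : ∀ (n : ℕ) (G : Type u) [Group G] [Finite G]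
    (D : Set G), Nat.card G ≤ n → IsNondegenerateRootInvolutionSet D → IsRootInvolutionClass D →
    IsConnectedSet (ProdAdj D) D := by
  intro n
  induction n using Nat.strong_induction_on with
  | _ n IH => ?_
  intro G _ _ D hn hnd hcl
  classical
  have hnd₀ := hnd
  obtain ⟨hD, -, hodd, ⟨a₀, ha₀, b₀, hb₀, h4⟩⟩ := hnd
  have hnd' := hconn G D hnd₀ hcl
  have hc := oddAdj_connected hD hcl hodd
  -- commuting is transitive on the components
  have htr : ∀ a b c, a ∈ D → b ∈ D → c ∈ D → ¬ Relation.ReflTransGen (ProdAdj D) a b →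
      ¬ Relation.ReflTransGen (ProdAdj D) a c → ¬ Relation.ReflTransGen (ProdAdj D) b c →
      Commute a b → Commute a c → Commute b c := by
    intro a b c ha hb hcD hab hac hbc cab cac
    by_contra hcm
    have ho : OddAdj D b c := by
      by_contra ho
      exact hbc (reach_of_not_oddAdj hD hb hcD ho hcm)
    set L : Subgroup G := Subgroup.closure {y | Relation.ReflTransGen (ProdAdj D) b y ∨
      Relation.ReflTransGen (ProdAdj D) c y} with hL
    have hmemb : ∀ {y : G}, Relation.ReflTransGen (ProdAdj D) b y → y ∈ L := fun h =>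
      Subgroup.subset_closure (Or.inl h)
    have hmemc : ∀ {y : G}, Relation.ReflTransGen (ProdAdj D) c y → y ∈ L := fun h =>
      Subgroup.subset_closure (Or.inr h)
    have hbL : b ∈ L := hmemb .refl
    have hcL : c ∈ L := hmemc .refl
    have hLa : L ≤ Subgroup.centralizer {a} := (Subgroup.closure_le _).2 fun y hy =>
      Subgroup.mem_centralizer_singleton_iff.2 (by
        rcases hy with hy | hy
        · exact commute_of_reach hD ha hy (fun h => hab (reach_symm' h)) cab.symm
        · exact commute_of_reach hD ha hy (fun h => hac (reach_symm' h)) cac.symm)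
    have hLne : L ≠ ⊤ := fun hT => by
      obtain ⟨g, hg⟩ := hcl.2.2 a ha b hb
      have hga : Commute g a :=
        Subgroup.mem_centralizer_singleton_iff.1 (hLa (hT ▸ Subgroup.mem_top g))
      rw [hga.eq, mul_inv_cancel_right] at hg
      exact hab (hg ▸ .refl)
    have hXb : productPartners D b ⊆ (L : Set G) := fun e he =>
      hmemb (.single ((tri_of_partner hb he).adj hD))
    have hXc : productPartners D c ⊆ (L : Set G) := fun e he =>
      hmemc (.single ((tri_of_partner hcD he).adj hD))
    have hKb : ∀ {y : G}, Relation.ReflTransGen (ProdAdj D) b y → ∃ g ∈ L, g * b * g⁻¹ = y :=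
      fun h => component_conj_in hD hc ho hbL hcL hXb h
    have hKc : ∀ {y : G}, Relation.ReflTransGen (ProdAdj D) c y → ∃ g ∈ L, g * b * g⁻¹ = y :=
      fun h => by
        obtain ⟨g, hg, rfl⟩ := component_conj_in hD hc (oddAdj_symm hD ho) hcL hbL hXc h
        obtain ⟨k, hk, rfl⟩ := conj_in hD ho hbL hcL
        exact ⟨g * k, mul_mem hg hk, by group⟩
    set DL : Set L := {y | ∃ g : L, (y : G) = g * b * (g : G)⁻¹} with hDL
    have hDLD : ∀ {y : L}, y ∈ DL → (y : G) ∈ D := fun ⟨g, hg⟩ => hg ▸ hD.conj_mem b hb _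
    have hlift : ∀ {y : G} (hy : y ∈ L), (∃ g ∈ L, g * b * g⁻¹ = y) → (⟨y, hy⟩ : L) ∈ DL :=
      fun _ ⟨g, hg, h⟩ => ⟨⟨g, hg⟩, h.symm⟩
    have hord : ∀ x y : L, orderOf (x * y) = orderOf ((x : G) * y) := fun x y =>
      (Subgroup.orderOf_coe (x * y)).symm
    have hconjL : ∀ d ∈ DL, ∀ g : L, g * d * g⁻¹ ∈ DL := fun d ⟨k, hk⟩ g => ⟨g * k, by
      simp only [Subgroup.coe_mul, Subgroup.coe_inv, hk]; group⟩
    have hroot : IsRootInvolutionSet DL :=
      { orderOf_eq := fun d hd => by rw [← Subgroup.orderOf_coe]; exact hD.orderOf_eq _ (hDLD hd)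
        generates := by
          refine Subgroup.map_injective L.subtype_injective ?_
          rw [MonoidHom.map_closure, ← MonoidHom.range_eq_map, Subgroup.range_subtype]
          refine le_antisymm ((Subgroup.closure_le _).2 ?_) ((Subgroup.closure_le _).2 ?_)
          · rintro _ ⟨y, -, rfl⟩; exact y.2
          · rintro y (hy | hy)
            · exact Subgroup.subset_closure ⟨⟨y, hmemb hy⟩, hlift _ (hKb hy), rfl⟩
            · exact Subgroup.subset_closure ⟨⟨y, hmemc hy⟩, hlift _ (hKc hy), rfl⟩
        conj_mem := hconjL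
        pair := fun p hp q hq => by
          rcases hD.pair _ (hDLD hp) _ (hDLD hq) with h | h | ⟨h, h'⟩
          · exact Or.inl (Subtype.ext h)
          · exact Or.inr (Or.inl (by rwa [hord]))
          refine Or.inr (Or.inr ⟨by rwa [hord], ?_⟩)
          have hnc : ¬ Commute (p : G) q := fun hh => by
            have h2 : ((p : G) * q) ^ 2 = 1 := by
              rw [hh.mul_pow, pow_two, pow_two, sq_one hD (hDLD hp), sq_one hD (hDLD hq), one_mul]
            have := Nat.le_of_dvd (by norm_num) (orderOf_dvd_of_pow_eq_one h2)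
            omega
          have hno : ¬ OddAdj D (p : G) q := fun hh => by
            have := hh.2.2.2
            rw [h] at this
            exact (by decide : ¬ Odd 4) this
          obtain ⟨g, hg⟩ := hp
          have hX := prodAdj_conj hD
            ((tri_bracket hD (hDLD ⟨g, hg⟩) (hDLD hq) hno hnc).1.adj hD) (g : G)⁻¹
          rw [hg, show (g : G)⁻¹ * (g * b * (g : G)⁻¹) * (g : G)⁻¹⁻¹ = b by group] at hX
          obtain ⟨k, hk, hkb⟩ := hKb (.single hX)
          refine ⟨g * ⟨k, hk⟩, ?_⟩
          simp only [Subgroup.coe_pow, Subgroup.coe_mul]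
          rw [show (g : G) * k * b * ((g : G) * k)⁻¹ = g * (k * b * k⁻¹) * (g : G)⁻¹ by group,
            hkb, hg]
          simp only [pow_two, mul_assoc]
          group }
    obtain ⟨g₀, hg₀⟩ := hcl.2.2 a₀ ha₀ b hb
    set b₁ := g₀ * b₀ * g₀⁻¹ with hb₁
    have h4' : orderOf (b * b₁) = 4 := by
      rw [hg₀, hb₁, show g₀ * a₀ * g₀⁻¹ * (g₀ * b₀ * g₀⁻¹) = g₀ * (a₀ * b₀) * g₀⁻¹ by group,
        CfsgLib.Involution.Dihedral.orderOf_conj, h4]
    have hnc₁ : ¬ Commute b b₁ := fun hh => by
      have h2 : (b * b₁) ^ 2 = 1 := by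
        rw [hh.mul_pow, pow_two, pow_two, sq_one hD hb, sq_one hD (hD.conj_mem b₀ hb₀ g₀), one_mul]
      have := Nat.le_of_dvd (by norm_num) (orderOf_dvd_of_pow_eq_one h2)
      omega
    have hno₁ : ¬ OddAdj D b b₁ := fun hh => by
      have := hh.2.2.2
      rw [h4'] at this
      exact (by decide : ¬ Odd 4) this
    obtain ⟨htb, -⟩ := tri_bracket hD hb (hD.conj_mem b₀ hb₀ g₀) hno₁ hnc₁
    have hRb₁ := reach_of_not_oddAdj hD hb (hD.conj_mem b₀ hb₀ g₀) hno₁ hnc₁
    have hRf : Relation.ReflTransGen (ProdAdj D) b (b * b₁ * b * b₁) := .single (htb.adj hD)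
    have hB : (⟨b, hbL⟩ : L) ∈ DL := hlift _ (hKb .refl)
    have hndL : IsNondegenerateRootInvolutionSet DL := by
      refine ⟨hroot, ?_, ?_, ?_⟩
      · exact ⟨_, hB, ⟨_, hmemb hRf⟩, hlift _ (hKb hRf),
          fun e => htb.ne hD (congrArg Subtype.val e), Subtype.ext htb.comm⟩
      · exact ⟨_, hB, ⟨c, hcL⟩, hlift _ (hKc .refl),
          fun e => ho.2.2.1 (congrArg Subtype.val e), by rw [hord]; exact ho.2.2.2⟩
      · exact ⟨_, hB, ⟨_, hmemb hRb₁⟩, hlift _ (hKb hRb₁), by rw [hord]; exact h4'⟩
    have hclL : IsRootInvolutionClass DL := ⟨hroot, ⟨_, hB⟩, fun p ⟨g, hg⟩ q ⟨k, hk⟩ =>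
      ⟨k * g⁻¹, Subtype.ext (by simp only [Subgroup.coe_mul, Subgroup.coe_inv, hg, hk]; group)⟩⟩
    have hlt : Nat.card L < n := lt_of_lt_of_le
      (lt_of_le_of_ne (Subgroup.card_le_card_group L)
        fun e => hLne (Subgroup.eq_top_of_card_eq L e)) hn
    have hR := IH _ hlt L DL le_rfl hndL hclL _ hB _ (hlift hcL (hKc .refl))
    refine hbc (Relation.ReflTransGen.lift (fun y : L => (y : G)) (fun p q hpq => ?_) _ _ hR)
    exact ⟨hDLD hpq.1, hDLD hpq.2.1, fun e => hpq.2.2.1 (Subtype.ext e),
      congrArg Subtype.val hpq.2.2.2.1, hDLD hpq.2.2.2.2⟩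
  -- every member commutes with `a` or lies in its component
  intro a ha b hb
  have hall : ∀ y ∈ D, Relation.ReflTransGen (ProdAdj D) a y ∨ Commute a y := by
    intro y hy
    have hpath := hnd' a ha y hy
    induction hpath with
    | refl => exact Or.inl .refl
    | @tail p q _ hpq ih =>
      obtain ⟨hp, hq, -, hcpq⟩ := hpq
      by_cases haq : Relation.ReflTransGen (ProdAdj D) a q
      · exact Or.inl haq
      right
      rcases ih hp with hap | hap
      · exact commute_of_reach hD hq (reach_symm' hap)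
          (fun h => haq (hap.trans h)) hcpq
      by_cases hap' : Relation.ReflTransGen (ProdAdj D) a p
      · exact commute_of_reach hD hq (reach_symm' hap') (fun h => haq (hap'.trans h)) hcpq
      by_cases hpq' : Relation.ReflTransGen (ProdAdj D) p q
      · exact (commute_of_reach hD ha hpq' (fun h => hap' (reach_symm' h)) hap.symm).symm
      · exact htr p a q hp ha hq (fun h => hap' (reach_symm' h)) hpq' haq hap.symm hcpq
  obtain ⟨g, rfl⟩ := hcl.2.2 a ha b hb
  have hg : g ∈ Subgroup.closure D := hD.generates ▸ Subgroup.mem_top g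
  clear hb
  induction hg using Subgroup.closure_induction with
  | mem d hd =>
    rcases hall d hd with h | h
    · have h' := reach_conj hD h d
      rw [inv_eq hD hd, sq_one hD hd, one_mul] at h'
      rw [inv_eq hD hd]
      exact h.trans (reach_symm' h')
    · rw [h.symm.eq, mul_inv_cancel_right]
  | one => simp [Relation.ReflTransGen.refl]
  | mul x y _ _ hx hy =>
    rw [show x * y * a * (x * y)⁻¹ = x * (y * a * y⁻¹) * x⁻¹ by group]
    exact hx.trans (reach_conj hD hy x)
  | inv x _ hx =>
    have h' := reach_conj hD hx x⁻¹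
    rw [show x⁻¹ * (x * a * x⁻¹) * x⁻¹⁻¹ = a by group] at h'
    exact reach_symm' h'

variable [Finite G]

/-- An odd pair and the product partners of one member generate. -/
theorem closure_partners_eq_top (hconn : CommConnected.{u})
    (hnd : IsNondegenerateRootInvolutionSet D) (hcl : IsRootInvolutionClass D) {d x : G}
    (hd : d ∈ D) (hx : x ∈ oddPartners D d) :
    Subgroup.closure (productPartners D d ∪ {x}) = ⊤ := by
  have hD := hnd.1
  have hc := oddAdj_connected hD hcl hnd.2.2.1
  have hP := prod_connected hconn _ G D le_rfl hnd hcl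
  set H := Subgroup.closure (productPartners D d ∪ {x})
  have hXH : productPartners D d ⊆ (H : Set G) := fun e he =>
    Subgroup.subset_closure (Or.inl he)
  have hxH : x ∈ H := Subgroup.subset_closure (Or.inr rfl)
  have hdH : d ∈ H := by
    obtain ⟨-, -, -, ⟨a₀, ha₀, b₀, hb₀, h4⟩⟩ := hnd
    rcases (hP d hd a₀ ha₀).cases_head with rfl | ⟨e, he, -⟩
    · have hnc : ¬ Commute d b₀ := fun hh => by
        have h2 : (d * b₀) ^ 2 = 1 := by
          rw [hh.mul_pow, pow_two, pow_two, sq_one hD ha₀, sq_one hD hb₀, one_mul]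
        have := Nat.le_of_dvd (by norm_num) (orderOf_dvd_of_pow_eq_one h2)
        omega
      have hno : ¬ OddAdj D d b₀ := fun hh => by
        have := hh.2.2.2
        rw [h4] at this
        exact (by decide : ¬ Odd 4) this
      obtain ⟨ht, -⟩ := tri_bracket hD hd hb₀ hno hnc
      generalize d * b₀ * d * b₀ = f at ht
      have h2 := mul_mem (hXH ((ht.third' hD).symm.partner hD)) (hXH (ht.partner hD))
      rwa [mul_assoc, sq_one hD ht.right, mul_one] at h2
    · have ht : Tri D d e := ⟨he.1, he.2.1, he.2.2.2.1, he.2.2.2.2⟩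
      have h2 := mul_mem (hXH ((ht.third' hD).symm.partner hD)) (hXH (ht.partner hD))
      rwa [mul_assoc, sq_one hD ht.right, mul_one] at h2
  rw [eq_top_iff, ← hD.generates, Subgroup.closure_le]
  intro y hy
  obtain ⟨g, hg, rfl⟩ := component_conj_in hD hc ((mem_oddPartners hD hd).1 hx) hdH hxH hXH
    (hP d hd y hy)
  exact mul_mem (mul_mem hg hdH) (inv_mem hg)

/-- Weak TI-subsets of a non-degenerate class commute. -/
theorem weakTI_commutative (hconn : CommConnected.{u}) (hnd : IsNondegenerateRootInvolutionSet D)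
    (hcl : IsRootInvolutionClass D) {T : Set G} (hT : IsWeakTISubsetOfElements D T) :
    IsMulCommutative ↥(Subgroup.closure T) := by
  obtain ⟨hTD, ⟨t₀, ht₀, -⟩, hTne, hTI⟩ := hT
  have hD := hnd.1
  have hc := oddAdj_connected hD hcl hnd.2.2.1
  have hstab : ∀ d ∈ D, ∀ t ∈ T, d * t * d⁻¹ ∈ T → d ∈ Subgroup.normalizer T := by
    intro d hd t ht hdt
    have heq : (fun t => d * t * d⁻¹) '' T = T := (hTI d hd).resolve_right
      fun h => Set.disjoint_left.1 h ⟨t, ht, rfl⟩ hdt
    refine Subgroup.mem_set_normalizer_iff.2 ?_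
    intro n
    refine ⟨fun hn => heq ▸ ⟨n, hn, rfl⟩, fun hn => ?_⟩
    rw [← heq] at hn
    obtain ⟨m, hm, hmn⟩ := hn
    exact (mul_left_cancel (mul_right_cancel hmn) : m = n) ▸ hm
  have hcomm : ∀ d ∈ D, ∀ t ∈ T, Commute d t → d ∈ Subgroup.normalizer T := fun d hd t ht h =>
    hstab d hd t ht (by rwa [h.eq, mul_inv_cancel_right])
  -- no odd pair lies in `T`
  have hnoodd : ∀ t ∈ T, ∀ t' ∈ T, ¬ OddAdj D t t' := by
    intro t ht t' ht' ho
    have hle : Subgroup.closure (productPartners D t ∪ {t'}) ≤ Subgroup.normalizer T := by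
      rw [Subgroup.closure_le]
      rintro e (he | rfl)
      · exact hcomm e he.1.1 t ht he.1.2.1
      · exact hcomm e (hTD ht') e ht' (Commute.refl _)
    rw [closure_partners_eq_top hconn hnd hcl (hTD ht)
      ((mem_oddPartners hD (hTD ht)).2 ho), top_le_iff] at hle
    refine hTne (Set.Subset.antisymm hTD fun y hy => ?_)
    obtain ⟨g, rfl⟩ := hcl.2.2 t₀ (hTD ht₀) y hy
    exact (Subgroup.mem_set_normalizer_iff.1 (hle ▸ Subgroup.mem_top g) t₀).1 ht₀
  refine Subgroup.isMulCommutative_closure fun a ha b hb => ?_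
  by_contra hab
  have haD := hTD ha
  have hbD := hTD hb
  have hno : ¬ OddAdj D a b := hnoodd a ha b hb
  obtain ⟨hta, htb⟩ := tri_bracket hD haD hbD hno hab
  set f := a * b * a * b with hf
  have hfD : f ∈ D := hta.right
  -- a neighbour of `f` which is none of `b`
  have hE : ¬ oddPartners D f = oddPartners D b := fun h => hab (by
    have : a ∈ commutingMembers D b :=
      (oddPartners_eq_iff hD hc hfD hbD).1 h ▸ (⟨haD, hta.comm⟩ : a ∈ commutingMembers D f)
    exact this.2)
  obtain ⟨z, hz, hz'⟩ := Set.not_subset.1 fun h => hE (Set.eq_of_subset_of_ncard_le h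
    (ncard_oddPartners hD hc hbD hfD).le (Set.toFinite _))
  rw [mem_oddPartners hD hfD] at hz
  rw [mem_oddPartners hD hbD] at hz'
  obtain ⟨g, hgD, -, hnfg, h4, hsq⟩ := exists_comm hD htb.symm hz hz'
  rw [pow_two, ← mul_assoc] at hsq
  have hnfg' : ¬ Commute f g := fun h => ne_one hD hbD (by
    rw [← hsq, h.eq, mul_assoc g f f, sq_one hD hfD, mul_one, sq_one hD hgD])
  obtain ⟨-, htg⟩ := tri_bracket hD hfD hgD hnfg hnfg'
  rw [hsq] at htg
  have hgb : Commute g b := htg.comm
  -- `a` and `g` have product of odd order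
  have ho : OddAdj D a g := by
    by_contra ho
    have hk2 : (a * g * a * g) * (a * g * a * g) = 1 := by
      by_cases hc' : Commute a g
      · have h1 : a * g * a * g = 1 := by
          rw [hc'.eq, mul_assoc g a a, sq_one hD haD, mul_one, sq_one hD hgD]
        rw [h1, mul_one]
      · exact sq_one hD (tri_bracket hD haD hgD ho hc').1.right
    set k := a * g * a * g with hk
    have hkinv : k⁻¹ = g * a * g * a := by
      rw [hk]; simp only [mul_inv_rev, inv_eq hD haD, inv_eq hD hgD, mul_assoc]
    have hkk : k⁻¹ = k := inv_eq_of_mul_eq_one_right hk2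
    have hka : Commute k a := by
      show k * a = a * k
      calc k * a = a * (g * a * g * a) := by rw [hk]; simp only [mul_assoc]
        _ = a * k := by rw [← hkinv, hkk]
    have hgfg : g * f * g = f * b := by
      rw [← hsq]; simp only [mul_assoc, cancel hD hfD]
    have haba : a * b * a = f * b := by
      rw [hf]; simp only [mul_assoc, sq_one hD hbD, mul_one]
    have hkf : k * f * k⁻¹ = f * b := by
      calc k * f * k⁻¹ = a * g * a * (g * f * g) * (a * g * a) := by
            rw [hkinv, hk]; simp only [mul_assoc]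
        _ = a * g * ((a * f * a) * (a * b * a)) * (g * a) := by
            rw [hgfg]; simp only [mul_assoc, cancel hD haD]
        _ = a * (g * b * g) * a := by
            rw [conj_eq_of_commute hD haD hta.comm, haba, cancel hD hfD]; simp only [mul_assoc]
        _ = f * b := by rw [conj_eq_of_commute hD hgD hgb, haba]
    have h' : Commute a (f * b) := hkf ▸ (hka.symm.mul_right hta.comm).mul_right hka.symm.inv_right
    apply hab
    have h'' := hta.comm.mul_right h'
    rwa [cancel hD hfD] at h''
  -- so `a` and its conjugate form an odd pair inside `T`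
  have hgN : g ∈ Subgroup.normalizer T := hcomm g hgD b hb hgb
  have haT : g * a * g⁻¹ ∈ T := (Subgroup.mem_set_normalizer_iff.1 hgN a).1 ha
  refine hnoodd a ha _ haT ⟨haD, hD.conj_mem a haD g, fun e => ?_, ?_⟩
  · refine not_commute hD ho ?_
    show a * g = g * a
    conv_lhs => rw [e]
    group
  · rw [inv_eq hD hgD, show a * (g * a * g) = (a * g) ^ 2 by simp only [pow_two, mul_assoc]]
    exact Odd.of_dvd_nat ho.2.2.2 (orderOf_pow_dvd 2)

end CfsgLib.Perm.RootInvolution
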