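import Cfsg.Agent.Lib.Perm.RootInvolutionProduct
import Cfsg.Agent.Lib.Perm.BinaryOneClass.Main
import Cfsg.Agent.Lib.RankOne.Split.Bender
import Cfsg.Prelude.Def_QuasithinSetup

/-!
# Connectivity of the commuting graph from the structure of the disconnected case

In `L₂(q)`, `Sz(q)` and `PSU₃(q)`, `q` even, two involutions never have a product of order four, so
none of these is the quotient in question for a non-degenerate class of root involutions.
-/

set_option autoImplicit false
set_option linter.style.haveILetI false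

namespace CfsgLib.Perm.RootInvolution

open Cfsg CfsgLib.Perm.BinaryOneClass CfsgLib.Involution

universe u v

/-- The disconnected case of a set of root involutions with a product triangle. -/
def DisconnectedStructure : Prop :=
  ∀ (G : Type u) [Group G] [Finite G] (D : Set G), IsRootInvolutionSet D →
    (D ∩ commutingProducts D).Nonempty →
    IsConnectedSet (CommAdj D) D ∨
    (∃ (F : Type) (_ : Field F) (_ : Fintype F), CharP F 2 ∧ 4 ≤ Fintype.card F ∧
      Nonempty (G ⧸ twoZCore G ≃* Matrix.ProjectiveSpecialLinearGroup (Fin 2) F)) ∨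
    Lie.IsoSuzuki (G ⧸ twoZCore G) ∨
    (∃ (F : Type) (_ : Field F) (_ : Fintype F) (q : ℕ), CharP F 2 ∧ Fintype.card F = q ^ 2 ∧ 4 ≤ q ∧
      Nonempty (G ⧸ twoZCore G ≃* PSU 3 F q))

/-- A group carrying such a frame has no non-degenerate class of root involutions modulo the
central two-core. -/
theorem false_of_frame {G : Type u} [Group G] [Finite G] {D : Set G}
    (hnd : IsNondegenerateRootInvolutionSet D) (hcl : IsRootInvolutionClass D) {X : Type v}
    [Group X] (Φ : Frame X) (e : G ⧸ twoZCore G ≃* X) : False := by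
  classical
  haveI : Fact (Nat.Prime 2) := ⟨Nat.prime_two⟩
  haveI : Finite X := Finite.of_equiv _ e.toEquiv
  obtain ⟨hD, -, -, ⟨a, ha, b, hb, h4⟩⟩ := hnd
  set π := QuotientGroup.mk' (twoZCore G) with hπ
  have ha2 : π a * π a = 1 := by rw [← map_mul, sq_one hD ha, map_one]
  have hb2 : π b * π b = 1 := by rw [← map_mul, sq_one hD hb, map_one]
  set c := π a * π b with hc
  have hc4 : c ^ 4 = 1 := by rw [hc, ← map_mul, ← map_pow, ← h4, pow_orderOf_eq_one, map_one]
  have hinv : π a * c * (π a)⁻¹ = c⁻¹ := by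
    rw [hc, mul_inv_rev, inv_eq_of_mul_eq_one_right ha2, inv_eq_of_mul_eq_one_right hb2, ← mul_assoc,
      ha2, one_mul]
  have hR : IsPGroup 2 ↥(Subgroup.zpowers c) := by
    obtain ⟨k, -, hk⟩ := (Nat.dvd_prime_pow Nat.prime_two).1
      (orderOf_dvd_of_pow_eq_one (show c ^ 2 ^ 2 = 1 from hc4))
    exact IsPGroup.of_card (n := k) (by rw [Nat.card_zpowers, hk])
  have hA : IsPGroup 2 ↥(Subgroup.zpowers (π a)) := by
    obtain ⟨k, -, hk⟩ := (Nat.dvd_prime_pow Nat.prime_two).1
      (orderOf_dvd_of_pow_eq_one (show π a ^ 2 ^ 1 = 1 by rw [pow_one, pow_two, ha2]))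
    exact IsPGroup.of_card (n := k) (by rw [Nat.card_zpowers, hk])
  have hP : IsPGroup 2 ↥(Subgroup.zpowers c ⊔ Subgroup.zpowers (π a)) := by
    refine IsPGroup.to_sup_of_normal_left' hR hA ?_
    rw [Subgroup.zpowers_le, Subgroup.mem_normalizer_iff]
    intro z
    constructor
    · rintro ⟨k, rfl⟩
      exact ⟨-k, (Dihedral.conj_zpow hinv k).symm⟩
    · rintro ⟨k, hk⟩
      refine ⟨-k, ?_⟩
      have h' := Dihedral.conj_zpow hinv k
      simp only at hk
      rw [hk, inv_eq_of_mul_eq_one_right ha2] at h'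
      show c ^ (-k) = z
      rw [← h']
      simp only [mul_assoc, ha2, mul_one]
      rw [← mul_assoc, ha2, one_mul]
  obtain ⟨P, hPle⟩ := hP.exists_le_sylow
  obtain ⟨φ, hφ⟩ := Φ.exists_of_sylow e P
  have haP : π a ∈ (P : Subgroup (G ⧸ twoZCore G)) :=
    hPle (Subgroup.mem_sup_right (Subgroup.mem_zpowers _))
  have hbP : π b ∈ (P : Subgroup (G ⧸ twoZCore G)) := by
    have h' : π a * c ∈ (P : Subgroup (G ⧸ twoZCore G)) :=
      mul_mem haP (hPle (Subgroup.mem_sup_left (Subgroup.mem_zpowers _)))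
    rwa [hc, ← mul_assoc, ha2, one_mul] at h'
  have hbZ : φ (π b) ∈ Φ.Z :=
    (Φ.mem_Z _ ((hφ _).1 hbP)).1 (by rw [← map_mul, hb2, map_one])
  have hcomm : π a * π b = π b * π a :=
    φ.injective (by rw [map_mul, map_mul]; exact Φ.Z_comm _ ((hφ _).1 haP) _ hbZ)
  -- so the square of `a * b` lies in the kernel, hence the whole class
  have hno : ¬ OddAdj D a b := fun h => by
    have h' := h.2.2.2
    rw [h4] at h'
    exact (by decide : ¬ Odd 4) h'
  have hnc : ¬ Commute a b := fun h => by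
    have h2 : (a * b) ^ 2 = 1 := by
      rw [h.mul_pow, pow_two, pow_two, sq_one hD ha, sq_one hD hb, one_mul]
    have := Nat.le_of_dvd (by norm_num) (orderOf_dvd_of_pow_eq_one h2)
    omega
  have hf := (tri_bracket hD ha hb hno hnc).1.right
  have hker : a * b * a * b ∈ twoZCore G := by
    rw [← QuotientGroup.eq_one_iff]
    show π (a * b * a * b) = 1
    rw [map_mul, map_mul, map_mul, hcomm, mul_assoc (π b) (π a) (π a), ha2, mul_one, hb2]
  have htop : twoZCore G = ⊤ := by
    rw [eq_top_iff, ← hD.generates, Subgroup.closure_le]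
    intro d hd
    obtain ⟨g, rfl⟩ := hcl.2.2 _ hf d hd
    exact (twoZCore_normal G).conj_mem _ hker g
  obtain ⟨x, -, hx1, -⟩ := Φ.extra
  obtain ⟨y, hy⟩ := QuotientGroup.mk'_surjective (twoZCore G) (e.symm x)
  have : π y = 1 := (QuotientGroup.eq_one_iff y).2 (htop ▸ Subgroup.mem_top y)
  rw [hπ, hy] at this
  exact hx1 (by rw [← e.apply_symm_apply x, this, map_one])

/-- The commuting graph of a non-degenerate class is connected. -/
theorem commConnected_of_structure (h : DisconnectedStructure.{u}) : CommConnected.{u} := by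
  intro G _ _ D hnd hcl
  have hD := hnd.1
  have hDD : (D ∩ commutingProducts D).Nonempty := by
    obtain ⟨-, -, -, ⟨a, ha, b, hb, h4⟩⟩ := hnd
    have hno : ¬ OddAdj D a b := fun h => by
      have h' := h.2.2.2
      rw [h4] at h'
      exact (by decide : ¬ Odd 4) h'
    have hnc : ¬ Commute a b := fun h => by
      have h2 : (a * b) ^ 2 = 1 := by
        rw [h.mul_pow, pow_two, pow_two, sq_one hD ha, sq_one hD hb, one_mul]
      have := Nat.le_of_dvd (by norm_num) (orderOf_dvd_of_pow_eq_one h2)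
      omega
    have ht := (tri_bracket hD ha hb hno hnc).1
    exact ⟨_, ht.mem, _, ht.left, _, ht.right, ht.comm, ne_one hD ht.mem, rfl⟩
  rcases h G D hD hDD with hconn | ⟨F, _, _, hch, hF4, ⟨e⟩⟩ | ⟨F, _, _, m, hm, hF, ⟨e⟩⟩ |
    ⟨F, _, _, q, hch, hF, hq4, ⟨e⟩⟩
  · exact hconn
  · haveI := hch
    obtain ⟨n, -, hn⟩ := FiniteField.card F 2
    obtain ⟨e'⟩ := CfsgLib.RankOne.SplitBender.sl_equiv_psl (F := F)
      (by rw [hn]; exact (Nat.even_pow).2 ⟨even_two, n.pos.ne'⟩)
    exact (false_of_frame hnd hcl (SL2Model.frame hF4) (e.trans e')).elim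
  · have he := CfsgLib.KnownB.SzElem.twist_of_card hF
    have hq := CfsgLib.KnownB.Suzuki.exists_unit_ne_one hm hF
    exact (false_of_frame hnd hcl (SzModel.frame he hq) e).elim
  · haveI := hch
    haveI : Fact (Fintype.card F = q ^ 2) := ⟨hF⟩
    obtain ⟨σ, hσ, hc⟩ := CfsgLib.Classical.exists_frob hF
    have C : CfsgLib.KnownA.MinIndexU3.U3 (CfsgLib.Classical.stdHerm σ 3) q :=
      ⟨CfsgLib.Classical.stdHerm_isHermitian hc 3, CfsgLib.Classical.stdHerm_sepRight 3,
        Module.finrank_fin_fun F, hF, hσ⟩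
    obtain ⟨f, -⟩ := CfsgLib.KnownA.MinIndexU3.exists_frame C
    exact (false_of_frame hnd hcl (U3Model.frame C f hq4)
      (e.trans (CfsgLib.KnownC.AutPSU.pgEquiv (n := 3) hσ))).elim

end CfsgLib.Perm.RootInvolution
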