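import Mathlib

/-!
Marggraff's theorem on Jordan sets: a primitive group with a Jordan set having more than one and
fewer than half of the points contains a 3-cycle.

The proof is elementary. Stabilisers reduce to `n = 2m + 1`; there the closure operator of the
complements of the translates of the Jordan set gives a Steiner system whenever the group is
`k`- but not `(k+1)`-transitive, which is impossible for `2k ≤ m + 3`; and a `k`-transitive group
with a non-trivial element moving at most `2k - 4` points contains a 3-cycle.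
-/

set_option autoImplicit false

open scoped Pointwise

namespace CfsgLib.Perm.Marggraff

open MulAction Finset

variable {G Ω : Type*} [Group G] [MulAction G Ω]

/-- `T` is a Jordan set: elements fixing all points outside `T` are transitive on `T`. -/
def IsJordan (G : Type*) [Group G] {Ω : Type*} [MulAction G Ω] (T : Finset Ω) : Prop :=
  ∀ x ∈ T, ∀ y ∈ T, ∃ g : G, g • x = y ∧ ∀ z, z ∉ T → g • z = z

/-- `G` contains an element acting as a 3-cycle. -/
def HasThreeCycle (G Ω : Type*) [Group G] [MulAction G Ω] : Prop :=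
  ∃ g : G, ∃ a b c : Ω, a ≠ b ∧ b ≠ c ∧ a ≠ c ∧ g • a = b ∧ g • b = c ∧ g • c = a ∧
    ∀ z, z ≠ a → z ≠ b → z ≠ c → g • z = z

theorem IsJordan.smul [DecidableEq Ω] {T : Finset Ω} (h : IsJordan G T) (g : G) : IsJordan G (g • T) := by
  intro x hx y hy
  rw [← Finset.inv_smul_mem_iff] at hx hy
  obtain ⟨u, hu, hfix⟩ := h _ hx _ hy
  refine ⟨g * u * g⁻¹, by rw [mul_smul, mul_smul, hu, smul_inv_smul], fun z hz => ?_⟩
  rw [← Finset.inv_smul_mem_iff] at hz
  rw [mul_smul, mul_smul, hfix _ hz, smul_inv_smul]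

/-- Two elements whose supports meet in one point have a 3-cycle as commutator. -/
theorem hasThreeCycle_of_meet {c d : G} {a : Ω} (hca : c • a ≠ a) (hda : d • a ≠ a)
    (hmeet : ∀ z, c • z ≠ z → d • z ≠ z → z = a) : HasThreeCycle G Ω := by
  have hc' : ∀ z, z ≠ a → c • z ≠ z → d • z = z := fun z hz h => by_contra fun h' => hz (hmeet z h h')
  have hd' : ∀ z, z ≠ a → d • z ≠ z → c • z = z := fun z hz h => by_contra fun h' => hz (hmeet z h' h)
  have hcinj : ∀ u v : Ω, c • u = c • v → u = v := fun u v h => MulAction.injective c h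
  have hdinj : ∀ u v : Ω, d • u = d • v → u = v := fun u v h => MulAction.injective d h
  have h1 : c • d • a = d • a := hd' _ hda fun h => hda (hdinj _ _ h)
  have h2 : d • c • a = c • a := hc' _ hca fun h => hca (hcinj _ _ h)
  have hne : c • a ≠ d • a := fun h => hca (hcinj _ _ (by rw [h, h1, ← h]))
  have hcia : c⁻¹ • a ≠ a := fun h => hca (by rw [inv_smul_eq_iff] at h; exact h.symm)
  have hdia : d⁻¹ • a ≠ a := fun h => hda (by rw [inv_smul_eq_iff] at h; exact h.symm)
  have h3 : d⁻¹ • c⁻¹ • a = c⁻¹ • a := by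
    rw [inv_smul_eq_iff]
    exact (hc' _ hcia (by rw [smul_inv_smul]; exact hcia.symm)).symm
  have h4 : c⁻¹ • d⁻¹ • a = d⁻¹ • a := by
    rw [inv_smul_eq_iff]
    exact (hd' _ hdia (by rw [smul_inv_smul]; exact hdia.symm)).symm
  refine ⟨c * d * c⁻¹ * d⁻¹, a, c • a, d • a, hca.symm, hne, hda.symm, ?_, ?_, ?_, fun z hza hzc hzd => ?_⟩
  · simp only [mul_smul]
    rw [h4, smul_inv_smul]
  · simp only [mul_smul]
    rw [show d⁻¹ • c • a = c • a by rw [inv_smul_eq_iff, h2], inv_smul_smul, h1]
  · simp only [mul_smul]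
    rw [inv_smul_smul, show d • c⁻¹ • a = c⁻¹ • a by rw [← inv_smul_eq_iff.1 h3], smul_inv_smul]
  · simp only [mul_smul]
    by_cases hdz : d • z = z
    · rw [show d⁻¹ • z = z by rw [inv_smul_eq_iff, hdz]]
      by_cases hcz : c • z = z
      · rw [show c⁻¹ • z = z by rw [inv_smul_eq_iff, hcz], hdz, hcz]
      · have hne1 : c⁻¹ • z ≠ a := fun h => hzc (inv_smul_eq_iff.1 h)
        rw [hc' _ hne1 (by rw [smul_inv_smul]; exact fun h => hcz (inv_smul_eq_iff.1 h.symm).symm), smul_inv_smul]
    · have hne1 : d⁻¹ • z ≠ a := fun h => hzd (inv_smul_eq_iff.1 h)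
      have hmov : d • d⁻¹ • z ≠ d⁻¹ • z := by
        rw [smul_inv_smul]; exact fun h => hdz (inv_smul_eq_iff.1 h.symm).symm
      rw [show c⁻¹ • d⁻¹ • z = d⁻¹ • z by rw [inv_smul_eq_iff, hd' _ hne1 hmov], smul_inv_smul, hd' _ hza hdz]

variable [Fintype Ω] [DecidableEq Ω]

/-- A transitivity criterion in terms of finite sets. -/
theorem exists_move {k : ℕ} (hk : IsMultiplyPretransitive G Ω k) (hkn : k ≤ Fintype.card Ω)
    {s : Finset Ω} (hs : s.card ≤ k) (φ : Ω → Ω) (hφ : Set.InjOn φ s) :
    ∃ g : G, ∀ x ∈ s, g • x = φ x := by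
  haveI := hk
  haveI : IsMultiplyPretransitive G Ω s.card :=
    MulAction.isMultiplyPretransitive_of_le (n := k) hs (by rw [Nat.card_eq_fintype_card]; exact hkn)
  let e : Fin s.card ↪ Ω := s.equivFin.symm.toEmbedding.trans (Function.Embedding.subtype _)
  let e' : Fin s.card ↪ Ω :=
    ⟨fun i => φ (s.equivFin.symm i), fun i j h => s.equivFin.symm.injective
      (Subtype.ext (hφ (s.equivFin.symm i).2 (s.equivFin.symm j).2 h))⟩
  obtain ⟨g, hg⟩ := MulAction.exists_smul_eq G e e'
  refine ⟨g, fun x hx => ?_⟩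
  have h := congrArg (fun f : Fin s.card ↪ Ω => f (s.equivFin ⟨x, hx⟩)) hg
  change g • ((s.equivFin.symm (s.equivFin ⟨x, hx⟩)) : Ω) = φ (s.equivFin.symm (s.equivFin ⟨x, hx⟩)) at h
  simpa using h

theorem exists_smul_eq_of_card {k : ℕ} (hk : IsMultiplyPretransitive G Ω k) (hkn : k ≤ Fintype.card Ω)
    {s t : Finset Ω} (hs : s.card ≤ k) (hst : s.card = t.card) : ∃ g : G, g • s = t := by
  let e := Finset.equivOfCardEq hst
  obtain ⟨g, hg⟩ := exists_move hk hkn hs (fun x => if h : x ∈ s then (e ⟨x, h⟩ : Ω) else x) (by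
    intro x hx y hy hxy
    simpa [Finset.mem_coe.1 hx, Finset.mem_coe.1 hy] using hxy)
  refine ⟨g, Finset.eq_of_subset_of_card_le (fun y hy => ?_) (by rw [Finset.card_smul_finset, hst])⟩
  obtain ⟨x, hx, rfl⟩ := Finset.mem_smul_finset.1 hy
  rw [hg x hx, dif_pos hx]
  exact (e ⟨x, hx⟩).2

/-- A highly transitive group with an element of small support has a 3-cycle. -/
theorem hasThreeCycle_of_support {k : ℕ} (hk : IsMultiplyPretransitive G Ω k) (hkn : k ≤ Fintype.card Ω) :
    ∀ (μ : ℕ) (a : G), (univ.filter fun x : Ω => a • x ≠ x).card ≤ μ → (∃ x : Ω, a • x ≠ x) →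
      μ + 4 ≤ 2 * k → 2 * μ ≤ Fintype.card Ω → HasThreeCycle G Ω := by
  intro μ
  induction μ using Nat.strong_induction_on with
  | h μ ih =>
    intro a hμ ⟨x₀, hx₀⟩ h2k h2n
    set M := univ.filter fun x : Ω => a • x ≠ x with hM
    have hmemM : ∀ x, x ∈ M ↔ a • x ≠ x := fun x => by simp [M]
    have hMout : M.card ≤ (univ \ M).card := by
      rw [Finset.card_univ_diff]; omega
    by_cases hMk : M.card ≤ k
    · -- move all but one moved point out of the support
      obtain ⟨u, hu, hucard⟩ := Finset.exists_subset_card_eq (s := univ \ M) (n := M.card) hMout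
      let e := Finset.equivOfCardEq hucard.symm
      obtain ⟨g, hg⟩ := exists_move hk hkn (s := M) hMk
        (fun x => if x = x₀ then x₀ else if h : x ∈ M then (e ⟨x, h⟩ : Ω) else x) (by
          intro x hx y hy hxy
          have hex : ∀ (z : Ω) (hz : z ∈ M), ((e ⟨z, hz⟩ : Ω)) ≠ x₀ := fun z hz h => by
            have := (Finset.mem_sdiff.1 (hu (e ⟨z, hz⟩).2)).2
            rw [h] at this
            exact this ((hmemM _).2 hx₀)
          simp only [Finset.mem_coe] at hx hy
          by_cases h1 : x = x₀ <;> by_cases h2 : y = x₀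
          · rw [h1, h2]
          · simp [h1, h2, hy] at hxy; exact absurd hxy.symm (hex y hy)
          · simp [h1, h2, hx] at hxy; exact absurd hxy (hex x hx)
          · simpa [h1, h2, hx, hy] using hxy)
      have hgx₀ : g • x₀ = x₀ := by rw [hg x₀ ((hmemM _).2 hx₀)]; simp
      have hmv : ∀ z : Ω, (g * a * g⁻¹) • z ≠ z ↔ g⁻¹ • z ∈ M := fun z => by
        rw [hmemM, mul_smul, mul_smul, ne_eq, ne_eq, smul_eq_iff_eq_inv_smul]
      refine hasThreeCycle_of_meet (c := a) (d := g * a * g⁻¹) hx₀
        ((hmv _).2 (by rw [inv_smul_eq_iff.2 hgx₀.symm]; exact (hmemM _).2 hx₀)) fun z hz hz' => ?_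
      rw [hmv] at hz'
      by_contra hne
      have h := hg _ hz'
      rw [smul_inv_smul] at h
      by_cases hzx : g⁻¹ • z = x₀
      · rw [if_pos hzx] at h; exact hne h
      · rw [if_neg hzx, dif_pos hz'] at h
        have := (Finset.mem_sdiff.1 (hu (e ⟨_, hz'⟩).2)).2
        rw [← h] at this
        exact this ((hmemM _).2 hz)
    · push Not at hMk
      -- a set of moved points which is almost closed under `a`
      have hexS : ∀ j, j ≤ M.card → ∃ S, S ⊆ M ∧ S.card = j ∧ (S.filter fun s => a • s ∉ S).card ≤ 1 := by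
        intro j
        induction j with
        | zero => exact fun _ => ⟨∅, by simp, by simp, by simp⟩
        | succ j ihj =>
          intro hj
          obtain ⟨S, hSM, hSc, hS1⟩ := ihj (by omega)
          obtain ⟨y, hyM, hyS, hy⟩ : ∃ y, y ∈ M ∧ y ∉ S ∧ ∀ s ∈ S, a • s ∈ S ∨ a • s = y := by
            by_cases h0 : (S.filter fun s => a • s ∉ S) = ∅
            · obtain ⟨y, hy⟩ : (M \ S).Nonempty := by
                rw [← Finset.card_pos, Finset.card_sdiff_of_subset hSM]; omega
              exact ⟨y, (Finset.mem_sdiff.1 hy).1, (Finset.mem_sdiff.1 hy).2, fun s hs => Or.inl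
                (by_contra fun h => (Finset.eq_empty_iff_forall_notMem.1 h0 s) (Finset.mem_filter.2 ⟨hs, h⟩))⟩
            · obtain ⟨s₁, hs₁⟩ := Finset.nonempty_iff_ne_empty.2 h0
              have hs₁' := Finset.mem_filter.1 hs₁
              refine ⟨a • s₁, (hmemM _).2 fun h => (hmemM _).1 (hSM hs₁'.1) (MulAction.injective a h), hs₁'.2,
                fun s hs => (em (a • s ∈ S)).imp id fun h => ?_⟩
              rw [Finset.card_le_one.1 hS1 s (Finset.mem_filter.2 ⟨hs, h⟩) s₁ hs₁]
          refine ⟨insert y S, Finset.insert_subset hyM hSM, by rw [Finset.card_insert_of_notMem hyS, hSc], ?_⟩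
          refine (Finset.card_le_card fun z hz => ?_).trans (Finset.card_singleton y).le
          obtain ⟨hz, hz'⟩ := Finset.mem_filter.1 hz
          rcases Finset.mem_insert.1 hz with rfl | hz
          · simp
          · rcases hy z hz with h | h
            · exact absurd (Finset.mem_insert_of_mem h) hz'
            · exact absurd (h ▸ Finset.mem_insert_self _ _) hz'
      obtain ⟨S, hSM, hSc, hS1⟩ := hexS (k - 1) (by omega)
      obtain ⟨x, hx⟩ : (M \ S).Nonempty := by
        rw [← Finset.card_pos, Finset.card_sdiff_of_subset hSM]; omega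
      obtain ⟨hxM, hxS⟩ := Finset.mem_sdiff.1 hx
      obtain ⟨y, hy⟩ : (univ \ M).Nonempty := Finset.card_pos.1 (by omega)
      have hyM := (Finset.mem_sdiff.1 hy).2
      obtain ⟨g, hg⟩ := exists_move hk hkn (s := insert x S)
        (by rw [Finset.card_insert_of_notMem hxS, hSc]; omega) (fun z => if z = x then y else z) (by
          intro u hu v hv huv
          simp only [Finset.coe_insert, Set.mem_insert_iff, Finset.mem_coe] at hu hv
          by_cases h1 : u = x <;> by_cases h2 : v = x
          · rw [h1, h2]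
          · simp [h1, h2] at huv
            exact absurd (huv ▸ hSM (hv.resolve_left h2)) hyM
          · simp [h1, h2] at huv
            exact absurd (huv.symm ▸ hSM (hu.resolve_left h1)) hyM
          · simpa [h1, h2] using huv)
      have hgx : g • x = y := by rw [hg x (Finset.mem_insert_self _ _), if_pos rfl]
      have hgS : ∀ s ∈ S, g • s = s := fun s hs => by
        rw [hg s (Finset.mem_insert_of_mem hs)]; exact if_neg fun (h : s = x) => hxS (h ▸ hs)
      set a' := g * a * g⁻¹ with ha'
      let A := S.filter fun s => a • s ∈ S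
      have hA : ∀ s ∈ A, (a⁻¹ * a') • s = s := fun s hs => by
        obtain ⟨hs, has⟩ := Finset.mem_filter.1 hs
        rw [mul_smul, inv_smul_eq_iff, ha', mul_smul, mul_smul,
          inv_smul_eq_iff.2 (hgS s hs).symm, hgS _ has]
      have hsub : (univ.filter fun z => (a⁻¹ * a') • z ≠ z) ⊆ (M ∪ g • M) \ A := fun z hz => by
        have hz := (Finset.mem_filter.1 hz).2
        refine Finset.mem_sdiff.2 ⟨?_, fun h => hz (hA z h)⟩
        by_contra h
        rw [Finset.mem_union, ← Finset.inv_smul_mem_iff] at h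
        push Not at h
        rw [hmemM, hmemM, not_not, not_not] at h
        exact hz (by rw [mul_smul, inv_smul_eq_iff, ha', mul_smul, mul_smul, h.2, smul_inv_smul, h.1])
      have hAU : A ⊆ M ∪ g • M := fun s hs => Finset.mem_union_left _ (hSM (Finset.mem_filter.1 hs).1)
      have hAc : k - 2 ≤ A.card := by
        have h := Finset.card_filter_add_card_filter_not (s := S) (p := fun s => a • s ∈ S)
        simp only [A]
        omega
      have hI : k - 1 ≤ (M ∩ g • M).card := by
        rw [← hSc]
        exact Finset.card_le_card fun s hs => Finset.mem_inter.2 ⟨hSM hs,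
          Finset.mem_smul_finset.2 ⟨s, hSM hs, hgS s hs⟩⟩
      have hU := Finset.card_union_add_card_inter M (g • M)
      rw [Finset.card_smul_finset] at hU
      have hu := Finset.card_le_card hsub
      rw [Finset.card_sdiff_of_subset hAU] at hu
      refine ih _ (show (univ.filter fun z => (a⁻¹ * a') • z ≠ z).card < μ by omega) _ le_rfl ⟨y, ?_⟩
        (by omega) (by omega)
      rw [mul_smul, ne_eq, inv_smul_eq_iff, show a • y = y by rw [← not_not (a := a • y = y), ← ne_eq, ← hmemM]; exact hyM,
        ha', mul_smul, mul_smul, inv_smul_eq_iff.2 hgx.symm, ← hgx]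
      exact fun h => (hmemM x).1 hxM (MulAction.injective g h)

/-! ### The closure operator of the complements of the translates -/

/-- The points avoided by every translate of `T` avoiding `S`. -/
noncomputable def clo (G : Type*) [Group G] {Ω : Type*} [MulAction G Ω] [Fintype Ω] [DecidableEq Ω]
    (T S : Finset Ω) : Finset Ω :=
  open scoped Classical in univ.filter fun y => ∀ g : G, Disjoint (g • T) S → y ∉ g • T

theorem mem_clo {T S : Finset Ω} {y : Ω} : y ∈ clo G T S ↔ ∀ g : G, Disjoint (g • T) S → y ∉ g • T := by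
  simp [clo]

theorem subset_clo (T S : Finset Ω) : S ⊆ clo G T S := fun _ hy =>
  mem_clo.2 fun _ hd h => Finset.disjoint_left.1 hd h hy

theorem clo_subset {T S S' : Finset Ω} (h : S' ⊆ clo G T S) : clo G T S' ⊆ clo G T S := fun _ hy =>
  mem_clo.2 fun g hd => mem_clo.1 hy g (Finset.disjoint_left.2 fun _ hz hz' => mem_clo.1 (h hz') g hd hz)

theorem disjoint_smul_iff {A B : Finset Ω} (g : G) : Disjoint (g • A) (g • B) ↔ Disjoint A B := by
  rw [Finset.disjoint_iff_inter_eq_empty, ← Finset.smul_finset_inter, Finset.smul_finset_eq_empty,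
    Finset.disjoint_iff_inter_eq_empty]

theorem clo_smul (T S : Finset Ω) (g : G) : clo G T (g • S) = g • clo G T S := by
  ext y
  rw [← Finset.inv_smul_mem_iff, mem_clo, mem_clo]
  constructor <;> intro h u hd
  · have h' := h (g * u) (by rwa [mul_smul, disjoint_smul_iff])
    rwa [mul_smul, ← Finset.inv_smul_mem_iff] at h'
  · have h' := h (g⁻¹ * u) (by
      rw [mul_smul, ← disjoint_smul_iff g, smul_inv_smul]; exact hd)
    rwa [mul_smul, Finset.smul_mem_smul_finset_iff] at h'

/-- Counting identity for a Steiner system in which every block has one more point than the sets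
it is determined by, relative to a set meeting every block. -/
theorem steiner_false {V : Type*} [DecidableEq V] (U A : Finset V) (hA : A ⊆ U) {k : ℕ} (hk : Even k)
    (hk1 : 1 ≤ k) (hAc : A.card < (U \ A).card) (hkU : k ≤ (U \ A).card) (Blk : Finset (Finset V))
    (hBU : ∀ B ∈ Blk, B ⊆ U ∧ B.card = k) (hmeet : ∀ B ∈ Blk, (B ∩ A).Nonempty)
    (huniq : ∀ W ⊆ U, W.card + 1 = k → ∃! B, B ∈ Blk ∧ W ⊆ B) : False := by
  classical
  let N : ℕ → ℕ := fun i => (Blk.filter fun B => (B ∩ A).card = i).card
  have hrec : ∀ i, i < k → A.card.choose i * (U \ A).card.choose (k - 1 - i) =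
      (i + 1) * N (i + 1) + (k - i) * N i := by
    intro i hi
    have hW : ((U.powersetCard (k - 1)).filter fun W => (W ∩ A).card = i).card =
        A.card.choose i * (U \ A).card.choose (k - 1 - i) := by
      rw [← Finset.card_powersetCard i A, ← Finset.card_powersetCard (k - 1 - i) (U \ A), ← Finset.card_product]
      refine Finset.card_bij (fun W _ => (W ∩ A, W \ A)) ?_ ?_ ?_
      · intro W hW
        obtain ⟨hW, hWi⟩ := Finset.mem_filter.1 hW
        obtain ⟨hWU, hWc⟩ := Finset.mem_powersetCard.1 hW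
        have := Finset.card_sdiff_add_card_inter W A
        refine Finset.mem_product.2 ⟨Finset.mem_powersetCard.2 ⟨Finset.inter_subset_right, hWi⟩,
          Finset.mem_powersetCard.2 ⟨Finset.sdiff_subset_sdiff hWU subset_rfl, ?_⟩⟩
        show (W \ A).card = k - 1 - i
        omega
      · intro W _ W' _ h
        have h1 := congrArg Prod.fst h
        have h2 := congrArg Prod.snd h
        simp only at h1 h2
        rw [← Finset.sdiff_union_inter W A, ← Finset.sdiff_union_inter W' A, h1, h2]
      · rintro ⟨P, Q⟩ hPQ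
        obtain ⟨hP, hQ⟩ := Finset.mem_product.1 hPQ
        obtain ⟨hPA, hPc⟩ := Finset.mem_powersetCard.1 hP
        obtain ⟨hQU, hQc⟩ := Finset.mem_powersetCard.1 hQ
        have hQA : Disjoint Q A := Finset.disjoint_left.2 fun z hz => (Finset.mem_sdiff.1 (hQU hz)).2
        refine ⟨P ∪ Q, Finset.mem_filter.2 ⟨Finset.mem_powersetCard.2 ⟨Finset.union_subset (hPA.trans hA)
          (hQU.trans Finset.sdiff_subset), ?_⟩, ?_⟩, ?_⟩
        · rw [Finset.card_union_of_disjoint (hQA.mono_right hPA).symm, hPc, hQc]; omega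
        · rw [Finset.union_inter_distrib_right, Finset.inter_eq_left.2 hPA,
            Finset.disjoint_iff_inter_eq_empty.1 hQA, Finset.union_empty, hPc]
        · rw [Finset.union_inter_distrib_right, Finset.inter_eq_left.2 hPA,
            Finset.disjoint_iff_inter_eq_empty.1 hQA, Finset.union_empty, Finset.union_sdiff_distrib,
            Finset.sdiff_eq_empty_iff_subset.2 hPA, Finset.empty_union, Finset.sdiff_eq_self_of_disjoint hQA]
    rw [← hW]
    have hS : ((U.powersetCard (k - 1)).filter fun W => (W ∩ A).card = i).card =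
        (Blk.sigma fun B => B.filter fun z => ((B.erase z) ∩ A).card = i).card := by
      symm
      refine Finset.card_bij (fun p _ => p.1.erase p.2) ?_ ?_ ?_
      · rintro ⟨B, z⟩ hp
        obtain ⟨hB, hz⟩ := Finset.mem_sigma.1 hp
        obtain ⟨hz, hzi⟩ := Finset.mem_filter.1 hz
        exact Finset.mem_filter.2 ⟨Finset.mem_powersetCard.2 ⟨(Finset.erase_subset _ _).trans (hBU B hB).1,
          by rw [Finset.card_erase_of_mem hz, (hBU B hB).2]⟩, hzi⟩
      · rintro ⟨B, z⟩ hp ⟨B', z'⟩ hp' heq
        obtain ⟨hB, hz⟩ := Finset.mem_sigma.1 hp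
        obtain ⟨hB', hz'⟩ := Finset.mem_sigma.1 hp'
        have hz := (Finset.mem_filter.1 hz).1
        have hz' := (Finset.mem_filter.1 hz').1
        simp only at heq hz hz'
        obtain rfl : B = B' := (huniq (B.erase z) ((Finset.erase_subset _ _).trans (hBU B hB).1)
          (by rw [Finset.card_erase_of_mem hz, (hBU B hB).2]; omega)).unique ⟨hB, Finset.erase_subset _ _⟩
          ⟨hB', heq ▸ Finset.erase_subset _ _⟩
        obtain rfl : z = z' := (Finset.erase_injOn B) hz hz' heq
        rfl
      · intro W hW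
        obtain ⟨hW, hWi⟩ := Finset.mem_filter.1 hW
        obtain ⟨hWU, hWc⟩ := Finset.mem_powersetCard.1 hW
        obtain ⟨B, ⟨hB, hWB⟩, -⟩ := huniq W hWU (by omega)
        obtain ⟨z, hz⟩ := Finset.card_eq_one.1 (show (B \ W).card = 1 by
          rw [Finset.card_sdiff_of_subset hWB, (hBU B hB).2, hWc]; omega)
        have hzB : z ∈ B \ W := hz ▸ Finset.mem_singleton_self z
        have he : B.erase z = W := by
          rw [← Finset.sdiff_singleton_eq_erase, ← hz, Finset.sdiff_sdiff_eq_self hWB]
        exact ⟨⟨B, z⟩, Finset.mem_sigma.2 ⟨hB, Finset.mem_filter.2 ⟨(Finset.mem_sdiff.1 hzB).1, by rw [he, hWi]⟩⟩,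
          he⟩
    rw [hS, Finset.card_sigma]
    have hterm : ∀ B ∈ Blk, (B.filter fun z => ((B.erase z) ∩ A).card = i).card =
        (if (B ∩ A).card = i + 1 then i + 1 else 0) + (if (B ∩ A).card = i then k - i else 0) := by
      intro B hB
      have e1 : ∀ z ∈ B, ((B.erase z) ∩ A).card = if z ∈ A then (B ∩ A).card - 1 else (B ∩ A).card := by
        intro z hz
        rw [Finset.erase_inter]
        split_ifs with h
        · rw [Finset.card_erase_of_mem (Finset.mem_inter.2 ⟨hz, h⟩)]
        · rw [Finset.erase_eq_of_notMem (fun h' => h (Finset.mem_inter.1 h').2)]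
      have hpos := Finset.card_pos.2 (hmeet B hB)
      have hsum := Finset.card_sdiff_add_card_inter B A
      rw [(hBU B hB).2] at hsum
      split_ifs with h1 h2 h2
      · omega
      · rw [show (B.filter fun z => ((B.erase z) ∩ A).card = i) = B ∩ A by
          ext z
          rw [Finset.mem_filter, Finset.mem_inter]
          refine and_congr_right fun hz => ?_
          rw [e1 z hz]; split_ifs with h <;> simp [h] <;> omega]
        omega
      · rw [show (B.filter fun z => ((B.erase z) ∩ A).card = i) = B \ A by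
          ext z
          rw [Finset.mem_filter, Finset.mem_sdiff]
          refine and_congr_right fun hz => ?_
          rw [e1 z hz]; split_ifs with h <;> simp [h] <;> omega]
        omega
      · rw [Finset.card_eq_zero.2 (Finset.filter_eq_empty_iff.2 fun z hz => by
          rw [e1 z hz]; split_ifs <;> omega)]
    rw [Finset.sum_congr rfl hterm, Finset.sum_add_distrib, ← Finset.sum_filter, ← Finset.sum_filter,
      Finset.sum_const, Finset.sum_const]
    simp only [N, smul_eq_mul]
    ring
  have hN0 : N 0 = 0 := Finset.card_eq_zero.2 (Finset.filter_eq_empty_iff.2 fun B hB h =>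
    (Finset.card_pos.2 (hmeet B hB)).ne' h)
  set a := A.card with ha
  set c := (U \ A).card with hc
  have hind : ∀ i, i ≤ k →
      ((a : ℤ) + c - k + 1) * N i + (-1) ^ i * (k.choose i * c.choose k) = a.choose i * c.choose (k - i) := by
    intro i
    induction i with
    | zero => intro _; simp [hN0]
    | succ i ih =>
      intro hi
      have h0 := ih (by omega)
      have hr : ((a.choose i * c.choose (k - 1 - i) : ℕ) : ℤ) =
          ((i : ℤ) + 1) * N (i + 1) + ((k : ℤ) - i) * N i := by
        rw [hrec i (by omega)]; push_cast [Nat.cast_sub (show i ≤ k by omega)]; ring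
      push_cast at hr
      have e1 : ((i : ℤ) + 1) * (k.choose (i + 1) : ℤ) = ((k : ℤ) - i) * k.choose i := by
        have h := congrArg (Nat.cast : ℕ → ℤ) (Nat.choose_succ_right_eq k i)
        push_cast [Nat.cast_sub (show i ≤ k by omega)] at h
        linarith
      have e2 : ((i : ℤ) + 1) * (a.choose (i + 1) : ℤ) = ((a : ℤ) - i) * a.choose i := by
        rcases le_or_gt i a with h' | h'
        · have h := congrArg (Nat.cast : ℕ → ℤ) (Nat.choose_succ_right_eq a i)
          push_cast [Nat.cast_sub h'] at h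
          linarith
        · simp [Nat.choose_eq_zero_of_lt h', Nat.choose_eq_zero_of_lt (show a < i + 1 by omega)]
      have hki : k - i = (k - 1 - i) + 1 := by omega
      have e3 : ((k : ℤ) - i) * (c.choose (k - i) : ℤ) =
          ((c : ℤ) - ((k : ℤ) - 1 - i)) * c.choose (k - 1 - i) := by
        have h := congrArg (Nat.cast : ℕ → ℤ) (Nat.choose_succ_right_eq c (k - 1 - i))
        rw [← hki] at h
        push_cast [Nat.cast_sub (show k - 1 - i ≤ c by omega), Nat.cast_sub (show i ≤ k - 1 by omega),
          Nat.cast_sub (show 1 ≤ k from hk1), Nat.cast_sub (show i ≤ k by omega)] at h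
        linarith
      rw [show k - (i + 1) = k - 1 - i by omega]
      apply mul_left_cancel₀ (show ((i : ℤ) + 1) ≠ 0 by omega)
      rw [pow_succ]
      linear_combination ((a : ℤ) + c - k + 1) * (-hr) - ((k : ℤ) - i) * h0
        - (-1) ^ i * (c.choose k : ℤ) * e1 - (c.choose (k - 1 - i) : ℤ) * e2 - (a.choose i : ℤ) * e3
  have h := hind k le_rfl
  rw [hk.neg_one_pow, Nat.choose_self, Nat.sub_self, Nat.choose_zero_right] at h
  have hlt : a.choose k < c.choose k := by
    obtain ⟨j, rfl⟩ : ∃ j, k = j + 1 := ⟨k - 1, by omega⟩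
    obtain ⟨c', hc'⟩ : ∃ c', c = c' + 1 := ⟨c - 1, by omega⟩
    have h1 := Nat.choose_le_choose (j + 1) (show a ≤ c' by omega)
    have h2 := Nat.choose_pos (show j ≤ c' by omega)
    rw [hc', Nat.choose_succ_succ]
    simp only [Nat.succ_eq_add_one]
    omega
  have hnn : (0 : ℤ) ≤ ((a : ℤ) + c - k + 1) * N k := mul_nonneg (by omega) (Int.natCast_nonneg _)
  push_cast at h
  omega

/-! ### Marggraff's theorem -/

section Closure

variable {Γ : Finset Ω}

theorem card_clo_eq {k : ℕ} (hk : IsMultiplyPretransitive G Ω k) (hkn : k ≤ Fintype.card Ω)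
    {S S' : Finset Ω} (hS : S.card = k) (hS' : S'.card = k) : (clo G Γ S).card = (clo G Γ S').card := by
  obtain ⟨g, rfl⟩ := exists_smul_eq_of_card hk hkn hS.le (hS.trans hS'.symm)
  rw [clo_smul, Finset.card_smul_finset]

theorem clo_eq_of_subset {k : ℕ} (hk : IsMultiplyPretransitive G Ω k) (hkn : k ≤ Fintype.card Ω)
    {S S' : Finset Ω} (hS : S.card = k) (hS' : S'.card = k) (hsub : S' ⊆ clo G Γ S) :
    clo G Γ S' = clo G Γ S :=
  Finset.eq_of_subset_of_card_le (clo_subset hsub) (card_clo_eq hk hkn hS hS').le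

/-- No further point is avoided by all translates avoiding a `k`-set. -/
theorem clo_eq_self {k : ℕ} (hk : IsMultiplyPretransitive G Ω k) (hk2 : 2 ≤ k) (hm : 2 ≤ Γ.card)
    (hcase : (k = 2 ∧ 2 * Γ.card < Fintype.card Ω) ∨ (Fintype.card Ω = 2 * Γ.card + 1 ∧ 2 * k ≤ Γ.card + 3))
    {S : Finset Ω} (hS : S.card = k) : clo G Γ S = S := by
  classical
  by_contra hne
  set m := Γ.card with hm_def
  set n := Fintype.card Ω with hn_def
  have hkn : k ≤ n := by omega
  set C := univ \ Γ with hC
  have hCc : C.card = n - m := by rw [hC, Finset.card_univ_diff]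
  have hq : k + 1 ≤ (clo G Γ S).card := by
    have h := Finset.card_le_card (subset_clo (G := G) Γ S)
    rcases Nat.lt_or_ge k (clo G Γ S).card with h' | h'
    · omega
    · exact absurd (Finset.eq_of_subset_of_card_le (subset_clo (G := G) Γ S) (by omega)).symm hne
  set q := (clo G Γ S).card with hq_def
  have hqc : ∀ S' : Finset Ω, S'.card = k → (clo G Γ S').card = q := fun S' hS' => card_clo_eq hk hkn hS' hS
  have hout : ∀ W : Finset Ω, W ⊆ C → ∀ y ∈ Γ, y ∉ clo G Γ W := fun W hW y hy hmem => by
    have h := mem_clo.1 hmem 1 (by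
      rw [one_smul]; exact Finset.disjoint_left.2 fun z hz hzW => (Finset.mem_sdiff.1 (hW hzW)).2 hz)
    rw [one_smul] at h
    exact h hy
  obtain ⟨x, hx⟩ : Γ.Nonempty := Finset.card_pos.1 (by omega)
  have hxC : x ∉ C := fun h => (Finset.mem_sdiff.1 h).2 hx
  obtain ⟨R₀, hR₀C, hR₀c⟩ := Finset.exists_subset_card_eq (s := C) (n := k - 2) (by omega)
  have hins : ∀ r ∈ C \ R₀, (insert x (insert r R₀)).card = k ∧ insert r R₀ ⊆ C := fun r hr => by
    obtain ⟨hrC, hrR⟩ := Finset.mem_sdiff.1 hr
    have hsub : insert r R₀ ⊆ C := Finset.insert_subset hrC hR₀C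
    refine ⟨?_, hsub⟩
    rw [Finset.card_insert_of_notMem (fun h => hxC (hsub h)), Finset.card_insert_of_notMem hrR, hR₀c]
    omega
  let Q : Ω → Finset Ω := fun r => clo G Γ (insert x (insert r R₀))
  have hQC : ∀ r ∈ C \ R₀, Q r ∩ C = insert r R₀ := fun r hr => by
    obtain ⟨hc, hsub⟩ := hins r hr
    refine Finset.Subset.antisymm (fun z hz => ?_) (Finset.subset_inter
      ((Finset.subset_insert _ _).trans (subset_clo _ _)) hsub)
    obtain ⟨hzQ, hzC⟩ := Finset.mem_inter.1 hz
    by_contra hzn
    have hW : (insert z (insert r R₀)).card = k := by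
      rw [Finset.card_insert_of_notMem hzn, Finset.card_insert_of_notMem (Finset.mem_sdiff.1 hr).2, hR₀c]
      omega
    have heq := clo_eq_of_subset (Γ := Γ) hk hkn hc hW
      (Finset.insert_subset hzQ ((Finset.subset_insert _ _).trans (subset_clo _ _)))
    exact hout _ (Finset.insert_subset hzC hsub) x hx (heq ▸ subset_clo _ _ (Finset.mem_insert_self _ _))
  let D : Ω → Finset Ω := fun r => (Q r ∩ Γ).erase x
  have hDc : ∀ r ∈ C \ R₀, (D r).card = q - k := fun r hr => by
    obtain ⟨hc, -⟩ := hins r hr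
    have hxQ : x ∈ Q r ∩ Γ := Finset.mem_inter.2 ⟨subset_clo _ _ (Finset.mem_insert_self _ _), hx⟩
    have h := Finset.card_inter_add_card_sdiff (Q r) Γ
    rw [show Q r \ Γ = Q r ∩ C by ext z; simp [C], hQC r hr,
      Finset.card_insert_of_notMem (Finset.mem_sdiff.1 hr).2, hR₀c, hqc _ hc] at h
    simp only [D, Finset.card_erase_of_mem hxQ]
    omega
  have hdisj : ((C \ R₀ : Finset Ω) : Set Ω).PairwiseDisjoint D := fun r hr s hs hrs => by
    refine Finset.disjoint_left.2 fun y hy hy' => ?_
    obtain ⟨hyx, hy⟩ := Finset.mem_erase.1 hy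
    obtain ⟨-, hy'⟩ := Finset.mem_erase.1 hy'
    have hyΓ := (Finset.mem_inter.1 hy).2
    have hW : (insert y (insert x R₀)).card = k := by
      rw [Finset.card_insert_of_notMem, Finset.card_insert_of_notMem (fun h => hxC (hR₀C h)), hR₀c]
      · omega
      · simp only [Finset.mem_insert, not_or]
        exact ⟨hyx, fun h => (Finset.mem_sdiff.1 (hR₀C h)).2 hyΓ⟩
    have hsub : ∀ t, insert x R₀ ⊆ clo G Γ (insert x (insert t R₀)) := fun t =>
      (Finset.insert_subset_insert _ (Finset.subset_insert _ _)).trans (subset_clo _ _)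
    have e1 := clo_eq_of_subset (Γ := Γ) hk hkn (hins r hr).1 hW
      (Finset.insert_subset (Finset.mem_inter.1 hy).1 (hsub r))
    have e2 := clo_eq_of_subset (Γ := Γ) hk hkn (hins s hs).1 hW
      (Finset.insert_subset (Finset.mem_inter.1 hy').1 (hsub s))
    have hs' := Finset.mem_sdiff.1 (Finset.mem_coe.1 hs)
    have : s ∈ Q r ∩ C := Finset.mem_inter.2 ⟨by
      show s ∈ clo G Γ _
      rw [← e1, e2]
      exact subset_clo _ _ (Finset.mem_insert_of_mem (Finset.mem_insert_self _ _)), hs'.1⟩
    rw [hQC r hr, Finset.mem_insert] at this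
    rcases this with h | h
    · exact hrs h.symm
    · exact hs'.2 h
  have hcount : (n - m - (k - 2)) * (q - k) ≤ m - 1 := by
    have hle : (C \ R₀).biUnion D ⊆ Γ.erase x :=
      Finset.biUnion_subset.2 fun r _ => Finset.erase_subset_erase _ Finset.inter_subset_right
    have h := Finset.card_le_card hle
    rw [Finset.card_biUnion hdisj, Finset.sum_congr rfl hDc, Finset.sum_const, smul_eq_mul,
      Finset.card_sdiff_of_subset hR₀C, hCc, hR₀c, Finset.card_erase_of_mem hx] at h
    exact h
  by_cases hk' : k = 2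
  · have h := Nat.mul_le_mul_left (n - m - (k - 2)) (show 1 ≤ q - k by omega)
    omega
  obtain ⟨hn, hkm⟩ : n = 2 * m + 1 ∧ 2 * k ≤ m + 3 := hcase.resolve_left fun h => hk' h.1
  by_cases hq2 : 2 ≤ q - k
  · have h := Nat.mul_le_mul_left (n - m - (k - 2)) hq2
    omega
  -- now the closures form a Steiner system
  have hqk : q = k + 1 := by omega
  have heven : Even k := by
    obtain ⟨R, -, hRc⟩ := Finset.exists_subset_card_eq (s := (univ : Finset Ω)) (n := k - 1)
      (by rw [Finset.card_univ]; omega)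
    let f : Ω → Finset Ω := fun y => clo G Γ (insert y R)
    have hfc : ∀ y ∈ univ \ R, (insert y R).card = k := fun y hy => by
      rw [Finset.card_insert_of_notMem (Finset.mem_sdiff.1 hy).2, hRc]; omega
    have hfib : ∀ Q' ∈ (univ \ R).image f, ((univ \ R).filter fun y => f y = Q').card = 2 := by
      intro Q' hQ'
      obtain ⟨y, hy, rfl⟩ := Finset.mem_image.1 hQ'
      rw [show ((univ \ R).filter fun z => f z = f y) = f y \ R by
        ext z
        simp only [Finset.mem_filter, Finset.mem_sdiff, Finset.mem_univ, true_and]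
        constructor
        · rintro ⟨hzR, hzf⟩
          exact ⟨hzf ▸ subset_clo _ _ (Finset.mem_insert_self _ _), hzR⟩
        · rintro ⟨hzf, hzR⟩
          exact ⟨hzR, clo_eq_of_subset hk hkn (hfc y hy) (hfc z (Finset.mem_sdiff.2 ⟨Finset.mem_univ _, hzR⟩))
            (Finset.insert_subset hzf ((Finset.subset_insert _ _).trans (subset_clo _ _)))⟩]
      rw [Finset.card_sdiff_of_subset ((Finset.subset_insert _ _).trans (subset_clo _ _)), hqc _ (hfc y hy), hRc]
      omega
    have h := Finset.card_eq_sum_card_image f (univ \ R)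
    rw [Finset.sum_congr rfl hfib, Finset.sum_const, smul_eq_mul, Finset.card_univ_diff, hRc] at h
    rw [Nat.even_iff]
    omega
  refine steiner_false (univ.erase x) (Γ.erase x) (Finset.erase_subset_erase _ (Finset.subset_univ _)) heven
    (by omega) ?_ ?_ (((univ.erase x).powersetCard (k - 1)).image fun W => (clo G Γ (insert x W)).erase x)
    ?_ ?_ ?_
  · rw [show univ.erase x \ Γ.erase x = C by ext z; by_cases hz : z = x <;> simp [C, hz, hx],
      hCc, Finset.card_erase_of_mem hx]
    omega
  · rw [show univ.erase x \ Γ.erase x = C by ext z; by_cases hz : z = x <;> simp [C, hz, hx], hCc]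
    omega
  all_goals
    have hWc : ∀ W ∈ (univ.erase x).powersetCard (k - 1), (insert x W).card = k := fun W hW => by
      obtain ⟨hWU, hWc⟩ := Finset.mem_powersetCard.1 hW
      rw [Finset.card_insert_of_notMem (fun h => (Finset.mem_erase.1 (hWU h)).1 rfl), hWc]
      omega
    have hB : ∀ W ∈ (univ.erase x).powersetCard (k - 1), ((clo G Γ (insert x W)).erase x).card = k :=
      fun W hW => by
        rw [Finset.card_erase_of_mem (subset_clo _ _ (Finset.mem_insert_self _ _)), hqc _ (hWc W hW)]
        omega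
  · rintro B hB'
    obtain ⟨W, hW, rfl⟩ := Finset.mem_image.1 hB'
    exact ⟨Finset.erase_subset_erase _ (Finset.subset_univ _), hB W hW⟩
  · rintro B hB'
    obtain ⟨W, hW, rfl⟩ := Finset.mem_image.1 hB'
    rw [Finset.nonempty_iff_ne_empty]
    intro he
    have hBC : (clo G Γ (insert x W)).erase x ⊆ C := fun z hz => by
      refine Finset.mem_sdiff.2 ⟨Finset.mem_univ _, fun hzΓ => ?_⟩
      exact Finset.eq_empty_iff_forall_notMem.1 he z (Finset.mem_inter.2 ⟨hz,
        Finset.mem_erase.2 ⟨(Finset.mem_erase.1 hz).1, hzΓ⟩⟩)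
    have heq := clo_eq_of_subset (Γ := Γ) hk hkn (hWc W hW) (hB W hW) (Finset.erase_subset _ _)
    exact hout _ hBC x hx (by rw [heq]; exact subset_clo _ _ (Finset.mem_insert_self _ _))
  · intro W hWU hWk
    have hW : W ∈ (univ.erase x).powersetCard (k - 1) := Finset.mem_powersetCard.2 ⟨hWU, by omega⟩
    refine ⟨(clo G Γ (insert x W)).erase x, ⟨Finset.mem_image_of_mem _ hW, fun z hz =>
      Finset.mem_erase.2 ⟨(Finset.mem_erase.1 (hWU hz)).1, subset_clo _ _ (Finset.mem_insert_of_mem hz)⟩⟩, ?_⟩
    rintro B ⟨hB', hWB⟩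
    obtain ⟨W', hW', rfl⟩ := Finset.mem_image.1 hB'
    rw [clo_eq_of_subset hk hkn (hWc W' hW') (hWc W hW) (Finset.insert_subset
      (subset_clo _ _ (Finset.mem_insert_self _ _)) (hWB.trans (Finset.erase_subset _ _)))]

/-- One more degree of transitivity in the critical case. -/
theorem isMultiplyPretransitive_succ (hJ : IsJordan G Γ) {k : ℕ} (hk : IsMultiplyPretransitive G Ω k)
    (hk2 : 2 ≤ k) (hm : 2 ≤ Γ.card) (hn : Fintype.card Ω = 2 * Γ.card + 1) (hkm : 2 * k ≤ Γ.card + 3) :
    IsMultiplyPretransitive G Ω (k + 1) := by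
  classical
  have hkn : k ≤ Fintype.card Ω := by omega
  have htrans : ∀ S : Finset Ω, S.card = k → ∀ x, x ∉ S → ∀ y, y ∉ S → ∃ g : G, (∀ s ∈ S, g • s = s) ∧ g • x = y := by
    intro S hS x hx y hy
    have hclo := clo_eq_self (G := G) (Γ := Γ) hk hk2 hm (Or.inr ⟨hn, hkm⟩) hS
    have hT : ∀ z, z ∉ S → ∃ u : G, Disjoint (u • Γ) S ∧ z ∈ u • Γ := fun z hz => by
      rw [← hclo, mem_clo] at hz
      push Not at hz
      exact hz
    obtain ⟨u, hu, hxu⟩ := hT x hx
    obtain ⟨v, hv, hyv⟩ := hT y hy
    have hmeet : ¬ Disjoint (u • Γ) (v • Γ) := fun hd => by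
      have h := Finset.card_le_card (show u • Γ ∪ v • Γ ⊆ univ \ S from fun z hz => Finset.mem_sdiff.2
        ⟨Finset.mem_univ _, fun hzS => by
          rcases Finset.mem_union.1 hz with h | h
          · exact Finset.disjoint_left.1 hu h hzS
          · exact Finset.disjoint_left.1 hv h hzS⟩)
      rw [Finset.card_union_of_disjoint hd, Finset.card_smul_finset, Finset.card_smul_finset,
        Finset.card_univ_diff] at h
      omega
    obtain ⟨z, hzu, hzv⟩ := Finset.not_disjoint_iff.1 hmeet
    obtain ⟨a, ha, hafix⟩ := hJ.smul u x hxu z hzu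
    obtain ⟨b, hb, hbfix⟩ := hJ.smul v z hzv y hyv
    refine ⟨b * a, fun s hs => ?_, by rw [mul_smul, ha, hb]⟩
    rw [mul_smul, hafix s (fun h => Finset.disjoint_left.1 hu h hs),
      hbfix s (fun h => Finset.disjoint_left.1 hv h hs)]
  haveI := hk
  refine ⟨fun e e' => ?_⟩
  obtain ⟨g, hg⟩ := MulAction.exists_smul_eq G (Fin.castSuccEmb.trans e) (Fin.castSuccEmb.trans e')
  have hg' : ∀ i : Fin k, g • e i.castSucc = e' i.castSucc := fun i => by
    have := congrArg (fun f : Fin k ↪ Ω => f i) hg
    simpa [Function.Embedding.smul_apply] using this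
  let S : Finset Ω := (univ : Finset (Fin k)).map (Fin.castSuccEmb.trans e')
  have hS : S.card = k := by simp [S]
  have hmemS : ∀ i : Fin k, e' i.castSucc ∈ S := fun i => Finset.mem_map.2 ⟨i, Finset.mem_univ _, rfl⟩
  have hnot : ∀ z, (∀ i : Fin k, z ≠ e' i.castSucc) → z ∉ S := fun z hz h => by
    obtain ⟨i, -, rfl⟩ := Finset.mem_map.1 h
    exact hz i rfl
  obtain ⟨h, hhS, hh⟩ := htrans S hS (g • e (Fin.last k)) (hnot _ fun i he => by
      rw [← hg' i] at he
      exact (Fin.castSucc_lt_last i).ne' (e.injective (MulAction.injective g he)))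
    (e' (Fin.last k)) (hnot _ fun i he => (Fin.castSucc_lt_last i).ne' (e'.injective he))
  refine ⟨h * g, Function.Embedding.ext fun i => ?_⟩
  rw [Function.Embedding.smul_apply, mul_smul]
  induction i using Fin.lastCases with
  | last => exact hh
  | cast i => rw [hg', hhS _ (hmemS i)]

end Closure

theorem two_transitive {G Ω : Type*} [Group G] [MulAction G Ω] [Fintype Ω] [DecidableEq Ω]
    (hG : IsPreprimitive G Ω) {Γ : Finset Ω} (hJ : IsJordan G Γ) (hm : 2 ≤ Γ.card)
    (hmn : 2 * Γ.card < Fintype.card Ω) : IsMultiplyPretransitive G Ω 2 := by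
  classical
  refine hG.is_two_pretransitive (s := ((univ \ Γ : Finset Ω) : Set Ω)) (n := Fintype.card Ω - Γ.card - 1) ?_ ?_
    ⟨fun x y => ?_⟩
  · rw [Set.ncard_coe_finset, Finset.card_univ_diff]; omega
  · rw [Nat.card_eq_fintype_card]; omega
  · have hmem : ∀ z : SubMulAction.ofFixingSubgroup G ((univ \ Γ : Finset Ω) : Set Ω), (z : Ω) ∈ Γ := fun z => by
      by_contra h
      exact z.2 (by simp [h])
    obtain ⟨g, hg, hfix⟩ := hJ _ (hmem x) _ (hmem y)
    refine ⟨⟨g, (mem_fixingSubgroup_iff G).2 fun z hz => hfix z (by simpa using hz)⟩, Subtype.ext hg⟩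

theorem exists_moved {G Ω : Type*} [Group G] [MulAction G Ω] {Γ : Finset Ω} (hJ : IsJordan G Γ)
    (hm : 2 ≤ Γ.card) : ∃ a : G, (∃ x : Ω, a • x ≠ x) ∧ ∀ z, z ∉ Γ → a • z = z := by
  obtain ⟨x, hx, y, hy, hxy⟩ := Finset.one_lt_card.1 (show 1 < Γ.card by omega)
  obtain ⟨a, ha, hfix⟩ := hJ x hx y hy
  exact ⟨a, ⟨x, by rw [ha]; exact hxy.symm⟩, hfix⟩

/-- In a primitive group with a small Jordan set the point stabiliser is primitive. -/
theorem stabilizer_primitive {G Ω : Type*} [Group G] [MulAction G Ω] [Fintype Ω] [DecidableEq Ω]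
    (hG : IsPreprimitive G Ω) {Γ : Finset Ω} (hJ : IsJordan G Γ) (hm : 2 ≤ Γ.card)
    (hmn : 2 * Γ.card < Fintype.card Ω) (w : Ω) :
    IsPreprimitive (stabilizer G w) (SubMulAction.ofStabilizer G w) := by
  classical
  have h2 := two_transitive hG hJ hm hmn
  have hn2 : 2 ≤ Fintype.card Ω := by omega
  haveI : IsPretransitive (stabilizer G w) (SubMulAction.ofStabilizer G w) := by
    refine ⟨fun x y => ?_⟩
    obtain ⟨g, hg⟩ := exists_move h2 hn2 (s := {(x : Ω), w}) (Finset.card_le_two)
      (fun z => if z = w then w else (y : Ω)) (by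
        intro u hu v hv huv
        simp only [Finset.coe_insert, Finset.coe_singleton, Set.mem_insert_iff, Set.mem_singleton_iff] at hu hv
        by_cases h1 : u = w <;> by_cases h2 : v = w
        · rw [h1, h2]
        · simp [h1, h2] at huv; exact absurd huv.symm y.2
        · simp [h1, h2] at huv; exact absurd huv y.2
        · rw [hu.resolve_right h1, hv.resolve_right h2])
    refine ⟨⟨g, by rw [mem_stabilizer_iff, hg w (by simp), if_pos rfl]⟩, Subtype.ext ?_⟩
    show g • (x : Ω) = y
    rw [hg x (by simp)]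
    exact if_neg x.2
  refine ⟨fun {B} hB => ?_⟩
  by_contra hnt
  rw [IsTrivialBlock, not_or, Set.not_subsingleton_iff] at hnt
  obtain ⟨⟨x₀, hx₀, z₀, hz₀, hxz⟩, hne⟩ := hnt
  obtain ⟨y₀, hy₀⟩ := (Set.ne_univ_iff_exists_notMem B).1 hne
  let BF : Finset Ω := (univ.filter fun p => ∃ h : p ∈ SubMulAction.ofStabilizer G w,
    (⟨p, h⟩ : SubMulAction.ofStabilizer G w) ∈ B)
  have hBF : ∀ z : SubMulAction.ofStabilizer G w, (z : Ω) ∈ BF ↔ z ∈ B := fun z => by
    simp only [BF, Finset.mem_filter, Finset.mem_univ, true_and]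
    exact ⟨fun ⟨_, h⟩ => h, fun h => ⟨z.2, h⟩⟩
  have hwBF : w ∉ BF := fun h => (Finset.mem_filter.1 h).2.1 rfl
  have hblock : ∀ g : G, g • w = w → ∀ p ∈ BF, g • p ∈ BF → g • BF = BF := fun g hgw p hp hgp => by
    obtain ⟨hp', hpB⟩ := (Finset.mem_filter.1 hp).2
    let g' : stabilizer G w := ⟨g, hgw⟩
    have heq : g' • B = B := (isBlock_iff_smul_eq_or_disjoint.1 hB g').resolve_right fun hd =>
      Set.disjoint_left.1 hd (Set.smul_mem_smul_set hpB) ((hBF (g' • ⟨p, hp'⟩)).1 hgp)
    refine Finset.eq_of_subset_of_card_le (fun z hz => ?_) (Finset.card_smul_finset g BF).ge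
    obtain ⟨u, hu, rfl⟩ := Finset.mem_smul_finset.1 hz
    obtain ⟨hu', huB⟩ := (Finset.mem_filter.1 hu).2
    have h := Set.smul_mem_smul_set (a := g') huB
    rw [heq] at h
    exact (hBF _).2 h
  have hdich : ∀ u : G, w ∉ u • Γ → ∀ p, p ∈ u • Γ → p ∈ BF → u • Γ ⊆ BF ∨ BF ⊆ u • Γ := by
    intro u hw p hpu hp
    by_cases hsub : BF ⊆ u • Γ
    · exact Or.inr hsub
    obtain ⟨q, hq, hqu⟩ := Finset.not_subset.1 hsub
    refine Or.inl fun t ht => ?_
    obtain ⟨a, ha, hafix⟩ := hJ.smul u p hpu t ht
    have h := hblock a (hafix w hw) q hq (by rw [hafix q hqu]; exact hq)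
    rw [← h, ← ha]
    exact Finset.smul_mem_smul_finset hp
  set m := Γ.card
  have hTc : ∀ u : G, (u • Γ).card = m := fun u => Finset.card_smul_finset _ _
  have hx₀' := (hBF x₀).2 hx₀
  have hz₀' := (hBF z₀).2 hz₀
  rcases le_or_gt BF.card m with hb | hb
  · -- every translate meeting the block contains it
    have hmem : (z₀ : Ω) ∈ clo G Γ {w, (x₀ : Ω)} := mem_clo.2 fun u hd hzu => by
      rw [Finset.disjoint_insert_right, Finset.disjoint_singleton_right] at hd
      rcases hdich u hd.1 _ hzu hz₀' with h | h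
      · rw [Finset.eq_of_subset_of_card_le h (by rw [hTc]; exact hb)] at hd
        exact hd.2 hx₀'
      · exact hd.2 (h hx₀')
    rw [clo_eq_self h2 le_rfl hm (Or.inl ⟨rfl, hmn⟩) (Finset.card_pair (show (x₀ : Ω) ≠ w from x₀.2).symm)] at hmem
    rcases Finset.mem_insert.1 hmem with h | h
    · exact z₀.2 h
    · exact hxz (Subtype.ext (Finset.mem_singleton.1 h).symm)
  · -- every translate meeting the block lies inside it
    have hin : ∀ u : G, w ∉ u • Γ → ∀ p, p ∈ u • Γ → p ∈ BF → u • Γ ⊆ BF := fun u hw p hpu hp =>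
      (hdich u hw p hpu hp).resolve_right fun h => by
        have := Finset.card_le_card h
        rw [hTc] at this
        omega
    let Tr : Finset (Finset Ω) := univ.filter fun T => ∃ u : G, T = u • Γ
    let A : Ω → Finset (Finset Ω) := fun y => Tr.filter fun T => (x₀ : Ω) ∈ T ∧ y ∈ T
    have hpair : ∀ a b : Ω, a ≠ x₀ → b ≠ x₀ → (A a).card ≤ (A b).card := fun a b ha hb' => by
      obtain ⟨g, hg⟩ := exists_move h2 hn2 (s := {(x₀ : Ω), a}) (Finset.card_le_two)
        (fun z => if z = (x₀ : Ω) then (x₀ : Ω) else b) (by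
          intro u hu v hv huv
          simp only [Finset.coe_insert, Finset.coe_singleton, Set.mem_insert_iff, Set.mem_singleton_iff] at hu hv
          rcases hu with rfl | rfl <;> rcases hv with rfl | rfl
          · rfl
          · simp [ha] at huv; exact absurd huv.symm hb'
          · simp [ha] at huv; exact absurd huv hb'
          · rfl)
      have hgx : g • (x₀ : Ω) = x₀ := by rw [hg _ (by simp), if_pos rfl]
      have hga : g • a = b := by rw [hg _ (by simp)]; exact if_neg ha
      refine Finset.card_le_card_of_injOn (fun T => g • T) (fun T hT => ?_)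
        (fun T _ T' _ h => (smul_left_cancel_iff g).1 h)
      simp only [A, Tr, Finset.coe_filter, Set.mem_setOf_eq, Finset.mem_filter, Finset.mem_univ, true_and] at hT ⊢
      obtain ⟨⟨u, rfl⟩, hx, ha'⟩ := hT
      exact ⟨⟨g * u, smul_smul _ _ _⟩, hgx ▸ Finset.smul_mem_smul_finset hx, hga ▸ Finset.smul_mem_smul_finset ha'⟩
    have hcont : ∀ y, y ∉ BF → y ≠ w → ∀ T ∈ A w, y ∈ T := fun y hy hyw T hT => by
      have hsub : A y ⊆ A w := fun T' hT' => by
        simp only [A, Tr, Finset.mem_filter, Finset.mem_univ, true_and] at hT' ⊢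
        obtain ⟨⟨u, rfl⟩, hx, hy'⟩ := hT'
        exact ⟨⟨u, rfl⟩, hx, by_contra fun hw => hy (hin u hw _ hx hx₀' hy')⟩
      have heq := Finset.eq_of_subset_of_card_le hsub (hpair w y (show (x₀ : Ω) ≠ w from x₀.2).symm fun h => hy (h ▸ hx₀'))
      rw [← heq] at hT
      exact (Finset.mem_filter.1 hT).2.2
    obtain ⟨p, hp, q, hq, hpq⟩ := Finset.one_lt_card.1 (show 1 < Γ.card by omega)
    obtain ⟨g, hg⟩ := exists_move h2 hn2 (s := {p, q}) (Finset.card_le_two)
      (fun z => if z = p then (x₀ : Ω) else w) (by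
        intro u hu v hv huv
        simp only [Finset.coe_insert, Finset.coe_singleton, Set.mem_insert_iff, Set.mem_singleton_iff] at hu hv
        rcases hu with rfl | rfl <;> rcases hv with rfl | rfl
        · rfl
        · simp [hpq.symm] at huv; exact absurd huv x₀.2
        · simp [hpq.symm] at huv; exact absurd huv.symm x₀.2
        · rfl)
    have hT : g • Γ ∈ A w := by
      simp only [A, Tr, Finset.mem_filter, Finset.mem_univ, true_and]
      refine ⟨⟨g, rfl⟩, ?_, ?_⟩
      · have := Finset.smul_mem_smul_finset (a := g) hp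
        rwa [hg p (by simp), if_pos rfl] at this
      · have := Finset.smul_mem_smul_finset (a := g) hq
        rwa [hg q (by simp), if_neg hpq.symm] at this
    have hbig := Finset.card_le_card (show insert (x₀ : Ω) (univ \ BF) ⊆ g • Γ from fun z hz => by
      rcases Finset.mem_insert.1 hz with rfl | hz
      · exact (Finset.mem_filter.1 hT).2.1
      · by_cases hzw : z = w
        · rw [hzw]; exact (Finset.mem_filter.1 hT).2.2
        · exact hcont z (Finset.mem_sdiff.1 hz).2 hzw _ hT)
    rw [hTc, Finset.card_insert_of_notMem (fun h => (Finset.mem_sdiff.1 h).2 hx₀'), Finset.card_univ_diff] at hbig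
    obtain ⟨u, hu⟩ := MulAction.exists_smul_eq (stabilizer G w) x₀ y₀
    have hd : Disjoint BF ((u : G) • BF) := Finset.disjoint_left.2 fun z hz hz' => by
      obtain ⟨v, hv, rfl⟩ := Finset.mem_smul_finset.1 hz'
      have h := hblock u u.2 v hv hz
      have h' := Finset.smul_mem_smul_finset (a := (u : G)) hx₀'
      rw [h] at h'
      exact hy₀ ((hBF y₀).1 (by rw [← hu]; exact h'))
    have h2b := Finset.card_le_card (show BF ∪ (u : G) • BF ⊆ univ.erase w from fun z hz => by
      refine Finset.mem_erase.2 ⟨fun h => ?_, Finset.mem_univ _⟩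
      subst h
      rcases Finset.mem_union.1 hz with h | h
      · exact hwBF h
      · rw [← Finset.inv_smul_mem_iff, inv_smul_eq_iff.2 (mem_stabilizer_iff.1 u.2).symm] at h
        exact hwBF h)
    rw [Finset.card_union_of_disjoint hd, Finset.card_smul_finset, Finset.card_erase_of_mem (Finset.mem_univ _),
      Finset.card_univ] at h2b
    omega

/-- Marggraff: a primitive group with a Jordan set of more than one and fewer than half of the points
contains a 3-cycle. -/
theorem hasThreeCycle.{u, v} : ∀ (N : ℕ) (G : Type u) [Group G] (Ω : Type v) [MulAction G Ω] [Fintype Ω]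
    [DecidableEq Ω], Fintype.card Ω = N → IsPreprimitive G Ω → ∀ Γ : Finset Ω, IsJordan G Γ →
      2 ≤ Γ.card → 2 * Γ.card < N → HasThreeCycle G Ω := by
  intro N
  induction N using Nat.strong_induction_on with
  | h N ih =>
    intro G _ Ω _ _ _ hN hG Γ hJ hm hmN
    classical
    by_cases hcrit : N = 2 * Γ.card + 1
    · have hk : ∀ k, 2 ≤ k → 2 * k ≤ Γ.card + 5 → IsMultiplyPretransitive G Ω k := by
        intro k hk
        induction k, hk using Nat.le_induction with
        | base => exact fun _ => two_transitive hG hJ hm (hN ▸ hmN)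
        | succ k hk ihk =>
          exact fun h => isMultiplyPretransitive_succ hJ (ihk (by omega)) hk hm (hN.trans hcrit) (by omega)
      obtain ⟨a, hmov, hfix⟩ := exists_moved hJ hm
      refine hasThreeCycle_of_support (hk ((Γ.card + 5) / 2) (by omega) (by omega)) (by omega) Γ.card a
        (Finset.card_le_card fun z hz => ?_) hmov (by omega) (by omega)
      by_contra h
      exact (Finset.mem_filter.1 hz).2 (hfix z h)
    · obtain ⟨w, hw⟩ : (univ \ Γ).Nonempty :=
        Finset.card_pos.1 (by rw [Finset.card_univ_diff]; omega)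
      have hw' := (Finset.mem_sdiff.1 hw).2
      have hprim := stabilizer_primitive hG hJ hm (hN ▸ hmN) w
      haveI : Fintype (SubMulAction.ofStabilizer G w) := Fintype.ofFinite _
      have hcard : Fintype.card (SubMulAction.ofStabilizer G w) = N - 1 := by
        rw [← hN, ← Nat.card_eq_fintype_card,
          Nat.card_congr (Equiv.subtypeEquivRight (fun x => (SubMulAction.mem_ofStabilizer_iff G w))),
          Nat.card_eq_fintype_card, Fintype.card_subtype_compl, Fintype.card_subtype_eq]
      let Γ' : Finset (SubMulAction.ofStabilizer G w) := univ.filter fun z => (z : Ω) ∈ Γ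
      have hΓ' : Γ'.card = Γ.card := Finset.card_bij (fun z _ => (z : Ω)) (fun z hz => (Finset.mem_filter.1 hz).2)
        (fun a _ b _ h => Subtype.ext h) (fun z hz => ⟨⟨z, fun h => hw' (h ▸ hz)⟩, by simpa [Γ'] using hz, rfl⟩)
      have hJ' : IsJordan (stabilizer G w) Γ' := fun x hx y hy => by
        obtain ⟨g, hg, hfix⟩ := hJ _ (Finset.mem_filter.1 hx).2 _ (Finset.mem_filter.1 hy).2
        exact ⟨⟨g, hfix w hw'⟩, Subtype.ext hg, fun z hz => Subtype.ext (hfix z fun h => hz (by simpa [Γ'] using h))⟩
      obtain ⟨g, a, b, c, hab, hbc, hac, h1, h2, h3, hfix⟩ := ih (N - 1) (by omega) (stabilizer G w)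
        (SubMulAction.ofStabilizer G w) hcard hprim Γ' hJ' (hΓ' ▸ hm) (by omega)
      refine ⟨g, a, b, c, fun h => hab (Subtype.ext h), fun h => hbc (Subtype.ext h), fun h => hac (Subtype.ext h),
        congrArg Subtype.val h1, congrArg Subtype.val h2, congrArg Subtype.val h3, fun z hza hzb hzc => ?_⟩
      by_cases hzw : z = w
      · rw [hzw]; exact g.2
      · exact congrArg Subtype.val (hfix ⟨z, hzw⟩ (fun h => hza (congrArg Subtype.val h))
          (fun h => hzb (congrArg Subtype.val h)) (fun h => hzc (congrArg Subtype.val h)))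

end CfsgLib.Perm.Marggraff
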