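import Cfsg.Agent.Lib.Perm.MonomialNormalizer
import Cfsg.Agent.Lib.FusionSystem.GroupSimpleLocal

/-!
# Simplicity of the fusion systems of alternating groups

The model is `((κ × ZMod p) ⊕ τ) × ZMod p ⊕ ρ`.
-/

set_option autoImplicit false
set_option linter.style.haveILetI false
set_option linter.unusedSectionVars false

namespace CfsgLib.Perm.Monomial

open Equiv Cfsg
open scoped Pointwise

variable {p : ℕ} [hp : Fact p.Prime] {κ τ ρ : Type} [Fintype κ] [DecidableEq κ] [Fintype τ] [DecidableEq τ]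
  [Fintype ρ] [DecidableEq ρ]

/-- Translations in the first coordinate of each block. -/
def xtr (a : κ → ZMod p) : Equiv.Perm (Pt p κ τ) := tr a

/-- The shear `(x, y) ↦ (x + c y, y)` in each block. -/
def shear (c : κ → ZMod p) : Equiv.Perm (Pt p (Pt p κ τ) ρ) where
  toFun x := match x with
    | Sum.inl (Sum.inl (j, x), y) => Sum.inl (Sum.inl (j, x + c j * y), y)
    | z => z
  invFun x := match x with
    | Sum.inl (Sum.inl (j, x), y) => Sum.inl (Sum.inl (j, x - c j * y), y)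
    | z => z
  left_inv x := by
    rcases x with ⟨⟨j, x⟩ | t, y⟩ | r <;> simp
  right_inv x := by
    rcases x with ⟨⟨j, x⟩ | t, y⟩ | r <;> simp

/-- The exponents of the shear `(x, y) ↦ (x, y + a x)`. -/
def upVec (a : κ → ZMod p) : Pt p κ τ → ZMod p
  | Sum.inl (j, x) => a j * x
  | Sum.inr _ => 0

/-- The group of translations of all blocks. -/
def vees (p : ℕ) [Fact p.Prime] (κ τ ρ : Type) : Subgroup (Equiv.Perm (Pt p (Pt p κ τ) ρ)) where
  carrier := {g | ∃ (a : κ → ZMod p) (c : κ → ZMod p) (e : τ → ZMod p),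
    g = mon (tr a) 1 (Sum.elim (fun i => c i.1) e)}
  one_mem' := ⟨0, 0, 0, by rw [tr_zero]; exact mon_one.symm.trans (by congr 1; funext i; rcases i with i | i <;> rfl)⟩
  mul_mem' := by
    rintro _ _ ⟨a, c, e, rfl⟩ ⟨a', c', e', rfl⟩
    refine ⟨a + a', c' + c, e' + e, ?_⟩
    rw [mon_mul, ← tr_add]
    congr 1
    all_goals (funext i; rcases i with ⟨j, x⟩ | t <;> simp [tr_inl, tr_inr])
  inv_mem' := by
    rintro _ ⟨a, c, e, rfl⟩
    refine ⟨-a, -c, -e, ?_⟩
    rw [mon_inv, ← tr_neg]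
    congr 1
    all_goals (funext i; rcases i with ⟨j, x⟩ | t <;> simp [tr_inl, tr_inr])

theorem shear_pow_p (c : κ → ZMod p) : shear (τ := τ) (ρ := ρ) c ^ p = 1 := by
  have key : ∀ (k : ℕ) (z : Pt p (Pt p κ τ) ρ), (shear (τ := τ) (ρ := ρ) c ^ k) z =
      shear (k • c) z := by
    intro k
    induction k with
    | zero => intro z; rcases z with ⟨⟨j, x⟩ | t, y⟩ | r <;> simp [shear]
    | succ k ih =>
      intro z
      rw [pow_succ, Equiv.Perm.mul_apply, ih]
      rcases z with ⟨⟨j, x⟩ | t, y⟩ | r <;> simp [shear, add_mul, add_assoc, add_comm, add_left_comm]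
  ext z : 1
  rw [key]
  rcases z with ⟨⟨j, x⟩ | t, y⟩ | r <;> simp [shear]

theorem sign_of_pow_p {α : Type*} [Fintype α] [DecidableEq α] (hp2 : p ≠ 2) {g : Equiv.Perm α}
    (hg : g ^ p = 1) : Equiv.Perm.sign g = 1 := by
  have h := SylowGen.pow_sign hg
  rcases Int.units_eq_one_or (Equiv.Perm.sign g) with e | e
  · exact e
  · rw [e, (hp.out.eq_two_or_odd'.resolve_left hp2).neg_one_pow] at h
    exact absurd h (by decide)

theorem shear_normalizes (c : κ → ZMod p) :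
    shear (τ := τ) (ρ := ρ) c ∈ Subgroup.normalizer (vees p κ τ ρ : Set (Equiv.Perm (Pt p (Pt p κ τ) ρ))) := by
  refine CfsgLib.Coprime.mem_normalizer_of_conj_map_le ?_
  rintro _ ⟨a, b, e, rfl⟩
  refine ⟨fun j => a j + c j * b j, b, e, ?_⟩
  rw [mul_inv_eq_iff_eq_mul]
  ext (⟨⟨j, x⟩ | t, y⟩ | r) <;> simp [shear, tr_inl, tr_inr] <;> ring

theorem up_normalizes (a : κ → ZMod p) :
    tr (ρ := ρ) (upVec (τ := τ) a) ∈ Subgroup.normalizer (vees p κ τ ρ : Set (Equiv.Perm (Pt p (Pt p κ τ) ρ))) := by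
  refine CfsgLib.Coprime.mem_normalizer_of_conj_map_le ?_
  rintro _ ⟨b, c, e, rfl⟩
  refine ⟨b, fun j => c j + a j * b j, e, ?_⟩
  rw [mul_inv_eq_iff_eq_mul]
  ext (⟨⟨j, x⟩ | t, y⟩ | r) <;> simp [upVec, tr_inl, tr_inr] <;> ring

/-- Only the translations of the blocks commute with all of them. -/
theorem mem_vees_of_commute [Subsingleton ρ] {h : Equiv.Perm (Pt p (Pt p κ τ) ρ)}
    (hh : ∀ g ∈ vees p κ τ ρ, h * g = g * h) : h ∈ vees p κ τ ρ := by
  have happ : ∀ g ∈ vees p κ τ ρ, ∀ z, h (g z) = g (h z) := fun g hg z =>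
    congrArg (fun e : Equiv.Perm (Pt p (Pt p κ τ) ρ) => e z) (hh g hg)
  have hmove : ∀ g ∈ vees p κ τ ρ, ∀ z, g z ≠ z → g (h z) ≠ h z := fun g hg z hz e =>
    hz (h.injective ((happ g hg z).trans e))
  have hY : ∀ j : κ, tr (ρ := ρ) (Sum.elim (fun i => (Pi.single j (1 : ZMod p) : κ → ZMod p) i.1) (0 : τ → ZMod p))
      ∈ vees p κ τ ρ := fun j => ⟨0, Pi.single j 1, 0, by rw [tr_zero]; rfl⟩
  have hE : ∀ t : τ, tr (ρ := ρ) (Sum.elim (0 : κ × ZMod p → ZMod p) (Pi.single t (1 : ZMod p))) ∈ vees p κ τ ρ :=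
    fun t => ⟨0, 0, Pi.single t 1, by rw [tr_zero]; rfl⟩
  have hblock : ∀ j : κ, ∃ a c, h (Sum.inl (Sum.inl (j, 0), 0)) = Sum.inl (Sum.inl (j, a), c) := by
    intro j
    have h2 := hmove _ (hY j) (Sum.inl (Sum.inl (j, 0), 0)) (by simp [tr_inl])
    rcases hz : h (Sum.inl (Sum.inl (j, 0), 0)) with ⟨⟨j', a⟩ | t, c⟩ | r
    · by_cases hjj : j' = j
      · subst hjj; exact ⟨a, c, rfl⟩
      · exact absurd (by rw [hz]; simp [tr_inl, hjj]) h2
    · exact absurd (by rw [hz]; simp [tr_inl]) h2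
    · exact absurd (by rw [hz]; simp [tr_inr]) h2
  have hrest : ∀ t : τ, ∃ e, h (Sum.inl (Sum.inr t, 0)) = Sum.inl (Sum.inr t, e) := by
    intro t
    have h2 := hmove _ (hE t) (Sum.inl (Sum.inr t, 0)) (by simp [tr_inl])
    rcases hz : h (Sum.inl (Sum.inr t, 0)) with ⟨⟨j', a⟩ | t', c⟩ | r
    · exact absurd (by rw [hz]; simp [tr_inl]) h2
    · by_cases htt : t' = t
      · subst htt; exact ⟨c, rfl⟩
      · exact absurd (by rw [hz]; simp [tr_inl, htt]) h2
    · exact absurd (by rw [hz]; simp [tr_inr]) h2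
  choose A C hAC using hblock
  choose E hE' using hrest
  refine ⟨A, C, E, ?_⟩
  ext (⟨⟨j, x⟩ | t, y⟩ | r) : 1
  · set g : Equiv.Perm (Pt p (Pt p κ τ) ρ) :=
      mon (tr fun _ : κ => x) 1 (Sum.elim (fun _ => y) (0 : τ → ZMod p))
    have hg : g ∈ vees p κ τ ρ := ⟨fun _ => x, fun _ => y, 0, rfl⟩
    have := happ g hg (Sum.inl (Sum.inl (j, 0), 0))
    rw [hAC] at this
    simp [g, tr_inl] at this
    rw [this]
    simp [tr_inl, add_comm]
  · set g : Equiv.Perm (Pt p (Pt p κ τ) ρ) := tr (Sum.elim (0 : κ × ZMod p → ZMod p) (fun _ : τ => y))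
    have hg : g ∈ vees p κ τ ρ := ⟨0, 0, fun _ => y, by rw [tr_zero]; rfl⟩
    have := happ g hg (Sum.inl (Sum.inr t, 0))
    rw [hE'] at this
    simp [g, tr_inl] at this
    rw [this]
    simp [tr_inr, add_comm]
  · rcases hz : h (Sum.inr r) with ⟨i, y⟩ | r'
    · exfalso
      set g : Equiv.Perm (Pt p (Pt p κ τ) ρ) :=
        tr (Sum.elim (fun _ => (1 : ZMod p)) (fun _ : τ => (1 : ZMod p)))
      have hg : g ∈ vees p κ τ ρ := ⟨0, fun _ => 1, fun _ => 1, by rw [tr_zero]; rfl⟩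
      have := happ g hg (Sum.inr r)
      rw [tr_inr, hz] at this
      rcases i with i | t <;> simp [g, tr_inl] at this
    · rw [mon_inr, Subsingleton.elim r' r]

theorem vees_le_wr {Q₂ : Subgroup (Equiv.Perm κ)} :
    vees p κ τ ρ ≤ wr ρ (wr (p := p) τ Q₂) := by
  rintro _ ⟨a, c, e, rfl⟩
  exact ⟨tr a, tr_mem_wr _ _, _, rfl⟩

/-- The exponents of the diagonal element. -/
def diagVec (μ : κ → (ZMod p)ˣ) : Pt p κ τ → (ZMod p)ˣ
  | Sum.inl (j, _) => μ j
  | Sum.inr _ => 1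

/-- The diagonal element `(x, y) ↦ (μ⁻¹ x, μ y)` of each block. -/
def diag (μ : κ → (ZMod p)ˣ) : Equiv.Perm (Pt p (Pt p κ τ) ρ) :=
  mon (dia fun j => (μ j)⁻¹) (diagVec μ) 0

theorem prod_diagVec (μ : κ → (ZMod p)ˣ) :
    ∏ i : Pt p κ τ, diagVec μ i = ∏ j, μ j := by
  haveI : NeZero p := ⟨hp.out.ne_zero⟩
  rw [Fintype.prod_sum_type, Fintype.prod_prod_type]
  simp only [diagVec, Finset.prod_const, Finset.card_univ, ZMod.card, one_pow, mul_one]
  refine Finset.prod_congr rfl fun j _ => Units.ext ?_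
  rw [Units.val_pow_eq_pow_val, ZMod.pow_card]

theorem diag_eq (μ : κ → (ZMod p)ˣ) :
    diag (τ := τ) (ρ := ρ) μ =
      (tr (upVec fun j => (μ j : ZMod p)) * shear (fun j => -(((μ j)⁻¹ : (ZMod p)ˣ) : ZMod p)) *
        tr (upVec fun j => (μ j : ZMod p))) *
      (tr (upVec fun _ => (-1 : ZMod p)) * shear (fun _ => (1 : ZMod p)) * tr (upVec fun _ => (-1 : ZMod p))) := by
  ext (⟨⟨j, x⟩ | t, y⟩ | r) <;>
    simp only [diag, diagVec, shear, upVec, tr_inl, tr_inr, dia, mon_inl, mon_inr, Equiv.Perm.mul_apply,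
      Equiv.coe_fn_mk, Equiv.Perm.one_apply, Pi.one_apply, Units.val_one, Pi.zero_apply, one_mul, add_zero,
      Sum.inl.injEq, Prod.mk.injEq, mul_zero, zero_mul, Units.val_inv_eq_inv_val] <;>
    (try refine ⟨⟨trivial, ?_⟩, ?_⟩) <;> field_simp <;> ring_nf

theorem shear_eq_conj (c : κ → ZMod p) :
    shear (τ := τ) (ρ := ρ) c =
      (tr (upVec fun _ => (1 : ZMod p)) * shear (fun _ => (-1 : ZMod p)) * tr (upVec fun _ => (1 : ZMod p))) *
        tr (upVec fun j => -c j) *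
      (tr (upVec fun _ => (1 : ZMod p)) * shear (fun _ => (-1 : ZMod p)) * tr (upVec fun _ => (1 : ZMod p)))⁻¹ := by
  rw [eq_mul_inv_iff_mul_eq]
  ext (⟨⟨j, x⟩ | t, y⟩ | r) <;> simp [shear, upVec, tr_inl, tr_inr] <;> ring_nf <;> simp

section Main

variable {G : Type*} [Group G] [Finite G] (π : alternatingGroup (Pt p (Pt p κ τ) ρ) ≃* G)

/-- The image in `G` of a subgroup of the symmetric group. -/
noncomputable def toG (H : Subgroup (Equiv.Perm (Pt p (Pt p κ τ) ρ))) : Subgroup G :=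
  (H.subgroupOf (alternatingGroup (Pt p (Pt p κ τ) ρ))).map π.toMonoidHom

theorem mem_toG {H : Subgroup (Equiv.Perm (Pt p (Pt p κ τ) ρ))}
    {x : alternatingGroup (Pt p (Pt p κ τ) ρ)} : π x ∈ toG π H ↔ (x : Equiv.Perm _) ∈ H :=
  ⟨fun ⟨_, hy, e⟩ => π.injective e ▸ hy, fun h => ⟨x, h, rfl⟩⟩

theorem normalizer_toG {H : Subgroup (Equiv.Perm (Pt p (Pt p κ τ) ρ))}
    {x : alternatingGroup (Pt p (Pt p κ τ) ρ)}
    (hx : (x : Equiv.Perm _) ∈ Subgroup.normalizer (H : Set (Equiv.Perm (Pt p (Pt p κ τ) ρ)))) :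
    π x ∈ Subgroup.normalizer (toG π H : Set G) := by
  refine CfsgLib.Coprime.mem_normalizer_of_conj_map_le ?_
  rintro _ ⟨y, hy, rfl⟩
  exact ⟨x * y * x⁻¹, (Subgroup.mem_normalizer_iff.1 hx _).1 hy, by simp⟩

theorem centralizer_toG {H : Subgroup (Equiv.Perm (Pt p (Pt p κ τ) ρ))}
    (hH : H ≤ alternatingGroup (Pt p (Pt p κ τ) ρ))
    (hc : ∀ h : Equiv.Perm (Pt p (Pt p κ τ) ρ), (∀ g ∈ H, h * g = g * h) → h ∈ H) :
    Subgroup.centralizer (toG π H : Set G) ≤ toG π H := by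
  intro g hg
  obtain ⟨x, rfl⟩ := π.surjective g
  refine (mem_toG π).2 (hc _ fun y hy => ?_)
  have h := Subgroup.mem_centralizer_iff.1 hg (π ⟨y, hH hy⟩) ((mem_toG π).2 hy)
  rw [← map_mul, ← map_mul] at h
  exact (congrArg Subtype.val (π.injective h)).symm

theorem isSimple (hρ1 : Fintype.card ρ ≤ 1) (hτ : Fintype.card τ < p) [Nonempty κ]
    (hι : 3 ≤ Fintype.card (Pt p κ τ)) (Q₂ : Sylow p (Equiv.Perm κ)) (S : Sylow p G)
    (hS : (S : Subgroup G) = toG π (wr (p := p) ρ (wr (p := p) τ (Q₂ : Subgroup (Equiv.Perm κ))))) :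
    (groupFusionSystem (S : Subgroup G)).IsSimple p := by
  haveI : NeZero p := ⟨hp.out.ne_zero⟩
  haveI : Subsingleton ρ := Fintype.card_le_one_iff_subsingleton.1 hρ1
  have hρ : Fintype.card ρ < p := lt_of_le_of_lt hρ1 hp.out.one_lt
  let Q := wrSylow hτ Q₂
  set W := wr (p := p) ρ (Q : Subgroup (Equiv.Perm (Pt p κ τ)))
  change (S : Subgroup G) = toG π W at hS
  have hS1 : (S : Subgroup G) ≠ ⊥ := by
    obtain ⟨i, j, hij⟩ := Fintype.exists_pair_of_one_lt_card (α := Pt p κ τ) (by omega)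
    set v : Pt p κ τ → ZMod p := Pi.single i 1 + Pi.single j 1 with hv
    have hs : Equiv.Perm.sign (tr (ρ := ρ) v) = 1 := sign_tr_pair i j 1 1 (Or.inl rfl)
    let x : alternatingGroup (Pt p (Pt p κ τ) ρ) := ⟨tr v, Equiv.Perm.mem_alternatingGroup.2 hs⟩
    have hm : π x ∈ toG π W := (mem_toG π).2 (tr_mem_wr (Q : Subgroup (Equiv.Perm (Pt p κ τ))) v)
    intro h
    rw [hS] at h
    rw [h, Subgroup.mem_bot, map_eq_one_iff _ π.injective] at hm
    have h2 : tr (ρ := ρ) v = 1 := congrArg Subtype.val hm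
    rw [← tr_zero] at h2
    have h3 := congrFun (tr_injective h2) i
    simp [hv, hij] at h3
  refine CfsgLib.Fsys.GroupSimpleLocal.isSimple S hS1 (fun T hT hne hcl => ?_) ?_
  · -- strongly closed subgroups
    set T' : Subgroup (Equiv.Perm (Pt p (Pt p κ τ) ρ)) := (T.comap π.toMonoidHom).map (alternatingGroup (Pt p (Pt p κ τ) ρ)).subtype
    have hmem : ∀ {x : alternatingGroup (Pt p (Pt p κ τ) ρ)}, (x : Equiv.Perm _) ∈ T' ↔ π x ∈ T := fun {x} =>
      ⟨fun ⟨y, hy, e⟩ => Subtype.ext e ▸ hy, fun h => ⟨x, h, rfl⟩⟩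
    have hT' : T' ≤ W ⊓ alternatingGroup (Pt p (Pt p κ τ) ρ) := by
      rintro _ ⟨y, hy, rfl⟩
      exact Subgroup.mem_inf.2 ⟨(mem_toG π).1 (hS ▸ hT hy), y.2⟩
    have hne' : T' ≠ ⊥ := fun h => hne ((Subgroup.eq_bot_iff_forall _).2 fun g hg => by
      obtain ⟨x, rfl⟩ := π.surjective g
      have h1 := hmem.2 hg
      rw [h, Subgroup.mem_bot] at h1
      rw [show x = 1 from Subtype.ext h1, map_one])
    have hall := le_of_stronglyClosed hρ hι Q hT' hne' fun g x hg hx hgx => by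
      obtain ⟨y, hy, rfl⟩ := hx
      let g' : alternatingGroup (Pt p (Pt p κ τ) ρ) := ⟨g, Equiv.Perm.mem_alternatingGroup.2 hg⟩
      refine hmem (x := g' * y * g'⁻¹).2 ?_
      rw [map_mul, map_mul, map_inv]
      refine hcl _ _ hy ?_
      rw [← map_inv, ← map_mul, ← map_mul, hS]
      exact (mem_toG π).2 hgx
    rw [hS]
    rintro _ ⟨x, hx, rfl⟩
    exact hmem.1 (hall (Subgroup.mem_inf.2 ⟨hx, x.2⟩))
  · intro g hg
    obtain ⟨x, rfl⟩ := π.surjective g
    have hxN : (x : Equiv.Perm _) ∈ Subgroup.normalizer ((W ⊓ alternatingGroup (Pt p (Pt p κ τ) ρ) : Subgroup _) : Set (Equiv.Perm (Pt p (Pt p κ τ) ρ))) := by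
      refine CfsgLib.Coprime.mem_normalizer_of_conj_map_le fun y hy => ?_
      have h := (Subgroup.mem_normalizer_iff.1 hg (π ⟨y, hy.2⟩)).1 (hS ▸ (mem_toG π).2 hy.1)
      rw [hS, ← map_inv, ← map_mul, ← map_mul] at h
      exact Subgroup.mem_inf.2 ⟨(mem_toG π).1 h, (x * ⟨y, hy.2⟩ * x⁻¹).2⟩
    by_cases hp2 : p = 2
    · subst hp2
      refine Subgroup.subset_closure (Or.inl ?_)
      rw [SetLike.mem_coe, hS]
      exact (mem_toG π).2 (normalizer_even_le hι Q (Equiv.Perm.mem_alternatingGroup.1 x.2) hxN).1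
    -- odd primes
    have hodd : ∀ {y : Equiv.Perm (Pt p (Pt p κ τ) ρ)}, y ∈ W → y ∈ alternatingGroup (Pt p (Pt p κ τ) ρ) := fun {y} hy => by
      obtain ⟨k, hk⟩ := (wrSylow hρ Q).2 ⟨y, hy⟩
      have hk' : y ^ p ^ k = 1 := congrArg Subtype.val hk
      rw [Equiv.Perm.mem_alternatingGroup]
      have h2 := congrArg Equiv.Perm.sign hk'
      rw [map_pow, map_one] at h2
      rcases Int.units_eq_one_or (Equiv.Perm.sign y) with e | e
      · exact e
      · rw [e, ((hp.out.eq_two_or_odd'.resolve_left hp2).pow).neg_one_pow] at h2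
        exact absurd h2 (by decide)
    have hWA : W ⊓ alternatingGroup (Pt p (Pt p κ τ) ρ) = W := inf_eq_left.2 fun y hy => hodd hy
    rw [hWA] at hxN
    obtain ⟨σ, d, b, hxe⟩ := eq_mon_of_mem_normalizer (normalizer_wr_le _ hxN)
    set D := ∏ i, d i
    -- a union of orbits of the Sylow subgroup of the blocks
    obtain ⟨j₀⟩ := ‹Nonempty κ›
    classical
    set O := (MulAction.orbit (Q₂ : Subgroup (Equiv.Perm κ)) j₀).toFinset
    have hO : ∀ q ∈ (Q₂ : Subgroup (Equiv.Perm κ)), ∀ j, q j ∈ O ↔ j ∈ O := by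
      intro q hq j
      simp only [O, Set.mem_toFinset]
      constructor
      · rintro ⟨r, hr⟩
        refine ⟨⟨q, hq⟩⁻¹ * r, ?_⟩
        change q⁻¹ ((r : Equiv.Perm κ) j₀) = j
        rw [show (r : Equiv.Perm κ) j₀ = q j from hr, inv_apply_self']
      · rintro ⟨r, hr⟩
        refine ⟨⟨q, hq⟩ * r, ?_⟩
        change q ((r : Equiv.Perm κ) j₀) = q j
        rw [show (r : Equiv.Perm κ) j₀ = j from hr]
    obtain ⟨r, hr⟩ := Q₂.2.card_orbit j₀
    have hOcard : O.card = p ^ r := by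
      rw [← hr, Nat.card_eq_fintype_card, Set.toFinset_card]
    set μ : κ → (ZMod p)ˣ := fun j => if j ∈ O then D else 1
    have hμD : ∏ j, μ j = D := by
      rw [Finset.prod_ite_mem, Finset.univ_inter, Finset.prod_const, hOcard]
      refine Units.ext ?_
      rw [Units.val_pow_eq_pow_val, ZMod.pow_card_pow]
    set R := toG π (vees p κ τ ρ)
    set B := toG π (base p (Pt p κ τ) ρ)
    have hVA : vees p κ τ ρ ≤ alternatingGroup (Pt p (Pt p κ τ) ρ) := fun y hy => hodd (vees_le_wr hy)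
    have hBA : base p (Pt p κ τ) ρ ≤ alternatingGroup (Pt p (Pt p κ τ) ρ) := fun y hy => hodd (base_le_wr _ hy)
    have hRS : R ≤ S := hS ▸ Subgroup.map_mono fun y hy => vees_le_wr hy
    have hBS : B ≤ S := hS ▸ Subgroup.map_mono fun y hy => base_le_wr _ hy
    have hRc : Subgroup.centralizer (R : Set G) ≤ R := centralizer_toG π hVA fun h hh => mem_vees_of_commute hh
    have hBc : Subgroup.centralizer (B : Set G) ≤ B := centralizer_toG π hBA fun h hh =>
      mem_base_of_commute fun c => hh _ (tr_mem_base c)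
    -- the diagonal element lies in the local core of the translations of the blocks
    set L := (CfsgLib.Fsys.GroupSimpleLocal.localCore (S : Subgroup G) R).comap π.toMonoidHom |>.map (alternatingGroup (Pt p (Pt p κ τ) ρ)).subtype
    have hup : ∀ a, tr (upVec (τ := τ) a) ∈ L := fun a => by
      refine ⟨⟨_, hodd (tr_mem_wr _ (upVec a))⟩, ?_, rfl⟩
      exact CfsgLib.Fsys.GroupSimpleLocal.mem_localCore (hS ▸ (mem_toG π).2 (tr_mem_wr _ _))
        (normalizer_toG π (up_normalizes a))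
    have hsh : ∀ c, shear (τ := τ) (ρ := ρ) c ∈ L := fun c => by
      set w := tr (upVec (τ := τ) fun _ => (1 : ZMod p)) * shear (fun _ => (-1 : ZMod p)) *
        tr (ρ := ρ) (upVec (τ := τ) fun _ => (1 : ZMod p))
      have hwA : w ∈ alternatingGroup (Pt p (Pt p κ τ) ρ) := mul_mem (mul_mem (hodd (tr_mem_wr _ _))
        (Equiv.Perm.mem_alternatingGroup.2 (sign_of_pow_p hp2 (shear_pow_p _)))) (hodd (tr_mem_wr _ _))
      have hwN : w ∈ Subgroup.normalizer (vees p κ τ ρ : Set (Equiv.Perm (Pt p (Pt p κ τ) ρ))) :=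
        mul_mem (mul_mem (up_normalizes _) (shear_normalizes _)) (up_normalizes _)
      obtain ⟨u, hu, hue⟩ := hup (fun j => -c j)
      refine ⟨⟨w, hwA⟩ * u * ⟨w, hwA⟩⁻¹, ?_, ?_⟩
      · show π (⟨w, hwA⟩ * u * ⟨w, hwA⟩⁻¹) ∈ CfsgLib.Fsys.GroupSimpleLocal.localCore (S : Subgroup G) R
        rw [map_mul, map_mul, map_inv]
        exact CfsgLib.Fsys.GroupSimpleLocal.conj_mem_localCore (normalizer_toG π (x := ⟨w, hwA⟩) hwN) hu
      · rw [shear_eq_conj c]
        show w * (u : Equiv.Perm _) * w⁻¹ = _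
        rw [show (u : Equiv.Perm (Pt p (Pt p κ τ) ρ)) = tr (upVec fun j => -c j) from hue]
    have hdiag : diag (τ := τ) (ρ := ρ) μ ∈ L := by
      rw [diag_eq]
      exact mul_mem (mul_mem (mul_mem (hup _) (hsh _)) (hup _)) (mul_mem (mul_mem (hup _) (hsh _)) (hup _))
    obtain ⟨δ, hδ, hδe⟩ := hdiag
    have hδN : (δ : Equiv.Perm _) ∈ Subgroup.normalizer (W : Set (Equiv.Perm (Pt p (Pt p κ τ) ρ))) := by
      refine CfsgLib.Coprime.mem_normalizer_of_conj_map_le ?_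
      rintro _ ⟨q, ⟨q₂, hq₂, a, rfl⟩, c, rfl⟩
      rw [show (δ : Equiv.Perm (Pt p (Pt p κ τ) ρ)) = diag μ from hδe, diag, mon_inv, mon_mul, mon_mul]
      have hμ : ∀ j, μ (q₂ j) = μ j := fun j => by simp only [μ, hO q₂ hq₂]
      have hvec : ∀ i, diagVec (τ := τ) μ (mon q₂ 1 a i) = diagVec μ i := by
        rintro (⟨j, z⟩ | t)
        · simp [diagVec, hμ]
        · rfl
      refine ⟨mon q₂ 1 (fun j => ((μ j)⁻¹ : (ZMod p)ˣ) * a j), ⟨q₂, hq₂, _, rfl⟩,
        fun i => (diagVec μ ((dia fun j => (μ j)⁻¹)⁻¹ i) : ZMod p) * c ((dia fun j => (μ j)⁻¹)⁻¹ i), ?_⟩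
      congr 1
      · rw [dia, mul_inv_eq_iff_eq_mul, mon_mul, mon_mul]
        congr 1
        · funext j; simp only [Pi.one_apply, mul_one, one_mul]; rw [hμ]
        · funext j
          simp only [Pi.one_apply, Pi.zero_apply, Units.val_one, mul_zero, zero_mul, add_zero, zero_add, one_mul,
            Equiv.Perm.one_apply, hμ]
      · funext i; simp [hvec]
      · funext i
        rw [hvec]
        simp only [Pi.one_apply, Pi.zero_apply, mul_zero, neg_zero, zero_add, add_zero, mul_one]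
    have hδS : π δ ∈ Subgroup.normalizer ((S : Subgroup G) : Set G) := hS ▸ normalizer_toG π hδN
    -- the rest lies in the local core of the translations
    have hrest : π (δ⁻¹ * x) ∈ CfsgLib.Fsys.GroupSimpleLocal.localCore (S : Subgroup G) B := by
      set K := (CfsgLib.Fsys.GroupSimpleLocal.localCore (S : Subgroup G) B).comap π.toMonoidHom |>.map (alternatingGroup (Pt p (Pt p κ τ) ρ)).subtype
      obtain ⟨σ', d', b', he'⟩ : ∃ (σ' : Equiv.Perm (Pt p κ τ)) (d' : Pt p κ τ → (ZMod p)ˣ) (b' : Pt p κ τ → ZMod p),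
          ((δ⁻¹ * x : alternatingGroup (Pt p (Pt p κ τ) ρ)) : Equiv.Perm (Pt p (Pt p κ τ) ρ)) = mon σ' d' b' ∧ ∏ i, d' i = 1 := by
        rw [Subgroup.coe_mul, Subgroup.coe_inv, show (δ : Equiv.Perm (Pt p (Pt p κ τ) ρ)) = diag μ from hδe, hxe, diag, mon_inv, mon_mul]
        refine ⟨_, _, _, rfl, ?_⟩
        rw [Finset.prod_mul_distrib]
        have h1 : ∏ i : Pt p κ τ, (diagVec μ ((dia (ρ := τ) fun j => (μ j)⁻¹)⁻¹ (σ i)))⁻¹ = D⁻¹ := by
          rw [Finset.prod_inv_distrib, ← hμD, ← prod_diagVec (τ := τ) μ]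
          exact congrArg _ ((Equiv.prod_comp σ fun i => diagVec μ ((dia (ρ := τ) fun j => (μ j)⁻¹)⁻¹ i)).trans
            (Equiv.prod_comp (dia (ρ := τ) fun j => (μ j)⁻¹)⁻¹ (diagVec μ)))
        rw [h1, inv_mul_cancel]
      obtain ⟨he', hd'⟩ := he'
      have hσ : Equiv.Perm.sign σ' = 1 := by
        have := Equiv.Perm.mem_alternatingGroup.1 (δ⁻¹ * x).2
        rwa [he', sign_mon_odd hp2, hd', map_one, mul_one] at this
      have hιp : p ≤ Fintype.card (Pt p κ τ) := by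
        rw [Fintype.card_sum, Fintype.card_prod, ZMod.card]
        have := Fintype.card_pos (α := κ)
        nlinarith
      have hK := mon_mem_core hp2 hιp Q (K := K) (fun y hy => ⟨⟨y, hodd hy⟩,
          CfsgLib.Fsys.GroupSimpleLocal.mem_localCore (hS ▸ (mem_toG π).2 hy)
            (normalizer_toG π (wr_le_normalizer _ hy)), rfl⟩)
        (fun σ d b y hs hy => by
          obtain ⟨u, hu, rfl⟩ := hy
          let m : alternatingGroup (Pt p (Pt p κ τ) ρ) := ⟨mon σ d b, Equiv.Perm.mem_alternatingGroup.2 hs⟩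
          refine ⟨m * u * m⁻¹, ?_, rfl⟩
          show π (m * u * m⁻¹) ∈ CfsgLib.Fsys.GroupSimpleLocal.localCore (S : Subgroup G) B
          rw [map_mul, map_mul, map_inv]
          exact CfsgLib.Fsys.GroupSimpleLocal.conj_mem_localCore (normalizer_toG π (mon_mem_normalizer σ d b)) hu)
        b' hσ hd'
      rw [← he'] at hK
      obtain ⟨u, hu, hue⟩ := hK
      rw [← show u = δ⁻¹ * x from Subtype.ext hue]
      exact hu
    have hxS : π x ∈ Subgroup.normalizer ((S : Subgroup G) : Set G) := hg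
    rw [show x = δ * (δ⁻¹ * x) by group, map_mul]
    refine mul_mem (Subgroup.subset_closure (Or.inr ⟨hδS, R, hRS, hRc, hδ⟩))
      (Subgroup.subset_closure (Or.inr ⟨?_, B, hBS, hBc, hrest⟩))
    rw [map_mul, map_inv]
    exact mul_mem (inv_mem hδS) hxS

end Main

end CfsgLib.Perm.Monomial
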