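import Mathlib

/-!
# Babai's lower bound for the minimal degree of a primitive group

Every pair of distinct points of a primitive, not doubly transitive, permutation group is
distinguished by at least `(√n - 1) / 2` points; doubly transitive groups are handled by a three
cycle argument.
-/

set_option autoImplicit false
set_option linter.unusedSectionVars false

namespace CfsgLib.Perm.Babai

open Finset MulAction Pointwise

variable (G : Type*) {Ω : Type*} [Group G] [MulAction G Ω]

/-- The colour of a pair is its orbit. -/
def col (a b : Ω) : Quotient (orbitRel G (Ω × Ω)) := Quotient.mk (orbitRel G (Ω × Ω)) (a, b)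

variable {G}

theorem col_eq_iff {a b a' b' : Ω} : col G a b = col G a' b' ↔ ∃ h : G, h • a' = a ∧ h • b' = b := by
  simp [col, Quotient.eq, orbitRel_apply, mem_orbit_iff, Prod.ext_iff]

@[simp] theorem col_smul (h : G) (a b : Ω) : col G (h • a) (h • b) = col G a b :=
  col_eq_iff.2 ⟨h, rfl, rfl⟩

theorem col_swap {a b a' b' : Ω} (e : col G a b = col G a' b') : col G b a = col G b' a' := by
  obtain ⟨h, rfl, rfl⟩ := col_eq_iff.1 e
  exact col_smul h _ _

theorem eq_iff_of_col_eq {a b a' b' : Ω} (e : col G a b = col G a' b') : a = b ↔ a' = b' := by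
  obtain ⟨h, rfl, rfl⟩ := col_eq_iff.1 e
  exact smul_left_cancel_iff h

variable (G) in
/-- An invariant graph. -/
def gr (P : Quotient (orbitRel G (Ω × Ω)) → Prop) : SimpleGraph Ω where
  Adj a b := a ≠ b ∧ (P (col G a b) ∨ P (col G b a))
  symm.symm _ _ := fun h => ⟨h.1.symm, h.2.symm⟩
  loopless.irrefl _ := fun h => h.1 rfl

variable {P : Quotient (orbitRel G (Ω × Ω)) → Prop}

theorem gr_adj {a b : Ω} : (gr G P).Adj a b ↔ a ≠ b ∧ (P (col G a b) ∨ P (col G b a)) := Iff.rfl

/-- Translation as a graph map. -/
def grHom (P : Quotient (orbitRel G (Ω × Ω)) → Prop) (h : G) : gr G P →g gr G P where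
  toFun x := h • x
  map_rel' {a b} e := by
    rw [gr_adj, col_smul, col_smul] at *
    exact ⟨fun he => e.1 (smul_left_cancel h he), e.2⟩

theorem gr_connected [IsPreprimitive G Ω] (hne : ∃ a b, (gr G P).Adj a b) : (gr G P).Connected := by
  classical
  obtain ⟨a, b, hab⟩ := hne
  let B : Set Ω := {x | (gr G P).Reachable a x}
  have hB : IsBlock G B := by
    rw [isBlock_iff_smul_eq_or_disjoint]
    intro h
    by_cases hr : (gr G P).Reachable a (h • a)
    · left
      ext x
      rw [Set.mem_smul_set_iff_inv_smul_mem]
      constructor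
      · intro hx
        have := (show (gr G P).Reachable a (h⁻¹ • x) from hx).map (grHom P h)
        exact hr.trans (by simpa [grHom] using this)
      · intro hx
        have := ((hr.symm.trans hx)).map (grHom P h⁻¹)
        simpa [grHom, B] using this
    · right
      rw [Set.disjoint_left]
      intro x hx hx'
      rw [Set.mem_smul_set_iff_inv_smul_mem] at hx
      have := (show (gr G P).Reachable a (h⁻¹ • x) from hx).map (grHom P h)
      exact hr ((show (gr G P).Reachable a x from hx').trans (by simpa [grHom] using this.symm))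
  rcases hB.subsingleton_or_eq_univ with h | h
  · exact absurd (h (show a ∈ B from SimpleGraph.Reachable.refl a) (show b ∈ B from hab.reachable)) hab.1
  · have hall : ∀ x, (gr G P).Reachable a x := fun x => (show x ∈ B by rw [h]; trivial)
    exact { preconnected := fun x y => (hall x).symm.trans (hall y), nonempty := ⟨a⟩ }

theorem dist_smul (hc : (gr G P).Connected) (h : G) (a b : Ω) :
    (gr G P).dist (h • a) (h • b) = (gr G P).dist a b := by
  have key : ∀ (h : G) a b, (gr G P).dist (h • a) (h • b) ≤ (gr G P).dist a b := fun h a b => by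
    obtain ⟨p, hp⟩ := hc.exists_walk_length_eq_dist a b
    exact hp ▸ (SimpleGraph.dist_le (p.map (grHom P h))).trans (by simp)
  refine (key h a b).antisymm ?_
  simpa using key h⁻¹ (h • a) (h • b)

theorem dist_col (hc : (gr G P).Connected) {a b a' b' : Ω} (e : col G a b = col G a' b') :
    (gr G P).dist a b = (gr G P).dist a' b' := by
  obtain ⟨h, rfl, rfl⟩ := col_eq_iff.1 e
  exact dist_smul hc h _ _

theorem dist_getVert_le {Γ : SimpleGraph Ω} (hc : Γ.Connected) {a b : Ω} (p : Γ.Walk a b) :
    ∀ k i, i + k ≤ p.length → Γ.dist (p.getVert i) (p.getVert (i + k)) ≤ k := by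
  intro k
  induction k with
  | zero => simp
  | succ k ih =>
    intro i hi
    refine (hc.dist_triangle (v := p.getVert (i + k))).trans ?_
    have h1 := SimpleGraph.dist_eq_one_iff_adj.2 (p.adj_getVert_succ (i := i + k) (by omega))
    have h2 := ih i (by omega)
    rw [← add_assoc] at *
    omega

theorem dist_getVert {Γ : SimpleGraph Ω} (hc : Γ.Connected) {a b : Ω} (p : Γ.Walk a b)
    (hp : p.length = Γ.dist a b) {i j : ℕ} (hij : i ≤ j) (hj : j ≤ p.length) :
    Γ.dist (p.getVert i) (p.getVert j) = j - i := by
  obtain ⟨k, rfl⟩ := Nat.exists_eq_add_of_le hij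
  have h1 := dist_getVert_le hc p i 0 (by omega)
  have h2 := dist_getVert_le hc p k i hj
  have h3 := dist_getVert_le hc p (p.length - (i + k)) (i + k) (by omega)
  rw [SimpleGraph.Walk.getVert_zero, Nat.zero_add] at h1
  rw [Nat.add_sub_cancel' hj, SimpleGraph.Walk.getVert_length] at h3
  have h4 := hc.dist_triangle (u := a) (v := p.getVert i) (w := b)
  have h5 := hc.dist_triangle (u := p.getVert i) (v := p.getVert (i + k)) (w := b)
  omega

variable [Fintype Ω] [DecidableEq Ω]

open scoped Classical in
variable (G) in
/-- The points distinguishing a pair. -/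
noncomputable def dset (x y : Ω) : Finset Ω := univ.filter fun z => col G z x ≠ col G z y

theorem mem_dset {x y z : Ω} : z ∈ dset G x y ↔ col G z x ≠ col G z y := by simp [dset]

theorem dset_comm (x y : Ω) : dset G x y = dset G y x := by
  ext z; simp [mem_dset, ne_comm]

theorem dset_card_smul (h : G) (x y : Ω) : (dset G (h • x) (h • y)).card = (dset G x y).card := by
  refine (Finset.card_bij' (fun z _ => h⁻¹ • z) (fun z _ => h • z) (fun z hz => ?_) (fun z hz => ?_)
    (fun z _ => by simp) (fun z _ => by simp))
  · rw [mem_dset] at hz ⊢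
    rw [← col_smul h (h⁻¹ • z) x, ← col_smul h (h⁻¹ • z) y, smul_inv_smul]
    exact hz
  · rw [mem_dset] at hz ⊢
    rw [col_smul, col_smul]
    exact hz

theorem dset_card_col {a b a' b' : Ω} (e : col G a b = col G a' b') :
    (dset G a b).card = (dset G a' b').card := by
  obtain ⟨h, rfl, rfl⟩ := col_eq_iff.1 e
  exact dset_card_smul h _ _

theorem dset_walk_le {D : ℕ} (hD : ∀ a b, (gr G P).Adj a b → (dset G a b).card = D) {a b : Ω}
    (p : (gr G P).Walk a b) : (dset G a b).card ≤ p.length * D := by
  induction p with
  | nil => simp [dset]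
  | @cons u v w h p ih =>
    have : (dset G u w).card ≤ (dset G u v).card + (dset G v w).card := by
      refine (Finset.card_le_card fun z hz => ?_).trans (Finset.card_union_le _ _)
      rw [mem_dset] at hz
      rw [Finset.mem_union, mem_dset, mem_dset]
      by_contra hne
      push Not at hne
      exact hz (hne.1.trans hne.2)
    rw [hD u v h] at this
    rw [SimpleGraph.Walk.length_cons, add_mul, one_mul]
    omega

variable [IsPreprimitive G Ω]

theorem card_fibre_eq {R : Ω → Ω → Prop} [DecidableRel R] (hR : ∀ (h : G) a b, R (h • a) (h • b) ↔ R a b)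
    (x y : Ω) : (univ.filter (R x)).card = (univ.filter (R y)).card := by
  obtain ⟨h, rfl⟩ := exists_smul_eq G x y
  exact Finset.card_bij' (fun z _ => h • z) (fun z _ => h⁻¹ • z)
    (fun z hz => by simpa [hR] using hz)
    (fun z hz => by
      rw [Finset.mem_filter] at hz ⊢
      exact ⟨mem_univ _, by rw [← hR h, smul_inv_smul]; exact hz.2⟩)
    (fun z _ => by simp) (fun z _ => by simp)

/-- Babai's bound on distinguishing sets. -/
theorem dset_bound
    (h2t : ¬ ∀ a b a' b' : Ω, a ≠ b → a' ≠ b' → col G a b = col G a' b')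
    {x₀ y₀ : Ω} (hxy : x₀ ≠ y₀) :
    Fintype.card Ω ≤ (2 * (dset G x₀ y₀).card + 1) ^ 2 := by
  classical
  set n := Fintype.card Ω with hn
  set D := (dset G x₀ y₀).card with hD
  let P : Quotient (orbitRel G (Ω × Ω)) → Prop := fun q => q = col G x₀ y₀
  let Γ := gr G P
  have hΓD : ∀ a b, Γ.Adj a b → (dset G a b).card = D := by
    rintro a b ⟨_, h | h⟩
    · exact dset_card_col h
    · rw [dset_comm]; exact dset_card_col h
  have hΓc : Γ.Connected := gr_connected ⟨x₀, y₀, hxy, Or.inl rfl⟩
  have hdiam : ∀ a b, a ≠ b → Γ.dist a b + 1 ≤ D := by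
    intro a b hab
    obtain ⟨p, hp⟩ := hΓc.exists_walk_length_eq_dist a b
    have hpos : 0 < p.length := hp ▸ hΓc.pos_dist_of_ne hab
    rw [← hp, ← hΓD (p.getVert 0) (p.getVert 1) (p.adj_getVert_succ hpos)]
    refine le_of_eq_of_le (Finset.card_range _).symm (Finset.card_le_card_of_injOn p.getVert ?_ ?_)
    · intro t ht
      rw [Finset.mem_coe, Finset.mem_range] at ht
      rw [Finset.mem_coe, mem_dset]
      intro e
      have h0 := dist_col hΓc e
      rw [SimpleGraph.dist_comm, dist_getVert hΓc p hp (Nat.zero_le t) (by omega)] at h0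
      rcases Nat.eq_zero_or_pos t with rfl | ht'
      · rw [dist_getVert hΓc p hp (Nat.zero_le 1) (by omega)] at h0
        omega
      · rw [SimpleGraph.dist_comm, dist_getVert hΓc p hp (show 1 ≤ t by omega) (by omega)] at h0
        omega
    · intro i hi j hj hij
      simp only [Finset.coe_range, Set.mem_Iio] at hi hj
      have h1 := dist_getVert hΓc p hp (Nat.zero_le i) (by omega)
      have h2 := dist_getVert hΓc p hp (Nat.zero_le j) (by omega)
      rw [hij] at h1
      omega
  have hwalk : ∀ a b, (dset G a b).card ≤ Γ.dist a b * D := fun a b => by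
    obtain ⟨p, hp⟩ := hΓc.exists_walk_length_eq_dist a b
    exact hp ▸ dset_walk_le hΓD p
  have hDpos : 2 ≤ D := by
    have h := hdiam x₀ y₀ hxy
    rw [SimpleGraph.dist_eq_one_iff_adj.2 (show Γ.Adj x₀ y₀ from ⟨hxy, Or.inl rfl⟩)] at h
    omega
  by_cases hsmall : ∀ z a : Ω, z ≠ a →
      4 * (univ.filter fun b => col G z b = col G z a).card ≤ 3 * n
  · -- no dominant colour
    have hn2 : 2 ≤ n := by
      have := Finset.card_le_univ ({x₀, y₀} : Finset Ω)
      rw [Finset.card_pair hxy] at this
      exact this
    obtain ⟨b, hb, hb4⟩ : ∃ b, b ≠ x₀ ∧ n + 4 ≤ 4 * (dset G x₀ b).card := by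
      by_contra hne
      push Not at hne
      have hsum : ∑ b, 4 * (dset G x₀ b).card =
          ∑ z, 4 * (univ.filter fun b => col G z x₀ ≠ col G z b).card := by
        simp only [dset, Finset.card_filter, Finset.mul_sum]
        exact Finset.sum_comm
      have hlow : ∀ z, (if z = x₀ then 4 * (n - 1) else n) ≤
          4 * (univ.filter fun b => col G z x₀ ≠ col G z b).card := by
        intro z
        have hc := Finset.card_filter_add_card_filter_not (s := (univ : Finset Ω))
          (fun b => col G z b = col G z x₀)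
        rw [Finset.card_univ, ← hn] at hc
        rw [show (univ.filter fun b => col G z x₀ ≠ col G z b) =
          univ.filter (fun b => ¬ col G z b = col G z x₀) from Finset.filter_congr fun b _ => ne_comm]
        split_ifs with hz
        · subst hz
          have h1 : (univ.filter fun b => col G z b = col G z z).card = 1 := by
            refine Finset.card_eq_one.2 ⟨z, ?_⟩
            ext b
            simp only [Finset.mem_filter, Finset.mem_univ, true_and, Finset.mem_singleton]
            exact ⟨fun e => ((eq_iff_of_col_eq e).2 rfl).symm, fun e => by rw [e]⟩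
          omega
        · have := hsmall z x₀ hz
          omega
      have h1 := Finset.sum_le_sum (s := univ) fun z _ => hlow z
      rw [← hsum, ← Finset.add_sum_erase _ _ (Finset.mem_univ x₀),
        ← Finset.add_sum_erase _ _ (Finset.mem_univ x₀), if_pos rfl,
        Finset.sum_congr rfl (fun z hz => if_neg (Finset.mem_erase.1 hz).1), Finset.sum_const,
        Finset.card_erase_of_mem (Finset.mem_univ _), Finset.card_univ, ← hn, smul_eq_mul] at h1
      have h0 : (dset G x₀ x₀).card = 0 := by simp [dset]
      have h2 : ∑ b ∈ univ.erase x₀, 4 * (dset G x₀ b).card ≤ (n - 1) * (n + 3) := by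
        refine (Finset.sum_le_card_nsmul _ _ (n + 3) fun b hb => ?_).trans (le_of_eq ?_)
        · have := hne b (Finset.mem_erase.1 hb).1
          omega
        · rw [Finset.card_erase_of_mem (Finset.mem_univ _), Finset.card_univ, ← hn, smul_eq_mul]
      rw [h0, mul_zero, zero_add] at h1
      obtain ⟨m, hm⟩ : ∃ m, n = m + 1 := ⟨n - 1, by omega⟩
      rw [hm, Nat.add_sub_cancel] at h1 h2
      nlinarith
    have h1 := hwalk x₀ b
    have h2 := hdiam x₀ b hb.symm
    nlinarith
  · -- a dominant colour
    push Not at hsmall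
    obtain ⟨z₀, a₀, hza, hbig⟩ := hsmall
    let K : Ω → Ω → Prop := fun a b => col G a b = col G z₀ a₀
    set N := (univ.filter (K z₀)).card with hN
    have hKinv : ∀ (h : G) a b, K (h • a) (h • b) ↔ K a b := fun h a b => by simp [K]
    have hKN : ∀ z, (univ.filter (K z)).card = N := fun z => card_fibre_eq hKinv z z₀
    have hKN' : ∀ z, (univ.filter fun b => K b z).card = N := by
      intro z
      have e : ∀ y, (univ.filter fun b => K b y).card = (univ.filter fun b => K b z).card := fun y =>
        card_fibre_eq (R := fun a b => K b a) (fun h a b => hKinv h b a) y z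
      have h1 : ∑ y : Ω, (univ.filter (K y)).card = ∑ y : Ω, (univ.filter fun b => K b y).card := by
        simp only [Finset.card_filter]
        exact Finset.sum_comm
      rw [Finset.sum_congr rfl (fun y _ => hKN y), Finset.sum_congr rfl (fun y _ => e y), Finset.sum_const,
        Finset.sum_const, smul_eq_mul, smul_eq_mul] at h1
      exact (Nat.eq_of_mul_eq_mul_left (Finset.card_pos.2 ⟨z₀, Finset.mem_univ _⟩) h1).symm
    have hbig' : 3 * n < 4 * N := hbig
    obtain ⟨b₀, hb₀⟩ : ∃ b, K z₀ b ∧ K b z₀ := by
      by_contra hne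
      push Not at hne
      have hd : Disjoint (univ.filter (K z₀)) (univ.filter fun b => K b z₀) :=
        Finset.disjoint_filter.2 fun b _ h => hne b h
      have := Finset.card_le_univ (univ.filter (K z₀) ∪ univ.filter fun b => K b z₀)
      rw [Finset.card_union_of_disjoint hd, hKN', ← hn, ← hN] at this
      omega
    have hKsymm : ∀ a b, K a b → K b a := fun a b h =>
      (col_swap (h.trans hb₀.1.symm)).trans hb₀.2
    have hKne : ∀ a b, K a b → a ≠ b := fun a b h e => hza ((eq_iff_of_col_eq h).1 e)
    let P' : Quotient (orbitRel G (Ω × Ω)) → Prop := fun q => q ≠ col G z₀ a₀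
    let W := gr G P'
    have hWadj : ∀ a b, W.Adj a b ↔ a ≠ b ∧ ¬ K a b := fun a b =>
      ⟨fun h => ⟨h.1, fun hk => h.2.elim (fun h' => h' hk) (fun h' => h' (hKsymm a b hk))⟩,
        fun h => ⟨h.1, Or.inl h.2⟩⟩
    have hWne : ∃ a b, W.Adj a b := by
      by_contra hne
      push Not at hne
      have : ∀ a b : Ω, a ≠ b → K a b := fun a b hab => by
        by_contra hk
        exact hne a b ((hWadj a b).2 ⟨hab, hk⟩)
      exact h2t fun a b a' b' h h' => (this a b h).trans (this a' b' h').symm
    have hWc : W.Connected := gr_connected hWne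
    set w := (univ.filter (W.Adj z₀)).card with hw
    have hWinv : ∀ (h : G) a b, W.Adj (h • a) (h • b) ↔ W.Adj a b := fun h a b => by
      simp only [hWadj, hKinv, ne_eq, smul_left_cancel_iff]
    have hWw : ∀ z, (univ.filter (W.Adj z)).card = w := fun z => card_fibre_eq hWinv z z₀
    have hwpos : 0 < w := by
      obtain ⟨a, b, hab⟩ := hWne
      rw [← hWw a]
      exact Finset.card_pos.2 ⟨b, by simp [hab]⟩
    have hsplit : w + N + 1 = n := by
      rw [hn, ← Finset.card_univ, ← Finset.card_filter_add_card_filter_not (s := univ) (K z₀), ← hN]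
      have : (univ.filter fun b => ¬ K z₀ b) = insert z₀ (univ.filter (W.Adj z₀)) := by
        ext b
        simp only [Finset.mem_filter, Finset.mem_univ, true_and, Finset.mem_insert, hWadj]
        constructor
        · intro h
          by_cases hb : b = z₀
          · exact Or.inl hb
          · exact Or.inr ⟨Ne.symm hb, h⟩
        · rintro (rfl | h)
          · exact fun h => hKne _ _ h rfl
          · exact h.2
      rw [this, Finset.card_insert_of_notMem (by simp [hWadj]), ← hw]
      omega
    set μ := (univ.filter fun y => W.Adj z₀ y ∧ W.Adj a₀ y).card with hμ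
    have hμK : ∀ a b, K a b → (univ.filter fun y => W.Adj a y ∧ W.Adj b y).card = μ := by
      intro a b hk
      obtain ⟨h, rfl, rfl⟩ := col_eq_iff.1 hk
      exact Finset.card_bij' (fun y _ => h⁻¹ • y) (fun y _ => h • y)
        (fun y hy => by
          rw [Finset.mem_filter] at hy ⊢
          refine ⟨mem_univ _, ?_⟩
          rw [← hWinv h z₀, ← hWinv h a₀, smul_inv_smul]
          exact hy.2)
        (fun y hy => by simpa [hWinv] using hy)
        (fun y _ => by simp) (fun y _ => by simp)
    have hμpos : 0 < μ := by
      obtain ⟨p, hp⟩ := hWc.exists_walk_length_eq_dist z₀ a₀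
      have hd2 : 2 ≤ p.length := by
        rw [hp]
        exact hWc.one_lt_dist_of_ne_of_not_adj hza fun h => ((hWadj _ _).1 h).2 rfl
      have h02 := dist_getVert hWc p hp (Nat.zero_le 2) hd2
      rw [SimpleGraph.Walk.getVert_zero] at h02
      have hK2 : K z₀ (p.getVert 2) := by
        by_contra hk
        have hne : z₀ ≠ p.getVert 2 := fun e => by
          rw [← e, SimpleGraph.dist_self] at h02; omega
        have := SimpleGraph.dist_eq_one_iff_adj.2 ((hWadj _ _).2 ⟨hne, hk⟩)
        omega
      have hd := dist_col hWc hK2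
      rw [h02, ← hp] at hd
      refine Finset.card_pos.2 ⟨p.getVert 1, ?_⟩
      have a1 := p.adj_getVert_succ (i := 0) (by omega)
      have a2 := p.adj_getVert_succ (i := 1) (by omega)
      rw [SimpleGraph.Walk.getVert_zero] at a1
      rw [show (1 + 1 : ℕ) = p.length by omega, SimpleGraph.Walk.getVert_length] at a2
      simp only [Finset.mem_filter, Finset.mem_univ, true_and]
      exact ⟨a1, a2.symm⟩
    have hcount : N * μ ≤ w * w := by
      have h1 : N * μ = ∑ b ∈ univ.filter (K z₀), (univ.filter fun y => W.Adj z₀ y ∧ W.Adj b y).card := by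
        rw [Finset.sum_congr rfl (fun b hb => hμK z₀ b (Finset.mem_filter.1 hb).2), Finset.sum_const,
          smul_eq_mul]
      rw [h1]
      have h2 : ∑ b ∈ univ.filter (K z₀), (univ.filter fun y => W.Adj z₀ y ∧ W.Adj b y).card =
          ∑ y ∈ univ.filter (W.Adj z₀), ((univ.filter (K z₀)).filter fun b => W.Adj y b).card := by
        simp only [Finset.card_filter]
        rw [Finset.sum_comm, Finset.sum_filter]
        refine Finset.sum_congr rfl fun y _ => ?_
        by_cases hy : W.Adj z₀ y <;> simp [hy, SimpleGraph.adj_comm]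
      rw [h2]
      refine (Finset.sum_le_card_nsmul _ _ w fun y _ => ?_).trans (le_of_eq (by rw [smul_eq_mul, hw]))
      rw [← hWw y]
      exact Finset.card_le_card fun b hb => by
        simp only [Finset.mem_filter, Finset.mem_univ, true_and] at hb ⊢
        exact hb.2
    have hwN : N ≤ w * w := (Nat.le_mul_of_pos_right N hμpos).trans hcount
    have hμw : 3 * μ ≤ w := by
      have h3 : 3 * w ≤ N := by omega
      exact Nat.le_of_mul_le_mul_left (show w * (3 * μ) ≤ w * w by nlinarith) hwpos
    have hDK : ∀ a b, K a b → 4 * w ≤ 3 * (dset G a b).card := by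
      intro a b hab
      have hsub : ∀ a b, K a b →
          (univ.filter fun z => W.Adj a z ∧ ¬ W.Adj b z) ⊆ dset G a b := by
        intro a b hab z hz
        simp only [Finset.mem_filter, Finset.mem_univ, true_and, hWadj] at hz
        rw [mem_dset]
        intro e
        have hzb : b ≠ z := fun e' => hz.1.2 (e' ▸ hab)
        have hk : K b z := by
          by_contra hk
          exact hz.2 ⟨hzb, hk⟩
        exact hz.1.2 (hKsymm z a (e.trans (hKsymm b z hk)))
      have hcard : ∀ a b, K a b → (univ.filter fun z => W.Adj a z ∧ ¬ W.Adj b z).card + μ = w := by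
        intro a b hab
        rw [← hμK a b hab, ← hWw a, add_comm,
          ← Finset.card_filter_add_card_filter_not (s := univ.filter (W.Adj a)) (fun z => W.Adj b z),
          Finset.filter_filter, Finset.filter_filter]
      have hd : Disjoint (univ.filter fun z => W.Adj a z ∧ ¬ W.Adj b z)
          (univ.filter fun z => W.Adj b z ∧ ¬ W.Adj a z) :=
        Finset.disjoint_filter.2 fun z _ h h' => h'.2 h.1
      have h1 := Finset.card_le_card (Finset.union_subset (hsub a b hab)
        ((hsub b a (hKsymm a b hab)).trans_eq (dset_comm b a)))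
      rw [Finset.card_union_of_disjoint hd] at h1
      have h2 := hcard a b hab
      have h3 := hcard b a (hKsymm a b hab)
      omega
    have hδ : ∀ a b, K a b → Γ.dist a b = Γ.dist z₀ a₀ := fun a b h => dist_col hΓc h
    set δ := Γ.dist z₀ a₀ with hδdef
    have hδpos : 0 < δ := hΓc.pos_dist_of_ne hza
    have h4w := hDK z₀ a₀ rfl
    have hw0 := hwalk z₀ a₀
    rw [← hδdef] at hw0
    rcases Nat.lt_or_ge δ 3 with hlt | hge
    · have : 4 * w ≤ 6 * D := by nlinarith
      nlinarith
    · set v := (univ.filter (Γ.Adj z₀)).card with hv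
      have hΓinv : ∀ (h : G) a b, Γ.Adj (h • a) (h • b) ↔ Γ.Adj a b := fun h a b => by
        simp only [Γ, gr_adj, col_smul, ne_eq, smul_left_cancel_iff]
      have hΓv : ∀ z, (univ.filter (Γ.Adj z)).card = v := fun z => card_fibre_eq hΓinv z z₀
      have hNv : N ≤ v * D := by
        have hsub : univ.filter (K z₀) ⊆ (univ.filter (Γ.Adj z₀)).biUnion (fun y => dset G z₀ y) := by
          intro z hz
          simp only [Finset.mem_filter, Finset.mem_univ, true_and] at hz
          obtain ⟨p, hp⟩ := hΓc.exists_walk_length_eq_dist z₀ z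
          have hl : p.length = δ := hp.trans (hδ _ _ hz)
          have a1 := p.adj_getVert_succ (i := 0) (by omega)
          rw [SimpleGraph.Walk.getVert_zero] at a1
          rw [Finset.mem_biUnion]
          refine ⟨p.getVert 1, by simpa using a1, mem_dset.2 fun e => ?_⟩
          have h1 := dist_col hΓc e
          have h2 := dist_getVert hΓc p hp (show 1 ≤ p.length by omega) le_rfl
          rw [SimpleGraph.Walk.getVert_length, SimpleGraph.dist_comm] at h2
          rw [h2, SimpleGraph.dist_comm, ← hp] at h1
          omega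
        refine (Finset.card_le_card hsub).trans (Finset.card_biUnion_le.trans ?_)
        refine (Finset.sum_le_card_nsmul _ _ D fun y hy => ?_).trans (le_of_eq (by rw [smul_eq_mul, hv]))
        exact (hΓD z₀ y (Finset.mem_filter.1 hy).2).le
      obtain ⟨p, hp⟩ := hΓc.exists_walk_length_eq_dist z₀ a₀
      set M := (δ + 1) / 3 with hM
      have hMv : M * v ≤ w + 1 := by
        have hsub : (Finset.range M).biUnion (fun m => univ.filter (Γ.Adj (p.getVert (3 * m)))) ⊆
            insert z₀ (univ.filter (W.Adj z₀)) := by
          intro y hy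
          simp only [Finset.mem_biUnion, Finset.mem_range, Finset.mem_filter, Finset.mem_univ,
            true_and] at hy
          obtain ⟨m, hm, hy⟩ := hy
          rw [Finset.mem_insert, Finset.mem_filter, hWadj]
          by_cases hy0 : y = z₀
          · exact Or.inl hy0
          refine Or.inr ⟨mem_univ _, Ne.symm hy0, fun hk => ?_⟩
          have h1 := dist_getVert hΓc p hp (Nat.zero_le (3 * m)) (by omega)
          rw [SimpleGraph.Walk.getVert_zero] at h1
          have h2 := hΓc.dist_triangle (u := z₀) (v := p.getVert (3 * m)) (w := y)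
          rw [hδ _ _ hk, SimpleGraph.dist_eq_one_iff_adj.2 hy, h1] at h2
          omega
        have hdisj : (↑(Finset.range M) : Set ℕ).PairwiseDisjoint
            (fun m => univ.filter (Γ.Adj (p.getVert (3 * m)))) := by
          intro i hi j hj hij
          simp only [Finset.coe_range, Set.mem_Iio] at hi hj
          rw [Function.onFun, Finset.disjoint_filter]
          intro y _ h1 h2
          have h3 := hΓc.dist_triangle (u := p.getVert (3 * i)) (v := y) (w := p.getVert (3 * j))
          rw [SimpleGraph.dist_eq_one_iff_adj.2 h1, SimpleGraph.dist_eq_one_iff_adj.2 h2.symm] at h3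
          rcases Nat.lt_or_gt_of_ne hij with h | h
          · rw [dist_getVert hΓc p hp (show 3 * i ≤ 3 * j by omega) (by omega)] at h3
            omega
          · rw [SimpleGraph.dist_comm, dist_getVert hΓc p hp (show 3 * j ≤ 3 * i by omega) (by omega)] at h3
            omega
        have h := Finset.card_le_card hsub
        rw [Finset.card_biUnion hdisj, Finset.sum_congr rfl (fun m _ => hΓv _), Finset.sum_const,
          Finset.card_range, smul_eq_mul, Finset.card_insert_of_notMem (by simp [hWadj]), ← hw] at h
        exact h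
      have hM4 : δ ≤ 4 * M := by omega
      have hv3 : v ≤ 3 * D + 2 := by
        by_contra hlt
        push Not at hlt
        have h1 : δ * v ≤ 4 * M * v := Nat.mul_le_mul_right _ hM4
        have h2 : δ * (3 * D + 3) ≤ δ * v := Nat.mul_le_mul_left _ hlt
        nlinarith
      nlinarith

/-- Two permutations whose supports meet in one point have a three cycle as commutator. -/
theorem commutator_isThreeCycle {u v : Equiv.Perm Ω} {a : Ω} (hu : u a ≠ a) (hv : v a ≠ a)
    (h : ∀ x, u x ≠ x → v x ≠ x → x = a) : (u * v * u⁻¹ * v⁻¹).IsThreeCycle := by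
  set b := u a
  set e := v a
  have hub : ∀ x, x ≠ a → v x ≠ x → u x = x := fun x hx hvx => by
    by_contra hne
    exact hx (h x hne hvx)
  have hvb : ∀ x, x ≠ a → u x ≠ x → v x = x := fun x hx hux => by
    by_contra hne
    exact hx (h x hux hne)
  have hba : b ≠ a := hu
  have hea : e ≠ a := hv
  have hbm : u b ≠ b := fun he => hu (u.injective he)
  have hem : v e ≠ e := fun he => hv (v.injective he)
  have hue : u e = e := hub e hea hem
  have hvb' : v b = b := hvb b hba hbm
  have hbe : e ≠ b := fun he => hbm (he ▸ hue)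
  have key : u * v * u⁻¹ * v⁻¹ = Equiv.swap a e * Equiv.swap a b := by
    ext x
    simp only [Equiv.Perm.mul_apply]
    by_cases hxa : x = a
    · subst hxa
      rw [Equiv.swap_apply_left, Equiv.swap_apply_of_ne_of_ne hba hbe.symm]
      have h1 : v⁻¹ x ≠ x := fun he => hv (Equiv.Perm.inv_eq_iff_eq.1 he).symm
      have h2 : v (v⁻¹ x) ≠ v⁻¹ x := by simpa using h1.symm
      have h3 : u⁻¹ (v⁻¹ x) = v⁻¹ x := Equiv.Perm.inv_eq_iff_eq.2 (hub _ h1 h2).symm
      rw [h3]
      simp [b]
    by_cases hxb : x = b
    · subst hxb
      rw [Equiv.swap_apply_right, Equiv.swap_apply_left, Equiv.Perm.inv_eq_iff_eq.2 hvb'.symm]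
      simp only [b, Equiv.Perm.inv_def, Equiv.symm_apply_apply]
      exact hue
    rw [Equiv.swap_apply_of_ne_of_ne hxa hxb]
    by_cases hxe : x = e
    · subst hxe
      rw [Equiv.swap_apply_right]
      simp only [e, Equiv.Perm.inv_def, Equiv.symm_apply_apply]
      have h1 : u.symm a ≠ a := fun he => hu ((Equiv.symm_apply_eq u).1 he).symm
      have h2 : u (u.symm a) ≠ u.symm a := by simpa using h1.symm
      rw [hvb _ h1 h2, Equiv.apply_symm_apply]
    rw [Equiv.swap_apply_of_ne_of_ne hxa hxe]
    by_cases hvx : v x = x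
    · rw [Equiv.Perm.inv_eq_iff_eq.2 hvx.symm]
      by_cases hux : u x = x
      · rw [Equiv.Perm.inv_eq_iff_eq.2 hux.symm, hvx, hux]
      · have h1 : u⁻¹ x ≠ a := fun he => hxb (by simp only [b, ← he]; simp)
        have h2 : u (u⁻¹ x) ≠ u⁻¹ x := by
          simp only [Equiv.Perm.inv_def, Equiv.apply_symm_apply]
          intro he
          exact hux (by conv_lhs => rw [he]; simp)
        rw [hvb _ h1 h2]
        simp
    · have hux : u x = x := hub x hxa hvx
      have h1 : v⁻¹ x ≠ a := fun he => hxe (by simp only [e, ← he]; simp)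
      have h2 : v (v⁻¹ x) ≠ v⁻¹ x := by
        simp only [Equiv.Perm.inv_def, Equiv.apply_symm_apply]
        intro he
        exact hvx (by conv_lhs => rw [he]; simp)
      rw [Equiv.Perm.inv_eq_iff_eq.2 (hub _ h1 h2).symm]
      simp [hux]
  rw [key]
  exact Equiv.Perm.isThreeCycle_swap_mul_swap_same hea.symm hba.symm hbe

/-- A doubly transitive group with a small support contains a three cycle. -/
theorem exists_threeCycle [Finite G] (h2t : ∀ a b a' b' : Ω, a ≠ b → a' ≠ b' → col G a b = col G a' b')
    {g : G} {a : Ω} (ha : g • a ≠ a) {S : Finset Ω} (hS : ∀ x, g • x ≠ x → x ∈ S)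
    (hbig : S.card * S.card + 1 < Fintype.card Ω) :
    ∃ k : G, (MulAction.toPermHom G Ω k).IsThreeCycle := by
  classical
  haveI : Fintype G := Fintype.ofFinite G
  set H : Finset G := univ.filter fun h => h • a = a
  have hHpos : 0 < H.card := Finset.card_pos.2 ⟨1, by simp [H]⟩
  have hf : ∀ s t, s ≠ a → t ≠ a →
      (H.filter fun h => h • s = t).card * (Fintype.card Ω - 1) = H.card := by
    intro s t hs ht
    have e : ∀ t' ∈ univ.erase a, (H.filter fun h => h • s = t').card = (H.filter fun h => h • s = t).card := by
      intro t' ht'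
      obtain ⟨k, hka, hkt⟩ := col_eq_iff.1 (h2t a t' a t (Finset.ne_of_mem_erase ht').symm ht.symm)
      refine Finset.card_bij' (fun h _ => k⁻¹ * h) (fun h _ => k * h) ?_ ?_ (by simp) (by simp)
      · intro h hh
        simp only [H, Finset.mem_filter, Finset.mem_univ, true_and] at hh ⊢
        rw [mul_smul, mul_smul, hh.1, hh.2, inv_smul_eq_iff, inv_smul_eq_iff]
        exact ⟨hka.symm, hkt.symm⟩
      · intro h hh
        simp only [H, Finset.mem_filter, Finset.mem_univ, true_and] at hh ⊢
        rw [mul_smul, mul_smul, hh.1, hh.2]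
        exact ⟨hka, hkt⟩
    have hm : ∀ h ∈ H, h • s ∈ univ.erase a := fun h hh => by
      simp only [H, Finset.mem_filter, Finset.mem_univ, true_and] at hh
      refine Finset.mem_erase.2 ⟨fun he => hs ?_, mem_univ _⟩
      exact smul_left_cancel h (he.trans hh.symm)
    rw [Finset.card_eq_sum_card_fiberwise hm, Finset.sum_congr rfl e, Finset.sum_const,
      Finset.card_erase_of_mem (mem_univ _), Finset.card_univ, smul_eq_mul, mul_comm]
  obtain ⟨h, hh, hgood⟩ : ∃ h ∈ H, ∀ s ∈ S, s ≠ a → h • s ∈ S → h • s = a := by
    by_contra hne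
    push Not at hne
    set S' := S.erase a
    have h1 : H.card ≤ ∑ h ∈ H, ((S' ×ˢ S').filter fun st => h • st.1 = st.2).card := by
      rw [Finset.card_eq_sum_ones]
      refine Finset.sum_le_sum fun h hh => ?_
      obtain ⟨s, hs, hsa, hhs, hhsa⟩ := hne h hh
      exact Finset.card_pos.2 ⟨(s, h • s), by simp [S', hs, hsa, hhs, hhsa]⟩
    have h2 : (∑ h ∈ H, ((S' ×ˢ S').filter fun st => h • st.1 = st.2).card) * (Fintype.card Ω - 1) =
        (S' ×ˢ S').card * H.card := by
      simp only [Finset.card_filter]
      rw [Finset.sum_comm, Finset.sum_mul, ← smul_eq_mul ((S' ×ˢ S').card), ← Finset.sum_const]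
      refine Finset.sum_congr rfl fun st hst => ?_
      simp only [S', Finset.mem_product, Finset.mem_erase] at hst
      rw [← Finset.card_filter]
      exact hf _ _ hst.1.1 hst.2.1
    have h3 := Nat.mul_le_mul_right (Fintype.card Ω - 1) h1
    rw [h2, Finset.card_product, mul_comm (S'.card * S'.card)] at h3
    have h4 := Nat.le_of_mul_le_mul_left h3 hHpos
    have h5 : S'.card ≤ S.card := Finset.card_le_card (Finset.erase_subset _ _)
    have := Nat.mul_le_mul h5 h5
    omega
  simp only [H, Finset.mem_filter, Finset.mem_univ, true_and] at hh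
  refine ⟨g * (h * g * h⁻¹) * g⁻¹ * (h * g * h⁻¹)⁻¹, ?_⟩
  rw [map_mul, map_mul, map_mul, map_inv, map_inv]
  refine commutator_isThreeCycle (a := a) (by simpa using ha) ?_ fun x hx hx' => ?_
  · simp only [MulAction.toPermHom_apply, MulAction.toPerm_apply, mul_smul,
      show h⁻¹ • a = a from inv_smul_eq_iff.2 hh.symm]
    intro e
    exact ha (smul_left_cancel h (e.trans hh.symm))
  · simp only [MulAction.toPermHom_apply, MulAction.toPerm_apply, mul_smul] at hx hx'
    by_cases hsa : h⁻¹ • x = a
    · rw [← smul_inv_smul h x, hsa, hh]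
    · have hmem : h⁻¹ • x ∈ S := hS _ fun e => hx' (by rw [e, smul_inv_smul])
      have := hgood _ hmem hsa (by rw [smul_inv_smul]; exact hS _ hx)
      rwa [smul_inv_smul] at this

end CfsgLib.Perm.Babai
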