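import Cfsg.Agent.Lib.Perm.ClassCountWeight
import Cfsg.Agent.Lib.PGroup.CountPElements
import Cfsg.Agent.Lib.Coprime.SchurZassenhaus
import Mathlib

/-!
# A permutation group of degree `d` has at most `5 ^ (d - 1)` classes

The primes are removed from the largest one on: a `p`-element `x` is fixed in a Sylow subgroup
and its centraliser acts on the cycles of `x` with a `p`-group as kernel.
-/

set_option autoImplicit false
set_option linter.unusedSectionVars false
set_option linter.style.haveILetI false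

namespace CfsgLib.Perm.ClassCount

open Equiv

/-- All prime divisors of the order are at most `m + 1`. -/
def Small {G : Type} [Group G] (m : ℕ) (g : G) : Prop :=
  ∀ q, q.Prime → q ∣ orderOf g → q ≤ m + 1

/-- The number of classes of small elements. -/
noncomputable def smallClasses (G : Type) [Group G] (m : ℕ) : ℕ :=
  ((ConjClasses.mk : G → ConjClasses G) '' {g | Small m g}).ncard

/-- The constants `2 ∏ (1 + 2 ^ -j)`. -/
def bigK : ℕ → ℚ
  | 0 => 2
  | m + 1 => bigK m * (1 + (1 / 2 : ℚ) ^ (m + 1))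

theorem two_le_bigK (m : ℕ) : 2 ≤ bigK m := by
  induction m with
  | zero => exact le_rfl
  | succ m ih =>
    exact ih.trans (le_mul_of_one_le_right (by linarith) (le_add_of_nonneg_right (by positivity)))

theorem bigK_le_succ (m : ℕ) : bigK m ≤ bigK (m + 1) :=
  le_mul_of_one_le_right (by linarith [two_le_bigK m]) (le_add_of_nonneg_right (by positivity))

theorem bigK_le_five (m : ℕ) : bigK m ≤ 5 := by
  have key : ∀ k, bigK (k + 2) ≤ 5 * (1 - (1 / 2 : ℚ) ^ (k + 2)) := by
    intro k
    induction k with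
    | zero => norm_num [bigK]
    | succ k ih =>
      set t : ℚ := (1 / 2 : ℚ) ^ (k + 3) with ht
      have ht0 : 0 ≤ t := by positivity
      have e : (1 / 2 : ℚ) ^ (k + 2) = 2 * t := by rw [ht, pow_succ]; ring
      rw [e] at ih
      calc bigK (k + 3) = bigK (k + 2) * (1 + t) := rfl
        _ ≤ 5 * (1 - 2 * t) * (1 + t) := mul_le_mul_of_nonneg_right ih (by linarith)
        _ ≤ 5 * (1 - t) := by nlinarith
  calc bigK m ≤ bigK (m + 1) := bigK_le_succ m
    _ ≤ bigK (m + 2) := bigK_le_succ (m + 1)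
    _ ≤ 5 * (1 - (1 / 2 : ℚ) ^ (m + 2)) := key m
    _ ≤ 5 := by nlinarith [show (0 : ℚ) ≤ (1 / 2 : ℚ) ^ (m + 2) by positivity]

section Kernel

variable {H Q : Type} [Group H] [Group Q] [Finite H] {p : ℕ} [hp : Fact p.Prime] (φ : H →* Q)

theorem orderOf_map_eq (hker : IsPGroup p φ.ker) {y : H} (hy : ¬ p ∣ orderOf y) :
    orderOf (φ y) = orderOf y := by
  refine Nat.dvd_antisymm (orderOf_map_dvd φ y) (orderOf_dvd_of_pow_eq_one ?_)
  have hk : y ^ orderOf (φ y) ∈ φ.ker := by
    rw [MonoidHom.mem_ker, map_pow, pow_orderOf_eq_one]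
  obtain ⟨k, hk'⟩ := hker ⟨_, hk⟩
  have h1 : orderOf (y ^ orderOf (φ y)) ∣ p ^ k :=
    orderOf_dvd_of_pow_eq_one (by simpa using congrArg Subtype.val hk')
  rw [← orderOf_eq_one_iff]
  exact Nat.eq_one_of_dvd_coprimes
    ((Nat.Coprime.pow_left k (hp.1.coprime_iff_not_dvd.2 hy))) h1
    (orderOf_pow_dvd _)

/-- Elements of order prime to `p` with the same image modulo a `p`-group are conjugate. -/
theorem isConj_of_map_eq (hker : IsPGroup p φ.ker) {y z : H} (hy : ¬ p ∣ orderOf y)
    (hz : ¬ p ∣ orderOf z) (h : φ y = φ z) : IsConj y z := by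
  have hoy := orderOf_map_eq φ hker hy
  have hoz := orderOf_map_eq φ hker hz
  have hcop : (Nat.card φ.ker).Coprime (Nat.card (Subgroup.zpowers y)) := by
    obtain ⟨k, hk⟩ := hker.exists_card_eq
    rw [hk, Nat.card_zpowers]
    exact Nat.Coprime.pow_left k (hp.1.coprime_iff_not_dvd.2 hy)
  haveI : Group.IsNilpotent φ.ker := hker.isNilpotent
  obtain ⟨n, hn, e⟩ := Coprime.exists_conj_eq (N := φ.ker) (H := Subgroup.zpowers y)
    (K := Subgroup.zpowers z) (Or.inl inferInstance)
    (by rw [Subgroup.normalizer_eq_top]; exact le_top)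
    (by rw [Subgroup.normalizer_eq_top]; exact le_top)
    (by
      rw [Subgroup.zpowers_le]
      have hm : y * z⁻¹ ∈ φ.ker := by rw [MonoidHom.mem_ker, map_mul, map_inv, h, mul_inv_cancel]
      simpa using mul_mem (Subgroup.mem_sup_left (T := Subgroup.zpowers z) hm)
        (Subgroup.mem_sup_right (S := φ.ker) (Subgroup.mem_zpowers z)))
    (by rw [Nat.card_zpowers, Nat.card_zpowers, ← hoy, h, hoz]) hcop
  obtain ⟨i, hi⟩ : n * y * n⁻¹ ∈ Subgroup.zpowers z :=
    e ▸ Subgroup.mem_map_of_mem _ (Subgroup.mem_zpowers y)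
  have hiφ := congrArg φ hi
  rw [map_zpow, map_mul, map_mul, map_inv, MonoidHom.mem_ker.1 hn, inv_one, mul_one, one_mul, h]
    at hiφ
  have hz1 : z ^ i = z := by
    conv_rhs => rw [← zpow_one z]
    rw [zpow_eq_zpow_iff_modEq, ← hoz]
    exact zpow_eq_zpow_iff_modEq.1 (hiφ.trans (zpow_one _).symm)
  exact isConj_iff.2 ⟨n, by rw [← hi]; exact hz1⟩

/-- Classes of small elements inject modulo a `p`-group, `m + 1 < p`. -/
theorem smallClasses_le_range [Finite Q] (hker : IsPGroup p φ.ker) {m : ℕ} (hm : m + 1 < p) :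
    smallClasses H m ≤ smallClasses φ.range m := by
  have hnd : ∀ {u : H}, Small m u → ¬ p ∣ orderOf u := fun hu h => by
    have := hu p hp.1 h; omega
  refine Set.ncard_le_ncard_of_injOn
    (fun c => Quotient.liftOn' c (fun u => ConjClasses.mk (φ.rangeRestrict u)) fun u v huv =>
      ConjClasses.mk_eq_mk_iff_isConj.2 (φ.rangeRestrict.map_isConj huv)) ?_ ?_
  · rintro _ ⟨u, hu, rfl⟩
    exact ⟨φ.rangeRestrict u, fun q hq hd => hu q hq (hd.trans (orderOf_map_dvd _ _)), rfl⟩
  · rintro _ ⟨u, hu, rfl⟩ _ ⟨v, hv, rfl⟩ he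
    obtain ⟨⟨w, g, rfl⟩, hw⟩ := isConj_iff.1 (ConjClasses.mk_eq_mk_iff_isConj.1 he)
    have hw' : φ (g * u * g⁻¹) = φ v := by
      simpa using congrArg Subtype.val hw
    have h1 : IsConj u (g * u * g⁻¹) := isConj_iff.2 ⟨g, rfl⟩
    refine ConjClasses.mk_eq_mk_iff_isConj.2 (h1.trans (isConj_of_map_eq φ hker ?_ (hnd hv) hw'))
    rw [show g * u * g⁻¹ = MulAut.conj g u from rfl, MulEquiv.orderOf_eq]
    exact hnd hu

end Kernel

section Cycles

variable {α : Type}

theorem sameCycle_of_commute {x c : Perm α} (h : Commute c x) {a b : α} (hab : x.SameCycle a b) :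
    x.SameCycle (c a) (c b) := by
  obtain ⟨i, rfl⟩ := hab
  refine ⟨i, ?_⟩
  have := DFunLike.congr_fun (h.zpow_right i).eq a
  exact this.symm

/-- The centraliser of `x` permutes the cycles of `x`. -/
noncomputable def cycleHom (G : Subgroup (Perm α)) (x : G) :
    Subgroup.centralizer ({x} : Set G) →* Perm (Quotient (Perm.SameCycle.setoid (x : Perm α))) :=
  letI : MulAction (Subgroup.centralizer ({x} : Set G))
      (Quotient (Perm.SameCycle.setoid (x : Perm α))) :=
    { smul := fun c => Quotient.map' (fun a => ((c : G) : Perm α) a) fun _ _ hab =>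
        sameCycle_of_commute
          ((Commute.map (show Commute (c : G) x from (Subgroup.mem_centralizer_singleton_iff.1 c.2))
            G.subtype)) hab
      one_smul := fun q => Quotient.inductionOn' q fun _ => rfl
      mul_smul := fun _ _ q => Quotient.inductionOn' q fun _ => rfl }
  MulAction.toPermHom _ _

theorem isPGroup_ker_cycleHom [Finite α] {p : ℕ} (G : Subgroup (Perm α)) (x : G)
    (hx : ∃ k, orderOf x = p ^ k) : IsPGroup p (cycleHom G x).ker := by
  obtain ⟨k, hk⟩ := hx
  rintro ⟨c, hc⟩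
  refine ⟨k, ?_⟩
  refine Subtype.ext (Subtype.ext (Subtype.ext (Equiv.ext fun a => ?_)))
  have hcomm : Commute ((c : G) : Perm α) (x : Perm α) :=
    Commute.map (show Commute (c : G) x from Subgroup.mem_centralizer_singleton_iff.1 c.2) G.subtype
  have hq := DFunLike.congr_fun (MonoidHom.mem_ker.1 hc) (Quotient.mk'' a)
  have hs : (x : Perm α).SameCycle a (((c : G) : Perm α) a) :=
    ((Quotient.exact' (show (Quotient.mk'' (((c : G) : Perm α) a) :
      Quotient (Perm.SameCycle.setoid (x : Perm α))) = Quotient.mk'' a from hq)) :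
        (x : Perm α).SameCycle (((c : G) : Perm α) a) a).symm
  obtain ⟨i, hi⟩ := hs
  have key : ∀ n : ℕ, (((c : G) : Perm α) ^ n) a = ((x : Perm α) ^ (i * n)) a := by
    intro n
    induction n with
    | zero => simp
    | succ n ih =>
      rw [pow_succ', Perm.mul_apply, ih]
      have e := DFunLike.congr_fun (hcomm.zpow_right (i * n)).eq a
      refine (e : _).trans ?_
      rw [Perm.mul_apply, ← hi, ← Perm.mul_apply, ← zpow_add]
      congr 2
      push_cast
      ring
  have hxk : (x : Perm α) ^ (p ^ k) = 1 := by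
    rw [← hk, ← Subgroup.coe_pow, pow_orderOf_eq_one, Subgroup.coe_one]
  show (((c : G) : Perm α) ^ (p ^ k)) a = a
  rw [key, mul_comm, zpow_mul, zpow_natCast, hxk, one_zpow, Perm.one_apply]

end Cycles

theorem smallClasses_le_sum {α : Type} [Finite α] (G : Subgroup (Perm α)) {m : ℕ}
    [hp : Fact (m + 2).Prime] (P : Sylow (m + 2) G) [Fintype P] :
    smallClasses G (m + 1) ≤ ∑ x : P, smallClasses (cycleHom G (x : G)).range m := by
  classical
  set A : ∀ x : P, Set (ConjClasses (Subgroup.centralizer ({(x : G)} : Set G))) := fun x =>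
    ConjClasses.mk '' {u | Small m u} with hA
  have h1 : smallClasses G (m + 1) ≤ Nat.card (Σ x : P, A x) := by
    let f : (Σ x : P, A x) → ConjClasses G := fun z =>
      ConjClasses.mk ((z.1 : G) * ((z.2.1.out : Subgroup.centralizer ({(z.1 : G)} : Set G)) : G))
    refine le_trans (Set.ncard_le_ncard (t := Set.range f) ?_) (Finite.card_range_le f)
    rintro _ ⟨g, hg, rfl⟩
    obtain ⟨x₀, y₀, hxy, hcomm, ⟨k, hk⟩, hy₀⟩ :=
      PGroup.CountPElements.exists_decomp (p := m + 2) g
    have hpx : IsPGroup (m + 2) (Subgroup.zpowers x₀) :=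
      IsPGroup.of_card ((Nat.card_zpowers _).trans hk)
    obtain ⟨P₀, hP₀⟩ := hpx.exists_le_sylow
    obtain ⟨a, ha⟩ := MulAction.exists_smul_eq G P₀ P
    have hxP : a * x₀ * a⁻¹ ∈ (P : Subgroup G) := by
      rw [← ha]
      exact ⟨x₀, hP₀ (Subgroup.mem_zpowers x₀), rfl⟩
    have hy : a * y₀ * a⁻¹ ∈ Subgroup.centralizer ({a * x₀ * a⁻¹} : Set G) :=
      Subgroup.mem_centralizer_singleton_iff.2 (Commute.map hcomm.symm (MulAut.conj a).toMonoidHom).eq
    have hdy : orderOf y₀ ∣ orderOf g := by
      rw [← hxy, hcomm.orderOf_mul_eq_mul_orderOf_of_coprime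
        (hk ▸ Nat.Coprime.pow_left k (hp.1.coprime_iff_not_dvd.2 hy₀))]
      exact dvd_mul_left _ _
    let x : P := ⟨_, hxP⟩
    let y : Subgroup.centralizer ({(x : G)} : Set G) := ⟨_, hy⟩
    have hys : Small m y := by
      intro q hq hd
      rw [← Subgroup.orderOf_coe, show ((y : G)) = MulAut.conj a y₀ from rfl, MulEquiv.orderOf_eq] at hd
      have := hg q hq (hd.trans hdy)
      have : q ≠ m + 2 := fun e => hy₀ (e ▸ hd)
      omega
    refine ⟨⟨x, ⟨_, y, hys, rfl⟩⟩, ?_⟩
    obtain ⟨u, hu⟩ := isConj_iff.1 (ConjClasses.mk_eq_mk_iff_isConj.1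
      (Quotient.out_eq (ConjClasses.mk y) :
        ConjClasses.mk (Quotient.out (ConjClasses.mk y)) = ConjClasses.mk y))
    refine ConjClasses.mk_eq_mk_iff_isConj.2 (isConj_iff.2 ⟨a⁻¹ * u, ?_⟩)
    have hu' := congrArg Subtype.val hu
    simp only [Subgroup.coe_mul, Subgroup.coe_inv] at hu'
    have hux : (u : G) * (x : G) = (x : G) * u := Subgroup.mem_centralizer_singleton_iff.1 u.2
    set o : G := ((Quotient.out (ConjClasses.mk y) :
      Subgroup.centralizer ({(x : G)} : Set G)) : G) with ho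
    show a⁻¹ * (u : G) * ((x : G) * o) * (a⁻¹ * (u : G))⁻¹ = g
    rw [show a⁻¹ * (u : G) * ((x : G) * o) * (a⁻¹ * (u : G))⁻¹
        = a⁻¹ * (((u : G) * (x : G)) * o * (u : G)⁻¹) * a by group, hux, mul_assoc (x : G),
      mul_assoc (x : G), hu']
    show a⁻¹ * (a * x₀ * a⁻¹ * (a * y₀ * a⁻¹)) * a = g
    rw [← hxy]; group
  refine h1.trans ?_
  rw [Nat.card_sigma]
  refine Finset.sum_le_sum fun x _ => ?_
  rw [Nat.card_coe_set_eq]
  refine smallClasses_le_range (p := m + 2) _ (isPGroup_ker_cycleHom G _ ?_) (by omega)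
  obtain ⟨k, hk⟩ := IsPGroup.iff_orderOf.1 P.isPGroup' x
  exact ⟨k, (Subgroup.orderOf_coe x).trans hk⟩

theorem smallClasses_le : ∀ (m : ℕ) (α : Type) [Finite α] [Nonempty α] (G : Subgroup (Perm α)),
    (smallClasses G m : ℚ) ≤ bigK m ^ (Nat.card α - 1) := by
  intro m
  induction m with
  | zero =>
    intro α _ _ G
    refine le_trans ?_ (one_le_pow₀ (by linarith [two_le_bigK 0]))
    have h : (ConjClasses.mk : G → ConjClasses G) '' {g | Small 0 g} ⊆ {ConjClasses.mk 1} := by
      rintro _ ⟨g, hg, rfl⟩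
      rw [Set.mem_singleton_iff]
      by_cases hg1 : g = 1
      · rw [hg1]
      obtain ⟨q, hq, hd⟩ := Nat.exists_prime_and_dvd (mt orderOf_eq_one_iff.1 hg1)
      have := hg q hq hd
      have := hq.two_le
      omega
    have := Set.ncard_le_ncard h
    rw [Set.ncard_singleton] at this
    exact_mod_cast this
  | succ m ih =>
    intro α _ _ G
    by_cases hp : (m + 2).Prime
    swap
    · have h : smallClasses G (m + 1) ≤ smallClasses G m :=
        Set.ncard_le_ncard (Set.image_mono fun g hg q hq hd => by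
          have := hg q hq hd
          have : q ≠ m + 2 := fun e => hp (e ▸ hq)
          omega)
      calc (smallClasses G (m + 1) : ℚ) ≤ smallClasses G m := by exact_mod_cast h
        _ ≤ _ := ih α G
        _ ≤ _ := pow_le_pow_left₀ (by linarith [two_le_bigK m]) (bigK_le_succ m) _
    haveI : Fact (m + 2).Prime := ⟨hp⟩
    obtain ⟨P⟩ : Nonempty (Sylow (m + 2) G) := inferInstance
    haveI := Fintype.ofFinite α
    haveI := Fintype.ofFinite P
    set C := bigK m with hC
    have hC2 : 2 ≤ C := two_le_bigK m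
    set b : ℚ := 1 + (1 / 2 : ℚ) ^ (m + 1) with hb
    have hb1 : 1 ≤ b := le_add_of_nonneg_right (by positivity)
    set P' : Subgroup (Perm α) := (P : Subgroup G).map G.subtype with hP'
    haveI := Fintype.ofFinite P'
    have hw := wt_le (p := m + 2) hC2 (Fintype.card α) α rfl P' (P.isPGroup'.map _)
    have hwt : wt C P' = ∑ x : P, C ^ nCyc ((x : G) : Perm α) := by
      rw [wt_eq_sum]
      exact (Fintype.sum_equiv
        ((Subgroup.equivMapOfInjective (P : Subgroup G) _ G.subtype_injective).toEquiv)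
        _ _ fun x => rfl).symm
    have ho : 1 ≤ nOrb P' := by
      haveI : Nonempty (MulAction.orbitRel.Quotient P' α) := ⟨Quotient.mk'' (Classical.arbitrary α)⟩
      exact Nat.card_pos
    have hS : (smallClasses G (m + 1) : ℚ) * C ≤ wt C P' := by
      have h0 : (smallClasses G (m + 1) : ℚ) ≤
          ∑ x : P, (smallClasses (cycleHom G (x : G)).range m : ℚ) := by
        exact_mod_cast smallClasses_le_sum G P
      rw [hwt]
      refine le_trans (mul_le_mul_of_nonneg_right h0 (by linarith)) ?_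
      rw [Finset.sum_mul]
      refine Finset.sum_le_sum fun x _ => ?_
      haveI : Nonempty (Quotient (Perm.SameCycle.setoid ((x : G) : Perm α))) :=
        ⟨Quotient.mk'' (Classical.arbitrary α)⟩
      have h2 := mul_le_mul_of_nonneg_right (ih _ (cycleHom G (x : G)).range)
        (show (0 : ℚ) ≤ C by linarith)
      refine h2.trans (le_of_eq ?_)
      rw [← pow_succ, nCyc, Nat.sub_add_cancel Nat.card_pos]
    have h3 : (smallClasses G (m + 1) : ℚ) * (C * b) ≤ (C * b) ^ (Nat.card α - 1) * (C * b) := by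
      rw [← pow_succ, Nat.sub_add_cancel Nat.card_pos, ← mul_assoc, Nat.card_eq_fintype_card]
      calc (smallClasses G (m + 1) : ℚ) * C * b ≤ wt C P' * b :=
            mul_le_mul_of_nonneg_right hS (by linarith)
        _ ≤ wt C P' * b ^ nOrb P' := mul_le_mul_of_nonneg_left
            (le_self_pow₀ hb1 (by omega)) (wt_nonneg (by linarith) _)
        _ ≤ _ := hw
    exact le_of_mul_le_mul_right h3 (by positivity)

/-- The class bound. -/
theorem card_conjClasses_le {α : Type} [Finite α] [Nonempty α] (G : Subgroup (Perm α)) :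
    Nat.card (ConjClasses G) ≤ 5 ^ (Nat.card α - 1) := by
  have h : smallClasses G (Nat.card G) = Nat.card (ConjClasses G) := by
    rw [smallClasses, Set.eq_univ_of_forall (s := {g : G | Small (Nat.card G) g}) fun g q hq hd => ?_,
      Set.image_univ_of_surjective ConjClasses.mk_surjective, Set.ncard_univ]
    exact (Nat.le_of_dvd Nat.card_pos (hd.trans (orderOf_dvd_natCard g))).trans (Nat.le_succ _)
  have h2 := (smallClasses_le (Nat.card G) α G).trans
    (pow_le_pow_left₀ (by linarith [two_le_bigK (Nat.card G)]) (bigK_le_five _) _)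
  rw [h] at h2
  exact_mod_cast h2

end CfsgLib.Perm.ClassCount
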