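import Cfsg.Agent.Lib.PGroup.Frattini
import Mathlib

/-!
# The cycle weight of a `p`-group of permutations

For `C ≥ 2` and `b = 1 + 2^{-(p-1)}` the sum of `C ^ (number of cycles)` over a `p`-group of
permutations of `d` points with `o` orbits is at most `(C b) ^ d / b ^ o`.
-/

set_option autoImplicit false
set_option linter.unusedSectionVars false
set_option linter.style.haveILetI false

namespace CfsgLib.Perm.ClassCount

open Equiv

/-- The number of cycles, fixed points included. -/
noncomputable def nCyc {α : Type} (x : Perm α) : ℕ :=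
  Nat.card (Quotient (Perm.SameCycle.setoid x))

/-- The number of orbits. -/
noncomputable def nOrb {α : Type} (P : Subgroup (Perm α)) : ℕ :=
  Nat.card (MulAction.orbitRel.Quotient P α)

/-- The cycle weight. -/
noncomputable def wt {α : Type} (C : ℚ) (P : Subgroup (Perm α)) : ℚ :=
  ∑ᶠ x : P, C ^ nCyc (x : Perm α)

theorem wt_eq_sum {α : Type} (C : ℚ) (P : Subgroup (Perm α)) [Fintype P] :
    wt C P = ∑ x : P, C ^ nCyc (x : Perm α) :=
  finsum_eq_sum_of_fintype _

theorem wt_nonneg {α : Type} {C : ℚ} (hC : 0 ≤ C) (P : Subgroup (Perm α)) : 0 ≤ wt C P :=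
  finsum_nonneg fun _ => pow_nonneg hC _

section Restrict

variable {α : Type} [Finite α] {P : Subgroup (Perm α)} {q : α → Prop}
  (hq : ∀ x : P, ∀ y, q ((x : Perm α) y) ↔ q y)

/-- Restriction to an invariant set. -/
noncomputable def restrictHom : P →* Perm {y // q y} where
  toFun x := (x : Perm α).subtypePerm (hq x)
  map_one' := Perm.ext fun _ => Subtype.ext rfl
  map_mul' _ _ := Perm.ext fun _ => Subtype.ext rfl

theorem nCyc_le_restrict (x : P) (hq' : ∀ x : P, ∀ y, ¬ q ((x : Perm α) y) ↔ ¬ q y) :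
    nCyc (x : Perm α) ≤ nCyc (restrictHom hq x) + nCyc (restrictHom (q := fun y => ¬ q y) hq' x) := by
  classical
  rw [nCyc, nCyc, nCyc, ← Nat.card_sum]
  refine Nat.card_le_card_of_surjective
    (Sum.elim (Quotient.map' (fun y => y.1) fun y z h => (Perm.sameCycle_subtypePerm (h := hq x)).1 h)
      (Quotient.map' (fun y => y.1) fun y z h => (Perm.sameCycle_subtypePerm (h := hq' x)).1 h)) fun c => ?_
  induction c using Quotient.inductionOn' with | _ y => ?_
  by_cases h : q y
  · exact ⟨.inl (Quotient.mk'' ⟨y, h⟩), rfl⟩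
  · exact ⟨.inr (Quotient.mk'' ⟨y, h⟩), rfl⟩

theorem nOrb_le_restrict (hq' : ∀ x : P, ∀ y, ¬ q ((x : Perm α) y) ↔ ¬ q y) :
    nOrb P ≤ nOrb (restrictHom hq).range + nOrb (restrictHom (q := fun y => ¬ q y) hq').range := by
  classical
  rw [nOrb, nOrb, nOrb, ← Nat.card_sum]
  refine Nat.card_le_card_of_surjective
    (Sum.elim (Quotient.map' (fun y => y.1) ?_) (Quotient.map' (fun y => y.1) ?_)) fun c => ?_
  · rintro y z ⟨⟨_, x, rfl⟩, h⟩
    exact ⟨x, congrArg Subtype.val h⟩
  · rintro y z ⟨⟨_, x, rfl⟩, h⟩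
    exact ⟨x, congrArg Subtype.val h⟩
  induction c using Quotient.inductionOn' with | _ y => ?_
  by_cases h : q y
  · exact ⟨.inl (Quotient.mk'' ⟨y, h⟩), rfl⟩
  · exact ⟨.inr (Quotient.mk'' ⟨y, h⟩), rfl⟩

end Restrict

theorem smul_mem_orbit_iff' {α : Type} {P : Subgroup (Perm α)} (x : P) (y a : α) :
    (x : Perm α) y ∈ MulAction.orbit P a ↔ y ∈ MulAction.orbit P a := by
  rw [← MulAction.orbit_eq_iff, ← MulAction.orbit_eq_iff]
  exact ⟨fun h => (MulAction.orbit_smul x y).symm.trans h, fun h => (MulAction.orbit_smul x y).trans h⟩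

theorem prime_pow_le {p : ℕ} (hp : p.Prime) :
    (p : ℚ) ^ p ≤ (2 ^ (p - 1) * (1 + (1 / 2 : ℚ) ^ (p - 1)) ^ p) ^ (p - 1) := by
  have hb : (1 : ℚ) ≤ (1 + (1 / 2 : ℚ) ^ (p - 1)) ^ p :=
    one_le_pow₀ (le_add_of_nonneg_right (by positivity))
  rcases (show p = 2 ∨ p = 3 ∨ 4 ≤ p by have := hp.two_le; omega) with rfl | rfl | h4
  · norm_num
  · norm_num
  refine le_trans ?_ (pow_le_pow_left₀ (by positivity) (le_mul_of_one_le_right (by positivity) hb) _)
  rw [← pow_mul]
  have key : ∀ k : ℕ, k + 4 ≤ 2 ^ (k + 2) := by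
    intro k
    induction k with
    | zero => norm_num
    | succ k ih => rw [show k + 1 + 2 = (k + 2) + 1 from rfl, pow_succ]; omega
  obtain ⟨k, rfl⟩ : ∃ k, p = k + 4 := ⟨p - 4, by omega⟩
  calc ((k + 4 : ℕ) : ℚ) ^ (k + 4) ≤ ((2 : ℚ) ^ (k + 2)) ^ (k + 4) := by
        refine pow_le_pow_left₀ (by positivity) ?_ _
        exact_mod_cast key k
    _ = 2 ^ ((k + 2) * (k + 4)) := by rw [pow_mul]
    _ ≤ _ := pow_le_pow_right₀ one_le_two (by
        rw [show k + 4 - 1 = k + 3 from rfl]; nlinarith)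

/-- The bound on the cycle weight. -/
theorem wt_le {p : ℕ} [hp : Fact p.Prime] {C : ℚ} (hC : 2 ≤ C) :
    ∀ (n : ℕ) (α : Type) [Fintype α], Fintype.card α = n → ∀ P : Subgroup (Perm α), IsPGroup p P →
      wt C P * (1 + (1 / 2 : ℚ) ^ (p - 1)) ^ nOrb P ≤ (C * (1 + (1 / 2 : ℚ) ^ (p - 1))) ^ n := by
  classical
  set b : ℚ := 1 + (1 / 2 : ℚ) ^ (p - 1) with hb
  have hb1 : 1 ≤ b := le_add_of_nonneg_right (by positivity)
  have hb0 : 0 < b := one_pos.trans_le hb1
  have hC0 : (0 : ℚ) < C := lt_of_lt_of_le two_pos hC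
  intro n
  induction n using Nat.strong_induction_on with | _ n ih => ?_
  intro α _ hn P hP
  rcases isEmpty_or_nonempty α with hα | ⟨⟨a⟩⟩
  · have h0 : n = 0 := hn ▸ Fintype.card_eq_zero
    haveI : Subsingleton P := inferInstance
    have ho : nOrb P = 0 := by
      rw [nOrb]
      haveI : IsEmpty (MulAction.orbitRel.Quotient P α) :=
        ⟨fun c => Quotient.inductionOn' c fun y => hα.false y⟩
      exact Nat.card_of_isEmpty
    have hc : ∀ x : P, nCyc (x : Perm α) = 0 := fun x => by
      haveI : IsEmpty (Quotient (Perm.SameCycle.setoid (x : Perm α))) :=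
        ⟨fun c => Quotient.inductionOn' c fun y => hα.false y⟩
      exact Nat.card_of_isEmpty
    rw [h0, ho, pow_zero, pow_zero, mul_one, wt_eq_sum, Fintype.sum_subsingleton _ 1, hc, pow_zero]
  by_cases htr : ∀ y, y ∈ MulAction.orbit P a
  swap
  · -- intransitive
    push Not at htr
    obtain ⟨y₀, hy₀⟩ := htr
    set q : α → Prop := fun y => y ∈ MulAction.orbit P a with hqdef
    have hq : ∀ x : P, ∀ y, q ((x : Perm α) y) ↔ q y := fun x y =>
      smul_mem_orbit_iff' x y a
    have hq' : ∀ x : P, ∀ y, ¬ q ((x : Perm α) y) ↔ ¬ q y := fun x y => not_congr (hq x y)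
    set P₁ := (restrictHom hq).range
    set P₂ := (restrictHom (q := fun y => ¬ q y) hq').range
    have hcard : Fintype.card {y // q y} + Fintype.card {y // ¬ q y} = n := by
      rw [← Fintype.card_sum, ← hn]
      exact Fintype.card_congr (Equiv.sumCompl q)
    have h1 : 0 < Fintype.card {y // q y} :=
      Fintype.card_pos_iff.2 ⟨⟨a, MulAction.mem_orbit_self a⟩⟩
    have h2 : 0 < Fintype.card {y // ¬ q y} := Fintype.card_pos_iff.2 ⟨⟨y₀, hy₀⟩⟩
    have hP₁ : IsPGroup p P₁ := hP.of_surjective _ (restrictHom hq).rangeRestrict_surjective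
    have hP₂ : IsPGroup p P₂ := hP.of_surjective _ (restrictHom (q := fun y => ¬ q y) hq').rangeRestrict_surjective
    have i1 := ih _ (by omega) _ rfl P₁ hP₁
    have i2 := ih _ (by omega) _ rfl P₂ hP₂
    have hw : wt C P ≤ wt C P₁ * wt C P₂ := by
      rw [wt_eq_sum, wt_eq_sum, wt_eq_sum, Fintype.sum_mul_sum, ← Fintype.sum_prod_type']
      let ι : P → P₁ × P₂ := fun x => (⟨_, x, rfl⟩, ⟨_, x, rfl⟩)
      have hι : Function.Injective ι := by
        intro x y h
        refine Subtype.ext (Equiv.ext fun z => ?_)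
        by_cases hz : q z
        · have e := congrArg Subtype.val
            (DFunLike.congr_fun (congrArg Subtype.val (congrArg Prod.fst h)) ⟨z, hz⟩)
          exact e
        · have e := congrArg Subtype.val
            (DFunLike.congr_fun (congrArg Subtype.val (congrArg Prod.snd h)) ⟨z, hz⟩)
          exact e
      calc ∑ x : P, C ^ nCyc (x : Perm α)
          ≤ ∑ x : P, C ^ nCyc ((ι x).1 : Perm {y // q y}) * C ^ nCyc ((ι x).2 : Perm {y // ¬ q y}) :=
            Finset.sum_le_sum fun x _ => by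
              rw [← pow_add]
              exact pow_le_pow_right₀ (by linarith) (nCyc_le_restrict hq x hq')
        _ = ∑ z ∈ Finset.univ.image ι, C ^ nCyc (z.1 : Perm {y // q y}) *
              C ^ nCyc (z.2 : Perm {y // ¬ q y}) := by
            rw [Finset.sum_image fun x _ y _ h => hι h]
        _ ≤ _ := Finset.sum_le_sum_of_subset_of_nonneg (Finset.subset_univ _)
            fun z _ _ => by positivity
    have hw1 : 0 ≤ wt C P₁ := wt_nonneg hC0.le _
    have hw2 : 0 ≤ wt C P₂ := wt_nonneg hC0.le _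
    calc wt C P * b ^ nOrb P ≤ (wt C P₁ * wt C P₂) * b ^ (nOrb P₁ + nOrb P₂) :=
          mul_le_mul hw (pow_le_pow_right₀ hb1 (nOrb_le_restrict hq hq')) (by positivity)
            (mul_nonneg hw1 hw2)
      _ = (wt C P₁ * b ^ nOrb P₁) * (wt C P₂ * b ^ nOrb P₂) := by ring
      _ ≤ _ := by
          rw [← hcard, pow_add]
          exact mul_le_mul i1 i2 (mul_nonneg hw2 (by positivity)) (by positivity)
  -- transitive
  have horb : nOrb P = 1 := by
    rw [nOrb, Nat.card_eq_one_iff_unique]
    refine ⟨⟨fun c d => ?_⟩, ⟨Quotient.mk'' a⟩⟩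
    induction c using Quotient.inductionOn' with | _ y => ?_
    induction d using Quotient.inductionOn' with | _ z => ?_
    exact Quotient.sound' (MulAction.mem_orbit_symm.1
      (MulAction.orbit_eq_iff.2 (htr y) ▸ htr z : z ∈ MulAction.orbit P y))
  rw [horb, pow_one]
  set S : Subgroup P := MulAction.stabilizer P a with hS
  have hSidx : S.index = n := by
    rw [hS, MulAction.index_stabilizer, ← hn, ← Nat.card_eq_fintype_card]
    rw [Set.eq_univ_of_forall htr, Set.ncard_univ]
  by_cases hSt : S = ⊤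
  · -- one point
    have h1 : n = 1 := by rw [← hSidx, hSt, Subgroup.index_top]
    haveI : Subsingleton α := Fintype.card_le_one_iff_subsingleton.1 (by omega)
    haveI : Subsingleton P := inferInstance
    haveI : Nonempty α := ⟨a⟩
    have hc : ∀ x : P, nCyc (x : Perm α) = 1 := fun x => by
      rw [nCyc, Nat.card_eq_one_iff_unique]
      exact ⟨⟨fun c d => Quotient.inductionOn₂' c d fun y z => by rw [Subsingleton.elim y z]⟩,
        ⟨Quotient.mk'' a⟩⟩
    rw [h1, wt_eq_sum, Fintype.sum_subsingleton _ 1, hc, pow_one, pow_one]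
  obtain ⟨M, hM, hSM⟩ := (eq_top_or_exists_le_coatom S).resolve_left hSt
  haveI hMn : M.Normal := PGroup.Frattini.normal_of_isCoatom hP hM
  have hMp : M.index = p := PGroup.Frattini.index_of_isCoatom hP hM
  set M' : Subgroup (Perm α) := M.map P.subtype with hM'
  set m := S.relIndex M with hm
  have hnm : n = p * m := by
    rw [← hSidx, ← Subgroup.relIndex_mul_index hSM, hMp, mul_comm]
  have hm1 : 1 ≤ m := Nat.pos_of_ne_zero fun h => Subgroup.index_ne_zero_of_finite (H := S)
    (by rw [hSidx, hnm, h, mul_zero])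
  -- elements outside `M`
  have hout : ∀ x : P, x ∉ M → nCyc (x : Perm α) ≤ m := by
    intro x hx
    refine le_of_mul_le_mul_left (a := p) ?_ hp.1.pos
    rw [← hnm, ← hn, ← Nat.card_eq_fintype_card, nCyc]
    calc p * Nat.card (Quotient (Perm.SameCycle.setoid (x : Perm α)))
        = Nat.card (Fin p × Quotient (Perm.SameCycle.setoid (x : Perm α))) := by simp
      _ ≤ _ := Nat.card_le_card_of_injective
          (fun z => ((x : Perm α) ^ (z.1 : ℕ)) z.2.out) ?_
    rintro ⟨i, c⟩ ⟨j, d⟩ h
    simp only at h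
    have hcd : c = d := by
      rw [← Quotient.out_eq c, ← Quotient.out_eq d]
      refine Quotient.sound ?_
      exact (Perm.sameCycle_pow_right.2 (Perm.SameCycle.refl _ c.out)).trans
        (h ▸ Perm.sameCycle_pow_left.2 (Perm.SameCycle.refl _ d.out))
    subst hcd
    have key : ∀ k : ℕ, ((x : Perm α) ^ k) c.out = c.out → p ∣ k := by
      intro k hk
      obtain ⟨g, hg⟩ := htr c.out
      have hmem : g⁻¹ * x ^ k * g ∈ M := hSM <| by
        rw [hS, MulAction.mem_stabilizer_iff, mul_smul, mul_smul, inv_smul_eq_iff]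
        show ((x ^ k : P) : Perm α) ((g : Perm α) a) = (g : Perm α) a
        rw [show (g : Perm α) a = c.out from hg, Subgroup.coe_pow]
        exact hk
      have hxk : x ^ k ∈ M := by simpa [mul_assoc] using hMn.conj_mem _ hmem g
      by_contra hpk
      refine hx ?_
      have hxp : x ^ p ∈ M := hMp ▸ Subgroup.pow_index_mem M x
      have hc := (hp.1.coprime_iff_not_dvd.2 hpk)
      have := mul_mem (zpow_mem hxp (Nat.gcdA p k)) (zpow_mem hxk (Nat.gcdB p k))
      rwa [← zpow_natCast, ← zpow_natCast, ← zpow_mul, ← zpow_mul, ← zpow_add,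
        ← Nat.gcd_eq_gcd_ab, hc.gcd_eq_one, Nat.cast_one, zpow_one] at this
    refine Prod.ext (Fin.ext ?_) rfl
    show (i : ℕ) = j
    rcases le_total (i : ℕ) j with hij | hij
    · have := key ((j : ℕ) - i) (((x : Perm α) ^ (i : ℕ)).injective (by
        rw [← Perm.mul_apply, ← pow_add, Nat.add_sub_cancel' hij]; exact h.symm))
      rcases Nat.eq_zero_or_pos ((j : ℕ) - i) with h0 | h0
      · omega
      · have := Nat.le_of_dvd h0 this
        have := j.2
        omega
    · have := key ((i : ℕ) - j) (((x : Perm α) ^ (j : ℕ)).injective (by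
        rw [← Perm.mul_apply, ← pow_add, Nat.add_sub_cancel' hij]; exact h))
      rcases Nat.eq_zero_or_pos ((i : ℕ) - j) with h0 | h0
      · omega
      · have := Nat.le_of_dvd h0 this
        have := i.2
        omega
  -- orbits of `M`
  have hMorb : p ≤ nOrb M' := by
    rw [← hMp, Subgroup.index_eq_card, nOrb]
    refine Nat.card_le_card_of_injective
      (fun c => (Quotient.mk'' ((c.out : Perm α) a) : MulAction.orbitRel.Quotient M' α)) fun c d h => ?_
    obtain ⟨⟨_, u, hu, rfl⟩, hud⟩ := Quotient.exact' h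
    rw [← c.out_eq, ← d.out_eq]
    refine QuotientGroup.eq.2 ?_
    have hmem : (d.out)⁻¹ * (u⁻¹ * c.out) ∈ M := hSM <| by
      rw [hS, MulAction.mem_stabilizer_iff, mul_smul, mul_smul, inv_smul_eq_iff, inv_smul_eq_iff]
      exact hud.symm
    have e : (c.out)⁻¹ * d.out = (d.out⁻¹ * (u⁻¹ * c.out))⁻¹ * (d.out⁻¹ * u⁻¹ * d.out) := by group
    rw [e]
    exact mul_mem (inv_mem hmem) (by simpa using hMn.conj_mem _ (inv_mem hu) d.out⁻¹)
  -- the subgroup `M`
  have hMlt : M'.index ≠ 0 := Subgroup.index_ne_zero_of_finite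
  have hwM : wt C M' * b ^ p ≤ (C * b) ^ n := by
    by_cases hM'lt : nOrb M' = 1
    · exact absurd (hM'lt ▸ hMorb) (not_le.2 hp.1.one_lt)
    refine le_trans (mul_le_mul_of_nonneg_left (pow_le_pow_right₀ hb1 hMorb)
      (wt_nonneg hC0.le _)) ?_
    -- split off one orbit
    set q : α → Prop := fun y => y ∈ MulAction.orbit M' a with hqdef
    have hq : ∀ x : M', ∀ y, q ((x : Perm α) y) ↔ q y := fun x y =>
      smul_mem_orbit_iff' x y a
    have hq' : ∀ x : M', ∀ y, ¬ q ((x : Perm α) y) ↔ ¬ q y := fun x y => not_congr (hq x y)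
    set P₁ := (restrictHom hq).range
    set P₂ := (restrictHom (q := fun y => ¬ q y) hq').range
    have hM'p : IsPGroup p M' := (hP.to_subgroup M).map _
    have hcard : Fintype.card {y // q y} + Fintype.card {y // ¬ q y} = n := by
      rw [← Fintype.card_sum, ← hn]
      exact Fintype.card_congr (Equiv.sumCompl q)
    have h1 : 0 < Fintype.card {y // q y} :=
      Fintype.card_pos_iff.2 ⟨⟨a, MulAction.mem_orbit_self a⟩⟩
    have h2 : 0 < Fintype.card {y // ¬ q y} := by
      refine Fintype.card_pos_iff.2 ?_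
      by_contra he
      rw [nonempty_subtype] at he
      push Not at he
      refine hM'lt (Nat.card_eq_one_iff_unique.2 ⟨⟨fun c d => ?_⟩, ⟨Quotient.mk'' a⟩⟩)
      induction c using Quotient.inductionOn' with | _ y => ?_
      induction d using Quotient.inductionOn' with | _ z => ?_
      exact Quotient.sound' (MulAction.mem_orbit_symm.1
        (MulAction.orbit_eq_iff.2 (he y) ▸ he z : z ∈ MulAction.orbit M' y))
    have i1 := ih _ (by omega) _ rfl P₁ (hM'p.of_surjective _ (restrictHom hq).rangeRestrict_surjective)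
    have i2 := ih _ (by omega) _ rfl P₂ (hM'p.of_surjective _ (restrictHom (q := fun y => ¬ q y) hq').rangeRestrict_surjective)
    have hw : wt C M' ≤ wt C P₁ * wt C P₂ := by
      rw [wt_eq_sum, wt_eq_sum, wt_eq_sum, Fintype.sum_mul_sum, ← Fintype.sum_prod_type']
      let ι : M' → P₁ × P₂ := fun x => (⟨_, x, rfl⟩, ⟨_, x, rfl⟩)
      have hι : Function.Injective ι := by
        intro x y h
        refine Subtype.ext (Equiv.ext fun z => ?_)
        by_cases hz : q z
        · have e := congrArg Subtype.val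
            (DFunLike.congr_fun (congrArg Subtype.val (congrArg Prod.fst h)) ⟨z, hz⟩)
          exact e
        · have e := congrArg Subtype.val
            (DFunLike.congr_fun (congrArg Subtype.val (congrArg Prod.snd h)) ⟨z, hz⟩)
          exact e
      calc ∑ x : M', C ^ nCyc (x : Perm α)
          ≤ ∑ x : M', C ^ nCyc ((ι x).1 : Perm {y // q y}) * C ^ nCyc ((ι x).2 : Perm {y // ¬ q y}) :=
            Finset.sum_le_sum fun x _ => by
              rw [← pow_add]
              exact pow_le_pow_right₀ (by linarith) (nCyc_le_restrict hq x hq')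
        _ = ∑ z ∈ Finset.univ.image ι, C ^ nCyc (z.1 : Perm {y // q y}) *
              C ^ nCyc (z.2 : Perm {y // ¬ q y}) := by
            rw [Finset.sum_image fun x _ y _ h => hι h]
        _ ≤ _ := Finset.sum_le_sum_of_subset_of_nonneg (Finset.subset_univ _)
            fun z _ _ => by positivity
    have hw1 : 0 ≤ wt C P₁ := wt_nonneg hC0.le _
    have hw2 : 0 ≤ wt C P₂ := wt_nonneg hC0.le _
    calc wt C M' * b ^ nOrb M' ≤ (wt C P₁ * wt C P₂) * b ^ (nOrb P₁ + nOrb P₂) :=
          mul_le_mul hw (pow_le_pow_right₀ hb1 (nOrb_le_restrict hq hq')) (by positivity)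
            (mul_nonneg hw1 hw2)
      _ = (wt C P₁ * b ^ nOrb P₁) * (wt C P₂ * b ^ nOrb P₂) := by ring
      _ ≤ _ := by
          rw [← hcard, pow_add]
          exact mul_le_mul i1 i2 (mul_nonneg hw2 (by positivity)) (by positivity)
  -- splitting the sum
  have hcardP : Nat.card P = p * Nat.card M := by
    rw [← Subgroup.card_mul_index M, hMp, mul_comm]
  have hsum : wt C P ≤ wt C M' + ((p : ℚ) - 1) * Nat.card M * C ^ m := by
    have hp1 : ((p : ℚ) - 1) * Nat.card M = ((Finset.univ.filter fun x : P => x ∉ M).card : ℚ) := by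
      have h1 : (Finset.univ.filter fun x : P => x ∈ M).card = Nat.card M := by
        rw [← Fintype.card_subtype, Nat.card_eq_fintype_card]
      have h2 := Finset.card_filter_add_card_filter_not (s := (Finset.univ : Finset P))
        (fun x : P => x ∈ M)
      rw [h1, Finset.card_univ, ← Nat.card_eq_fintype_card, hcardP] at h2
      have h3 : (Nat.card M : ℚ) + ((Finset.univ.filter fun x : P => x ∉ M).card : ℚ) =
          (p : ℚ) * Nat.card M := by exact_mod_cast h2
      linarith
    rw [wt_eq_sum, ← Finset.sum_filter_add_sum_filter_not Finset.univ (fun x : P => x ∈ M)]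
    refine add_le_add (le_of_eq ?_) ?_
    · rw [wt_eq_sum]
      refine Finset.sum_bij (fun x hx => (⟨x, x, (Finset.mem_filter.1 hx).2, rfl⟩ : M'))
        (fun x _ => Finset.mem_univ _) (fun x _ y _ h => Subtype.ext (congrArg Subtype.val h :))
        (fun z _ => ?_) fun x _ => rfl
      obtain ⟨x, hx, e⟩ := z.2
      exact ⟨x, Finset.mem_filter.2 ⟨Finset.mem_univ _, hx⟩, Subtype.ext e⟩
    · refine le_trans (Finset.sum_le_card_nsmul _ _ (C ^ m) fun x hx => ?_) ?_
      · exact pow_le_pow_right₀ (by linarith) (hout x (Finset.mem_filter.1 hx).2)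
      · rw [nsmul_eq_mul, ← hp1]
  -- the order of `M`
  obtain ⟨v, hv⟩ := (hP.to_subgroup M).exists_card_eq
  have hv' : (p - 1) * v ≤ p * (m - 1) := by
    have hdvd : Nat.card P ∣ (p * m).factorial := by
      rw [← hnm, ← hn, ← Fintype.card_perm, ← Nat.card_eq_fintype_card]
      exact Subgroup.card_subgroup_dvd_card P
    rw [hcardP, hv, ← pow_succ'] at hdvd
    have h1 := (padicValNat_dvd_iff_le (Nat.factorial_ne_zero _)).1 hdvd
    have h2 := sub_one_mul_padicValNat_factorial_lt_of_ne_zero (p := p)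
      (n := p * m) (Nat.mul_ne_zero hp.1.ne_zero (by omega))
    have h3 := Nat.mul_le_mul_left (p - 1) h1
    have h4 : (p - 1) * (v + 1) = (p - 1) * v + (p - 1) := by ring
    have h5 : p * m = p * (m - 1) + p := by rw [← Nat.mul_add_one, Nat.sub_add_cancel hm1]
    have := hp.1.two_le
    omega
  set K : ℚ := 2 ^ (p - 1) * b ^ p with hK
  have hK0 : 0 ≤ K := by positivity
  have hMK : (Nat.card M : ℚ) ≤ K ^ (m - 1) := by
    refine (pow_le_pow_iff_left₀ (by positivity) (by positivity)
      (n := p - 1) (by have := hp.1.two_le; omega)).1 ?_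
    calc (Nat.card M : ℚ) ^ (p - 1) = (p : ℚ) ^ ((p - 1) * v) := by
          rw [hv, Nat.cast_pow, ← pow_mul, mul_comm]
      _ ≤ (p : ℚ) ^ (p * (m - 1)) := pow_le_pow_right₀ (by exact_mod_cast hp.1.one_le) hv'
      _ = ((p : ℚ) ^ p) ^ (m - 1) := pow_mul _ _ _
      _ ≤ (K ^ (p - 1)) ^ (m - 1) := pow_le_pow_left₀ (by positivity) (prime_pow_le hp.1) _
      _ = _ := by rw [← pow_mul, ← pow_mul, mul_comm]
  -- conclusion
  obtain ⟨r, hr⟩ : ∃ r, p = r + 1 := ⟨p - 1, by have := hp.1.two_le; omega⟩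
  obtain ⟨l, hl⟩ : ∃ l, m = l + 1 := ⟨m - 1, by omega⟩
  have hu : (0 : ℚ) ≤ (1 / 2 : ℚ) ^ r := by positivity
  have hbern : 1 + (r : ℚ) * (1 / 2 : ℚ) ^ r ≤ b ^ r := by
    rw [hb, show p - 1 = r by omega]
    exact one_add_mul_le_pow (by linarith) r
  have hkey : (Nat.card M : ℚ) * C ^ m * b ^ p ≤ (C * b) ^ n * (1 / 2 : ℚ) ^ r := by
    rw [hnm]
    have e1 : m - 1 = l := by omega
    have e2 : p - 1 = r := by omega
    rw [e1] at hMK
    calc (Nat.card M : ℚ) * C ^ m * b ^ p ≤ K ^ l * C ^ m * b ^ p :=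
          mul_le_mul_of_nonneg_right (mul_le_mul_of_nonneg_right hMK (by positivity)) (by positivity)
      _ = (2 : ℚ) ^ (r * m) * (1 / 2 : ℚ) ^ r * (C ^ m * b ^ (p * m)) := by
          rw [hK, e2, hl, hr, one_div, inv_pow]
          field_simp
          ring
      _ ≤ C ^ (r * m) * (1 / 2 : ℚ) ^ r * (C ^ m * b ^ (p * m)) := by
          refine mul_le_mul_of_nonneg_right (mul_le_mul_of_nonneg_right ?_ hu) (by positivity)
          exact pow_le_pow_left₀ (by norm_num) hC _
      _ = _ := by
          rw [hr]; ring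
  have hn0 : (0 : ℚ) ≤ (C * b) ^ n := by positivity
  have htot : wt C P * b ^ p ≤ (C * b) ^ n * b ^ r := by
    calc wt C P * b ^ p ≤ (wt C M' + ((p : ℚ) - 1) * Nat.card M * C ^ m) * b ^ p :=
          mul_le_mul_of_nonneg_right hsum (by positivity)
      _ = wt C M' * b ^ p + (r : ℚ) * ((Nat.card M : ℚ) * C ^ m * b ^ p) := by
          rw [hr]; push_cast; ring
      _ ≤ (C * b) ^ n + (r : ℚ) * ((C * b) ^ n * (1 / 2 : ℚ) ^ r) :=
          add_le_add hwM (mul_le_mul_of_nonneg_left hkey (by positivity))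
      _ = (C * b) ^ n * (1 + (r : ℚ) * (1 / 2 : ℚ) ^ r) := by ring
      _ ≤ _ := mul_le_mul_of_nonneg_left hbern hn0
  rw [hr, pow_succ, ← mul_assoc] at htot
  refine le_of_mul_le_mul_right ?_ (pow_pos hb0 r)
  linarith

end CfsgLib.Perm.ClassCount
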