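import Cfsg.Agent.Lib.Perm.PrimeDegreeDihedralNormalizer
import Cfsg.Agent.Lib.Char.InvertedPrime
import Cfsg.Agent.Lib.Char.SymSmallChars
import Cfsg.Agent.Lib.Char.CyclicTIGalois
import Cfsg.Agent.Lib.Frobenius.SquareRoots
import Cfsg.Agent.S0494

/-!
# Uniprimitive groups of degree twice a prime with a dihedral Sylow normalizer

Such a group is simple and its permutation character is `1 + θ + χ`, with `θ` of degree `p - 1`
and equal to `-1` on the elements of order `p`.  The second and third moments of `θ` give the order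
of the group, the class multiplication formula the centralizer of an involution, and counting the
involutions of a point stabilizer gives `p = 5`.
-/

set_option autoImplicit false

open scoped Classical ComplexConjugate

namespace CfsgLib.Perm.TwicePrime

open MulAction CfsgLib.Char CfsgLib.Char.InvertedPrime CfsgLib.Perm.PrimeDegreeDihedral

universe u

variable {α : Type u} [Fintype α] {G : Subgroup (Equiv.Perm α)} {p : ℕ} [Fact p.Prime]

/-- The hypotheses. -/
structure Setup (G : Subgroup (Equiv.Perm α)) (p : ℕ) (P : Sylow p G) : Prop where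
  hp : 3 < p
  hα : Fintype.card α = 2 * p
  prim : IsPreprimitive G α
  not2 : ¬ IsMultiplyPretransitive G α 2
  hN : Nat.card (Subgroup.normalizer ((P : Subgroup G) : Set G)) = 2 * p

variable {P : Sylow p G}

theorem Setup.trans (S : Setup G p P) : IsPretransitive G α := S.prim.toIsPretransitive

theorem Setup.dvd_of_normal (S : Setup G p P) (K : Subgroup G) [K.Normal] (hK : K ≠ ⊥) :
    2 * p ∣ Nat.card K := by
  haveI := S.prim
  haveI : IsPretransitive K α := by
    refine IsQuasiPreprimitive.isPretransitive_of_normal (N := K) fun e => hK ?_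
    rw [Subgroup.eq_bot_iff_forall]
    intro a ha
    refine Subtype.ext (Equiv.ext fun y => ?_)
    have hy : y ∈ fixedPoints K α := by rw [e]; trivial
    exact hy ⟨a, ha⟩
  haveI : Nonempty α := Fintype.card_pos_iff.1 (by rw [S.hα]; have := S.hp; omega)
  have h := CfsgLib.Perm.Basic.card_dvd_card (G := K) (Ω := α)
  rwa [Nat.card_eq_fintype_card (α := α), S.hα] at h

theorem Setup.card_P (S : Setup G p P) : Nat.card P = p := by
  have hp : p.Prime := Fact.out
  have h3 := S.hp
  haveI := S.trans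
  haveI : Nonempty α := Fintype.card_pos_iff.1 (by rw [S.hα]; omega)
  have hd : p ∣ Nat.card G := by
    have h := CfsgLib.Perm.Basic.card_dvd_card (G := G) (Ω := α)
    rw [Nat.card_eq_fintype_card (α := α), S.hα] at h
    exact (dvd_mul_left p 2).trans h
  have hle : Nat.card P ∣ 2 * p := S.hN ▸ Subgroup.card_dvd_of_le Subgroup.le_normalizer
  rw [P.card_eq_multiplicity] at hle ⊢
  set k := (Nat.card G).factorization p with hk
  have hk1 : 1 ≤ k := hp.factorization_pos_of_dvd Nat.card_pos.ne' hd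
  rcases Nat.lt_or_ge k 2 with h | h
  · rw [show k = 1 by omega, pow_one]
  · exfalso
    have h2 : p * p ∣ 2 * p := (by rw [← sq]; exact pow_dvd_pow p h : p * p ∣ p ^ k).trans hle
    have := Nat.le_of_dvd (by omega) h2
    have := Nat.mul_le_mul_right p S.hp
    omega

/-- Elements of order `p` fix no point, as the group is not doubly transitive. -/
theorem Setup.fix_zero (S : Setup G p P) {g : G} (hg : orderOf g = p) : fixNum g = 0 := by
  have hp : p.Prime := Fact.out
  by_contra hne
  set σ : Equiv.Perm α := (g : Equiv.Perm α) with hσ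
  have ho : orderOf σ = p := by rw [hσ, Subgroup.orderOf_coe, hg]
  have hfix : fixNum g + σ.support.card = 2 * p := by
    rw [← S.hα, ← Finset.card_univ, ← Finset.card_filter_add_card_filter_not
      (s := (Finset.univ : Finset α)) (fun y => g • y = y)]
    congr 1
  have hσ1 : σ ≠ 1 := fun e => by rw [e, orderOf_one] at ho; exact hp.one_lt.ne ho
  obtain ⟨n, hn⟩ := Equiv.Perm.cycleType_prime_order (σ := σ) (by rw [ho]; exact hp)
  have hsupp : σ.support.card = (n + 1) * p := by
    rw [← Equiv.Perm.sum_cycleType, hn, Multiset.sum_replicate, ho, smul_eq_mul]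
  have hn0 : n = 0 := by
    by_contra h
    have : 2 * p ≤ σ.support.card := by rw [hsupp]; exact Nat.mul_le_mul_right p (by omega)
    omega
  subst hn0
  have hcyc : σ.IsCycle := by
    rw [← Equiv.Perm.card_cycleType_eq_one, hn, Multiset.card_replicate]
  rw [zero_add, one_mul] at hsupp
  let s : Set α := {y | g • y = y}
  have hs : s.ncard = (p - 1) + 1 := by
    rw [Set.ncard_eq_toFinset_card', Set.toFinset_setOf, Nat.sub_add_cancel hp.one_le]
    change fixNum g = p
    omega
  refine S.not2 (IsPreprimitive.is_two_pretransitive S.prim hs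
    (by rw [Nat.card_eq_fintype_card, S.hα]; have := S.hp; omega) ⟨?_⟩)
  rintro ⟨x, hx⟩ ⟨y, hy⟩
  obtain ⟨i, hi⟩ := hcyc.exists_pow_eq (x := x) (y := y) (fun e => hx e) (fun e => hy e)
  have hm : g ^ i ∈ fixingSubgroup G s := by
    rw [mem_fixingSubgroup_iff]
    intro z hz
    exact smul_iterate_fixed i hz
  exact ⟨⟨g ^ i, hm⟩, Subtype.ext (by
    change (g ^ i) • x = y
    rw [Subgroup.smul_def, SubmonoidClass.coe_pow]; exact hi)⟩
where
  smul_iterate_fixed {g : G} {z : α} (i : ℕ) (hz : g • z = z) : g ^ i • z = z := by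
    induction i with
    | zero => rw [pow_zero, one_smul]
    | succ i ih => rw [pow_succ, mul_smul, hz, ih]

theorem Setup.inv (S : Setup G p P) : Inv (P : Subgroup G) p := by
  have hp : p.Prime := Fact.out
  have hP := S.card_P
  have h2 : 2 < p := by have := S.hp; omega
  have hcomm : ∀ x ∈ (P : Subgroup G), ∀ y ∈ (P : Subgroup G), x * y = y * x := by
    haveI : IsCyclic (P : Subgroup G) := isCyclic_of_prime_card hP
    intro x hx y hy
    obtain ⟨g, hg⟩ := IsCyclic.exists_generator (α := (P : Subgroup G))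
    obtain ⟨i, hi⟩ := Subgroup.mem_zpowers_iff.1 (hg ⟨x, hx⟩)
    obtain ⟨j, hj⟩ := Subgroup.mem_zpowers_iff.1 (hg ⟨y, hy⟩)
    have hi' : (g : G) ^ i = x := congrArg Subtype.val hi
    have hj' : (g : G) ^ j = y := congrArg Subtype.val hj
    rw [← hi', ← hj', ← zpow_add, ← zpow_add, add_comm]
  refine ⟨hp, h2, hP, ?_, S.hN⟩
  set C := Subgroup.centralizer ((P : Subgroup G) : Set G) with hC
  have hCN : C ≤ Subgroup.normalizer ((P : Subgroup G) : Set G) := Subgroup.centralizer_le_normalizer _
  have hPC : (P : Subgroup G) ≤ C := fun x hx => Subgroup.mem_centralizer_iff.2 fun y hy =>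
    hcomm y hy x hx
  have hne : C ≠ Subgroup.normalizer ((P : Subgroup G) : Set G) := by
    intro e
    have hc := MonoidHom.ker_transferSylow_isComplement' P e.ge
    set K := (MonoidHom.transferSylow P e.ge).ker with hK
    have hmul := hc.card_mul
    have hKb : K ≠ ⊥ := by
      intro eb
      rw [eb, Subgroup.card_bot, one_mul, hP] at hmul
      haveI := S.trans
      haveI : Nonempty α := Fintype.card_pos_iff.1 (by rw [S.hα]; omega)
      have h := CfsgLib.Perm.Basic.card_dvd_card (G := G) (Ω := α)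
      rw [Nat.card_eq_fintype_card (α := α), S.hα, ← hmul] at h
      have := Nat.le_of_dvd hp.pos h
      omega
    have hd := (dvd_mul_left p 2).trans (S.dvd_of_normal K hKb)
    refine P.not_dvd_index ?_
    rwa [hc.index_eq_card]
  intro g hg
  have hgC : g ∈ C := Subgroup.mem_centralizer_iff.2 fun y hy => (hg y hy).symm
  have hd : Nat.card C ∣ 2 * p := S.hN ▸ Subgroup.card_dvd_of_le hCN
  have hpd : p ∣ Nat.card C := hP ▸ Subgroup.card_dvd_of_le hPC
  obtain ⟨c, hc⟩ := hpd
  rw [hc, mul_comm 2 p] at hd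
  have hc2 := Nat.dvd_of_mul_dvd_mul_left hp.pos hd
  rcases (Nat.dvd_prime Nat.prime_two).1 hc2 with rfl | rfl
  · rw [mul_one] at hc
    rwa [Subgroup.eq_of_le_of_card_ge hPC (by rw [hc, hP])]
  · exact absurd (Subgroup.eq_of_le_of_card_ge hCN (by rw [S.hN, hc, mul_comm])) hne

theorem Setup.conj_mem (S : Setup G p P) {g : G} (hg : orderOf g = p) :
    ∃ k : G, k * g * k⁻¹ ∈ (P : Subgroup G) ∧ k * g * k⁻¹ ≠ 1 := by
  have hp : p.Prime := Fact.out
  obtain ⟨Q, hQ⟩ := (IsPGroup.of_card (p := p) (n := 1) (show Nat.card (Subgroup.zpowers g) = p ^ 1 by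
    rw [Nat.card_zpowers, hg, pow_one])).exists_le_sylow
  obtain ⟨k, hk⟩ := exists_smul_eq G Q P
  refine ⟨k, ?_, fun e => ?_⟩
  · rw [← hk, Sylow.coe_subgroup_smul]
    exact ⟨g, hQ (Subgroup.mem_zpowers g), rfl⟩
  · rw [conj_eq_one_iff] at e
    rw [e, orderOf_one] at hg
    exact hp.one_lt.ne hg

/-- The group is simple. -/
theorem Setup.normal_eq_top (S : Setup G p P) (K : Subgroup G) [hKn : K.Normal] (hK : K ≠ ⊥) :
    K = ⊤ := by
  have hp : p.Prime := Fact.out
  have hI := S.inv
  have h2p := S.dvd_of_normal K hK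
  obtain ⟨k, hk⟩ := exists_prime_orderOf_dvd_card' (G := K) p ((dvd_mul_left p 2).trans h2p)
  have hko : orderOf (k : G) = p := by rw [Subgroup.orderOf_coe, hk]
  obtain ⟨c, hc, hc1⟩ := S.conj_mem hko
  have hPK : (P : Subgroup G) ≤ K := by
    rw [← (hI.zpowers_eq hc hc1).1]
    exact Subgroup.zpowers_le.2 (hKn.conj_mem _ k.2 c)
  by_cases hNK : Subgroup.normalizer ((P : Subgroup G) : Set G) ≤ K
  · exact top_unique ((Sylow.normalizer_sup_eq_top' P hPK).ge.trans (sup_le hNK le_rfl))
  exfalso
  have hKN : ∀ g ∈ K, g ∈ Subgroup.normalizer ((P : Subgroup G) : Set G) → g ∈ (P : Subgroup G) := by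
    intro g hgK hgN
    by_contra hgP
    refine hNK fun y hy => ?_
    by_cases hyP : y ∈ (P : Subgroup G)
    · exact hPK hyP
    have hidx : g⁻¹ * y ∈ (P : Subgroup G) := by
      by_contra hgy
      have h1 := (hI.involution hgN hgP).2
      have h2 := (hI.involution hy hyP).2
      obtain ⟨x, hx, hx1⟩ : ∃ x ∈ (P : Subgroup G), x ≠ 1 := ⟨_, hc, hc1⟩
      have h3 := (hI.involution (mul_mem (inv_mem hgN) hy) hgy).2 x hx
      have h4 : g⁻¹ * y * x * (g⁻¹ * y)⁻¹ = x := by
        calc g⁻¹ * y * x * (g⁻¹ * y)⁻¹ = g⁻¹ * (y * x * y⁻¹) * g := by group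
          _ = g⁻¹ * x⁻¹ * g := by rw [h2 x hx]
          _ = g⁻¹ * (g * x * g⁻¹) * g := by rw [h1 x hx]
          _ = x := by group
      rw [h4] at h3
      have h5 : orderOf x ∣ 2 := orderOf_dvd_of_pow_eq_one (by rw [sq, ← eq_inv_iff_mul_eq_one]; exact h3)
      rw [(hI.zpowers_eq hx hx1).2] at h5
      have := Nat.le_of_dvd two_pos h5
      have := S.hp
      omega
    have := mul_mem hgK (hPK hidx)
    rwa [mul_inv_cancel_left] at this
  let Q : Sylow p K := P.subtype hPK
  have hQN : Subgroup.normalizer ((Q : Subgroup K) : Set K) ≤ Subgroup.centralizer ((Q : Subgroup K) : Set K) := by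
    intro y hy
    have hyN : (y : G) ∈ Subgroup.normalizer ((P : Subgroup G) : Set G) := by
      rw [Subgroup.mem_normalizer_iff]
      intro z
      constructor
      · intro hz
        exact (Subgroup.mem_normalizer_iff.1 hy ⟨z, hPK hz⟩).1 hz
      · intro hz
        have hzK : z ∈ K := by
          have := mul_mem (mul_mem (inv_mem y.2) (hPK hz)) y.2
          simpa [mul_assoc] using this
        exact (Subgroup.mem_normalizer_iff.1 hy ⟨z, hzK⟩).2 hz
    refine Subgroup.mem_centralizer_iff.2 fun z hz => Subtype.ext ?_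
    exact hI.comm hz (hKN _ y.2 hyN)
  have hcompl := MonoidHom.ker_transferSylow_isComplement' Q hQN
  set τ := MonoidHom.transferSylow Q hQN with hτ
  set m := Nat.card τ.ker with hm
  have hQc : Nat.card (Q : Subgroup K) = p :=
    (Nat.card_congr (Subgroup.subgroupOfEquivOfLe hPK).toEquiv).trans hI.card
  have hpm : ¬ p ∣ m := by
    rw [hm, ← hcompl.index_eq_card]
    exact Q.not_dvd_index
  have hmem : ∀ y : K, y ∈ τ.ker ↔ y ^ m = 1 := fun y => by
    constructor
    · intro hy
      exact congrArg Subtype.val (pow_card_eq_one' (x := (⟨y, hy⟩ : τ.ker)))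
    · intro hy
      rw [MonoidHom.mem_ker, ← orderOf_eq_one_iff]
      have h1 : orderOf (τ y) ∣ m := orderOf_dvd_of_pow_eq_one (by rw [← map_pow, hy, map_one])
      have h2 : orderOf (τ y) ∣ p := (orderOf_dvd_natCard (τ y)).trans hQc.dvd
      exact Nat.eq_one_of_dvd_coprimes (hp.coprime_iff_not_dvd.2 hpm).symm h1 h2
  let L : Subgroup G := τ.ker.map K.subtype
  haveI : L.Normal := ⟨by
    rintro _ ⟨y, hy, rfl⟩ g
    refine ⟨⟨g * y * g⁻¹, hKn.conj_mem _ y.2 g⟩, (hmem _).2 (Subtype.ext ?_), rfl⟩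
    change (g * (y : G) * g⁻¹) ^ m = 1
    rw [_root_.conj_pow, ← SubmonoidClass.coe_pow, (hmem y).1 hy, OneMemClass.coe_one, mul_one,
      mul_inv_cancel]⟩
  have hLcard : Nat.card L = m :=
    Nat.card_congr (Subgroup.equivMapOfInjective τ.ker K.subtype K.subtype_injective).toEquiv.symm
  have hL : L = ⊥ := by
    by_contra hL
    exact hpm (hLcard ▸ (dvd_mul_left p 2).trans (S.dvd_of_normal L hL))
  have h1 : m = 1 := by rw [← hLcard, hL, Subgroup.card_bot]
  have hKp : Nat.card K = p := by
    rw [← hcompl.card_mul, hQc, show Nat.card τ.ker = 1 from h1, one_mul]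
  rw [hKp] at h2p
  have := Nat.le_of_dvd hp.pos h2p
  have := S.hp
  omega

theorem Setup.sum_fix (S : Setup G p P) : ∑ g : G, fixNum g = Nat.card G := by
  haveI := S.trans
  have h := sum_desc_trans (G := G) (n := 1) (is_one_pretransitive_iff.2 S.trans)
    (by rw [S.hα]; have := S.hp; omega)
  simpa using h

theorem Setup.sum_fix_sq_ne (S : Setup G p P) : ∑ g : G, (fixNum g) ^ 2 ≠ 2 * Nat.card G := by
  intro h
  refine S.not2 ⟨fun x y => ?_⟩
  have h2 : ∑ g : G, (fixNum g).descFactorial 2 = Nat.card G := by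
    have e : ∀ g : G, (fixNum g) ^ 2 = (fixNum g).descFactorial 2 + fixNum g := fun g => by
      rcases Nat.eq_zero_or_pos (fixNum g) with h0 | h0
      · simp [h0]
      · simp only [Nat.descFactorial_succ, Nat.descFactorial_zero, Nat.sub_zero, mul_one]
        obtain ⟨n, hn⟩ : ∃ n, fixNum g = n + 1 := ⟨_, (Nat.succ_pred_eq_of_pos h0).symm⟩
        rw [hn, Nat.add_sub_cancel]; ring
    rw [Finset.sum_congr rfl fun g _ => e g, Finset.sum_add_distrib, S.sum_fix] at h
    omega
  haveI : Fintype (Quotient (orbitRel G (Fin 2 ↪ α))) := Fintype.ofFinite _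
  have hb := sum_card_fixedBy_eq_card_orbits_mul_card_group G (Fin 2 ↪ α)
  have he : ∀ g : G, Fintype.card (fixedBy (Fin 2 ↪ α) g) = (fixNum g).descFactorial 2 := fun g => by
    rw [← card_fixed_emb, ← Fintype.card_subtype]
    exact Fintype.card_congr (Equiv.subtypeEquivRight fun _ => Iff.rfl)
  rw [Finset.sum_congr rfl fun g _ => he g, h2, Nat.card_eq_fintype_card] at hb
  have h1 : Fintype.card (Quotient (orbitRel G (Fin 2 ↪ α))) = 1 :=
    Nat.eq_of_mul_eq_mul_right Fintype.card_pos (by rw [one_mul]; exact hb.symm)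
  haveI := (Fintype.card_le_one_iff_subsingleton.1 h1.le)
  have hq : (Quotient.mk (orbitRel G (Fin 2 ↪ α)) y) = Quotient.mk _ x := Subsingleton.elim _ _
  exact Quotient.exact hq

/-- The properties of `θ`. -/
structure Theta (P : Sylow p G) (θ : Cfsg.IrrCharacter G) (tz : G → ℤ) : Prop where
  val : ∀ g, (θ : G → ℂ) g = tz g
  deg : tz 1 = (p : ℤ) - 1
  onW : ∀ g : G, orderOf g = p → tz g = -1
  dec : ∀ lam : ↥(P : Subgroup G) →* ℂˣ, lam ≠ 1 → ∃ x : Cfsg.IrrCharacter G, IsDec lam x θ

theorem Setup.exists_theta (S : Setup G p P) :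
    ∃ (θ : Cfsg.IrrCharacter G) (tz : G → ℤ), Theta P θ tz := by
  have hp : p.Prime := Fact.out
  have hI := S.inv
  have h3 := S.hp
  haveI : Finite (↥(P : Subgroup G) →* ℂˣ) := Finite.of_equiv _ (homEquivLinear (G := ↥(P : Subgroup G))).symm
  letI := Fintype.ofFinite (↥(P : Subgroup G) →* ℂˣ)
  set π : G → ℂ := fun g => (fixNum g : ℂ) with hπ
  have hπc : Cfsg.IsCharacter G π := by
    have h := SymSmallChars.isCharacter_fix (G := G) (Ω := α)
    convert h using 1
    funext g
    rw [hπ, Nat.card_eq_fintype_card, Fintype.card_subtype]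
    rfl
  have hπreal : ∀ g, conj (π g) = π g := fun g => Complex.conj_natCast _
  have hπ1 : Cfsg.classInner π (fun _ : G => (1 : ℂ)) = 1 := by
    rw [Cfsg.classInner]
    simp only [map_one, mul_one, hπ]
    rw [← Nat.cast_sum, S.sum_fix, inv_mul_cancel₀ CfsgLib.Char.card_ne_zero]
  have hπP : ∀ lam : ↥(P : Subgroup G) →* ℂˣ, Cfsg.classInner π (al lam) = 0 := by
    intro lam
    rw [← classInner_conj_symm (al lam) π, al_inner_class lam (IsCharacter.isClassFunction hπc)]
    have hv : (fun y : (P : Subgroup G) => π (y : G)) =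
        fun y => if y = 1 then ((2 * p : ℕ) : ℂ) else 0 := by
      funext y
      by_cases hy : y = 1
      · subst hy; simp [hπ, fixNum_one, S.hα]
      · rw [if_neg hy, hπ]
        simp [S.fix_zero (hI.zpowers_eq y.2 (fun e => hy (Subtype.ext e))).2]
    rw [hv]
    simp [Cfsg.classInner, apply_ite conj, mul_ite]
  obtain ⟨m, hm, hexp⟩ := IsCharacter.exists_multiplicity hπc
  choose d hd hd' using fun φ : Cfsg.IrrCharacter G => IsIrrCharacter.apply_one_eq φ.2
  set one : Cfsg.IrrCharacter G := ⟨_, isIrrCharacter_one⟩ with hone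
  have hm1 : m one = 1 := by
    have := (hm one).symm.trans hπ1
    exact_mod_cast this
  have hd1 : d one = 1 := by
    have := hd' one
    simp only [hone] at this
    exact_mod_cast this.symm
  have hdegsum : ∑ φ, m φ * d φ = 2 * p := by
    have h := hexp 1
    simp only [hπ, fixNum_one, S.hα, hd'] at h
    exact_mod_cast h.symm
  have hsub : ∀ s : Finset (Cfsg.IrrCharacter G), ∑ φ ∈ s, m φ * d φ ≤ 2 * p := fun s =>
    hdegsum ▸ Finset.sum_le_sum_of_subset (Finset.subset_univ s)
  choose X T hXT using fun lam : {l : ↥(P : Subgroup G) →* ℂˣ // l ≠ 1} => exists_dec hI lam.2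
  have hmT : ∀ l, m (T l) = m (X l) + 1 := by
    intro l
    have h := hπP l.1
    rw [(hXT l).2, classInner_add_right, classInner_sub_right, hπ1, hm, hm] at h
    have h' : ((m (T l) : ℕ) : ℂ) = ((m (X l) + 1 : ℕ) : ℂ) := by
      push_cast
      linear_combination -h
    exact_mod_cast h'
  have hdT : ∀ l, d (T l) = d (X l) + 1 := by
    intro l
    obtain ⟨⟨k, -, hx, ht⟩, -⟩ := hXT l
    rw [hd'] at hx ht
    have h1 : d (X l) = k := by exact_mod_cast hx
    have h2 : d (T l) = k + 1 := by exact_mod_cast ht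
    omega
  have hne1 : ∀ l, X l ≠ one ∧ T l ≠ one ∧ X l ≠ T l := fun l =>
    ⟨fun e => ((hXT l).ne l.2).1 (congrArg Subtype.val e),
      fun e => ((hXT l).ne l.2).2.1 (congrArg Subtype.val e), ((hXT l).ne l.2).2.2⟩
  -- the trivial character of `P`
  have hzero : ∀ χ : G → ℂ, Cfsg.classInner (al (1 : ↥(P : Subgroup G) →* ℂˣ)) χ = 0 := fun χ => by
    rw [show (al (1 : ↥(P : Subgroup G) →* ℂˣ) : G → ℂ) = 0 by
      rw [al, show (fun y : (P : Subgroup G) => 1 - (((1 : ↥(P : Subgroup G) →* ℂˣ) y : ℂˣ) : ℂ)) = 0 by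
        funext y; simp]
      exact indFun_zero _, classInner_zero_left]
  -- the sum over all linear characters
  have hcoef : ∀ (χ : Cfsg.IrrCharacter G) (c : ℂ),
      (∀ l : {l : ↥(P : Subgroup G) →* ℂˣ // l ≠ 1}, Cfsg.classInner (al l.1) (χ : G → ℂ) = c) →
      (∃ n : ℕ, (p : ℂ) * n - (d χ : ℂ) = c * ((p : ℂ) - 1)) ∧
      ∀ z ∈ (P : Subgroup G), z ≠ 1 → (χ : G → ℂ) z = conj c := by
    intro χ c hc
    have hall : ∀ lam : ↥(P : Subgroup G) →* ℂˣ, Cfsg.classInner (al lam) (χ : G → ℂ) =
        c - if lam = 1 then c else 0 := fun lam => by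
      by_cases hl : lam = 1
      · subst hl; rw [hzero, if_pos rfl, sub_self]
      · rw [if_neg hl, sub_zero, hc ⟨lam, hl⟩]
    have hs : ∀ z : (P : Subgroup G),
        ∑ lam : ↥(P : Subgroup G) →* ℂˣ, Cfsg.classInner (al lam) (χ : G → ℂ) * (lam z⁻¹ : ℂ) =
          c * ((if z = 1 then (p : ℂ) else 0) - 1) := fun z => by
      rw [Finset.sum_congr rfl fun lam _ => by rw [hall lam]]
      simp only [sub_mul, Finset.sum_sub_distrib, ← Finset.mul_sum, ite_mul, zero_mul,
        Finset.sum_ite_eq', Finset.mem_univ, if_true, hI.sum_linear, inv_eq_one]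
      simp [mul_sub]
    refine ⟨?_, fun z hz hz1 => ?_⟩
    · obtain ⟨n, hn⟩ := IsCharacter.classInner_nat (G := ↥(P : Subgroup G)) isCharacter_one
        (IsCharacter.restrict (isCharacter_irr χ) (P : Subgroup G))
      refine ⟨n, ?_⟩
      have h1 := (sum_coeff hI (IsIrrCharacter.isClassFunction χ.2) 1).symm.trans (hs 1)
      rw [if_pos rfl, if_pos rfl] at h1
      rw [← h1, show ((1 : (P : Subgroup G)) : G) = 1 from rfl, hd', Complex.conj_natCast]
      congr 1
      rw [← hn, Cfsg.classInner, hI.card]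
      simp only [one_mul]
      rw [mul_inv_cancel_left₀ (Nat.cast_ne_zero.2 hp.pos.ne')]
    · have hz1' : (⟨z, hz⟩ : (P : Subgroup G)) ≠ 1 := fun e => hz1 (congrArg Subtype.val e)
      have h1 := (sum_coeff hI (IsIrrCharacter.isClassFunction χ.2) ⟨z, hz⟩).symm.trans (hs ⟨z, hz⟩)
      rw [if_neg hz1', if_neg hz1'] at h1
      have h2 : conj ((χ : G → ℂ) z) = c := by linear_combination -h1
      rw [← h2, Complex.conj_conj]
  obtain ⟨l₀⟩ : Nonempty {l : ↥(P : Subgroup G) →* ℂˣ // l ≠ 1} := by
    by_contra hc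
    have hall : ∀ lam : ↥(P : Subgroup G) →* ℂˣ, lam = 1 := fun lam =>
      by_contra fun e => hc ⟨⟨lam, e⟩⟩
    have h := hI.sum_linear 1
    rw [if_pos rfl, Finset.sum_eq_single (1 : ↥(P : Subgroup G) →* ℂˣ)
      (fun b _ hb => absurd (hall b) hb) (by simp)] at h
    simp at h
    have : (p : ℕ) = 1 := by exact_mod_cast h.symm
    omega
  by_cases hall : ∀ l, T l = T l₀
  swap
  · exfalso
    push Not at hall
    obtain ⟨l₁, hl₁⟩ := hall
    have hX : ∀ l, X l = X l₀ := by
      intro l
      by_cases hl : T l = T l₀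
      · rcases ((hXT l).share hI l.2 l₁.2 (hXT l₁)).1 with h | h
        · rcases ((hXT l₁).share hI l₁.2 l₀.2 (hXT l₀)).1 with h' | h'
          · rw [h, h']
          · exact absurd h' hl₁
        · exact absurd (h.symm.trans hl) hl₁
      · exact (((hXT l).share hI l.2 l₀.2 (hXT l₀)).1).resolve_right hl
    set x := X l₀ with hx
    obtain ⟨⟨n, hn⟩, hxP⟩ := hcoef x 1 fun l => by
      rw [(hXT l).coeff_irr, ← hX l, if_neg (hne1 l).1, if_pos rfl, if_neg (hne1 l).2.2]
      ring
    have hT01 : T l₁ ≠ T l₀ := hl₁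
    have h3sum := hsub {one, T l₁, T l₀}
    rw [Finset.sum_insert (by simp [(hne1 l₁).2.1.symm, (hne1 l₀).2.1.symm]),
      Finset.sum_insert (by simp [hT01]), Finset.sum_singleton, hm1, hd1, hmT, hmT, hdT, hdT,
      hX l₁, ← hx] at h3sum
    have hbound : d x + 1 < p := by
      have h1 : (d x + 1) ≤ (m x + 1) * (d x + 1) := Nat.le_mul_of_pos_left _ (by omega)
      omega
    have hnd : p * n + 1 = d x + p := by
      have h' : ((p * n + 1 : ℕ) : ℂ) = ((d x + p : ℕ) : ℂ) := by
        push_cast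
        linear_combination hn
      exact_mod_cast h'
    have hdx : d x = 1 := by
      rcases Nat.lt_or_ge n 2 with h | h
      · rcases Nat.lt_or_ge n 1 with h0 | h0
        · rw [show n = 0 by omega] at hnd; omega
        · rw [show n = 1 by omega] at hnd; omega
      · have : 2 * p ≤ p * n := by rw [mul_comm p]; exact Nat.mul_le_mul_right p h
        omega
    obtain ⟨φ, hφ⟩ := exists_hom_of_apply_one_eq_one (isCharacter_irr x)
      (by rw [hd' x, hdx, Nat.cast_one])
    have hker : φ.ker = ⊤ := by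
      refine S.normal_eq_top φ.ker fun e => ?_
      obtain ⟨z, hz, hz1⟩ : ∃ z ∈ (P : Subgroup G), z ≠ 1 :=
        (Subgroup.bot_or_exists_ne_one (P : Subgroup G)).resolve_left fun e' => by
          have := hI.card
          rw [e', Subgroup.card_bot] at this
          omega
      have h1 := hxP z hz hz1
      rw [map_one, hφ] at h1
      have : z ∈ φ.ker := Units.ext h1
      rw [e, Subgroup.mem_bot] at this
      exact hz1 this
    refine (hne1 l₀).1 (Subtype.ext ?_)
    rw [← hx, hφ]
    funext g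
    have : g ∈ φ.ker := hker ▸ Subgroup.mem_top g
    rw [MonoidHom.mem_ker] at this
    rw [this, Units.val_one]
  set θ := T l₀ with hθ
  have hT : ∀ l, T l = θ := hall
  obtain ⟨⟨n, hn⟩, hθP⟩ := hcoef θ (-1) fun l => by
    rw [(hXT l).coeff_irr, ← hT l, if_neg (hne1 l).2.1, if_neg (hne1 l).2.2.symm, if_pos rfl]
    ring
  have hθ1 : θ ≠ one := (hne1 l₀).2.1
  have hmθ0 : 1 ≤ m θ := by rw [hθ, hmT]; omega
  have hnd : d θ = p * n + (p - 1) := by
    have h' : ((d θ + 1 : ℕ) : ℂ) = ((p * n + p : ℕ) : ℂ) := by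
      push_cast
      linear_combination -hn
    have : d θ + 1 = p * n + p := by exact_mod_cast h'
    omega
  have h2sum := hsub {one, θ}
  rw [Finset.sum_pair hθ1.symm, hm1, hd1] at h2sum
  have hdle : d θ ≤ m θ * d θ := Nat.le_mul_of_pos_left _ hmθ0
  have hn0 : n = 0 := by
    rcases Nat.lt_or_ge n 1 with h | h
    · omega
    exfalso
    have hn1 : n = 1 := by
      by_contra h'
      have : 2 * p ≤ p * n := by rw [mul_comm p]; exact Nat.mul_le_mul_right p (by omega)
      omega
    rw [hn1, mul_one] at hnd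
    have hm' : m θ = 1 := by
      by_contra h'
      have : 2 * d θ ≤ m θ * d θ := Nat.mul_le_mul_right _ (by omega)
      omega
    have hrest : ∀ φ, φ ≠ one → φ ≠ θ → m φ = 0 := by
      intro φ h1 h2
      have h := hsub {one, θ, φ}
      rw [Finset.sum_insert (by simp [hθ1.symm, Ne.symm h1]), Finset.sum_insert (by simp [Ne.symm h2]),
        Finset.sum_singleton, hm1, hd1, hm', hnd] at h
      rcases Nat.eq_zero_or_pos (m φ) with h' | h'
      · exact h'
      · have := Nat.mul_pos h' (hd φ)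
        omega
    have hπe : π = (fun _ => (1 : ℂ)) + (θ : G → ℂ) := by
      funext g
      rw [hexp g, ← Finset.sum_subset (Finset.subset_univ {one, θ}) fun φ _ hφ => by
        rw [hrest φ (fun e => hφ (by simp [e])) (fun e => hφ (by simp [e])), Nat.cast_zero, zero_mul],
        Finset.sum_pair hθ1.symm, hm1, hm']
      simp [hone]
    refine S.sum_fix_sq_ne ?_
    have h : Cfsg.classInner π π = 2 := by
      rw [hπe]
      simp only [classInner_add_left, classInner_add_right, classInner_irr_self θ.2,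
        classInner_irr_self (isIrrCharacter_one (G := G)),
        classInner_irr_ne isIrrCharacter_one θ.2 (fun e => hθ1 (Subtype.ext e.symm)),
        classInner_irr_ne θ.2 isIrrCharacter_one (fun e => hθ1 (Subtype.ext e))]
      norm_num
    simp only [Cfsg.classInner, hπreal] at h
    rw [inv_mul_eq_iff_eq_mul₀ CfsgLib.Char.card_ne_zero] at h
    have h' : ((∑ g : G, (fixNum g) ^ 2 : ℕ) : ℂ) = ((2 * Nat.card G : ℕ) : ℂ) := by
      push_cast
      simp only [hπ] at h
      rw [Finset.sum_congr rfl fun g _ => sq (fixNum g : ℂ), h]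
      ring
    exact_mod_cast h'
  have hdθ : d θ = p - 1 := by rw [hnd, hn0, mul_zero, zero_add]
  have hmX : ∀ l, m (X l) = 0 := by
    intro l
    by_contra h
    have h' := hsub {one, X l, T l}
    rw [Finset.sum_insert (by simp [(hne1 l).1.symm, (hne1 l).2.1.symm]),
      Finset.sum_insert (by simp [(hne1 l).2.2]), Finset.sum_singleton, hm1, hd1, hmT, hdT] at h'
    have hx : d (X l) + 1 = p - 1 := by rw [← hdT, hT, hdθ]
    have e1 : d (X l) ≤ m (X l) * d (X l) := Nat.le_mul_of_pos_left _ (by omega)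
    have e2 : 2 * (d (X l) + 1) ≤ (m (X l) + 1) * (d (X l) + 1) := Nat.mul_le_mul_right _ (by omega)
    omega
  have hmθ : m θ = 1 := by rw [hθ, hmT, hmX]
  have hdvd : ∀ φ, φ ≠ one → φ ≠ θ → m φ ≠ 0 → p ∣ d φ := by
    intro φ h1 h2 h0
    obtain ⟨⟨k, hk⟩, -⟩ := hcoef φ 0 fun l => by
      rw [(hXT l).coeff_irr, hT l, if_neg h1, if_neg h2,
        if_neg (fun e => h0 (by rw [e]; exact hmX l))]
      ring
    refine ⟨k, ?_⟩
    have h' : ((d φ : ℕ) : ℂ) = ((p * k : ℕ) : ℂ) := by
      push_cast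
      linear_combination -hk
    exact_mod_cast h'
  have hrat : ∀ g, ∃ z : ℤ, (θ : G → ℂ) g = z := by
    intro g
    have hint : IsIntegral ℤ ((θ : G → ℂ) g) := IsCharacter.isIntegral (isCharacter_irr θ) g
    refine (exists_rat_of_fixed hint.tower_top fun σ => ?_).elim fun q hq =>
      exists_int_of_isIntegral_rat hint hq
    set φ : Cfsg.IrrCharacter G :=
      ⟨σ.toRingHom ∘ (θ : G → ℂ), CfsgLib.CharDeep.Galois.isIrrCharacter_map σ.toRingHom θ.2⟩ with hφ
    have hmφ : m φ = 1 := by
      have h1 : Cfsg.classInner π (φ : G → ℂ) = σ (Cfsg.classInner π (θ : G → ℂ)) := by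
        simp only [Cfsg.classInner, map_mul, map_inv₀, map_natCast, map_sum, hπ]
        congr 1
        refine Finset.sum_congr rfl fun k _ => ?_
        congr 1
        rw [← IsIrrCharacter.apply_inv φ.2 k, ← IsIrrCharacter.apply_inv θ.2 k]
        rfl
      rw [hm, hm, hmθ, Nat.cast_one, map_one] at h1
      exact_mod_cast h1
    have hdφ : d φ = p - 1 := by
      have h1 := hd' φ
      simp only [hφ, Function.comp_apply, hd' θ, map_natCast] at h1
      rw [← hdθ]
      exact_mod_cast h1.symm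
    have he : φ = θ := by
      by_contra hne
      have h1 : φ ≠ one := fun e => by rw [e, hd1] at hdφ; omega
      have := Nat.le_of_dvd (by omega) (hdvd φ h1 hne (by omega))
      omega
    exact congrFun (congrArg Subtype.val he) g
  choose tz htz using hrat
  refine ⟨θ, tz, htz, ?_, ?_, fun lam hl => ?_⟩
  · have h := (htz 1).symm.trans (hd' θ)
    rw [hdθ] at h
    have h' : tz 1 = ((p - 1 : ℕ) : ℤ) := by exact_mod_cast h
    rw [h', Nat.cast_sub hp.one_le, Nat.cast_one]
  · intro g hg
    obtain ⟨k, hk, hk1⟩ := S.conj_mem hg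
    have h := hθP _ hk hk1
    rw [IsIrrCharacter.isClassFunction θ.2, htz, map_neg, map_one] at h
    exact_mod_cast h
  · exact ⟨X ⟨lam, hl⟩, hT ⟨lam, hl⟩ ▸ hXT ⟨lam, hl⟩⟩

end CfsgLib.Perm.TwicePrime
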