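import Cfsg.Agent.Lib.Perm.DegreeTwicePrime

/-!
# The order of the group, the centralizer of an involution, and `p = 5`
-/

set_option autoImplicit false

open scoped Classical ComplexConjugate

namespace CfsgLib.Perm.TwicePrime

open MulAction CfsgLib.Char CfsgLib.Char.InvertedPrime CfsgLib.Perm.PrimeDegreeDihedral
  CfsgLib.Frobenius.SquareRoots

universe u

variable {α : Type u} [Fintype α] {G : Subgroup (Equiv.Perm α)} {p : ℕ} [Fact p.Prime]
  {P : Sylow p G} {θ : Cfsg.IrrCharacter G} {tz : G → ℤ}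

/-- A linear character absent from the restriction is absent from the character. -/
theorem coeff_eq_zero_of_comp {E E' : Type u} [Group E] [Fintype E] [Group E'] [Fintype E']
    (j : E' →* E) {χ : E → ℂ} (hχ : Cfsg.IsCharacter E χ) (φ : E →* ℂˣ)
    (h : Cfsg.classInner (fun y => χ (j y)) (fun y => (φ (j y) : ℂ)) = 0) :
    Cfsg.classInner χ (fun x => (φ x : ℂ)) = 0 := by
  obtain ⟨m, hm, hexp⟩ := IsCharacter.exists_multiplicity hχ
  choose n hn using fun ψ : Cfsg.IrrCharacter E =>
    IsCharacter.classInner_nat (IsCharacter.comp (isCharacter_irr ψ) j)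
      (isCharacter_hom (φ.comp j))
  set ψ₀ : Cfsg.IrrCharacter E := ⟨_, isIrrCharacter_hom φ⟩ with hψ₀
  have hsum : Cfsg.classInner (fun y => χ (j y)) (fun y => (φ (j y) : ℂ)) =
      ((∑ ψ, m ψ * n ψ : ℕ) : ℂ) := by
    have he : (fun y => χ (j y)) = ∑ ψ : Cfsg.IrrCharacter E,
        (m ψ : ℂ) • ((ψ : E → ℂ) ∘ ⇑j) := by
      funext y
      rw [hexp, Finset.sum_apply]
      rfl
    rw [he, classInner_sum_left]
    push_cast
    refine Finset.sum_congr rfl fun ψ _ => ?_
    rw [classInner_smul_left]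
    exact congrArg _ (hn ψ)
  have h0 : ∑ ψ, m ψ * n ψ = 0 := by exact_mod_cast hsum.symm.trans h
  have h1 := (Finset.sum_eq_zero_iff.1 h0) ψ₀ (Finset.mem_univ _)
  have hn1 : n ψ₀ = 1 := by
    have h2 := (hn ψ₀).symm.trans (classInner_irr_self (isIrrCharacter_hom (φ.comp j)))
    exact_mod_cast h2
  rw [hn1, mul_one] at h1
  rw [show (fun x => (φ x : ℂ)) = (ψ₀ : E → ℂ) from rfl, hm, h1, Nat.cast_zero]

theorem inner_prod {H : Type u} [Group H] [Fintype H] (F K : H × ℤˣ → ℂ) :
    Cfsg.classInner F K = (2 * Nat.card H : ℂ)⁻¹ *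
      ∑ g : H, (F (g, 1) * conj (K (g, 1)) + F (g, -1) * conj (K (g, -1))) := by
  rw [Cfsg.classInner, Nat.card_prod, Fintype.sum_prod_type]
  congr 1
  · rw [show Nat.card ℤˣ = 2 by rw [Nat.card_eq_fintype_card]; rfl]
    push_cast
    rw [mul_comm]
  · refine Finset.sum_congr rfl fun g _ => ?_
    rw [UnitsInt.univ, Finset.sum_pair (by decide)]

theorem Theta.conj_eq (hT : Theta P θ tz) (g k : G) : tz (k * g * k⁻¹) = tz g := by
  have h := IsIrrCharacter.isClassFunction θ.2 g k
  rw [hT.val, hT.val] at h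
  exact_mod_cast h

theorem Theta.sums (S : Setup G p P) (hT : Theta P θ tz) :
    ∑ g : G, tz g = 0 ∧ ∑ g : G, tz g ^ 2 = (Nat.card G : ℤ) := by
  have h0 : (θ : G → ℂ) ≠ fun _ => 1 := fun e => by
    have h := hT.val 1
    rw [e, hT.deg] at h
    change (1 : ℂ) = _ at h
    have : ((p : ℤ) - 1) = 1 := by exact_mod_cast h.symm
    have := S.hp
    omega
  have h1 := classInner_irr_ne θ.2 (isIrrCharacter_one (G := G)) h0
  have h2 := classInner_irr_self θ.2
  simp only [Cfsg.classInner, hT.val, map_one, mul_one, map_intCast] at h1 h2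
  rw [inv_mul_eq_iff_eq_mul₀ CfsgLib.Char.card_ne_zero, mul_zero] at h1
  rw [inv_mul_eq_iff_eq_mul₀ CfsgLib.Char.card_ne_zero, mul_one] at h2
  refine ⟨by exact_mod_cast h1, ?_⟩
  simp only [sq]
  exact_mod_cast h2

theorem Setup.conj_invert (S : Setup G p P) {y x : G}
    (hy : y ∈ Subgroup.normalizer ((P : Subgroup G) : Set G)) (hyP : y ∉ (P : Subgroup G))
    (hx : x ∈ (P : Subgroup G)) : ∃ z : G, z * y * z⁻¹ = y * x := by
  have hI := S.inv
  have hxp : x ^ p = 1 := by
    have h := pow_card_eq_one' (x := (⟨x, hx⟩ : (P : Subgroup G)))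
    rw [hI.card] at h
    exact congrArg Subtype.val h
  obtain ⟨k, hk⟩ := (Fact.out : p.Prime).odd_of_ne_two (by have := S.hp; omega)
  set w : G := x ^ (k + 1) with hw
  have hww : w * w = x := by
    rw [hw, ← pow_add, show k + 1 + (k + 1) = p + 1 by omega, pow_succ, hxp, one_mul]
  have hwi := (hI.involution hy hyP).2 w (pow_mem hx _)
  refine ⟨w⁻¹, ?_⟩
  rw [inv_inv]
  have h1 : w⁻¹ * y = y * w := by
    rw [← hwi]; group
  rw [h1, mul_assoc, hww]

theorem Theta.invert_zero (S : Setup G p P) (hT : Theta P θ tz) {y : G}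
    (hy : y ∈ Subgroup.normalizer ((P : Subgroup G) : Set G)) (hyP : y ∉ (P : Subgroup G)) :
    tz y = 0 := by
  have hI := S.inv
  set N := Subgroup.normalizer ((P : Subgroup G) : Set G) with hN
  have hPsum : ∀ g : G, g ∈ (P : Subgroup G) → tz g = if g = 1 then (p : ℤ) - 1 else -1 := fun g hg => by
    split_ifs with h
    · rw [h, hT.deg]
    · exact hT.onW g (hI.zpowers_eq hg h).2
  have hcoset : ∀ g : N, (g : G) ∉ (P : Subgroup G) → tz (g : G) = tz y := by
    intro g hg
    have hm : y⁻¹ * (g : G) ∈ (P : Subgroup G) := by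
      by_contra hc
      obtain ⟨x, hx, hx1⟩ : ∃ x ∈ (P : Subgroup G), x ≠ 1 :=
        (Subgroup.bot_or_exists_ne_one (P : Subgroup G)).resolve_left fun e' => by
          have := hI.card
          rw [e', Subgroup.card_bot] at this
          have := S.hp
          omega
      have h1 := (hI.involution hy hyP).2 x hx
      have h2 := (hI.involution g.2 hg).2 x hx
      have h3 := (hI.involution (mul_mem (inv_mem hy) g.2) hc).2 x hx
      have h4 : y⁻¹ * (g : G) * x * (y⁻¹ * (g : G))⁻¹ = x := by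
        calc y⁻¹ * (g : G) * x * (y⁻¹ * (g : G))⁻¹ = y⁻¹ * ((g : G) * x * (g : G)⁻¹) * y := by group
          _ = y⁻¹ * x⁻¹ * y := by rw [h2]
          _ = y⁻¹ * (y * x * y⁻¹) * y := by rw [h1]
          _ = x := by group
      rw [h4] at h3
      have h5 : orderOf x ∣ 2 := orderOf_dvd_of_pow_eq_one (by rw [sq, ← eq_inv_iff_mul_eq_one]; exact h3)
      rw [(hI.zpowers_eq hx hx1).2] at h5
      have := Nat.le_of_dvd two_pos h5
      have := S.hp
      omega
    obtain ⟨z, hz⟩ := S.conj_invert hy hyP hm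
    rw [mul_inv_cancel_left] at hz
    rw [← hz, hT.conj_eq]
  let ι : (P : Subgroup G) →* N := Subgroup.inclusion Subgroup.le_normalizer
  have hχ : Cfsg.IsCharacter N (fun g : N => (tz (g : G) : ℂ)) := by
    have h := IsCharacter.restrict (isCharacter_irr θ) N
    simp only [hT.val] at h
    exact h
  have hP0 : Cfsg.classInner (fun g : (P : Subgroup G) => (tz (g : G) : ℂ))
      (fun _ => (1 : ℂ)) = 0 := by
    rw [Cfsg.classInner]
    simp only [map_one, mul_one]
    rw [Finset.sum_congr rfl fun g _ => by rw [hPsum g g.2]]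
    rw [mul_eq_zero]
    right
    have hone : ∀ g : (P : Subgroup G), ((if (g : G) = 1 then (p : ℤ) - 1 else -1 : ℤ) : ℂ) =
        (if g = 1 then (p : ℂ) else 0) - 1 := fun g => by
      by_cases h : g = 1
      · subst h; simp
      · rw [if_neg h, if_neg (show (g : G) ≠ 1 from fun e => h (Subtype.ext e))]; simp
    rw [Finset.sum_congr rfl fun g _ => hone g, Finset.sum_sub_distrib, Finset.sum_ite_eq',
      if_pos (Finset.mem_univ _), Finset.sum_const, Finset.card_univ, ← Nat.card_eq_fintype_card,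
      hI.card, nsmul_eq_mul, mul_one, sub_self]
  have h0 := coeff_eq_zero_of_comp ι hχ (1 : N →* ℂˣ) (by simpa [ι] using hP0)
  simp only [Cfsg.classInner, MonoidHom.one_apply, Units.val_one, map_one, mul_one] at h0
  rw [mul_eq_zero, inv_eq_zero] at h0
  have h0' := h0.resolve_left (Nat.cast_ne_zero.2 Nat.card_pos.ne')
  have hsplit : ∀ g : N, (tz (g : G) : ℂ) =
      (if (g : G) ∈ (P : Subgroup G) then (-1 : ℂ) else (tz y : ℂ)) + if g = 1 then (p : ℂ) else 0 := by
    intro g
    by_cases h : (g : G) ∈ (P : Subgroup G)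
    · rw [if_pos h, hPsum g h]
      by_cases h1 : g = 1
      · subst h1; simp
        ring
      · rw [if_neg h1, if_neg (show (g : G) ≠ 1 from fun e => h1 (Subtype.ext e))]; simp
    · rw [if_neg h, if_neg (fun e => h (by rw [e]; exact one_mem _)), hcoset g h, add_zero]
  rw [Finset.sum_congr rfl fun g _ => hsplit g, Finset.sum_add_distrib, Finset.sum_ite_eq',
    if_pos (Finset.mem_univ _), Finset.sum_ite, Finset.sum_const, Finset.sum_const] at h0'
  have hPc : (Finset.univ.filter fun g : N => (g : G) ∈ (P : Subgroup G)).card = p := by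
    refine Eq.trans ?_ hI.card
    rw [← Fintype.card_subtype, ← Nat.card_eq_fintype_card]
    exact Nat.card_congr (Subgroup.subgroupOfEquivOfLe Subgroup.le_normalizer).toEquiv
  have hNc : (Finset.univ.filter fun g : N => (g : G) ∉ (P : Subgroup G)).card = p := by
    have h := Finset.card_filter_add_card_filter_not (s := (Finset.univ : Finset N))
      (fun g : N => (g : G) ∈ (P : Subgroup G))
    rw [hPc, Finset.card_univ, ← Nat.card_eq_fintype_card, show Nat.card N = 2 * p from S.hN] at h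
    omega
  rw [hPc, hNc, nsmul_eq_mul, nsmul_eq_mul] at h0'
  have h6 : (p : ℂ) * (tz y : ℂ) = 0 := by linear_combination h0'
  have := (mul_eq_zero.1 h6).resolve_left (Nat.cast_ne_zero.2 (Fact.out : p.Prime).ne_zero)
  exact_mod_cast this

theorem Theta.sq_card (S : Setup G p P) {g : G} (hg : orderOf g = p) : orderOf (g ^ 2) = p := by
  rw [orderOf_pow, hg, (Nat.coprime_primes (Fact.out : p.Prime) Nat.prime_two).2 (by have := S.hp; omega),
    Nat.div_one]

theorem Theta.cube_ge (S : Setup G p P) (hT : Theta P θ tz) :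
    (Nat.card G : ℤ) ≤ ∑ g : G, tz g ^ 3 := by
  have hI := S.inv
  haveI : Fact p.Prime := inferInstance
  let Ψ : G × ℤˣ → ℂ := fun x => if x.2 = 1 then (θ : G → ℂ) x.1 * (θ : G → ℂ) x.1 else (θ : G → ℂ) (x.1 ^ 2)
  have hΨ : Cfsg.IsCharacter (G × ℤˣ) Ψ := isCharacter_square (isCharacter_irr θ)
  have hΨ1 : ∀ g, Ψ (g, 1) = (tz g : ℂ) * tz g := fun g => by simp [Ψ, hT.val]
  have hΨ2 : ∀ g, Ψ (g, -1) = (tz (g ^ 2) : ℂ) := fun g => by
    simp only [Ψ]
    rw [if_neg (by decide), hT.val]
  have hs2 := (hT.sums S).2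
  have hG : (Nat.card G : ℂ) ≠ 0 := CfsgLib.Char.card_ne_zero
  -- the multiplicity of the sign is zero
  set N := Subgroup.normalizer ((P : Subgroup G) : Set G) with hN
  let j : N × ℤˣ →* G × ℤˣ := MonoidHom.prodMap N.subtype (MonoidHom.id ℤˣ)
  have hterm : ∀ g : N, ((tz (g : G) : ℂ) * tz (g : G) - (tz ((g : G) ^ 2) : ℂ)) =
      (if (g : G) ∈ (P : Subgroup G) then (2 : ℂ) else -((p : ℂ) - 1)) +
        if g = 1 then ((p : ℂ) - 1) * ((p : ℂ) - 2) - 2 else 0 := by
    intro g
    by_cases h : (g : G) ∈ (P : Subgroup G)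
    · rw [if_pos h]
      by_cases h1 : g = 1
      · subst h1; rw [if_pos rfl]; simp [hT.deg]; ring
      · have h1' : (g : G) ≠ 1 := fun e => h1 (Subtype.ext e)
        rw [if_neg h1, hT.onW _ (hI.zpowers_eq h h1').2, hT.onW _ (Theta.sq_card S (hI.zpowers_eq h h1').2)]
        norm_num
    · rw [if_neg h, if_neg (fun e => h (by rw [e]; exact one_mem _)), hT.invert_zero S g.2 h,
        show (g : G) ^ 2 = 1 by rw [← (hI.involution g.2 h).1, pow_orderOf_eq_one], hT.deg]
      simp
  have hb : Cfsg.classInner Ψ (fun x => (CfsgLib.Frobenius.SquareRoots.signHom G x : ℂ)) = 0 := by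
    refine coeff_eq_zero_of_comp j hΨ (CfsgLib.Frobenius.SquareRoots.signHom G) ?_
    rw [inner_prod]
    have e : ∀ g : N, Ψ (j (g, 1)) * conj ((CfsgLib.Frobenius.SquareRoots.signHom G (j (g, 1)) : ℂˣ) : ℂ) +
        Ψ (j (g, -1)) * conj ((CfsgLib.Frobenius.SquareRoots.signHom G (j (g, -1)) : ℂˣ) : ℂ) =
          (tz (g : G) : ℂ) * tz (g : G) - (tz ((g : G) ^ 2) : ℂ) := fun g => by
      show Ψ ((g : G), 1) * _ + Ψ ((g : G), -1) * _ = _
      rw [hΨ1, hΨ2]
      simp [CfsgLib.Frobenius.SquareRoots.signHom, j]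
      ring
    rw [Finset.sum_congr rfl fun g _ => (e g).trans (hterm g), Finset.sum_add_distrib,
      Finset.sum_ite_eq', if_pos (Finset.mem_univ _), Finset.sum_ite, Finset.sum_const, Finset.sum_const]
    have hPc : (Finset.univ.filter fun g : N => (g : G) ∈ (P : Subgroup G)).card = p := by
      refine Eq.trans ?_ hI.card
      rw [← Fintype.card_subtype, ← Nat.card_eq_fintype_card]
      exact Nat.card_congr (Subgroup.subgroupOfEquivOfLe Subgroup.le_normalizer).toEquiv
    have hNc : (Finset.univ.filter fun g : N => (g : G) ∉ (P : Subgroup G)).card = p := by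
      have h := Finset.card_filter_add_card_filter_not (s := (Finset.univ : Finset N))
        (fun g : N => (g : G) ∈ (P : Subgroup G))
      rw [hPc, Finset.card_univ, ← Nat.card_eq_fintype_card, show Nat.card N = 2 * p from S.hN] at h
      omega
    rw [hPc, hNc, nsmul_eq_mul, nsmul_eq_mul, mul_eq_zero]
    right
    ring
  -- hence the multiplicity of the trivial character is one
  have ha : Cfsg.classInner Ψ (fun _ => (1 : ℂ)) = 1 := by
    have hs : (∑ g : G, (tz g : ℂ) * tz g) = Nat.card G := by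
      have : ((∑ g : G, tz g ^ 2 : ℤ) : ℂ) = ((Nat.card G : ℤ) : ℂ) := by rw [hs2]
      simpa [sq] using this
    have h : Cfsg.classInner Ψ (fun _ => (1 : ℂ)) + Cfsg.classInner Ψ (fun x => (CfsgLib.Frobenius.SquareRoots.signHom G x : ℂ)) =
        (2 * Nat.card G : ℂ)⁻¹ * ∑ g : G, 2 * ((tz g : ℂ) * tz g) := by
      rw [inner_prod, inner_prod, ← mul_add, ← Finset.sum_add_distrib]
      congr 1
      refine Finset.sum_congr rfl fun g _ => ?_
      rw [hΨ1, hΨ2]
      simp [CfsgLib.Frobenius.SquareRoots.signHom]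
      ring
    rw [hb, add_zero, ← Finset.mul_sum, hs] at h
    rw [h]
    field_simp
  -- a nontrivial linear character of `P`
  obtain ⟨lam, hlam⟩ : ∃ lam : ↥(P : Subgroup G) →* ℂˣ, lam ≠ 1 := by
    haveI : Finite (↥(P : Subgroup G) →* ℂˣ) := Finite.of_equiv _ (homEquivLinear (G := ↥(P : Subgroup G))).symm
    letI := Fintype.ofFinite (↥(P : Subgroup G) →* ℂˣ)
    by_contra hc
    push Not at hc
    have h := hI.sum_linear 1
    rw [if_pos rfl, Finset.sum_eq_single (1 : ↥(P : Subgroup G) →* ℂˣ)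
      (fun b _ hb' => absurd (hc b) hb') (by simp)] at h
    simp at h
    have : (p : ℕ) = 1 := by exact_mod_cast h.symm
    have := S.hp
    omega
  obtain ⟨x, hdec⟩ := hT.dec lam hlam
  have hzero : Cfsg.classInner Ψ (fun z : G × ℤˣ => al lam z.1) = 0 := by
    rw [inner_prod, mul_eq_zero]
    right
    refine Finset.sum_eq_zero fun g _ => ?_
    rw [hΨ1, hΨ2, ← add_mul]
    by_cases hg : orderOf g = p
    · rw [hT.onW g hg, hT.onW _ (Theta.sq_card S hg)]; simp
    · rw [al_eq_zero hI lam hg, map_zero, mul_zero]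
  have hfst : ∀ f : G → ℂ, Cfsg.IsCharacter G f → Cfsg.IsCharacter (G × ℤˣ) (fun z => f z.1) :=
    fun f hf => IsCharacter.comp hf (MonoidHom.fst G ℤˣ)
  obtain ⟨n₁, hn₁⟩ := IsCharacter.classInner_nat hΨ (hfst _ (isCharacter_irr x))
  obtain ⟨n₂, hn₂⟩ := IsCharacter.classInner_nat hΨ (hfst _ (isCharacter_irr θ))
  have hdc : (fun z : G × ℤˣ => al lam z.1) = (fun _ => (1 : ℂ)) +
      ((fun z : G × ℤˣ => (x : G → ℂ) z.1) - fun z : G × ℤˣ => (θ : G → ℂ) z.1) := by
    funext z
    rw [hdec.2]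
    rfl
  rw [hdc, classInner_add_right, classInner_sub_right, ha, hn₁, hn₂] at hzero
  have hn2 : 1 ≤ n₂ := by
    have : ((n₂ : ℕ) : ℂ) = ((n₁ + 1 : ℕ) : ℂ) := by push_cast; linear_combination -hzero
    have : n₂ = n₁ + 1 := by exact_mod_cast this
    omega
  obtain ⟨n₃, hn₃⟩ := IsCharacter.classInner_nat hΨ
    (IsCharacter.mul (hfst _ (isCharacter_irr θ)) (isCharacter_hom (CfsgLib.Frobenius.SquareRoots.signHom G)))
  have hsum : ((∑ g : G, tz g ^ 3 : ℤ) : ℂ) = ((Nat.card G * (n₂ + n₃) : ℕ) : ℂ) := by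
    have h : Cfsg.classInner Ψ (fun z => (θ : G → ℂ) z.1) +
        Cfsg.classInner Ψ ((fun z : G × ℤˣ => (θ : G → ℂ) z.1) * fun z => (CfsgLib.Frobenius.SquareRoots.signHom G z : ℂ)) =
          (2 * Nat.card G : ℂ)⁻¹ * ∑ g : G, 2 * ((tz g : ℂ) ^ 3) := by
      rw [inner_prod, inner_prod, ← mul_add, ← Finset.sum_add_distrib]
      congr 1
      refine Finset.sum_congr rfl fun g _ => ?_
      rw [hΨ1, hΨ2]
      simp [CfsgLib.Frobenius.SquareRoots.signHom, hT.val]
      ring
    rw [hn₂, hn₃, ← Finset.mul_sum] at h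
    push_cast
    rw [h]
    field_simp
  have hsum' : (∑ g : G, tz g ^ 3) = ((Nat.card G * (n₂ + n₃) : ℕ) : ℤ) := by exact_mod_cast hsum
  rw [hsum']
  exact_mod_cast Nat.le_mul_of_pos_right _ (by omega)

theorem Theta.lt_deg (S : Setup G p P) (hT : Theta P θ tz) {g : G} (hg : g ≠ 1) :
    tz g ≤ (p : ℤ) - 2 := by
  obtain ⟨n, ρ, hρ, hθ⟩ := id θ.2
  have hle := norm_char_le ρ g
  have h1 : ρ.character 1 = (θ : G → ℂ) 1 := by rw [hθ]
  rw [Representation.char_one, hT.val, hT.deg] at h1
  have hd : ((Module.finrank ℂ (Fin n → ℂ) : ℕ) : ℤ) = (p : ℤ) - 1 := by exact_mod_cast h1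
  have hval : ρ.character g = ((tz g : ℤ) : ℂ) := (congrFun hθ g).trans (hT.val g)
  rw [hval, Complex.norm_intCast] at hle
  have hle' : |tz g| ≤ ((Module.finrank ℂ (Fin n → ℂ) : ℕ) : ℤ) := by exact_mod_cast hle
  rw [hd] at hle'
  by_contra hc
  have hge : tz g = (p : ℤ) - 1 := by
    have := le_abs_self (tz g)
    omega
  have hc' := isCharacter_irr θ
  haveI := charKer_normal hc'
  have hK : charKer hc' ≠ ⊥ := fun e => by
    have : g ∈ charKer hc' := by
      rw [mem_charKer, hT.val, hT.val, hge, hT.deg]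
    rw [e, Subgroup.mem_bot] at this
    exact hg this
  have htop := S.normal_eq_top (charKer hc') hK
  obtain ⟨t, ht, htP⟩ := S.inv.exists_inverting
  have : t ∈ charKer hc' := htop ▸ Subgroup.mem_top t
  rw [mem_charKer, hT.val, hT.val, hT.invert_zero S ht htP, hT.deg] at this
  have : (0 : ℤ) = (p : ℤ) - 1 := by exact_mod_cast this
  have := S.hp
  omega

theorem Setup.card_W (S : Setup G p P) :
    (Finset.univ.filter fun g : G => orderOf g = p).card = Nat.card (Sylow p G) * (p - 1) ∧
      Nat.card G = 2 * p * Nat.card (Sylow p G) := by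
  refine ⟨le_antisymm ?_ (card_sylow_mul_le P S.card_P), ?_⟩
  · have hp : p.Prime := Fact.out
    letI : Fintype (Sylow p G) := Fintype.ofFinite _
    let T : Sylow p G → Finset G := fun Q => (Finset.univ.filter fun g : G => g ∈ Q).erase 1
    have hT : ∀ Q, (T Q).card = p - 1 := by
      intro Q
      have h1 : (Finset.univ.filter fun g : G => g ∈ Q).card = p := by
        refine Eq.trans ?_ ((show Nat.card Q = Nat.card P by
          rw [Q.card_eq_multiplicity, P.card_eq_multiplicity]).trans S.card_P)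
        rw [← Fintype.card_subtype, ← Nat.card_eq_fintype_card]
        rfl
      show ((Finset.univ.filter fun g : G => g ∈ Q).erase 1).card = p - 1
      rw [Finset.card_erase_of_mem (by simp [one_mem]), h1]
    have hsub : (Finset.univ.filter fun g : G => orderOf g = p) ⊆ Finset.univ.biUnion T := by
      intro g hg
      have hgo := (Finset.mem_filter.1 hg).2
      obtain ⟨Q, hQ⟩ := (IsPGroup.of_card (p := p) (n := 1) (show Nat.card (Subgroup.zpowers g) = p ^ 1 by
        rw [Nat.card_zpowers, hgo, pow_one])).exists_le_sylow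
      refine Finset.mem_biUnion.2 ⟨Q, Finset.mem_univ _, Finset.mem_erase.2 ⟨fun e => ?_, ?_⟩⟩
      · rw [e, orderOf_one] at hgo; exact hp.one_lt.ne hgo
      · exact Finset.mem_filter.2 ⟨Finset.mem_univ _, hQ (Subgroup.mem_zpowers g)⟩
    refine (Finset.card_le_card hsub).trans (Finset.card_biUnion_le.trans (le_of_eq ?_))
    rw [Finset.sum_congr rfl fun Q _ => hT Q, Finset.sum_const, Finset.card_univ, smul_eq_mul,
      Nat.card_eq_fintype_card]
  · rw [P.card_eq_index_normalizer, ← S.hN]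
    exact (Subgroup.card_mul_index _).symm

/-- Elements other than the identity and those of order `p` have `θ ∈ {0, 1}`; the order is known. -/
theorem Theta.values (S : Setup G p P) (hT : Theta P θ tz) :
    (∀ g : G, g ≠ 1 → orderOf g ≠ p → tz g = 0 ∨ tz g = 1) ∧
      Nat.card G = p * ((p - 1) * (p - 2)) ∧
      (Finset.univ.filter fun g : G => g ≠ 1 ∧ orderOf g ≠ p ∧ tz g = 0).card = p * (p - 2) := by
  have hp3 := S.hp
  obtain ⟨hW, hN⟩ := S.card_W
  obtain ⟨hs1, hs2⟩ := hT.sums S
  have hs3 := hT.cube_ge S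
  set W := Finset.univ.filter fun g : G => orderOf g = p with hWdef
  set R := Finset.univ.filter fun g : G => g ≠ 1 ∧ orderOf g ≠ p with hRdef
  have hsplit : ∀ F : G → ℤ, ∑ g : G, F g = F 1 + ∑ g ∈ W, F g + ∑ g ∈ R, F g := by
    intro F
    have h1 : W ∪ R = Finset.univ.erase 1 := by
      ext g
      simp only [hWdef, hRdef, Finset.mem_union, Finset.mem_filter, Finset.mem_univ, true_and,
        Finset.mem_erase, and_true]
      refine ⟨?_, fun h => ?_⟩
      · rintro (h | h)
        · intro e; rw [e, orderOf_one] at h; omega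
        · exact h.1
      · by_cases h' : orderOf g = p
        · exact Or.inl h'
        · exact Or.inr ⟨h, h'⟩
    have hd : Disjoint W R := Finset.disjoint_left.2 fun g h1 h2 =>
      (Finset.mem_filter.1 h2).2.2 (Finset.mem_filter.1 h1).2
    rw [← Finset.add_sum_erase _ F (Finset.mem_univ 1), ← h1, Finset.sum_union hd, add_assoc]
  have hWF : ∀ F : ℤ → ℤ, ∑ g ∈ W, F (tz g) = (W.card : ℤ) * F (-1) := fun F => by
    rw [Finset.sum_congr rfl fun g hg => by rw [hT.onW g (Finset.mem_filter.1 hg).2], Finset.sum_const,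
      nsmul_eq_mul]
  have hWc : (W.card : ℤ) = (Nat.card (Sylow p G) : ℤ) * ((p : ℤ) - 1) := by
    rw [hW, Nat.cast_mul, Nat.cast_sub (by omega : 1 ≤ p), Nat.cast_one]
  have hNc : (Nat.card G : ℤ) = 2 * (p : ℤ) * Nat.card (Sylow p G) := by rw [hN]; push_cast; ring
  -- the cubic
  let q : ℤ → ℤ := fun z => z ^ 3 - (p : ℤ) * z ^ 2 + ((p : ℤ) - 1) * z
  have hq : ∀ g ∈ R, q (tz g) ≤ 0 := by
    intro g hg
    have hg1 := (Finset.mem_filter.1 hg).2.1
    have := hT.lt_deg S hg1
    have hfac : q (tz g) = tz g * (tz g - 1) * (tz g - ((p : ℤ) - 1)) := by simp only [q]; ring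
    rw [hfac]
    refine mul_nonpos_of_nonneg_of_nonpos ?_ (by omega)
    rcases le_or_gt (tz g) 0 with h | h
    · exact mul_nonneg_of_nonpos_of_nonpos h (by omega)
    · exact mul_nonneg h.le (by omega)
  have hqsum : 0 ≤ ∑ g ∈ R, q (tz g) := by
    have h := hsplit fun g => q (tz g)
    rw [hWF q] at h
    have htot : ∑ g : G, q (tz g) = ∑ g : G, tz g ^ 3 - (p : ℤ) * (Nat.card G : ℤ) := by
      simp only [q, Finset.sum_add_distrib, Finset.sum_sub_distrib, ← Finset.mul_sum, hs1, hs2,
        mul_zero, add_zero]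
    rw [htot, hT.deg, hWc] at h
    simp only [q] at h
    nlinarith [hs3, hNc]
  have hzero := (Finset.sum_eq_zero_iff_of_nonpos hq).1 (le_antisymm (Finset.sum_nonpos hq) hqsum)
  have hval : ∀ g : G, g ≠ 1 → orderOf g ≠ p → tz g = 0 ∨ tz g = 1 := by
    intro g h1 h2
    have hg : g ∈ R := Finset.mem_filter.2 ⟨Finset.mem_univ _, h1, h2⟩
    have h := hzero g hg
    have hlt := hT.lt_deg S h1
    have hfac : q (tz g) = tz g * (tz g - 1) * (tz g - ((p : ℤ) - 1)) := by simp only [q]; ring
    rw [hfac, mul_eq_zero, mul_eq_zero] at h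
    omega
  have hR2 : ∀ g ∈ R, tz g ^ 2 = tz g := fun g hg => by
    obtain ⟨h1, h2⟩ := (Finset.mem_filter.1 hg).2
    rcases hval g h1 h2 with h | h <;> rw [h] <;> norm_num
  have e1 := hsplit fun g => tz g
  have e2 := hsplit fun g => tz g ^ 2
  rw [hs1, hWF (fun z => z), hT.deg, hWc] at e1
  rw [hs2, hWF (fun z => z ^ 2), hT.deg, hWc, Finset.sum_congr rfl hR2] at e2
  have hn2 : 2 * (Nat.card (Sylow p G) : ℤ) = ((p : ℤ) - 1) * ((p : ℤ) - 2) := by
    rw [hNc] at e2; linarith
  have hcard : Nat.card G = p * ((p - 1) * (p - 2)) := by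
    have : (Nat.card G : ℤ) = ((p * ((p - 1) * (p - 2)) : ℕ) : ℤ) := by
      rw [hNc, Nat.cast_mul, Nat.cast_mul, Nat.cast_sub (by omega : 1 ≤ p),
        Nat.cast_sub (by omega : 2 ≤ p)]
      push_cast
      linear_combination (p : ℤ) * hn2
    exact_mod_cast this
  refine ⟨hval, hcard, ?_⟩
  set Z := Finset.univ.filter fun g : G => g ≠ 1 ∧ orderOf g ≠ p ∧ tz g = 0 with hZdef
  have hcnt : ∑ g ∈ R, (1 - tz g) = (Z.card : ℤ) := by
    rw [show Z = R.filter fun g => tz g = 0 by simp [hZdef, hRdef, Finset.filter_filter, and_assoc],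
      Finset.card_filter, Nat.cast_sum]
    refine Finset.sum_congr rfl fun g hg => ?_
    obtain ⟨h1, h2⟩ := (Finset.mem_filter.1 hg).2
    rcases hval g h1 h2 with h | h <;> simp [h]
  have e0 := hsplit fun _ => (1 : ℤ)
  rw [Finset.sum_const (s := (Finset.univ : Finset G)), Finset.card_univ, ← Nat.card_eq_fintype_card,
    nsmul_eq_mul, mul_one, hWF (fun _ => 1), hWc] at e0
  rw [Finset.sum_sub_distrib] at hcnt
  have : (Z.card : ℤ) = ((p * (p - 2) : ℕ) : ℤ) := by
    rw [Nat.cast_mul, Nat.cast_sub (by omega : 2 ≤ p)]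
    push_cast
    linear_combination -hcnt - e0 + e2
  exact_mod_cast this

theorem card_fiber {t u : G} (h : IsConj t u) :
    (Finset.univ.filter fun k : G => k * t * k⁻¹ = u).card =
      Nat.card (Subgroup.centralizer ({t} : Set G)) := by
  obtain ⟨c, hc⟩ := isConj_iff.1 h
  rw [← Fintype.card_subtype, ← Nat.card_eq_fintype_card]
  exact Nat.card_congr
    { toFun := fun x => ⟨c⁻¹ * x.1, Subgroup.mem_centralizer_singleton_iff.2 (by
        have h5 : x.1 * t * x.1⁻¹ = c * t * c⁻¹ := x.2.trans hc.symm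
        calc c⁻¹ * x.1 * t = c⁻¹ * (x.1 * t * x.1⁻¹) * x.1 := by group
          _ = t * (c⁻¹ * x.1) := by rw [h5]; group)⟩
      invFun := fun k => ⟨c * k.1, by
        have h5 := Subgroup.mem_centralizer_singleton_iff.1 k.2
        rw [show c * (k : G) * t * (c * (k : G))⁻¹ = c * ((k : G) * t * (k : G)⁻¹) * c⁻¹ by group, h5,
          mul_inv_cancel_right, hc]⟩
      left_inv := fun x => by simp
      right_inv := fun x => by simp }

theorem Theta.card_centralizer (S : Setup G p P) (hT : Theta P θ tz) {t : G}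
    (ht : t ∈ Subgroup.normalizer ((P : Subgroup G) : Set G)) (htP : t ∉ (P : Subgroup G)) :
    Nat.card (Subgroup.centralizer ({t} : Set G)) = p - 1 := by
  have hI := S.inv
  have hp3 := S.hp
  set N := Subgroup.normalizer ((P : Subgroup G) : Set G) with hNdef
  set C := Nat.card (Subgroup.centralizer ({t} : Set G)) with hC
  haveI : Finite (↥(P : Subgroup G) →* ℂˣ) := Finite.of_equiv _ (homEquivLinear (G := ↥(P : Subgroup G))).symm
  letI := Fintype.ofFinite (↥(P : Subgroup G) →* ℂˣ)
  obtain ⟨x, hx, hx1⟩ : ∃ x ∈ (P : Subgroup G), x ≠ 1 :=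
    (Subgroup.bot_or_exists_ne_one (P : Subgroup G)).resolve_left fun e' => by
      have := hI.card
      rw [e', Subgroup.card_bot] at this
      omega
  have hcoset : ∀ y ∈ N, y ∉ (P : Subgroup G) → t⁻¹ * y ∈ (P : Subgroup G) := by
    intro y hy hyP
    by_contra hc
    have h1 := (hI.involution ht htP).2 x hx
    have h2 := (hI.involution hy hyP).2 x hx
    have h3 := (hI.involution (mul_mem (inv_mem ht) hy) hc).2 x hx
    have h4 : t⁻¹ * y * x * (t⁻¹ * y)⁻¹ = x := by
      calc t⁻¹ * y * x * (t⁻¹ * y)⁻¹ = t⁻¹ * (y * x * y⁻¹) * t := by group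
        _ = t⁻¹ * x⁻¹ * t := by rw [h2]
        _ = t⁻¹ * (t * x * t⁻¹) * t := by rw [h1]
        _ = x := by group
    rw [h4] at h3
    have h5 : orderOf x ∣ 2 := orderOf_dvd_of_pow_eq_one (by rw [sq, ← eq_inv_iff_mul_eq_one]; exact h3)
    rw [(hI.zpowers_eq hx hx1).2] at h5
    have := Nat.le_of_dvd two_pos h5
    omega
  have hconj : ∀ y ∈ N, y ∉ (P : Subgroup G) → IsConj t y := by
    intro y hy hyP
    obtain ⟨z, hz⟩ := S.conj_invert ht htP (hcoset y hy hyP)
    rw [mul_inv_cancel_left] at hz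
    exact isConj_iff.2 ⟨z, hz⟩
  have hto : ∀ h : G, orderOf (h * t * h⁻¹) = 2 := fun h => by
    rw [← MulAut.conj_apply, MulEquiv.orderOf_eq, (hI.involution ht htP).1]
  set D := Finset.univ.filter fun y : G => y ∈ N ∧ y ∉ (P : Subgroup G) with hDdef
  have hDc : D.card = p := by
    have h1 : (Finset.univ.filter fun x : G => x ∈ N).card = 2 * p := by
      refine Eq.trans ?_ hI.norm
      rw [Nat.card_eq_fintype_card]; exact (Fintype.card_subtype _).symm
    have hP : (Finset.univ.filter fun x : G => x ∈ (P : Subgroup G)).card = p := by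
      refine Eq.trans ?_ hI.card
      rw [Nat.card_eq_fintype_card]; exact (Fintype.card_subtype _).symm
    have h2 := Finset.card_filter_add_card_filter_not
      (s := Finset.univ.filter fun x : G => x ∈ N) (fun x => x ∈ (P : Subgroup G))
    rw [Finset.filter_filter, Finset.filter_filter, h1,
      show (Finset.univ.filter fun x : G => x ∈ N ∧ x ∈ (P : Subgroup G)) =
          Finset.univ.filter fun x : G => x ∈ (P : Subgroup G) from
        Finset.filter_congr fun x _ => ⟨And.right, fun e => ⟨Subgroup.le_normalizer e, e⟩⟩, hP,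
      ← hDdef] at h2
    omega
  have hinner : ∀ h : G, (∑ k : G, if h * t * h⁻¹ * (k * t * k⁻¹) = x then (1 : ℂ) else 0) =
      if h * t * h⁻¹ ∈ D then (C : ℂ) else 0 := by
    intro h
    rw [Finset.sum_boole]
    split_ifs with hd
    · obtain ⟨huN, huP⟩ := (Finset.mem_filter.1 hd).2
      have hv : IsConj t ((h * t * h⁻¹)⁻¹ * x) := hconj _
        (mul_mem (inv_mem huN) (Subgroup.le_normalizer hx))
        (fun e => huP (by
          have := mul_mem e (inv_mem hx)
          rw [mul_inv_cancel_right] at this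
          exact inv_mem_iff.1 this))
      rw [hC, ← card_fiber hv]
      congr 2
      ext k
      simp only [Finset.mem_filter, Finset.mem_univ, true_and]
      rw [eq_inv_mul_iff_mul_eq]
    · rw [Finset.card_eq_zero.2 (Finset.filter_eq_empty_iff.2 fun k _ hk => ?_), Nat.cast_zero]
      refine hd (Finset.mem_filter.2 ⟨Finset.mem_univ _, ?_, fun e => ?_⟩)
      · refine hI.ti hx hx1 ?_
        have hu : (h * t * h⁻¹) * (h * t * h⁻¹) = 1 := by
          rw [← sq, ← hto h, pow_orderOf_eq_one]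
        have hv : (k * t * k⁻¹) * (k * t * k⁻¹) = 1 := by
          rw [← sq, ← hto k, pow_orderOf_eq_one]
        have he : h * t * h⁻¹ * x * (h * t * h⁻¹)⁻¹ = x⁻¹ := by
          rw [← hk, mul_inv_rev (h * t * h⁻¹) (k * t * k⁻¹), ← mul_assoc (h * t * h⁻¹), hu, one_mul,
            inv_eq_of_mul_eq_one_left hu, inv_eq_of_mul_eq_one_left hv]
        rw [he]
        exact inv_mem hx
      · have h2 := hto h
        rw [(hI.zpowers_eq e (fun e1 => by rw [e1, orderOf_one] at h2; omega)).2] at h2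
        omega
  have hL : (∑ h : G, ∑ k : G, if h * t * h⁻¹ * (k * t * k⁻¹) = x then (1 : ℂ) else 0) =
      (C : ℂ) ^ 2 * p := by
    rw [Finset.sum_congr rfl fun h _ => hinner h, ← Finset.sum_filter, Finset.sum_const, nsmul_eq_mul]
    have hf : (Finset.univ.filter fun h : G => h * t * h⁻¹ ∈ D).card = C * p := by
      refine (Finset.card_eq_sum_card_fiberwise (f := fun h => h * t * h⁻¹) (t := D)
        (fun h hh => (Finset.mem_filter.1 hh).2)).trans ?_
      rw [Finset.sum_congr rfl fun y hy => ?_, Finset.sum_const, hDc, smul_eq_mul, mul_comm]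
      rw [Finset.filter_filter, Finset.filter_congr fun h _ => ⟨And.right, fun e => ⟨by simp only; rw [e]; exact hy, e⟩⟩]
      exact card_fiber (hconj y (Finset.mem_filter.1 hy).2.1 (Finset.mem_filter.1 hy).2.2)
    rw [hf]
    push_cast
    ring
  have hxt : ∀ lam : ↥(P : Subgroup G) →* ℂˣ, lam ≠ 1 → ∀ X : Cfsg.IrrCharacter G, IsDec lam X θ →
      (X : G → ℂ) t = -1 ∧ (X : G → ℂ) 1 = (p : ℂ) - 2 := by
    intro lam hl X hd
    refine ⟨?_, ?_⟩
    · have h0 := al_eq_zero hI lam (g := t) (by rw [(hI.involution ht htP).1]; omega)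
      rw [hd.2, Pi.add_apply, Pi.sub_apply, hT.val t, hT.invert_zero S ht htP] at h0
      push_cast at h0
      linear_combination h0
    · obtain ⟨⟨d, -, hd1, hd2⟩, -⟩ := hd
      rw [hT.val, hT.deg] at hd2
      push_cast at hd2
      rw [hd1]
      linear_combination -hd2
  let K : ℂ := ((p : ℂ) - 1) / ((p : ℂ) - 2)
  have hp2 : (p : ℂ) - 2 ≠ 0 := sub_ne_zero.2 (by
    intro e
    have : p = 2 := by exact_mod_cast e
    omega)
  have hS : ∀ lam : ↥(P : Subgroup G) →* ℂˣ,
      ∑ χ : Cfsg.IrrCharacter G, Cfsg.classInner (al lam) (χ : G → ℂ) *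
        ((χ : G → ℂ) t * (χ : G → ℂ) t / (χ : G → ℂ) 1) = K - if lam = 1 then K else 0 := by
    intro lam
    by_cases hl : lam = 1
    · subst hl
      rw [if_pos rfl, sub_self]
      refine Finset.sum_eq_zero fun χ _ => ?_
      rw [show (al (1 : ↥(P : Subgroup G) →* ℂˣ) : G → ℂ) = 0 by
        rw [al, show (fun y : (P : Subgroup G) => 1 - (((1 : ↥(P : Subgroup G) →* ℂˣ) y : ℂˣ) : ℂ)) = 0 by
          funext y; simp]
        exact indFun_zero _, classInner_zero_left, zero_mul]
    rw [if_neg hl, sub_zero]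
    obtain ⟨X, hd⟩ := hT.dec lam hl
    obtain ⟨hXt, hX1⟩ := hxt lam hl X hd
    simp only [hd.coeff_irr, add_mul, sub_mul, Finset.sum_add_distrib, Finset.sum_sub_distrib,
      ite_mul, one_mul, zero_mul, Finset.sum_ite_eq', Finset.mem_univ, if_true]
    rw [hXt, hX1, hT.val t, hT.invert_zero S ht htP]
    simp only [K]
    field_simp
    push_cast
    ring
  have hz1 : (⟨x, hx⟩ : (P : Subgroup G)) ≠ 1 := fun e => hx1 (congrArg Subtype.val e)
  have hR : ∑ χ : Cfsg.IrrCharacter G,
      (χ : G → ℂ) t * (χ : G → ℂ) t * conj ((χ : G → ℂ) x) / (χ : G → ℂ) 1 = K := by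
    have h : ∀ χ : Cfsg.IrrCharacter G,
        (χ : G → ℂ) t * (χ : G → ℂ) t * conj ((χ : G → ℂ) x) / (χ : G → ℂ) 1 =
          -∑ lam : ↥(P : Subgroup G) →* ℂˣ, (lam (⟨x, hx⟩ : (P : Subgroup G))⁻¹ : ℂ) *
            (Cfsg.classInner (al lam) (χ : G → ℂ) * ((χ : G → ℂ) t * (χ : G → ℂ) t / (χ : G → ℂ) 1)) := by
      intro χ
      have h1 := sum_coeff hI (IsIrrCharacter.isClassFunction χ.2) ⟨x, hx⟩
      rw [if_neg hz1, zero_sub] at h1
      rw [show conj ((χ : G → ℂ) x) = -∑ lam : ↥(P : Subgroup G) →* ℂˣ,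
          Cfsg.classInner (al lam) (χ : G → ℂ) * (lam (⟨x, hx⟩ : (P : Subgroup G))⁻¹ : ℂ) by
        rw [h1, neg_neg], mul_neg, neg_div, Finset.mul_sum, Finset.sum_div]
      congr 1
      exact Finset.sum_congr rfl fun lam _ => by ring
    rw [Finset.sum_congr rfl fun χ _ => h χ, Finset.sum_neg_distrib, Finset.sum_comm]
    simp only [← Finset.mul_sum, hS, mul_sub, mul_ite, mul_zero, Finset.sum_sub_distrib, ← Finset.sum_mul,
      Finset.sum_ite_eq', Finset.mem_univ, if_true, hI.sum_linear, inv_eq_one, if_neg hz1,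
      MonoidHom.one_apply, Units.val_one]
    ring
  have hcount : (C : ℂ) ^ 2 * p = (Nat.card G : ℂ) * ∑ χ : Cfsg.IrrCharacter G,
      (χ : G → ℂ) t * (χ : G → ℂ) t * conj ((χ : G → ℂ) x) / (χ : G → ℂ) 1 := by
    rw [← hL]
    convert sum_conj_mul_eq t t x
  rw [hR, (hT.values S).2.1] at hcount
  push_cast [Nat.cast_sub (show 1 ≤ p by omega), Nat.cast_sub (show 2 ≤ p by omega)] at hcount
  have h1 : (p : ℂ) * (C : ℂ) ^ 2 = (p : ℂ) * (((p - 1) ^ 2 : ℕ) : ℂ) := by
    push_cast [Nat.cast_sub (show 1 ≤ p by omega)]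
    rw [mul_comm (p : ℂ), hcount]
    simp only [K]
    field_simp
  have h2 := mul_left_cancel₀ (Nat.cast_ne_zero.2 (Fact.out : p.Prime).ne_zero) h1
  have h3 : C ^ 2 = (p - 1) ^ 2 := by exact_mod_cast h2
  exact Nat.pow_left_injective two_ne_zero h3

/-- The elements with `θ = 0` off the identity form one class of involutions, and the centralizer of
each of them consists of the identity and members of this class. -/
theorem Theta.zero_class (S : Setup G p P) (hT : Theta P θ tz) {t : G}
    (ht : t ∈ Subgroup.normalizer ((P : Subgroup G) : Set G)) (htP : t ∉ (P : Subgroup G)) :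
    (∀ s : G, IsConj t s → orderOf s = 2 ∧ Nat.card (Subgroup.centralizer ({s} : Set G)) = p - 1 ∧
      ∀ c : G, c * s = s * c → c ≠ 1 → IsConj t c) ∧
    (Finset.univ.filter fun s : G => IsConj t s).card = p * (p - 2) ∧
    (∀ g : G, g ≠ 1 → orderOf g ≠ p → ¬ IsConj t g → tz g = 1) := by
  have hI := S.inv
  have hp3 := S.hp
  obtain ⟨hval, hcard, hZ⟩ := hT.values S
  have hC := hT.card_centralizer S ht htP
  set C := Subgroup.centralizer ({t} : Set G) with hCdef
  have ht0 := hT.invert_zero S ht htP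
  have hto := (hI.involution ht htP).1
  -- the class fills the zero set
  set Z := Finset.univ.filter fun g : G => g ≠ 1 ∧ orderOf g ≠ p ∧ tz g = 0 with hZdef
  set K := Finset.univ.filter fun s : G => IsConj t s with hKdef
  have hKc : K.card = p * (p - 2) := by
    have h := card_conjugates_mul t
    rw [show Nat.card (Subgroup.centralizer ({t} : Set G)) = p - 1 from hC, hcard] at h
    have h1 : Nat.card {g : G // IsConj g t} = K.card := by
      rw [hKdef, ← Fintype.card_subtype, ← Nat.card_eq_fintype_card]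
      exact Nat.card_congr (Equiv.subtypeEquivRight fun g => ⟨IsConj.symm, IsConj.symm⟩)
    rw [h1] at h
    refine Nat.eq_of_mul_eq_mul_right (show 0 < p - 1 by omega) (h.trans ?_)
    ring
  have hsub : K ⊆ Z := fun s hs => by
    obtain ⟨c, hc⟩ := isConj_iff.1 (Finset.mem_filter.1 hs).2
    have ho : orderOf s = 2 := by rw [← hc, ← MulAut.conj_apply, MulEquiv.orderOf_eq, hto]
    refine Finset.mem_filter.2 ⟨Finset.mem_univ _, fun e => ?_, by omega, by rw [← hc, hT.conj_eq, ht0]⟩
    rw [e, orderOf_one] at ho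
    omega
  have hKZ : K = Z := Finset.eq_of_subset_of_card_le hsub (by rw [hZ, hKc])
  -- elements of the centralizer
  have hnoP : ∀ c ∈ C, orderOf c ≠ p := by
    intro c hc ho
    obtain ⟨k, hk, hk1⟩ := S.conj_mem ho
    have h1 : (k * t * k⁻¹) * (k * c * k⁻¹) = (k * c * k⁻¹) * (k * t * k⁻¹) := by
      have h := Subgroup.mem_centralizer_singleton_iff.1 hc
      calc (k * t * k⁻¹) * (k * c * k⁻¹) = k * (t * c) * k⁻¹ := by group
        _ = k * (c * t) * k⁻¹ := by rw [h]
        _ = _ := by group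
    have h2 := hI.cent_elt hk hk1 h1
    have h3 : orderOf (k * t * k⁻¹) = 2 := by rw [← MulAut.conj_apply, MulEquiv.orderOf_eq, hto]
    rw [(hI.zpowers_eq h2 (fun e => by rw [e, orderOf_one] at h3; omega)).2] at h3
    omega
  have hCz : ∀ c ∈ C, c ≠ 1 → tz c = 0 := by
    set O := Finset.univ.filter fun c : C => tz (c : G) = 1 with hO
    obtain ⟨k, hk⟩ := IsCharacter.classInner_nat (IsCharacter.restrict (isCharacter_irr θ) C)
      (isCharacter_one (G := C))
    have hk' : (∑ c : C, tz (c : G)) = (((p - 1) * k : ℕ) : ℤ) := by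
      rw [Cfsg.classInner, inv_mul_eq_iff_eq_mul₀ CfsgLib.Char.card_ne_zero, hC] at hk
      simp only [map_one, mul_one, hT.val] at hk
      have h' : ((∑ c : C, tz (c : G) : ℤ) : ℂ) = ((((p - 1) * k : ℕ) : ℤ) : ℂ) := by
        push_cast
        rw [hk]
      exact_mod_cast h'
    have hsplit : ∀ c : C, tz (c : G) = (if tz (c : G) = 1 then 1 else 0) +
        if c = 1 then (p : ℤ) - 1 else 0 := by
      intro c
      by_cases h : c = 1
      · subst h
        rw [if_pos rfl, OneMemClass.coe_one, hT.deg, if_neg (by omega), zero_add]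
      · rw [if_neg h, add_zero]
        rcases hval c (fun e => h (Subtype.ext e)) (hnoP c c.2) with h' | h' <;> simp [h']
    rw [Finset.sum_congr rfl fun c _ => hsplit c, Finset.sum_add_distrib, Finset.sum_ite_eq',
      if_pos (Finset.mem_univ _), Finset.sum_boole, ← hO] at hk'
    have hle : O ⊆ (Finset.univ.erase (1 : C)).erase ⟨t, Subgroup.mem_centralizer_singleton_iff.2 rfl⟩ :=
      fun c hc => by
        have hc1 := (Finset.mem_filter.1 hc).2
        refine Finset.mem_erase.2 ⟨fun e => ?_, Finset.mem_erase.2 ⟨fun e => ?_, Finset.mem_univ _⟩⟩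
        · rw [e] at hc1
          change tz t = 1 at hc1
          omega
        · rw [e, OneMemClass.coe_one, hT.deg] at hc1
          omega
    have hOlt := Finset.card_le_card hle
    rw [Finset.card_erase_of_mem, Finset.card_erase_of_mem (Finset.mem_univ _), Finset.card_univ,
      ← Nat.card_eq_fintype_card, hC] at hOlt
    swap
    · refine Finset.mem_erase.2 ⟨fun e => ?_, Finset.mem_univ _⟩
      have : t = 1 := congrArg Subtype.val e
      rw [this, orderOf_one] at hto
      omega
    have hk'' : O.card + (p - 1) = (p - 1) * k := by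
      have h' : ((O.card + (p - 1) : ℕ) : ℤ) = (((p - 1) * k : ℕ) : ℤ) := by
        rw [← hk', Nat.cast_add, Nat.cast_sub (by omega : 1 ≤ p), Nat.cast_one]
      exact_mod_cast h'
    have hk2 : k = 1 := by
      rcases Nat.lt_or_ge k 2 with h | h
      · rcases Nat.lt_or_ge k 1 with h0 | h0
        · rw [show k = 0 by omega] at hk''; omega
        · omega
      · have : (p - 1) * 2 ≤ (p - 1) * k := Nat.mul_le_mul_left _ h
        omega
    rw [hk2, mul_one] at hk''
    intro c hc hc1
    rcases hval c hc1 (hnoP c hc) with h | h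
    · exact h
    · have : (⟨c, hc⟩ : C) ∈ O := Finset.mem_filter.2 ⟨Finset.mem_univ _, h⟩
      have := Finset.card_pos.2 ⟨_, this⟩
      omega
  refine ⟨fun s hs => ?_, hKc, fun g h1 h2 h3 => ?_⟩
  · obtain ⟨k, hk⟩ := isConj_iff.1 hs
    refine ⟨by rw [← hk, ← MulAut.conj_apply, MulEquiv.orderOf_eq, hto], ?_, fun c hc hc1 => ?_⟩
    · rw [← card_fiber (IsConj.refl s), ← hC]
      refine Eq.trans ?_ (card_fiber hs)
      refine Finset.card_bij (fun g _ => g * k) (fun g hg => ?_) (fun _ _ _ _ e => mul_right_cancel e)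
        (fun g hg => ⟨g * k⁻¹, ?_, inv_mul_cancel_right _ _⟩)
      · have := (Finset.mem_filter.1 hg).2
        refine Finset.mem_filter.2 ⟨Finset.mem_univ _, ?_⟩
        rw [show g * k * t * (g * k)⁻¹ = g * (k * t * k⁻¹) * g⁻¹ by group, hk, this]
      · have := (Finset.mem_filter.1 hg).2
        refine Finset.mem_filter.2 ⟨Finset.mem_univ _, ?_⟩
        rw [show g * k⁻¹ * s * (g * k⁻¹)⁻¹ = g * (k⁻¹ * s * k) * g⁻¹ by group,
          show k⁻¹ * s * k = t by rw [← hk]; group, this]
    · have hm : k⁻¹ * c * k ∈ C := Subgroup.mem_centralizer_singleton_iff.2 (by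
        rw [← hk] at hc
        calc k⁻¹ * c * k * t = k⁻¹ * (c * (k * t * k⁻¹)) * k := by group
          _ = k⁻¹ * ((k * t * k⁻¹) * c) * k := by rw [hc]
          _ = t * (k⁻¹ * c * k) := by group)
      have hne : k⁻¹ * c * k ≠ 1 := fun e => hc1 (by
        have := congrArg (fun w => k * w * k⁻¹) e
        simpa [mul_assoc] using this)
      have hmem : k⁻¹ * c * k ∈ Z := Finset.mem_filter.2
        ⟨Finset.mem_univ _, hne, hnoP _ hm, hCz _ hm hne⟩
      rw [← hKZ] at hmem
      exact (Finset.mem_filter.1 hmem).2.trans (isConj_iff.2 ⟨k, by group⟩)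
  · rcases hval g h1 h2 with h | h
    · have hmem : g ∈ Z := Finset.mem_filter.2 ⟨Finset.mem_univ _, h1, h2, h⟩
      rw [← hKZ] at hmem
      exact absurd (Finset.mem_filter.1 hmem).2 h3
    · exact h

theorem Setup.fixNum_conj {g k : G} : fixNum (k * g * k⁻¹) = fixNum g := by
  refine Finset.card_bij (fun y _ => k⁻¹ • y) (fun y hy => ?_)
    (fun _ _ _ _ e => MulAction.injective k⁻¹ e) (fun y hy => ⟨k • y, ?_, inv_smul_smul _ _⟩)
  · have := (Finset.mem_filter.1 hy).2
    rw [mul_smul, mul_smul, smul_eq_iff_eq_inv_smul] at this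
    exact Finset.mem_filter.2 ⟨Finset.mem_univ _, this⟩
  · have := (Finset.mem_filter.1 hy).2
    refine Finset.mem_filter.2 ⟨Finset.mem_univ _, ?_⟩
    rw [mul_smul, mul_smul, inv_smul_smul, this]

/-- An inverting involution fixes no point or two. -/
theorem Setup.fixNum_inverting (S : Setup G p P) {t : G}
    (ht : t ∈ Subgroup.normalizer ((P : Subgroup G) : Set G)) (htP : t ∉ (P : Subgroup G)) :
    fixNum t = 0 ∨ fixNum t = 2 := by
  have hI := S.inv
  have hp3 := S.hp
  set F := Finset.univ.filter fun y : α => t • y = y with hF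
  let O : α → Finset α := fun a => Finset.univ.image fun x : (P : Subgroup G) => (x : G) • a
  have hO : ∀ a, (O a).card = p := by
    intro a
    rw [Finset.card_image_of_injective, Finset.card_univ, ← Nat.card_eq_fintype_card, hI.card]
    intro x y e
    by_contra hne
    have hm : (y : G)⁻¹ * x ∈ (P : Subgroup G) := mul_mem (inv_mem y.2) x.2
    have h1 : (y : G)⁻¹ * x ≠ 1 := fun e' => hne (Subtype.ext (inv_mul_eq_one.1 e').symm)
    have h0 := S.fix_zero (hI.zpowers_eq hm h1).2
    rw [fixNum, Finset.card_eq_zero, Finset.filter_eq_empty_iff] at h0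
    refine h0 (Finset.mem_univ a) ?_
    rw [mul_smul, inv_smul_eq_iff]
    exact e
  have hd : ∀ a ∈ F, ∀ b ∈ F, a ≠ b → Disjoint (O a) (O b) := by
    intro a ha b hb hab
    refine Finset.disjoint_left.2 fun w h1 h2 => hab ?_
    obtain ⟨x, -, rfl⟩ := Finset.mem_image.1 h1
    obtain ⟨y, -, hy⟩ := Finset.mem_image.1 h2
    have hm : (y : G)⁻¹ * x ∈ (P : Subgroup G) := mul_mem (inv_mem y.2) x.2
    have hb' : ((y : G)⁻¹ * x) • a = b := by rw [mul_smul, inv_smul_eq_iff]; exact hy.symm
    have hta := (Finset.mem_filter.1 ha).2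
    have htb := (Finset.mem_filter.1 hb).2
    by_cases h1' : (y : G)⁻¹ * x = 1
    · rw [h1', one_smul] at hb'; exact hb'
    exfalso
    set z := (y : G)⁻¹ * x with hz
    have hinv := (hI.involution ht htP).2 z hm
    have h2' : (z⁻¹) • a = b := by
      rw [← hinv, mul_smul, mul_smul, inv_smul_eq_iff.2 hta.symm, hb', htb]
    have h3 : (z * z) • a = a := by
      rw [mul_smul, hb', ← h2', smul_inv_smul]
    have hz2 : z * z ≠ 1 := fun e => by
      have h5 : orderOf z ∣ 2 := orderOf_dvd_of_pow_eq_one (by rw [sq]; exact e)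
      rw [(hI.zpowers_eq hm h1').2] at h5
      have := Nat.le_of_dvd two_pos h5
      omega
    have h0 := S.fix_zero (hI.zpowers_eq (mul_mem hm hm) hz2).2
    rw [fixNum, Finset.card_eq_zero, Finset.filter_eq_empty_iff] at h0
    exact h0 (Finset.mem_univ a) h3
  have hle : F.card * p ≤ 2 * p := by
    rw [← S.hα, ← Finset.card_univ, show F.card * p = ∑ a ∈ F, (O a).card by
      rw [Finset.sum_congr rfl fun a _ => hO a, Finset.sum_const, smul_eq_mul],
      ← Finset.card_biUnion hd]
    exact Finset.card_le_card (Finset.subset_univ _)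
  have hle2 : F.card ≤ 2 := Nat.le_of_mul_le_mul_right hle (Fact.out : p.Prime).pos
  have hne1 : F.card ≠ 1 := by
    intro e
    haveI : Fact (Nat.Prime 2) := ⟨Nat.prime_two⟩
    have hpg : IsPGroup 2 (Subgroup.zpowers t) := IsPGroup.of_card (n := 1) (by
      rw [Nat.card_zpowers, (hI.involution ht htP).1, pow_one])
    have hmod := hpg.card_modEq_card_fixedPoints α
    have hfp : Nat.card (fixedPoints (Subgroup.zpowers t) α) = F.card := by
      rw [hF, ← Fintype.card_subtype, ← Nat.card_eq_fintype_card]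
      refine Nat.card_congr (Equiv.subtypeEquivRight fun y => ⟨fun h => h ⟨t, Subgroup.mem_zpowers t⟩,
        fun h g => ?_⟩)
      obtain ⟨i, hi⟩ := Subgroup.mem_zpowers_iff.1 g.2
      change (g : G) • y = y
      rw [← hi]
      exact MulAction.smul_zpow_fixed h i
    rw [hfp, e, Nat.card_eq_fintype_card, S.hα, Nat.ModEq] at hmod
    omega
  change F.card = 0 ∨ F.card = 2
  omega
where
  MulAction.smul_zpow_fixed {g : G} {y : α} (h : g • y = y) (i : ℤ) : g ^ i • y = y := by
    have hm : g ∈ stabilizer G y := h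
    exact (stabilizer G y).zpow_mem hm i

theorem Setup.stab_card (S : Setup G p P) (hcard : Nat.card G = p * ((p - 1) * (p - 2))) (a : α)
    {h : ℕ} (hh : p = 2 * h + 1) : Nat.card (stabilizer G a) = h * (p - 2) := by
  haveI := S.trans
  have h1 := CfsgLib.Perm.Basic.card_eq_mul_stabilizer (G := G) a
  rw [Nat.card_eq_fintype_card (α := α), S.hα, hcard, show p - 1 = 2 * h by omega] at h1
  refine Nat.eq_of_mul_eq_mul_left (show 0 < 2 * p by have := S.hp; omega) (h1.symm.trans ?_)
  ring

theorem Setup.eq_five (S : Setup G p P) :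
    p = 5 ∧ Nonempty (G ≃* alternatingGroup (Fin 5)) := by
  have hI := S.inv
  have hp : p.Prime := Fact.out
  have hp3 := S.hp
  obtain ⟨h, hh⟩ := hp.odd_of_ne_two (by omega)
  obtain ⟨θ, tz, hT⟩ := S.exists_theta
  obtain ⟨hval, hcard, -⟩ := hT.values S
  obtain ⟨t, ht, htP⟩ := hI.exists_inverting
  obtain ⟨hcls, hKc, hone⟩ := hT.zero_class S ht htP
  obtain ⟨a⟩ : Nonempty α := Fintype.card_pos_iff.1 (by rw [S.hα]; omega)
  haveI := S.trans
  set A := stabilizer G a with hAdef
  have hA := S.stab_card hcard a hh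
  have hf : ∀ s, IsConj t s → fixNum s = fixNum t := fun s hs => by
    obtain ⟨k, rfl⟩ := isConj_iff.1 hs
    exact Setup.fixNum_conj
  have hfix : ∀ g : G, g • a = a → fixNum g ≠ 0 := fun g hg =>
    Finset.card_ne_zero.2 ⟨a, Finset.mem_filter.2 ⟨Finset.mem_univ _, hg⟩⟩
  rcases S.fixNum_inverting ht htP with hf0 | hf2
  · exfalso
    obtain ⟨k, hk⟩ := IsCharacter.classInner_nat (IsCharacter.restrict (isCharacter_irr θ) A)
      (isCharacter_one (G := A))
    rw [Cfsg.classInner, inv_mul_eq_iff_eq_mul₀ CfsgLib.Char.card_ne_zero, hA] at hk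
    simp only [map_one, mul_one, hT.val] at hk
    have hv : ∀ g : A, tz (g : G) = 1 + if g = 1 then (p : ℤ) - 2 else 0 := by
      intro g
      by_cases h1 : g = 1
      · subst h1; rw [if_pos rfl, OneMemClass.coe_one, hT.deg]; ring
      · rw [if_neg h1, add_zero]
        refine hone g (fun e => h1 (Subtype.ext e)) (fun e => hfix g g.2 (S.fix_zero e)) fun hc => ?_
        exact hfix g g.2 ((hf g hc).trans hf0)
    have h2 : (∑ g : A, tz (g : G)) = ((h * (p - 2) + (p - 2) : ℕ) : ℤ) := by
      rw [Finset.sum_congr rfl fun g _ => hv g, Finset.sum_add_distrib, Finset.sum_ite_eq',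
        if_pos (Finset.mem_univ _), Finset.sum_const, Finset.card_univ, ← Nat.card_eq_fintype_card, hA,
        nsmul_eq_mul, mul_one, Nat.cast_add, Nat.cast_sub (by omega : 2 ≤ p)]
      norm_num
    have h3 : ((h * (p - 2) + (p - 2) : ℕ) : ℂ) = ((h * (p - 2) * k : ℕ) : ℂ) := by
      rw [← Int.cast_natCast (R := ℂ) (h * (p - 2) + (p - 2)), ← h2]
      push_cast at hk ⊢
      exact hk
    have h4 : (h + 1) * (p - 2) = (h * k) * (p - 2) := by
      have : h * (p - 2) + (p - 2) = h * (p - 2) * k := by exact_mod_cast h3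
      linarith
    have h5 := Nat.eq_of_mul_eq_mul_right (show 0 < p - 2 by omega) h4
    have h6 : h ∣ 1 := (Nat.dvd_add_right (dvd_refl h)).1 ⟨k, h5⟩
    have := Nat.dvd_one.1 h6
    omega
  -- the involutions fixing `a`
  set T := Finset.univ.filter fun s : G => IsConj t s ∧ s • a = a with hTdef
  have hTc : T.card = p - 2 := by
    set K := Finset.univ.filter fun s : G => IsConj t s with hKdef
    have hsum : ∑ s ∈ K, fixNum s = 2 * (p * (p - 2)) := by
      rw [Finset.sum_congr rfl fun s hs => (hf s (Finset.mem_filter.1 hs).2).trans hf2, Finset.sum_const,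
        hKc, smul_eq_mul, mul_comm]
    have hsw : ∑ s ∈ K, fixNum s = ∑ b : α, (K.filter fun s => s • b = b).card := by
      simp only [fixNum, Finset.card_filter]
      exact Finset.sum_comm
    have hb : ∀ b : α, (K.filter fun s => s • b = b).card = T.card := by
      intro b
      obtain ⟨k, hk⟩ := exists_smul_eq G b a
      refine Finset.card_bij (fun s _ => k * s * k⁻¹) (fun s hs => ?_)
        (fun _ _ _ _ e => mul_left_cancel (mul_right_cancel e)) (fun s hs => ⟨k⁻¹ * s * k, ?_, by group⟩)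
      · obtain ⟨h1, h2⟩ := Finset.mem_filter.1 hs
        refine Finset.mem_filter.2 ⟨Finset.mem_univ _,
          (Finset.mem_filter.1 h1).2.trans (isConj_iff.2 ⟨k, rfl⟩), ?_⟩
        rw [← hk, mul_smul, mul_smul, inv_smul_smul, h2]
      · obtain ⟨-, h1, h2⟩ := Finset.mem_filter.1 hs
        refine Finset.mem_filter.2 ⟨Finset.mem_filter.2 ⟨Finset.mem_univ _,
          h1.trans (isConj_iff.2 ⟨k⁻¹, by rw [inv_inv]⟩)⟩, ?_⟩
        rw [mul_smul, mul_smul, hk, h2, ← hk, inv_smul_smul]
    rw [hsw, Finset.sum_congr rfl fun b _ => hb b, Finset.sum_const, Finset.card_univ, S.hα,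
      smul_eq_mul] at hsum
    refine Nat.eq_of_mul_eq_mul_left (show 0 < 2 * p by omega) (hsum.trans ?_)
    ring
  let E : G → Subgroup G := fun s => A ⊓ Subgroup.centralizer ({s} : Set G)
  have hEc : ∀ s ∈ T, Nat.card (E s) = h := by
    intro s hs
    obtain ⟨-, hst, hsa⟩ := Finset.mem_filter.1 hs
    obtain ⟨-, hC, -⟩ := hcls s hst
    set C := Subgroup.centralizer ({s} : Set G) with hCdef
    have horb : (orbit C a).ncard ≤ 2 := by
      have hsub : orbit C a ⊆ {y | s • y = y} := by
        rintro _ ⟨c, rfl⟩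
        have hc := Subgroup.mem_centralizer_singleton_iff.1 c.2
        show s • ((c : G) • a) = (c : G) • a
        rw [← mul_smul, ← hc, mul_smul, hsa]
      refine (Set.ncard_le_ncard hsub).trans (le_of_eq ?_)
      rw [Set.ncard_eq_toFinset_card', Set.toFinset_setOf]
      exact (hf s hst).trans hf2
    have hmul := (stabilizer C a).card_mul_index
    rw [MulAction.index_stabilizer, hC] at hmul
    have he : Nat.card (stabilizer C a) = Nat.card (E s) := Nat.card_congr
      { toFun := fun c => ⟨((c : C) : G), c.2, (c : C).2⟩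
        invFun := fun g => ⟨⟨g.1, g.2.2⟩, g.2.1⟩
        left_inv := fun _ => rfl
        right_inv := fun _ => rfl }
    rw [he] at hmul
    have hdvd : Nat.card (E s) ∣ h * (p - 2) := hA ▸ Subgroup.card_dvd_of_le inf_le_left
    have hpos : 0 < (orbit C a).ncard := (Set.ncard_pos (Set.toFinite _)).2 ⟨a, mem_orbit_self a⟩
    rcases Nat.lt_or_ge (orbit C a).ncard 2 with hlt | hge
    · exfalso
      rw [show (orbit C a).ncard = 1 by omega, mul_one] at hmul
      rw [hmul, show p - 1 = h * 2 by omega] at hdvd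
      have := Nat.dvd_of_mul_dvd_mul_left (show 0 < h by omega) hdvd
      omega
    · rw [show (orbit C a).ncard = 2 by omega] at hmul
      omega
  have hEinv : ∀ s ∈ T, ∀ c ∈ E s, c ≠ 1 → c ∈ T := fun s hs c hc hc1 => by
    obtain ⟨-, hst, -⟩ := Finset.mem_filter.1 hs
    exact Finset.mem_filter.2 ⟨Finset.mem_univ _,
      (hcls s hst).2.2 c (Subgroup.mem_centralizer_singleton_iff.1 hc.2) hc1, hc.1⟩
  have hEcomm : ∀ s ∈ T, ∀ c ∈ E s, ∀ d ∈ E s, c * d = d * c := by
    intro s hs
    have h2 : ∀ c ∈ E s, c * c = 1 := fun c hc => by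
      by_cases hc1 : c = 1
      · rw [hc1, mul_one]
      · rw [← sq, ← (hcls c (Finset.mem_filter.1 (hEinv s hs c hc hc1)).2.1).1, pow_orderOf_eq_one]
    intro c hc d hd
    have e1 := inv_eq_of_mul_eq_one_left (h2 _ (mul_mem hc hd))
    rw [mul_inv_rev, inv_eq_of_mul_eq_one_left (h2 c hc), inv_eq_of_mul_eq_one_left (h2 d hd)] at e1
    exact e1.symm
  have hEeq : ∀ s ∈ T, ∀ c ∈ E s, c ≠ 1 → E c = E s := by
    intro s hs c hc hc1
    have hle : E s ≤ E c := fun d hd =>
      ⟨hd.1, Subgroup.mem_centralizer_singleton_iff.2 (hEcomm s hs d hd c hc)⟩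
    exact (Subgroup.eq_of_le_of_card_ge hle (by rw [hEc s hs, hEc c (hEinv s hs c hc hc1)])).symm
  have hself : ∀ s ∈ T, s ∈ E s ∧ s ≠ 1 := fun s hs => by
    obtain ⟨-, hst, hsa⟩ := Finset.mem_filter.1 hs
    refine ⟨⟨hsa, Subgroup.mem_centralizer_singleton_iff.2 rfl⟩, fun e => ?_⟩
    have := (hcls s hst).1
    rw [e, orderOf_one] at this
    omega
  have hfib : ∀ X ∈ T.image E, (T.filter fun s => E s = X).card = h - 1 := by
    intro X hX
    obtain ⟨s, hs, rfl⟩ := Finset.mem_image.1 hX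
    have he : (T.filter fun c => E c = E s) = (Finset.univ.filter fun c : G => c ∈ E s).erase 1 := by
      ext c
      simp only [Finset.mem_filter, Finset.mem_erase, Finset.mem_univ, true_and]
      constructor
      · rintro ⟨hc, e⟩
        exact ⟨(hself c hc).2, e ▸ (hself c hc).1⟩
      · rintro ⟨hc1, hc⟩
        exact ⟨hEinv s hs c hc hc1, hEeq s hs c hc hc1⟩
    rw [he, Finset.card_erase_of_mem (by simp [one_mem]), ← Fintype.card_subtype,
      ← Nat.card_eq_fintype_card]
    exact congrArg (· - 1) (hEc s hs)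
  have hdiv : (h - 1) ∣ p - 2 := by
    rw [← hTc, Finset.card_eq_sum_card_image E T, Finset.sum_congr rfl hfib, Finset.sum_const,
      smul_eq_mul]
    exact Dvd.intro_left _ rfl
  have hh2 : h = 2 := by
    have h1 : (h - 1) ∣ 1 := by
      have e : p - 2 = (h - 1) * 2 + 1 := by omega
      rw [e] at hdiv
      exact (Nat.dvd_add_right (dvd_mul_right _ _)).1 hdiv
    have := Nat.dvd_one.1 h1
    omega
  have hp5 : p = 5 := by omega
  refine ⟨hp5, ?_⟩
  haveI : Nontrivial G := by
    rw [← Finite.one_lt_card_iff_nontrivial, hcard, hp5]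
    norm_num
  haveI : IsSimpleGroup G := ⟨fun K hK => by
    by_cases hb : K = ⊥
    · exact Or.inl hb
    · exact Or.inr (S.normal_eq_top K hb)⟩
  exact Cfsg.Agent.S0494.result (by rw [hcard, hp5])

end CfsgLib.Perm.TwicePrime
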