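import Mathlib

/-! Powers of a non-abelian simple group: automorphisms and subdirect subgroups. -/

set_option autoImplicit false
set_option linter.style.haveILetI false

namespace CfsgLib.Perm.Diagonal

variable {ι T : Type*} [Finite ι] [DecidableEq ι] [Group T] [IsSimpleGroup T]

omit [Finite ι] [DecidableEq ι] in
lemma exists_not_commute (hT : ¬ IsMulCommutative T) {x : T} (hx : x ≠ 1) : ∃ s, x * s ≠ s * x := by
  by_contra h
  push Not at h
  rcases Subgroup.Normal.eq_bot_or_eq_top (inferInstance : (Subgroup.center T).Normal) with hc | hc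
  · exact hx ((Subgroup.eq_bot_iff_forall _).1 hc x (Subgroup.mem_center_iff.2 fun s => (h s).symm))
  · exact hT ⟨⟨fun a b => Subgroup.mem_center_iff.1 (hc ▸ Subgroup.mem_top b : b ∈ Subgroup.center T) a⟩⟩

omit [Finite ι] in
/-- A normal subgroup meeting a coordinate nontrivially contains that factor. -/
lemma mulSingle_mem_of_normal (hT : ¬ IsMulCommutative T) {N : Subgroup (ι → T)} [N.Normal]
    {f : ι → T} (hf : f ∈ N) {i : ι} (hi : f i ≠ 1) (t : T) :
    Pi.mulSingle i t ∈ N := by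
  obtain ⟨s, hs⟩ := exists_not_commute hT hi
  let W : Subgroup T := N.comap (MonoidHom.mulSingle (fun _ : ι => T) i)
  haveI : W.Normal := Subgroup.Normal.comap inferInstance _
  have hmem : f i * s * (f i)⁻¹ * s⁻¹ ∈ W := by
    show Pi.mulSingle (M := fun _ => T) i (f i * s * (f i)⁻¹ * s⁻¹) ∈ N
    have : Pi.mulSingle (M := fun _ => T) i (f i * s * (f i)⁻¹ * s⁻¹) =
        f * (Pi.mulSingle (M := fun _ => T) i s * f⁻¹ *
          (Pi.mulSingle (M := fun _ => T) i s)⁻¹) := by
      funext l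
      rcases eq_or_ne l i with rfl | hl
      · simp [mul_assoc]
      · simp [hl]
    rw [this]
    exact N.mul_mem hf (Subgroup.Normal.conj_mem inferInstance _ (N.inv_mem hf) _)
  rcases Subgroup.Normal.eq_bot_or_eq_top (show W.Normal from inferInstance) with h | h
  · exfalso
    have h1 := (Subgroup.eq_bot_iff_forall _).1 h _ hmem
    apply hs
    calc f i * s = (f i * s * (f i)⁻¹ * s⁻¹) * (s * f i) := by group
      _ = s * f i := by rw [h1, one_mul]
  · exact (h ▸ Subgroup.mem_top t : t ∈ W)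

/-- An automorphism of a power permutes the factors. -/
theorem aut_perm [Finite T] (hT : ¬ IsMulCommutative T) (φ : (ι → T) ≃* (ι → T)) :
    ∃ (σ : ι → ι) (α : ι → T ≃* T), Function.Bijective σ ∧
      (∀ i t, φ (Pi.mulSingle i t) = Pi.mulSingle (σ i) (α i t)) ∧
      ∀ f i, φ f (σ i) = α i (f i) := by
  obtain ⟨t0, ht0⟩ := exists_ne (1 : T)
  have hex : ∀ j, ∃ i, ∀ t, ∀ l, l ≠ j → φ (Pi.mulSingle i t) l = 1 := by
    intro j
    let N : Subgroup (ι → T) :=
      { carrier := {g | ∀ l, l ≠ j → φ g l = 1}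
        mul_mem' := fun {a b} ha hb l hl => by rw [map_mul, Pi.mul_apply, ha l hl, hb l hl, one_mul]
        one_mem' := fun l _ => by rw [map_one, Pi.one_apply]
        inv_mem' := fun {a} ha l hl => by rw [map_inv, Pi.inv_apply, ha l hl, inv_one] }
    haveI : N.Normal := ⟨fun g hg c l hl => by
      rw [map_mul, map_mul, Pi.mul_apply, Pi.mul_apply, hg l hl, map_inv, Pi.inv_apply, mul_one,
        mul_inv_cancel]⟩
    have hf : φ.symm (Pi.mulSingle j t0) ∈ N := fun l hl => by
      rw [φ.apply_symm_apply, Pi.mulSingle_eq_of_ne hl]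
    obtain ⟨i, hi⟩ : ∃ i, φ.symm (Pi.mulSingle j t0) i ≠ 1 := by
      by_contra hc
      push Not at hc
      have : φ.symm (Pi.mulSingle j t0) = 1 := funext hc
      rw [← map_one φ.symm] at this
      exact ht0 (by simpa using congrFun (φ.symm.injective this) j)
    exact ⟨i, fun t => mulSingle_mem_of_normal hT hf hi t⟩
  choose τ hτ using hex
  have hinj : Function.Injective τ := by
    intro j j' h
    by_contra hne
    have hz : φ (Pi.mulSingle (τ j) t0) = 1 := funext fun l => by
      by_cases hl : l = j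
      · subst hl; rw [h]; exact hτ j' t0 l hne
      · exact hτ j t0 l hl
    rw [← map_one φ] at hz
    exact ht0 (by simpa using congrFun (φ.injective hz) (τ j))
  let eτ := Equiv.ofBijective τ ⟨hinj, Finite.injective_iff_surjective.1 hinj⟩
  have hs : ∀ i t, φ (Pi.mulSingle i t) =
      Pi.mulSingle (eτ.symm i) (φ (Pi.mulSingle i t) (eτ.symm i)) := by
    intro i t
    funext l
    rcases eq_or_ne l (eτ.symm i) with rfl | hl
    · simp
    · rw [Pi.mulSingle_eq_of_ne hl]
      have h1 : τ (eτ.symm i) = i := eτ.apply_symm_apply i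
      have := hτ _ t l hl
      rwa [h1] at this
  have hαinj : ∀ i, Function.Injective
      (((Pi.evalMonoidHom (fun _ : ι => T) (eτ.symm i)).comp φ.toMonoidHom).comp
        (MonoidHom.mulSingle (fun _ : ι => T) i)) := by
    intro i a b hab
    have := hs i a
    rw [show φ (Pi.mulSingle i a) (eτ.symm i) = φ (Pi.mulSingle i b) (eτ.symm i) from hab,
      ← hs i b] at this
    exact Pi.mulSingle_injective (M := fun _ : ι => T) i (φ.injective this)
  let α : ι → T ≃* T := fun i =>
    MulEquiv.ofBijective _ ⟨hαinj i, Finite.injective_iff_surjective.1 (hαinj i)⟩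
  refine ⟨eτ.symm, α, eτ.symm.bijective, hs, fun f i => ?_⟩
  let L : Subgroup (ι → T) := MonoidHom.eqLocus
    ((Pi.evalMonoidHom (fun _ : ι => T) (eτ.symm i)).comp φ.toMonoidHom)
    ((α i).toMonoidHom.comp (Pi.evalMonoidHom (fun _ : ι => T) i))
  have : f ∈ L := by
    refine Subgroup.pi_mem_of_mulSingle_mem f fun k => ?_
    show φ (Pi.mulSingle k (f k)) (eτ.symm i) = α i ((Pi.mulSingle k (f k) : ι → T) i)
    rcases eq_or_ne k i with rfl | hk
    · rw [Pi.mulSingle_eq_same]; rfl
    · rw [Pi.mulSingle_eq_of_ne hk.symm, map_one, hs,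
        Pi.mulSingle_eq_of_ne (fun e => hk (eτ.symm.injective e).symm)]
  exact this

/-- The relation of having the same kernel inside a subgroup of a power. -/
def Linked (D : Subgroup (ι → T)) (i j : ι) : Prop := ∀ d ∈ D, d i = 1 → d j = 1

omit [Finite ι] [DecidableEq ι] in
lemma kernel_onto {D : Subgroup (ι → T)} (hD : ∀ i t, ∃ d ∈ D, d i = t) {i j : ι}
    (h : ¬ Linked D i j) (t : T) : ∃ d ∈ D, d i = 1 ∧ d j = t := by
  let W : Subgroup T := (D ⊓ (Pi.evalMonoidHom (fun _ : ι => T) i).ker).map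
    (Pi.evalMonoidHom (fun _ : ι => T) j)
  haveI : W.Normal := ⟨by
    rintro _ ⟨d, hd, rfl⟩ s
    obtain ⟨c, hc, rfl⟩ := hD j s
    refine ⟨c * d * c⁻¹, ⟨D.mul_mem (D.mul_mem hc hd.1) (D.inv_mem hc), ?_⟩, by simp⟩
    have h2 : d i = 1 := hd.2
    show (c * d * c⁻¹) i = 1
    simp [h2]⟩
  rcases Subgroup.Normal.eq_bot_or_eq_top (show W.Normal from inferInstance) with hW | hW
  · exact absurd (fun d hd hdi => (Subgroup.eq_bot_iff_forall _).1 hW _
      ⟨d, ⟨hd, hdi⟩, rfl⟩) h
  · obtain ⟨d, hd, hdt⟩ : t ∈ W := hW ▸ Subgroup.mem_top t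
    exact ⟨d, hd.1, hd.2, hdt⟩

omit [Finite ι] [DecidableEq ι] [IsSimpleGroup T] in
lemma linked_aut [Finite T] {D : Subgroup (ι → T)} (hD : ∀ i t, ∃ d ∈ D, d i = t) {i j : ι}
    (h : Linked D i j) : ∃ ψ : T ≃* T, ∀ d ∈ D, d j = ψ (d i) := by
  choose c hc hci using hD i
  have key : ∀ d ∈ D, d j = c (d i) j := fun d hd => by
    have := h _ (D.mul_mem hd (D.inv_mem (hc (d i)))) (by simp [hci])
    simpa [mul_inv_eq_one] using this
  let f : T →* T :=
    { toFun := fun t => c t j
      map_one' := by simpa using (key 1 D.one_mem).symm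
      map_mul' := fun s t => by
        have := key _ (D.mul_mem (hc s) (hc t))
        simpa [hci] using this.symm }
  have hsurj : Function.Surjective f := fun t => by
    obtain ⟨d, hd, hdj⟩ := hD j t
    exact ⟨d i, (key d hd).symm.trans hdj⟩
  exact ⟨MulEquiv.ofBijective f ⟨Finite.injective_iff_surjective.2 hsurj, hsurj⟩, key⟩

omit [Finite ι] [DecidableEq ι] [IsSimpleGroup T] in
lemma linked_symm [Finite T] {D : Subgroup (ι → T)} (hD : ∀ i t, ∃ d ∈ D, d i = t) {i j : ι}
    (h : Linked D i j) : Linked D j i := by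
  obtain ⟨ψ, hψ⟩ := linked_aut hD h
  intro d hd hdj
  rw [hψ d hd] at hdj
  exact (map_eq_one_iff ψ ψ.injective).1 hdj

omit [Finite ι] [DecidableEq ι] in
lemma exists_class_supported (hT : ¬ IsMulCommutative T) {D : Subgroup (ι → T)}
    (hD : ∀ i t, ∃ d ∈ D, d i = t) {j : ι} (A : Finset ι)
    (hA : ∀ i ∈ A, ¬ Linked D i j) : ∀ t, ∃ d ∈ D, (∀ i ∈ A, d i = 1) ∧ d j = t := by
  classical
  induction A using Finset.induction_on with
  | empty =>
    intro t
    obtain ⟨d, hd, hdt⟩ := hD j t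
    exact ⟨d, hd, by simp, hdt⟩
  | @insert a A _ ih =>
    have ih' := ih fun i hi => hA i (Finset.mem_insert_of_mem hi)
    let E : Subgroup (ι → T) :=
      { carrier := {d | d ∈ D ∧ ∀ i ∈ insert a A, d i = 1}
        mul_mem' := fun {x y} hx hy => ⟨D.mul_mem hx.1 hy.1, fun i hi => by
          rw [Pi.mul_apply, hx.2 i hi, hy.2 i hi, one_mul]⟩
        one_mem' := ⟨D.one_mem, fun _ _ => rfl⟩
        inv_mem' := fun {x} hx => ⟨D.inv_mem hx.1, fun i hi => by
          rw [Pi.inv_apply, hx.2 i hi, inv_one]⟩ }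
    let W : Subgroup T := E.map (Pi.evalMonoidHom (fun _ : ι => T) j)
    haveI : W.Normal := ⟨by
      rintro _ ⟨d, hd, rfl⟩ s
      obtain ⟨c, hc, rfl⟩ := hD j s
      exact ⟨c * d * c⁻¹, ⟨D.mul_mem (D.mul_mem hc hd.1) (D.inv_mem hc),
        fun i hi => by simp [hd.2 i hi]⟩, by simp⟩⟩
    have hcomm : ∀ s t : T, s * t * s⁻¹ * t⁻¹ ∈ W := by
      intro s t
      obtain ⟨x, hx, hxA, hxj⟩ := ih' s
      obtain ⟨y, hy, hya, hyj⟩ := kernel_onto hD (hA a (Finset.mem_insert_self _ _)) t
      refine ⟨x * y * x⁻¹ * y⁻¹,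
        ⟨D.mul_mem (D.mul_mem (D.mul_mem hx hy) (D.inv_mem hx)) (D.inv_mem hy), fun i hi => ?_⟩,
        by simp [hxj, hyj]⟩
      rcases Finset.mem_insert.1 hi with rfl | hi
      · simp [hya]
      · simp [hxA i hi]
    rcases Subgroup.Normal.eq_bot_or_eq_top (show W.Normal from inferInstance) with hW | hW
    · exfalso
      refine hT ⟨⟨fun s t => ?_⟩⟩
      have h1 := (Subgroup.eq_bot_iff_forall _).1 hW _ (hcomm s t)
      calc s * t = (s * t * s⁻¹ * t⁻¹) * (t * s) := by group
        _ = t * s := by rw [h1, one_mul]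
    · intro t
      obtain ⟨d, hd, hdt⟩ : t ∈ W := hW ▸ Subgroup.mem_top t
      exact ⟨d, hd.1, hd.2, hdt⟩

omit [DecidableEq ι] in
/-- Scott's lemma: a subdirect subgroup of a power of a non-abelian simple group is a product
of diagonals. -/
theorem scott [Finite T] (hT : ¬ IsMulCommutative T) (D : Subgroup (ι → T))
    (hD : ∀ i t, ∃ d ∈ D, d i = t) :
    ∃ (c : ι → ι) (ψ : ι → T ≃* T), (∀ i, c (c i) = c i) ∧
      (∀ i j, c i = c j ↔ Linked D i j) ∧ (∀ i t, c i = i → ψ i t = t) ∧
      ∀ f, f ∈ D ↔ ∀ i, f i = ψ i (f (c i)) := by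
  classical
  haveI := Fintype.ofFinite ι
  let s : Setoid ι := ⟨Linked D, fun _ _ _ h => h, fun h => linked_symm hD h,
    fun h h' d hd e => h' d hd (h d hd e)⟩
  let c : ι → ι := fun i => (Quotient.mk s i).out
  have hc : ∀ i, Linked D (c i) i := fun i => Quotient.mk_out i
  have hiff : ∀ i j, c i = c j ↔ Linked D i j := by
    intro i j
    exact Quotient.out_inj.trans Quotient.eq
  have hcc : ∀ i, c (c i) = c i := fun i => (hiff _ _).2 (hc i)
  choose ψ hψ using fun i => linked_aut hD (hc i)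
  refine ⟨c, ψ, hcc, hiff, fun i t hi => ?_, fun f => ⟨fun hf i => hψ i f hf, fun hf => ?_⟩⟩
  · obtain ⟨d, hd, hdt⟩ := hD i t
    have := hψ i d hd
    rw [hi, hdt] at this
    exact this.symm
  suffices h : ∀ A : Finset ι, ∃ d ∈ D, ∀ j, d j = if c j ∈ A then f j else 1 by
    obtain ⟨d, hd, hdf⟩ := h Finset.univ
    rwa [show d = f from funext fun j => by simpa using hdf j] at hd
  intro A
  induction A using Finset.induction_on with
  | empty => exact ⟨1, D.one_mem, fun j => by simp⟩
  | @insert r A hrA ih =>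
    obtain ⟨d, hd, hdj⟩ := ih
    by_cases hrr : c r = r
    · obtain ⟨e, he, he1, her⟩ := exists_class_supported hT hD (j := r)
        (Finset.univ.filter fun i => ¬ Linked D i r) (fun i hi => (Finset.mem_filter.1 hi).2) (f r)
      refine ⟨d * e, D.mul_mem hd he, fun j => ?_⟩
      rw [Pi.mul_apply, hdj]
      by_cases hjr : c j = r
      · have h1 : e j = f j := by rw [hψ j e he, hjr, her, ← hjr, ← hf j]
        simp [hjr, hrA, h1]
      · have hl : ¬ Linked D j r := fun h => hjr (((hiff _ _).2 h).trans hrr)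
        have h1 : e j = 1 := he1 j (by simp [hl])
        simp [h1, hjr]
    · refine ⟨d, hd, fun j => ?_⟩
      have hjr : c j ≠ r := fun h => hrr (by rw [← h, hcc])
      rw [hdj]
      simp [hjr]

end CfsgLib.Perm.Diagonal
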