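import Mathlib
import Cfsg.Prelude.Def_Transfer
import Cfsg.Agent.Lib.Fusion.GlaubermanThompson
import Cfsg.Agent.Lib.Perm.Normal

/-!
Extremely primitive groups (Mann, Praeger, Seress): the non-abelian socle is simple with trivial
centraliser. The diagonal cases are reduced to a statement about a simple group `T` acted upon, as a
set, by automorphisms and anti-automorphisms containing all inner ones.
-/

open scoped Pointwise
set_option linter.style.haveILetI false
set_option linter.unusedSectionVars false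

namespace CfsgLib.Perm.ExtremelyPrimitive

universe u v w

section Abstract

variable {T : Type u} [Group T] [Finite T] {H : Type v} [Group H]

/-- A map that is a homomorphism or an anti-homomorphism. -/
def HomOrAnti (f : T → T) : Prop :=
  (∀ x y, f (x * y) = f x * f y) ∨ (∀ x y, f (x * y) = f y * f x)

theorem HomOrAnti.map_one {f : T → T} (hf : HomOrAnti f) : f 1 = 1 := by
  rcases hf with h | h <;>
  · have e := h 1 1
    rw [one_mul] at e
    exact mul_eq_left.mp e.symm

theorem HomOrAnti.map_pow {f : T → T} (hf : HomOrAnti f) (x : T) : ∀ n : ℕ, f (x ^ n) = f x ^ n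
  | 0 => by rw [pow_zero, pow_zero, hf.map_one]
  | n + 1 => by
      rcases hf with h | h
      · rw [pow_succ, h, HomOrAnti.map_pow (Or.inl h) x n, ← pow_succ]
      · rw [pow_succ, h, HomOrAnti.map_pow (Or.inr h) x n, ← pow_succ']

theorem HomOrAnti.map_commute {f : T → T} (hf : HomOrAnti f) {x y : T} (h : Commute x y) :
    Commute (f x) (f y) := by
  rcases hf with hm | hm
  · exact (hm x y).symm.trans ((congrArg f h.eq).trans (hm y x))
  · exact (hm y x).symm.trans ((congrArg f h.eq.symm).trans (hm x y))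

theorem HomOrAnti.exists_hom {f : T → T} (hf : HomOrAnti f) (hinj : Function.Injective f) :
    ∃ α : T →* T, Function.Injective α ∧ ∀ U : Subgroup T, f '' (U : Set T) = (U.map α : Set T) := by
  rcases hf with hm | hm
  · exact ⟨MonoidHom.mk' f hm, hinj, fun U => rfl⟩
  · refine ⟨MonoidHom.mk' (fun x => (f x)⁻¹) (fun x y => by simp only [hm, mul_inv_rev]),
      fun x y e => hinj (inv_injective e), fun U => ?_⟩
    have hinv : ∀ x : T, (f x)⁻¹ = f x⁻¹ := fun x => by
      refine inv_eq_of_mul_eq_one_right ?_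
      rw [← hm x⁻¹ x, inv_mul_cancel, HomOrAnti.map_one (Or.inr hm)]
    ext y
    constructor
    · rintro ⟨x, hx, rfl⟩
      refine ⟨x⁻¹, U.inv_mem hx, ?_⟩
      change (f x⁻¹)⁻¹ = f x
      rw [hinv, inv_inv]
    · rintro ⟨x, hx, rfl⟩
      refine ⟨x⁻¹, U.inv_mem hx, ?_⟩
      change f x⁻¹ = (f x)⁻¹
      rw [hinv]

theorem hasNormalPComplement_of_isPGroup {p : ℕ} [Fact p.Prime] {K : Type u} [Group K] [Finite K]
    (h : IsPGroup p K) : Cfsg.HasNormalPComplement p K := by
  obtain ⟨S⟩ := (inferInstance : Nonempty (Sylow p K))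
  have e : (S : Subgroup K) = ⊤ :=
    (S.is_maximal' (h.to_subgroup ⊤) le_top).symm
  refine ⟨S, ⊥, inferInstance, ?_⟩
  rw [e]
  exact Subgroup.isComplement'_bot_top

/-- A finite non-abelian simple group `T` is not acted upon by a group of automorphisms and
anti-automorphisms containing all inner automorphisms in which all point stabilisers (other than
that of the identity) are maximal. -/
theorem false_of_maximal_stabilizers [IsSimpleGroup T] (hna : ¬ IsMulCommutative T)
    (ρ : H →* Equiv.Perm T) (hρ : ∀ h, HomOrAnti (ρ h))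
    (hinner : ∀ u : T, ∃ h : H, ∀ x, ρ h x = u * x * u⁻¹)
    (hmax : ∀ z : T, z ≠ 1 → ∀ K : Subgroup H, (∀ h, ρ h z = z → h ∈ K) →
      (∀ h ∈ K, ρ h z = z) ∨ K = ⊤) : False := by
  classical
  letI : MulAction H T := MulAction.compHom T ρ
  have hsm : ∀ (h : H) (x : T), h • x = ρ h x := fun h x => rfl
  have hcent : ∀ z : T, (∀ u : T, u * z = z * u) → z = 1 := by
    intro z hz
    rcases Subgroup.Normal.eq_bot_or_eq_top (inferInstance : (Subgroup.center T).Normal) with e | e
    · exact Subgroup.mem_bot.mp (e ▸ Subgroup.mem_center_iff.mpr hz)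
    · exact absurd ⟨⟨fun a b => Subgroup.mem_center_iff.mp (e ▸ Subgroup.mem_top b :
        b ∈ Subgroup.center T) a⟩⟩ hna
  have hstab_ne : ∀ z : T, z ≠ 1 → MulAction.stabilizer H z ≠ ⊤ := by
    intro z hz e
    refine hz (hcent z fun u => ?_)
    obtain ⟨h, hh⟩ := hinner u
    have hz' : ρ h z = z := by
      have : h ∈ MulAction.stabilizer H z := e ▸ Subgroup.mem_top h
      exact this
    rw [hh] at hz'
    exact mul_inv_eq_iff_eq_mul.mp hz'
  -- centralisers
  have hCmem : ∀ (z u : T) (h : H), (∀ x, ρ h x = u * x * u⁻¹) →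
      (u ∈ Subgroup.centralizer ({z} : Set T) ↔ h ∈ MulAction.stabilizer H z) := by
    intro z u h hh
    rw [Subgroup.mem_centralizer_singleton_iff, MulAction.mem_stabilizer_iff, hsm, hh,
      mul_inv_eq_iff_eq_mul]
  have hCeq : ∀ x y : T, MulAction.stabilizer H x = MulAction.stabilizer H y →
      Subgroup.centralizer ({x} : Set T) = Subgroup.centralizer ({y} : Set T) := by
    intro x y e
    ext u
    obtain ⟨h, hh⟩ := hinner u
    rw [hCmem x u h hh, hCmem y u h hh, e]
  have hpow : ∀ (x : T) (n : ℕ), x ≠ 1 → x ^ n ≠ 1 →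
      MulAction.stabilizer H x = MulAction.stabilizer H (x ^ n) := by
    intro x n hx hxn
    have hle : MulAction.stabilizer H x ≤ MulAction.stabilizer H (x ^ n) := by
      intro h hh
      rw [MulAction.mem_stabilizer_iff, hsm] at hh ⊢
      rw [(hρ h).map_pow, hh]
    rcases hmax x hx (MulAction.stabilizer H (x ^ n)) (fun h hh => hle hh) with e | e
    · exact le_antisymm hle fun h hh => e h hh
    · exact absurd e (hstab_ne _ hxn)
  have hcop : ∀ x y : T, x ≠ 1 → y ≠ 1 → Commute x y → (orderOf x).Coprime (orderOf y) →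
      Subgroup.centralizer ({x} : Set T) = Subgroup.centralizer ({y} : Set T) := by
    have hone : ∀ x y : T, x ≠ 1 → Commute x y → (orderOf x).Coprime (orderOf y) →
        Subgroup.centralizer ({x * y} : Set T) = Subgroup.centralizer ({x} : Set T) := by
      intro x y hx hxy hco
      obtain ⟨k, hk⟩ := exists_pow_eq_self_of_coprime hco.symm
      have e : (x * y) ^ (orderOf y * k) = x := by
        rw [hxy.mul_pow, pow_mul y, pow_orderOf_eq_one, one_pow, mul_one, pow_mul, hk]
      have hne : x * y ≠ 1 := fun e1 => hx (by rw [← e, e1, one_pow])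
      refine hCeq _ _ ?_
      rw [hpow (x * y) (orderOf y * k) hne (by rw [e]; exact hx), e]
    intro x y hx hy hxy hco
    rw [← hone x y hx hxy hco, ← hone y x hy hxy.symm hco.symm, hxy.eq]
  -- normalisers of invariant subgroups
  have hnorm : ∀ (U : Subgroup T), ¬ U.Normal → ∀ z : T, z ≠ 1 →
      (∀ h, ρ h z = z → ρ h '' (U : Set T) = (U : Set T)) →
      Subgroup.normalizer (U : Set T) ≤ Subgroup.centralizer ({z} : Set T) := by
    intro U hU z hz hinv
    have hconjmem : ∀ (u : T) (h : H), (∀ x, ρ h x = u * x * u⁻¹) →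
        (u ∈ Subgroup.normalizer (U : Set T) ↔ h ∈ MulAction.stabilizer H (U : Set T)) := by
      intro u h hh
      have eS : h • (U : Set T) = (U.map (MulAut.conj u).toMonoidHom : Set T) := by
        rw [← Set.image_smul]
        exact Set.image_congr' fun x => by rw [hsm, hh]; rfl
      rw [MulAction.mem_stabilizer_iff, eS, SetLike.coe_set_eq, Subgroup.mem_normalizer_iff_map_conj_eq]
      exact Iff.rfl
    rcases hmax z hz (MulAction.stabilizer H (U : Set T)) (fun h hh => by
      rw [MulAction.mem_stabilizer_iff, ← Set.image_smul]; exact hinv h hh) with e | e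
    · intro u hu
      obtain ⟨h, hh⟩ := hinner u
      exact (hCmem z u h hh).mpr (e h ((hconjmem u h hh).mp hu))
    · exfalso
      refine hU (Subgroup.normalizer_eq_top_iff.mp (eq_top_iff.mpr fun u _ => ?_))
      obtain ⟨h, hh⟩ := hinner u
      exact (hconjmem u h hh).mpr (e ▸ Subgroup.mem_top h)
  -- an odd prime divisor
  haveI := (inferInstance : Nontrivial T)
  have hnp : ∀ (p : ℕ) [Fact p.Prime], ¬ IsPGroup p T := by
    intro p _ hp
    haveI := hp.center_nontrivial
    obtain ⟨z, hz⟩ := exists_ne (1 : Subgroup.center T)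
    exact hz (Subtype.ext (hcent z (Subgroup.mem_center_iff.mp z.2)))
  obtain ⟨p, hp, hp2, hpd⟩ : ∃ p, p.Prime ∧ p ≠ 2 ∧ p ∣ Nat.card T := by
    by_contra hcon
    push Not at hcon
    haveI : Fact (Nat.Prime 2) := ⟨Nat.prime_two⟩
    refine hnp 2 (IsPGroup.of_card (n := (Nat.card T).primeFactorsList.length) ?_)
    refine Nat.eq_prime_pow_of_unique_prime_dvd Nat.card_pos.ne' fun {d} hd hdd => ?_
    by_contra hne
    exact hcon d hd hne hdd
  haveI : Fact p.Prime := ⟨hp⟩
  obtain ⟨P⟩ := (inferInstance : Nonempty (Sylow p T))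
  have hPne : (P : Subgroup T) ≠ ⊥ := P.ne_bot_of_dvd_card hpd
  haveI : Nontrivial (P : Subgroup T) := (Subgroup.nontrivial_iff_ne_bot _).mpr hPne
  haveI := P.isPGroup'.center_nontrivial
  obtain ⟨z', hz'⟩ := exists_ne (1 : Subgroup.center (P : Subgroup T))
  set z : T := ((z' : (P : Subgroup T)) : T)
  have hzP : z ∈ (P : Subgroup T) := (z' : (P : Subgroup T)).2
  have hz : z ≠ 1 := fun e => hz' (Subtype.ext (Subtype.ext e))
  set C := Subgroup.centralizer ({z} : Set T) with hC
  have hPC : (P : Subgroup T) ≤ C := by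
    intro y hy
    rw [hC, Subgroup.mem_centralizer_singleton_iff]
    exact congrArg Subtype.val (Subgroup.mem_center_iff.mp z'.2 ⟨y, hy⟩)
  have hCne : C ≠ ⊤ := by
    intro e
    exact hz (hcent z fun u => Subgroup.mem_centralizer_singleton_iff.mp
      (e ▸ Subgroup.mem_top u : u ∈ C))
  have hnn : ∀ U : Subgroup T, U ≠ ⊥ → U ≤ C → ¬ U.Normal := by
    intro U hne hle hn
    rcases hn.eq_bot_or_eq_top with e | e
    · exact hne e
    · exact hCne (top_le_iff.mp (e ▸ hle))
  have hCinv : ∀ h, ρ h z = z → ρ h '' (C : Set T) = (C : Set T) := by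
    intro h hh
    refine Set.eq_of_subset_of_ncard_le ?_ ?_ (Set.toFinite _)
    · rintro _ ⟨x, hx, rfl⟩
      rw [SetLike.mem_coe, hC, Subgroup.mem_centralizer_singleton_iff] at hx ⊢
      have := (hρ h).map_commute (show Commute x z from hx)
      rw [hh] at this
      exact this
    · rw [Set.ncard_image_of_injective _ (ρ h).injective]
  have hNC : Subgroup.normalizer (C : Set T) ≤ C :=
    hnorm C (hnn C (fun e => hPne (le_bot_iff.mp (e ▸ hPC))) le_rfl) z hz hCinv
  have hno : ¬ Cfsg.HasNormalPComplement p T := by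
    rintro ⟨S, N, hN, hc⟩
    rcases hN.eq_bot_or_eq_top with e | e
    · subst e
      exact hnp p (IsPGroup.of_equiv S.isPGroup'
        ((MulEquiv.subgroupCongr (Subgroup.isComplement'_bot_left.mp hc)).trans Subgroup.topEquiv))
    · subst e
      exact S.ne_bot_of_dvd_card hpd (Subgroup.isComplement'_top_left.mp hc)
  by_cases hA : IsPGroup p C
  · -- Glauberman–Thompson
    have hCP : C = (P : Subgroup T) := P.is_maximal' hA hPC
    set Z := Cfsg.centerThompsonOf p (P : Subgroup T)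
    let W : CfsgLib.Fusion.GlaubermanThompson.ZFun.{u} p :=
      CfsgLib.Fusion.GlaubermanThompson.zFunFull hp2
    have hZ : Z = W.w (P : Subgroup T) := rfl
    have hZC : Z ≤ C := by rw [hCP, hZ]; exact W.le _
    have hZinv : ∀ h, ρ h z = z → ρ h '' (Z : Set T) = (Z : Set T) := by
      intro h hh
      obtain ⟨α, hα, himg⟩ := (hρ h).exists_hom (ρ h).injective
      have eP : (P : Subgroup T).map α = (P : Subgroup T) := by
        apply SetLike.coe_injective
        rw [← himg, ← hCP]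
        exact hCinv h hh
      rw [himg, SetLike.coe_set_eq, hZ, ← W.map_inj α hα, eP]
    have hN := hnorm Z (hnn Z (hZ ▸ W.ne_bot _ P.isPGroup' hPne) hZC) z hz hZinv
    refine hno (CfsgLib.Fusion.GlaubermanThompson.npc_aux W hp2 _ T rfl P ?_)
    exact hasNormalPComplement_of_isPGroup (hA.to_le hN)
  · -- the Sylow subgroup is central in its normaliser
    obtain ⟨q, hq, hqp, hqd⟩ : ∃ q, q.Prime ∧ q ≠ p ∧ q ∣ Nat.card C := by
      by_contra hcon
      push Not at hcon
      refine hA (IsPGroup.of_card (n := (Nat.card C).primeFactorsList.length) ?_)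
      refine Nat.eq_prime_pow_of_unique_prime_dvd Nat.card_pos.ne' fun {d} hd hdd => ?_
      by_contra hne
      exact hcon d hd hne hdd
    haveI : Fact q.Prime := ⟨hq⟩
    obtain ⟨v, hv⟩ := exists_prime_orderOf_dvd_card' (G := C) q hqd
    have hv' : orderOf (v : T) = q := by rwa [Subgroup.orderOf_coe]
    have hv1 : (v : T) ≠ 1 := fun e => hq.one_lt.ne' (by rw [← hv', e, orderOf_one])
    have hord : ∀ y ∈ (P : Subgroup T), (orderOf y).Coprime q := by
      intro y hy
      obtain ⟨i, hi⟩ := IsPGroup.iff_orderOf.mp P.isPGroup' ⟨y, hy⟩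
      rw [Subgroup.orderOf_mk] at hi
      rw [hi]
      exact (((Nat.coprime_primes hp hq).mpr hqp.symm)).pow_left i
    have hvz : Commute z (v : T) :=
      (Subgroup.mem_centralizer_singleton_iff.mp v.2 : (v : T) * z = z * v).symm
    have hCv : Subgroup.centralizer ({(v : T)} : Set T) = C :=
      (hcop z v hz hv1 hvz (hv' ▸ hord z hzP)).symm
    have hall : ∀ y ∈ (P : Subgroup T), y ≠ 1 → Subgroup.centralizer ({y} : Set T) = C := by
      intro y hy hy1
      have hyv : Commute y (v : T) := by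
        have : y ∈ Subgroup.centralizer ({(v : T)} : Set T) := by rw [hCv]; exact hPC hy
        exact Subgroup.mem_centralizer_singleton_iff.mp this
      rw [hcop y v hy1 hv1 hyv (hv' ▸ hord y hy), hCv]
    have hPN : Subgroup.normalizer ((P : Subgroup T) : Set T) ≤
        Subgroup.centralizer ((P : Subgroup T) : Set T) := by
      intro n hn
      set w := n * z * n⁻¹ with hw
      have hwP : w ∈ (P : Subgroup T) := (Subgroup.mem_normalizer_iff.mp hn z).mp hzP
      have hw1 : w ≠ 1 := fun e => hz (by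
        have := conj_eq_one_iff.mp (hw ▸ e)
        exact this)
      have hnC : n ∈ C := by
        apply hNC
        rw [Subgroup.mem_normalizer_iff]
        intro x
        conv_rhs => rw [← hall w hwP hw1, Subgroup.mem_centralizer_singleton_iff]
        rw [hC, Subgroup.mem_centralizer_singleton_iff, hw, conj_mul, conj_mul]
        exact ⟨fun e => by rw [e], fun e => by simpa using e⟩
      rw [Subgroup.mem_centralizer_iff]
      intro y hy
      by_cases hy1 : y = 1
      · rw [hy1, one_mul, mul_one]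
      have : n ∈ Subgroup.centralizer ({y} : Set T) := by rw [hall y hy hy1]; exact hnC
      exact (Subgroup.mem_centralizer_singleton_iff.mp this).symm
    exact hno ⟨P, _, inferInstance, MonoidHom.ker_transferSylow_isComplement' P hPN⟩

end Abstract

section Glue

open MulAction

variable {G : Type u} [Group G] [Finite G] {Ω : Type w} [MulAction G Ω]

/-- A simple non-abelian subgroup regular on `Ω` whose conjugates under a point stabiliser either
coincide with it or centralise it, and all whose inner automorphisms come from the stabiliser. -/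
theorem false_of_regular (a : Ω) (T : Subgroup G) [IsSimpleGroup T] (hna : ¬ IsMulCommutative T)
    (hinj : ∀ t ∈ T, t • a = a → t = 1) (hsurj : ∀ x : Ω, ∃ t ∈ T, t • a = x)
    (hdich : ∀ h ∈ stabilizer G a, (∀ t ∈ T, h * t * h⁻¹ ∈ T) ∨
      (∀ t ∈ T, ∀ u ∈ T, Commute (h * t * h⁻¹) u))
    (hinner : ∀ u ∈ T, ∃ h ∈ stabilizer G a, ∀ x ∈ T, h * x * h⁻¹ = u * x * u⁻¹)
    (hmax : ∀ x : Ω, x ≠ a → ∀ K : Subgroup G, K ≤ stabilizer G a →
      (∀ h ∈ stabilizer G a, h • x = x → h ∈ K) →
      (∀ h ∈ K, h • x = x) ∨ K = stabilizer G a) : False := by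
  have hinj' : ∀ t u : T, (t : G) • a = (u : G) • a → t = u := by
    intro t u e
    have h1 := hinj _ (T.mul_mem (T.inv_mem u.2) t.2) (by rw [mul_smul, e, inv_smul_smul])
    exact (Subtype.ext (inv_mul_eq_one.mp h1)).symm
  let e : T ≃ Ω := Equiv.ofBijective (fun t : T => (t : G) • a)
    ⟨hinj', fun x => by obtain ⟨t, ht, hx⟩ := hsurj x; exact ⟨⟨t, ht⟩, hx⟩⟩
  let ρ : stabilizer G a →* Equiv.Perm T :=
    { toFun := fun h => e.trans ((toPerm (h : G) : Equiv.Perm Ω).trans e.symm)
      map_one' := by ext t; simp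
      map_mul' := fun h k => by ext t; simp [mul_smul] }
  have hρ : ∀ (h : stabilizer G a) (t : T), ((ρ h t : T) : G) • a = ((h : G) * t * (h : G)⁻¹) • a := by
    intro h t
    have e1 : ((ρ h t : T) : G) • a = (h : G) • (t : G) • a := by
      change e (e.symm ((h : G) • e t)) = _
      rw [Equiv.apply_symm_apply]
      rfl
    rw [e1, mul_smul, mul_smul]
    congr 2
    exact (inv_smul_eq_iff.mpr (show a = (h : G) • a from h.2.symm)).symm
  refine false_of_maximal_stabilizers hna ρ (fun h => ?_) (fun u => ?_) (fun z hz K hK => ?_)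
  · rcases hdich h h.2 with hn | hc
    · left
      have hval : ∀ t : T, ((ρ h t : T) : G) = (h : G) * t * (h : G)⁻¹ := fun t =>
        congrArg Subtype.val (hinj' (ρ h t) ⟨_, hn t t.2⟩ (hρ h t))
      intro x y
      apply Subtype.ext
      rw [Subgroup.coe_mul, hval, hval, hval, Subgroup.coe_mul]
      group
    · right
      intro x y
      refine hinj' _ _ ?_
      have e1 : ((h : G) * ((x * y : T) : G) * (h : G)⁻¹) • a =
          ((h : G) * x * (h : G)⁻¹) • ((h : G) * y * (h : G)⁻¹) • a := by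
        rw [← mul_smul, Subgroup.coe_mul]; congr 1; group
      rw [hρ, e1, ← hρ h y, ← mul_smul, (hc x x.2 _ (ρ h y).2).eq, mul_smul, ← hρ h x, ← mul_smul]
      rfl
  · obtain ⟨h, hh, hx⟩ := hinner u u.2
    refine ⟨⟨h, hh⟩, fun x => hinj' _ _ ?_⟩
    rw [hρ, Subgroup.coe_mul, Subgroup.coe_mul, Subgroup.coe_inv]
    exact congrArg (· • a) (hx x x.2)
  · have hfix : ∀ h : stabilizer G a, (h : G) • ((z : G) • a) = (z : G) • a ↔ ρ h z = z := by
      intro h
      have e1 : ((ρ h z : T) : G) • a = (h : G) • (z : G) • a := by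
        change e (e.symm ((h : G) • e z)) = _
        rw [Equiv.apply_symm_apply]
        rfl
      rw [← e1]
      exact ⟨fun e => hinj' _ _ e, fun e => by rw [e]⟩
    rcases hmax ((z : G) • a) (fun e => hz (Subtype.ext (hinj z z.2 e)))
        (K.map (stabilizer G a).subtype) (Subgroup.map_subtype_le K)
        (fun h hh hx => ⟨⟨h, hh⟩, hK _ ((hfix ⟨h, hh⟩).mp hx), rfl⟩) with r | r
    · exact Or.inl fun h hh => (hfix h).mp (r _ ⟨h, hh, rfl⟩)
    · right
      rw [eq_top_iff]
      intro h _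
      obtain ⟨k, hk, hkh⟩ : (h : G) ∈ K.map (stabilizer G a).subtype := r.symm ▸ h.2
      rwa [← Subtype.ext hkh]

/-- The theorem of Mann, Praeger and Seress. -/
theorem affine_or_almost_simple [FaithfulSMul G Ω] [Nontrivial Ω] (hprim : IsPreprimitive G Ω)
    (hep : ∀ (α : Ω) (ω : Ω), IsPreprimitive (stabilizer G α) (orbit (stabilizer G α) ω)) :
    (∃ N : Subgroup G, N.Normal ∧ N ≠ ⊥ ∧ IsMulCommutative N ∧ ∀ ω : Ω, stabilizer N ω = ⊥) ∨
    (∃ T : Subgroup G, T.Normal ∧ IsSimpleGroup T ∧ ¬ IsMulCommutative T ∧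
      Subgroup.centralizer (T : Set G) = ⊥) := by
  classical
  haveI := hprim
  by_cases hab : ∃ N : Subgroup G, N.Normal ∧ N ≠ ⊥ ∧ IsMulCommutative N
  · obtain ⟨N, hN, hne, hc⟩ := hab
    haveI := hN
    haveI := CfsgLib.Perm.Normal.isPretransitive_normal (Ω := Ω) N hne
    exact Or.inl ⟨N, hN, hne, hc, fun ω => CfsgLib.Perm.Normal.stabilizer_eq_bot_of_comm N hc ω⟩
  right
  obtain ⟨a, b, hab'⟩ := exists_pair_ne Ω
  set H := stabilizer G a with hH
  have hco : IsCoatom H := IsPreprimitive.isCoatom_stabilizer_of_isPreprimitive G a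
  -- the point stabiliser is non-trivial
  have hHne : H ≠ ⊥ := by
    intro e
    obtain ⟨g, hg⟩ := exists_smul_eq G a b
    have hg1 : g ≠ 1 := fun e1 => hab' (by rw [← hg, e1, one_smul])
    have hz : Subgroup.zpowers g = ⊤ := by
      refine hco.2 _ ?_
      rw [e]
      exact bot_lt_iff_ne_bot.mpr (by simpa [Subgroup.zpowers_eq_bot] using hg1)
    refine hab ⟨⊤, inferInstance, ?_, ?_⟩
    · exact fun e1 => hg1 (Subgroup.mem_bot.mp (e1 ▸ Subgroup.mem_top g))
    · refine ⟨⟨fun x y => Subtype.ext ?_⟩⟩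
      obtain ⟨i, hi⟩ := Subgroup.mem_zpowers_iff.mp (show (x : G) ∈ Subgroup.zpowers g by rw [hz]; trivial)
      obtain ⟨j, hj⟩ := Subgroup.mem_zpowers_iff.mp (show (y : G) ∈ Subgroup.zpowers g by rw [hz]; trivial)
      rw [Subgroup.coe_mul, Subgroup.coe_mul, ← hi, ← hj, ← zpow_add, ← zpow_add, add_comm]
  -- fixed points of the point stabiliser
  have hfix : ∀ x : Ω, (∀ h ∈ H, h • x = x) → x = a := by
    intro x hx
    obtain ⟨g, rfl⟩ := exists_smul_eq G a x
    by_contra hne
    have hgH : g ∉ H := fun h => hne h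
    have hle : H ≤ H.map (MulAut.conj g).toMonoidHom := by
      intro h hh
      refine ⟨g⁻¹ * h * g, ?_, ?_⟩
      · rw [SetLike.mem_coe, hH, mem_stabilizer_iff, mul_smul, mul_smul, hx h hh, inv_smul_smul]
      · show g * (g⁻¹ * h * g) * g⁻¹ = h
        group
    have hN : g ∈ Subgroup.normalizer (H : Set G) :=
      Subgroup.mem_normalizer_iff_map_conj_eq.mpr (Subgroup.eq_of_le_of_card_ge hle
        (Subgroup.card_map_of_injective (MulAut.conj g).injective).le).symm
    have hnormal : H.Normal := Subgroup.normalizer_eq_top_iff.mp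
      (hco.2 _ (lt_of_le_of_ne Subgroup.le_normalizer fun e => hgH (e.symm ▸ hN)))
    haveI := hnormal
    haveI := CfsgLib.Perm.Normal.isPretransitive_normal (Ω := Ω) H hHne
    obtain ⟨h, hh⟩ := exists_smul_eq H a b
    exact hab' (h.2.symm.trans hh)
  -- maximality of the two-point stabilisers
  have hmax : ∀ x : Ω, x ≠ a → ∀ K : Subgroup G, K ≤ H →
      (∀ h ∈ H, h • x = x → h ∈ K) → (∀ h ∈ K, h • x = x) ∨ K = H := by
    intro x hx K hKH hK
    haveI : Nontrivial (orbit H x) := by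
      obtain ⟨h, hh⟩ : ∃ h ∈ H, h • x ≠ x := by
        by_contra hcon
        push Not at hcon
        exact hx (hfix x hcon)
      exact nontrivial_of_ne (⟨x, mem_orbit_self x⟩ : orbit H x) ⟨h • x, ⟨⟨h, hh.1⟩, rfl⟩⟩
        fun e => hh.2 (congrArg Subtype.val e).symm
    haveI : IsPreprimitive H (orbit H x) := hep a x
    have hc : IsCoatom (stabilizer H (⟨x, mem_orbit_self x⟩ : orbit H x)) :=
      IsPreprimitive.isCoatom_stabilizer_of_isPreprimitive _ _
    rcases hc.le_iff.mp (show stabilizer H (⟨x, mem_orbit_self x⟩ : orbit H x) ≤ K.subgroupOf H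
        from fun h hh => hK h h.2 (congrArg Subtype.val hh)) with r | r
    · exact Or.inr (le_antisymm hKH (Subgroup.subgroupOf_eq_top.mp r))
    · refine Or.inl fun h hh => ?_
      have : (⟨h, hKH hh⟩ : H) ∈ stabilizer H (⟨x, mem_orbit_self x⟩ : orbit H x) := r ▸ hh
      exact congrArg Subtype.val this
  have hHsm : ∀ h ∈ H, ∀ g : G, (h * g * h⁻¹) • a = h • g • a := by
    intro h hh g
    rw [mul_smul, mul_smul, inv_smul_eq_iff.mpr (show a = h • a from hh.symm)]
  -- a minimal normal subgroup and one of its simple factors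
  obtain ⟨M, ⟨hM, hMne⟩, hMmin'⟩ := Set.exists_min_image {X : Subgroup G | X.Normal ∧ X ≠ ⊥}
    (fun X => Nat.card X) (Set.toFinite _)
    ⟨⊤, inferInstance, fun e => hHne (le_bot_iff.mp (e ▸ le_top))⟩
  haveI := hM
  have hMmin : ∀ X : Subgroup G, X.Normal → X ≤ M → X ≠ ⊥ → X = M := fun X hX hle hne =>
    Subgroup.eq_of_le_of_card_ge hle (hMmin' X ⟨hX, hne⟩)
  have hMc : ¬ IsMulCommutative M := fun h => hab ⟨M, hM, hMne, h⟩
  obtain ⟨T, ⟨hTM, hTne, hTn⟩, hTmin'⟩ := Set.exists_min_image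
    {X : Subgroup G | X ≤ M ∧ X ≠ ⊥ ∧ ∀ m ∈ M, ∀ x ∈ X, m * x * m⁻¹ ∈ X}
    (fun X => Nat.card X) (Set.toFinite _)
    ⟨M, le_rfl, hMne, fun m hm x hx => M.mul_mem (M.mul_mem hm hx) (M.inv_mem hm)⟩
  have hTmin : ∀ X : Subgroup G, X ≤ T → X ≠ ⊥ → (∀ m ∈ M, ∀ x ∈ X, m * x * m⁻¹ ∈ X) → X = T :=
    fun X hle hne hn => Subgroup.eq_of_le_of_card_ge hle (hTmin' X ⟨hle.trans hTM, hne, hn⟩)
  have hMtrans : IsPretransitive M Ω := CfsgLib.Perm.Normal.isPretransitive_normal M hMne
  have hMH : ∀ g : G, ∃ m ∈ M, ∃ h ∈ H, g = m * h := by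
    intro g
    obtain ⟨m, hm⟩ := exists_smul_eq M a (g • a)
    refine ⟨m, m.2, (m : G)⁻¹ * g, ?_, by group⟩
    rw [hH, mem_stabilizer_iff, mul_smul, inv_smul_eq_iff]
    exact hm.symm
  have hHM : ∀ g : G, ∃ h ∈ H, ∃ m ∈ M, g = h * m := by
    intro g
    obtain ⟨m, hm, h, hh, rfl⟩ := hMH g
    exact ⟨h, hh, h⁻¹ * m * h, by simpa using hM.conj_mem m hm h⁻¹, by group⟩
  set K := M ⊓ Subgroup.centralizer (T : Set G) with hK
  have hKc : ∀ k ∈ K, ∀ t ∈ T, t * k = k * t := fun k hk t ht =>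
    Subgroup.mem_centralizer_iff.mp hk.2 t ht
  -- conjugates of `T` either equal it or centralise it
  have hconjn : ∀ g : G, (T.map (MulAut.conj g).toMonoidHom) ≤ M ∧
      ∀ m ∈ M, ∀ x ∈ T.map (MulAut.conj g).toMonoidHom, m * x * m⁻¹ ∈ T.map (MulAut.conj g).toMonoidHom := by
    intro g
    refine ⟨?_, ?_⟩
    · rintro _ ⟨x, hx, rfl⟩
      exact hM.conj_mem x (hTM hx) g
    · rintro m hm _ ⟨x, hx, rfl⟩
      refine ⟨(g⁻¹ * m * g) * x * (g⁻¹ * m * g)⁻¹, hTn _ (by simpa using hM.conj_mem m hm g⁻¹) x hx, ?_⟩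
      show g * _ * g⁻¹ = m * (g * x * g⁻¹) * m⁻¹
      group
  have hfac : ∀ g : G, (∀ x ∈ T, g * x * g⁻¹ ∈ T) ∨ (∀ x ∈ T, g * x * g⁻¹ ∈ K) := by
    intro g
    set T' := T.map (MulAut.conj g).toMonoidHom with hT'
    by_cases hi : T ⊓ T' = ⊥
    · right
      intro x hx
      refine ⟨(hconjn g).1 ⟨x, hx, rfl⟩, Subgroup.mem_centralizer_iff.mpr fun t ht => ?_⟩
      set s := g * x * g⁻¹
      have hs : s ∈ T' := ⟨x, hx, rfl⟩
      have h1 : t * s * t⁻¹ * s⁻¹ ∈ T :=
        (show t * (s * t⁻¹ * s⁻¹) = t * s * t⁻¹ * s⁻¹ by group) ▸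
          T.mul_mem ht (hTn s ((hconjn g).1 hs) t⁻¹ (T.inv_mem ht))
      have h2 : t * s * t⁻¹ * s⁻¹ ∈ T' :=
        T'.mul_mem ((hconjn g).2 t (hTM ht) s hs) (T'.inv_mem hs)
      have h3 : t * s * t⁻¹ * s⁻¹ = 1 := Subgroup.mem_bot.mp (hi ▸ ⟨h1, h2⟩)
      calc t * s = (t * s * t⁻¹ * s⁻¹) * (s * t) := by group
        _ = s * t := by rw [h3, one_mul]
    · left
      intro x hx
      have e := hTmin (T ⊓ T') inf_le_left hi (fun m hm y hy => ⟨hTn m hm y hy.1, (hconjn g).2 m hm y hy.2⟩)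
      have e2 : T = T' := Subgroup.eq_of_le_of_card_ge (inf_eq_left.mp e)
        (Subgroup.card_map_of_injective (MulAut.conj g).injective).le
      have hxs : g * x * g⁻¹ ∈ T' := ⟨x, hx, rfl⟩
      rwa [← e2] at hxs
  have hclos : ∀ S : Subgroup G, (∀ g : G, ∀ x ∈ T, g * x * g⁻¹ ∈ S) → M ≤ S := by
    intro S hS
    have e : Subgroup.normalClosure (T : Set G) = M := hMmin _ Subgroup.normalClosure_normal
      (Subgroup.normalClosure_le_normal hTM)
      (fun e => hTne (le_bot_iff.mp (e ▸ Subgroup.subset_normalClosure)))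
    rw [← e]
    refine (Subgroup.closure_le S).mpr fun y hy => ?_
    obtain ⟨x, hx, hxy⟩ := Group.mem_conjugatesOfSet_iff.mp hy
    obtain ⟨g, rfl⟩ := isConj_iff.mp hxy
    exact hS g x hx
  have hTna : ¬ IsMulCommutative T := by
    intro hc
    refine hMc ⟨⟨fun x y => Subtype.ext ?_⟩⟩
    have h1 : ∀ g g' : G, ∀ x ∈ T, ∀ y ∈ T, Commute (g * x * g⁻¹) (g' * y * g'⁻¹) := by
      intro g g' x hx y hy
      have h0 : ∀ k : G, ∀ z ∈ T, Commute x (k * z * k⁻¹) := by
        intro k z hz
        rcases hfac k with hk | hk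
        · exact congrArg Subtype.val (hc.1.comm ⟨x, hx⟩ ⟨_, hk z hz⟩)
        · exact hKc _ (hk z hz) x hx
      have h2 := h0 (g⁻¹ * g') y hy
      have h3 := h2.map (MulAut.conj g).toMonoidHom
      have e : (MulAut.conj g).toMonoidHom (g⁻¹ * g' * y * (g⁻¹ * g')⁻¹) = g' * y * g'⁻¹ := by
        show g * _ * g⁻¹ = _
        group
      rw [e] at h3
      exact h3
    have h2 : ∀ g : G, ∀ x ∈ T, M ≤ Subgroup.centralizer {g * x * g⁻¹} := fun g x hx =>
      hclos _ fun g' y hy => Subgroup.mem_centralizer_singleton_iff.mpr (h1 g' g y hy x hx)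
    have h3 : M ≤ Subgroup.centralizer (M : Set G) := hclos _ fun g x hx =>
      Subgroup.mem_centralizer_iff.mpr fun m hm => Subgroup.mem_centralizer_singleton_iff.mp (h2 g x hx hm)
    exact Subgroup.mem_centralizer_iff.mp (h3 y.2) x x.2
  have hTK : ∀ x, x ∈ T → x ∈ K → x = 1 := by
    intro x hxT hxK
    by_contra hx
    have e := hTmin (T ⊓ K) inf_le_left
      (fun e => hx (Subgroup.mem_bot.mp (e ▸ ⟨hxT, hxK⟩)))
      (fun m hm y hy => ⟨hTn m hm y hy.1, M.mul_mem (M.mul_mem hm hy.2.1) (M.inv_mem hm),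
        Subgroup.mem_centralizer_iff.mpr fun t ht => by
          have h1 := hKc y hy.2 _ (hTn m⁻¹ (M.inv_mem hm) t ht)
          rw [inv_inv] at h1
          calc t * (m * y * m⁻¹) = m * ((m⁻¹ * t * m) * y) * m⁻¹ := by group
            _ = m * (y * (m⁻¹ * t * m)) * m⁻¹ := by rw [h1]
            _ = m * y * m⁻¹ * t := by group⟩)
    exact hTna ⟨⟨fun u v => Subtype.ext (hKc v (inf_eq_left.mp e v.2) u u.2)⟩⟩
  have hdec : ∀ m ∈ M, ∃ t ∈ T, ∃ k ∈ K, m = t * k := by
    intro m hm
    let f := MonoidHom.noncommCoprod T.subtype K.subtype (fun t k => hKc k k.2 t t.2)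
    have hle : M ≤ f.range := hclos _ fun g x hx => by
      rcases hfac g with hg | hg
      · exact ⟨(⟨_, hg x hx⟩, 1), mul_one _⟩
      · exact ⟨(1, ⟨_, hg x hx⟩), one_mul _⟩
    obtain ⟨⟨t, k⟩, htk⟩ := hle hm
    exact ⟨t, t.2, k, k.2, htk.symm⟩
  have huniq : ∀ t ∈ T, ∀ t' ∈ T, ∀ k ∈ K, ∀ k' ∈ K, t * k = t' * k' → t = t' := by
    intro t ht t' ht' k hk k' hk' e
    have h1 : t'⁻¹ * t = k' * k⁻¹ := by
      rw [eq_mul_inv_iff_mul_eq, mul_assoc, e, inv_mul_cancel_left]
    exact (inv_mul_eq_one.mp (hTK _ (T.mul_mem (T.inv_mem ht') ht)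
      (h1 ▸ K.mul_mem hk' (K.inv_mem hk)))).symm
  haveI : IsSimpleGroup T := by
    haveI : Nontrivial T := (Subgroup.nontrivial_iff_ne_bot T).mpr hTne
    refine ⟨fun X hX => ?_⟩
    by_cases hXb : X = ⊥
    · exact Or.inl hXb
    right
    have e := hTmin (X.map T.subtype) (Subgroup.map_subtype_le X)
      (by simpa [Subgroup.map_eq_bot_iff_of_injective _ T.subtype_injective] using hXb) (by
        rintro m hm _ ⟨x, hx, rfl⟩
        obtain ⟨t, ht, k, hk, rfl⟩ := hdec m hm
        refine ⟨⟨t, ht⟩ * x * ⟨t, ht⟩⁻¹, hX.conj_mem x hx _, ?_⟩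
        show t * (x : G) * t⁻¹ = t * k * (x : G) * (t * k)⁻¹
        have hx' : t * (k * (x : G) * k⁻¹) * t⁻¹ = t * k * (x : G) * (t * k)⁻¹ := by group
        rw [← hx', ← hKc k hk x x.2, mul_inv_cancel_right])
    rw [eq_top_iff]
    intro t _
    obtain ⟨x, hx, hxt⟩ : (t : G) ∈ X.map T.subtype := by rw [e]; exact t.2
    rwa [← Subtype.ext hxt]
  have hTc : ∀ z ∈ T, (∀ t ∈ T, t * z = z * t) → z = 1 := fun z hz hc =>
    hTK z hz ⟨hTM hz, Subgroup.mem_centralizer_iff.mpr hc⟩
  by_cases hTnormal : T.Normal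
  · -- one simple factor
    have hTeq : T = M := hMmin T hTnormal hTM hTne
    by_cases hC : Subgroup.centralizer (T : Set G) = ⊥
    · exact ⟨T, hTnormal, inferInstance, hTna, hC⟩
    exfalso
    haveI := hTnormal
    haveI := CfsgLib.Perm.Normal.isPretransitive_normal (Ω := Ω) (Subgroup.centralizer (T : Set G)) hC
    have htr : ∀ x : Ω, ∃ t ∈ T, t • a = x := fun x => by
      obtain ⟨m, hm⟩ := exists_smul_eq M a x
      exact ⟨m, hTeq ▸ m.2, hm⟩
    refine false_of_regular a T hTna (fun t ht hta => ?_) htr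
      (fun h _ => Or.inl fun t ht => hTnormal.conj_mem t ht h) (fun u hu => ?_) hmax
    · refine eq_of_smul_eq_smul (α := Ω) fun x => ?_
      obtain ⟨c, hc⟩ := exists_smul_eq (Subgroup.centralizer (T : Set G)) a x
      rw [one_smul, ← hc]
      change t • (c : G) • a = (c : G) • a
      rw [← mul_smul, Subgroup.mem_centralizer_iff.mp c.2 t ht, mul_smul, hta]
    · obtain ⟨c, hc⟩ := exists_smul_eq (Subgroup.centralizer (T : Set G)) a (u⁻¹ • a)
      refine ⟨u * (c : G), ?_, fun x hx => ?_⟩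
      · rw [mem_stabilizer_iff, mul_smul]
        exact (smul_eq_iff_eq_inv_smul u).mpr hc
      · have e : (c : G) * x * (c : G)⁻¹ = x := by
          rw [← Subgroup.mem_centralizer_iff.mp c.2 x hx, mul_inv_cancel_right]
        calc u * (c : G) * x * (u * (c : G))⁻¹ = u * ((c : G) * x * (c : G)⁻¹) * u⁻¹ := by group
          _ = u * x * u⁻¹ := by rw [e]
  exfalso
  -- several simple factors
  set N1 := Subgroup.normalizer (T : Set G) with hN1
  have hN1mem : ∀ g : G, (∀ x ∈ T, g * x * g⁻¹ ∈ T) → g ∈ N1 := by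
    intro g hg
    refine Subgroup.mem_normalizer_iff_map_conj_eq.mpr (Subgroup.eq_of_le_of_card_ge ?_
      (Subgroup.card_map_of_injective (MulAut.conj g).injective).symm.le)
    rintro _ ⟨x, hx, rfl⟩
    exact hg x hx
  have hN1out : ∀ g : G, g ∉ N1 → ∀ x ∈ T, g * x * g⁻¹ ∈ K := fun g hg =>
    (hfac g).resolve_left (fun h => hg (hN1mem g h))
  have hMN1 : M ≤ N1 := fun m hm => hN1mem m (hTn m hm)
  have hH1 : ¬ H ≤ N1 := by
    intro hle
    refine hTnormal (Subgroup.normalizer_eq_top_iff.mp (eq_top_iff.mpr fun g _ => ?_))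
    obtain ⟨m, hm, h, hh, rfl⟩ := hMH g
    exact N1.mul_mem (hMN1 hm) (hle hh)
  have hH1ne : H ⊓ N1 ≠ H := fun e => hH1 (inf_eq_left.mp e)
  set D := M ⊓ H with hD
  by_cases hDbot : D = ⊥
  · -- regular minimal normal subgroup
    have hreg : ∀ m ∈ M, m • a = a → m = 1 := fun m hm hma =>
      Subgroup.mem_bot.mp (hDbot ▸ ⟨hm, hma⟩)
    have hstab : ∀ m ∈ M, ∀ h ∈ H, h • m • a = m • a → h * m * h⁻¹ = m := by
      intro m hm h hh e
      have h1 := hreg _ (M.mul_mem (M.inv_mem hm) (hM.conj_mem m hm h))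
        (by rw [mul_smul, hHsm h hh, e, inv_smul_smul])
      exact (inv_mul_eq_one.mp h1).symm
    have hcen : ∀ t ∈ T, ∀ h ∈ H, h ∈ N1 → h * t * h⁻¹ = t := by
      intro t ht h hh hn
      by_cases ht1 : t = 1
      · rw [ht1, mul_one, mul_inv_cancel]
      rcases hmax (t • a) (fun e => ht1 (hreg t (hTM ht) e)) (H ⊓ N1) inf_le_left (fun k hk hkx => by
        refine ⟨hk, ?_⟩
        by_contra hkn
        have := hN1out k hkn t ht
        rw [hstab t (hTM ht) k hk hkx] at this
        exact ht1 (hTK t ht this)) with r | r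
      · exact hstab t (hTM ht) h hh (r h ⟨hh, hn⟩)
      · exact absurd r hH1ne
    obtain ⟨t, htT, ht1⟩ : ∃ t ∈ T, t ≠ 1 := by
      obtain ⟨⟨t, ht⟩, h1⟩ := T.ne_bot_iff_exists_ne_one.mp hTne
      exact ⟨t, ht, fun e => h1 (Subtype.ext e)⟩
    let O : Finset G := (Set.toFinite (Set.range fun h : H => (h : G) * t * (h : G)⁻¹)).toFinset
    have hO : ∀ s, s ∈ O ↔ ∃ h ∈ H, h * t * h⁻¹ = s := by
      intro s
      simp [O]
    have hOM : ∀ s ∈ O, s ∈ M := by
      intro s hs
      obtain ⟨h, -, rfl⟩ := (hO s).mp hs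
      exact hM.conj_mem t (hTM htT) h
    have hOK : ∀ s ∈ O, s ≠ t → s ∈ K := by
      intro s hs hne
      obtain ⟨h, hh, rfl⟩ := (hO s).mp hs
      exact hN1out h (fun hn => hne (hcen t htT h hh hn)) t htT
    have hconjO : ∀ h ∈ H, O.image (fun s => h * s * h⁻¹) = O := by
      intro h hh
      refine Finset.eq_of_subset_of_card_le (fun y hy => ?_)
        (Finset.card_image_of_injective _ fun x y e => by simpa using e).ge
      obtain ⟨s, hs, rfl⟩ := Finset.mem_image.mp hy
      obtain ⟨k, hk, rfl⟩ := (hO s).mp hs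
      exact (hO _).mpr ⟨h * k, H.mul_mem hh hk, by group⟩
    have hcomm : (O : Set G).Pairwise (Function.onFun Commute id) := by
      intro x hx y hy hne
      obtain ⟨h, hh, rfl⟩ := (hO x).mp hx
      obtain ⟨k, hk, rfl⟩ := (hO y).mp hy
      have hn : h⁻¹ * k ∉ N1 := by
        intro hn
        have := hcen t htT _ (H.mul_mem (H.inv_mem hh) hk) hn
        refine hne ?_
        show h * t * h⁻¹ = k * t * k⁻¹
        nth_rw 1 [← this]
        group
      have h1 : Commute t (h⁻¹ * k * t * (h⁻¹ * k)⁻¹) := hKc _ (hN1out _ hn t htT) t htT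
      have h2 := h1.map (MulAut.conj h).toMonoidHom
      have e : (MulAut.conj h).toMonoidHom (h⁻¹ * k * t * (h⁻¹ * k)⁻¹) = k * t * k⁻¹ := by
        show h * _ * h⁻¹ = _
        group
      rw [e] at h2
      exact h2
    set m := O.noncommProd id hcomm with hm
    have htO : t ∈ O := (hO t).mpr ⟨1, H.one_mem, by group⟩
    have hrest : (O.erase t).noncommProd id (hcomm.mono (Finset.coe_subset.mpr (O.erase_subset t))) ∈ K :=
      Subgroup.noncommProd_mem K _ fun s hs => hOK s (Finset.mem_of_mem_erase hs) (Finset.ne_of_mem_erase hs)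
    have hmeq : m = t * (O.erase t).noncommProd id (hcomm.mono (Finset.coe_subset.mpr (O.erase_subset t))) :=
      (Finset.mul_noncommProd_erase O htO id hcomm).symm
    have hmM : m ∈ M := Subgroup.noncommProd_mem M _ fun s hs => hOM s hs
    have hmfix : ∀ h ∈ H, h • m • a = m • a := by
      intro h hh
      rw [← hHsm h hh]
      congr 1
      change (MulAut.conj h).toMonoidHom m = m
      rw [hm, Finset.map_noncommProd]
      have hinj : Function.Injective (fun s : G => h * s * h⁻¹) := fun x y e => by simpa using e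
      have hv : O.val.map (fun s => h * s * h⁻¹) = O.val := by
        have := congrArg Finset.val (hconjO h hh)
        rwa [Finset.image_val_of_injOn hinj.injOn] at this
      simp only [Finset.noncommProd]
      congr 1
      rw [Multiset.map_id]
      exact hv
    have hm1 : m = 1 := hreg m hmM (hfix _ hmfix)
    refine ht1 (hTK t htT ?_)
    rw [hmeq, mul_eq_one_iff_eq_inv] at hm1
    exact hm1 ▸ K.inv_mem hrest
  · -- non-regular minimal normal subgroup
    have hDn : ∀ h ∈ H, ∀ d ∈ D, h * d * h⁻¹ ∈ D := fun h hh d hd =>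
      ⟨hM.conj_mem d hd.1 h, H.mul_mem (H.mul_mem hh hd.2) (H.inv_mem hh)⟩
    have hmove : ∀ t ∈ T, ∀ h ∈ H, h • t • a = t • a → t⁻¹ * (h * t * h⁻¹) ∈ D := by
      intro t ht h hh e
      refine ⟨M.mul_mem (M.inv_mem (hTM ht)) (hM.conj_mem t (hTM ht) h), ?_⟩
      show (t⁻¹ * (h * t * h⁻¹)) • a = a
      rw [mul_smul, hHsm h hh, e, inv_smul_smul]
    let R : Subgroup G :=
      { carrier := {t | t ∈ T ∧ ∃ k ∈ K, t * k ∈ D}
        one_mem' := ⟨T.one_mem, 1, K.one_mem, by rw [mul_one]; exact D.one_mem⟩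
        mul_mem' := fun {x y} ⟨hx, k, hk, hxk⟩ ⟨hy, l, hl, hyl⟩ => ⟨T.mul_mem hx hy, k * l, K.mul_mem hk hl, by
          have : x * y * (k * l) = (x * k) * (y * l) := by
            rw [mul_assoc, ← mul_assoc y, hKc k hk y hy]; group
          rw [this]; exact D.mul_mem hxk hyl⟩
        inv_mem' := fun {x} ⟨hx, k, hk, hxk⟩ => ⟨T.inv_mem hx, k⁻¹, K.inv_mem hk, by
          have : x⁻¹ * k⁻¹ = (x * k)⁻¹ := by rw [hKc k hk x hx, mul_inv_rev]
          rw [this]; exact D.inv_mem hxk⟩ }
    have hRT : R ≤ T := fun x hx => hx.1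
    have hRmem : ∀ t ∈ T, ∀ k ∈ K, t * k ∈ D → t ∈ R := fun t ht k hk h => ⟨ht, k, hk, h⟩
    by_cases hRtop : R = T
    · -- diagonal case
      have hproj : ∀ u ∈ T, ∃ k ∈ K, u * k ∈ D := fun u hu => (hRtop.symm ▸ hu : u ∈ R).2
      have hconjd : ∀ u ∈ T, ∀ k ∈ K, ∀ x ∈ T, (u * k) * x * (u * k)⁻¹ = u * x * u⁻¹ := by
        intro u _ k hk x hx
        calc (u * k) * x * (u * k)⁻¹ = u * (k * x) * k⁻¹ * u⁻¹ := by group
          _ = u * x * u⁻¹ := by rw [← hKc k hk x hx]; group
      have hDT : ∀ x, x ∈ D → x ∈ T → x = 1 := by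
        intro x hxD hxT
        by_contra hx
        have e := hTmin (D ⊓ T) inf_le_right (fun e => hx (Subgroup.mem_bot.mp (e ▸ ⟨hxD, hxT⟩))) (by
          intro m hm y hy
          refine ⟨?_, hTn m hm y hy.2⟩
          obtain ⟨u, hu, k, hk, rfl⟩ := hdec m hm
          obtain ⟨l, hl, hd⟩ := hproj u hu
          rw [hconjd u hu k hk y hy.2, ← hconjd u hu l hl y hy.2]
          exact D.mul_mem (D.mul_mem hd hy.1) (D.inv_mem hd))
        have hle : M ≤ H := hclos H fun g x hx => by
          obtain ⟨h, hh, m, hm, rfl⟩ := hHM g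
          have h1 : m * x * m⁻¹ ∈ D := inf_eq_right.mp e (hTn m hm x hx)
          have h2 := (hDn h hh _ h1).2
          rwa [show h * (m * x * m⁻¹) * h⁻¹ = h * m * x * (h * m)⁻¹ by group] at h2
        obtain ⟨m, hm⟩ := exists_smul_eq M a b
        exact hab' ((hle m.2).symm.trans hm)
      have hTinj : ∀ t ∈ T, t • a = a → t = 1 := fun t ht hta => hDT t ⟨hTM ht, hta⟩ ht
      have hnoD : ∀ t ∈ T, t ≠ 1 → ∃ d ∈ D, d • t • a ≠ t • a := by
        intro t ht ht1
        by_contra hcon
        push Not at hcon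
        refine ht1 (hTc t ht fun u hu => ?_)
        obtain ⟨k, hk, hd⟩ := hproj u hu
        have h1 := hmove t ht _ hd.2 (hcon _ hd)
        rw [hconjd u hu k hk t ht] at h1
        have h2 := hDT _ h1 (T.mul_mem (T.inv_mem ht) (T.mul_mem (T.mul_mem hu ht) (T.inv_mem hu)))
        exact mul_inv_eq_iff_eq_mul.mp (inv_mul_eq_one.mp h2).symm
      have hlift : ∀ t ∈ T, t ≠ 1 → ∀ h ∈ H, h ∉ N1 → ∃ h' ∈ H, h' ∉ N1 ∧ h⁻¹ * h' ∈ N1 ∧
          h' * t * h'⁻¹ ∈ K ∧ t⁻¹ * (h' * t * h'⁻¹) ∈ D := by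
        intro t ht ht1 h hh hn
        set Hx := H ⊓ stabilizer G (t • a) with hHx
        have hnorm : Hx ≤ Subgroup.normalizer (D : Set G) := by
          intro k hk
          rw [Subgroup.mem_normalizer_iff]
          refine fun y => ⟨fun hy => hDn k hk.1 y hy, fun hy => ?_⟩
          have := hDn k⁻¹ (H.inv_mem hk.1) _ hy
          simpa [mul_assoc] using this
        rcases hmax (t • a) (fun e => ht1 (hTinj t ht e)) (Hx ⊔ D) (sup_le inf_le_left inf_le_right)
            (fun k hk hkx => Subgroup.mem_sup_left ⟨hk, hkx⟩) with r | r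
        · obtain ⟨d, hd, hdx⟩ := hnoD t ht ht1
          exact absurd (r d (Subgroup.mem_sup_right hd)) hdx
        have hmem : h ∈ (Hx : Set G) * (D : Set G) := by
          rw [← Subgroup.coe_mul_of_left_le_normalizer_right Hx D hnorm, r]
          exact hh
        obtain ⟨h', hh', d, hd, rfl⟩ := hmem
        have hdN : d ∈ N1 := hMN1 hd.1
        have hn' : h' ∉ N1 := fun h1 => hn (N1.mul_mem h1 hdN)
        refine ⟨h', hh'.1, hn', ?_, hN1out h' hn' t ht, hmove t ht h' hh'.1 hh'.2⟩
        rw [show (h' * d)⁻¹ * h' = d⁻¹ by group]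
        exact N1.inv_mem hdN
      -- there are only two factors
      have htwo : ∀ h ∈ H, ∀ k ∈ H, h ∉ N1 → k ∉ N1 → h⁻¹ * k ∈ N1 := by
        intro h hh k hk hhn hkn
        by_contra hn
        refine hTna ⟨⟨fun x y => Subtype.ext ?_⟩⟩
        by_cases hx1 : (x : G) = 1
        · simp [hx1]
        by_cases hy1 : (y : G) = 1
        · simp [hy1]
        obtain ⟨h', hh', hh'n, hcl, hsK, hsD⟩ := hlift x x.2 hx1 h hh hhn
        obtain ⟨k', hk', hk'n, hcl', hs'K, hs'D⟩ := hlift y y.2 hy1 k hk hkn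
        have hn' : h'⁻¹ * k' ∉ N1 := fun h1 => hn (by
          rw [show h⁻¹ * k = (h⁻¹ * h') * (h'⁻¹ * k') * (k⁻¹ * k')⁻¹ by group]
          exact N1.mul_mem (N1.mul_mem hcl h1) (N1.inv_mem hcl'))
        set s := h' * (x : G) * h'⁻¹
        set s' := k' * (y : G) * k'⁻¹
        have hss : Commute s s' := by
          have h1 : Commute (x : G) (h'⁻¹ * k' * y * (h'⁻¹ * k')⁻¹) :=
            hKc _ (hN1out _ hn' y y.2) x x.2
          have h2 := h1.map (MulAut.conj h').toMonoidHom
          have e : (MulAut.conj h').toMonoidHom (h'⁻¹ * k' * y * (h'⁻¹ * k')⁻¹) = s' := by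
            show h' * _ * h'⁻¹ = _
            simp only [s']
            group
          rw [e] at h2
          exact h2
        have hxs' : Commute (x : G)⁻¹ s' := (show Commute (x : G) s' from hKc s' hs'K x x.2).inv_left
        have hsy : Commute s (y : G)⁻¹ := (show Commute (y : G) s from hKc s hsK y y.2).symm.inv_right
        have hxs : Commute (x : G)⁻¹ s := (show Commute (x : G) s from hKc s hsK x x.2).inv_left
        have hys' : Commute (y : G)⁻¹ s' := (show Commute (y : G) s' from hKc s' hs'K y y.2).inv_left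
        have hmem : (x : G)⁻¹ * (y : G)⁻¹ * x * y ∈ D := by
          have h1 : ((x : G)⁻¹ * s) * ((y : G)⁻¹ * s') * ((x : G)⁻¹ * s)⁻¹ * ((y : G)⁻¹ * s')⁻¹ ∈ D :=
            D.mul_mem (D.mul_mem (D.mul_mem hsD hs'D) (D.inv_mem hsD)) (D.inv_mem hs'D)
          have e1 : ((x : G)⁻¹ * s) * ((y : G)⁻¹ * s') = (x : G)⁻¹ * (y : G)⁻¹ * (s * s') := by
            rw [mul_assoc, ← mul_assoc s, hsy.eq]; group
          have e2 : ((y : G)⁻¹ * s') * ((x : G)⁻¹ * s) = (y : G)⁻¹ * (x : G)⁻¹ * (s * s') := by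
            rw [mul_assoc, ← mul_assoc s', hxs'.symm.eq, hss.eq]; group
          have e3 : ((x : G)⁻¹ * s) * ((y : G)⁻¹ * s') * ((x : G)⁻¹ * s)⁻¹ * ((y : G)⁻¹ * s')⁻¹ =
              (((x : G)⁻¹ * s) * ((y : G)⁻¹ * s')) * (((y : G)⁻¹ * s') * ((x : G)⁻¹ * s))⁻¹ := by group
          rw [e3, e1, e2] at h1
          convert h1 using 1
          group
        have h2 := hDT _ hmem (T.mul_mem (T.mul_mem (T.mul_mem (T.inv_mem x.2) (T.inv_mem y.2)) x.2) y.2)
        have h3 : ((y : G) * x)⁻¹ * (x * y) = 1 := by rw [← h2]; group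
        exact (inv_mul_eq_one.mp h3).symm
      obtain ⟨h, hh, hn⟩ : ∃ h ∈ H, h ∉ N1 := by
        by_contra hcon
        push Not at hcon
        exact hH1 hcon
      have hK' : ∀ k ∈ K, ∃ u ∈ T, h * u * h⁻¹ = k := by
        intro k hk
        let f := MonoidHom.noncommCoprod T.subtype ((MulAut.conj h).toMonoidHom.comp T.subtype)
          (fun t u => hKc _ (hN1out h hn u u.2) t t.2)
        have hle : M ≤ f.range := hclos _ fun g x hx => by
          obtain ⟨h2, hh2, m, hm, rfl⟩ := hHM g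
          have hx' : m * x * m⁻¹ ∈ T := hTn m hm x hx
          have e : h2 * m * x * (h2 * m)⁻¹ = h2 * (m * x * m⁻¹) * h2⁻¹ := by group
          by_cases h2n : h2 ∈ N1
          · refine ⟨(⟨_, (Subgroup.mem_normalizer_iff.mp h2n _).mp hx'⟩, 1), ?_⟩
            rw [e]
            simp [f]
          · have hc := htwo h hh h2 hh2 hn h2n
            refine ⟨(1, ⟨_, (Subgroup.mem_normalizer_iff.mp hc _).mp hx'⟩), ?_⟩
            rw [e]
            simp [f]
            group
        obtain ⟨⟨t, u⟩, htu⟩ := hle hk.1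
        refine ⟨u, u.2, ?_⟩
        have htu' : (t : G) * (h * u * h⁻¹) = 1 * k := by rw [one_mul]; exact htu
        have ht : (t : G) = 1 := huniq t t.2 1 T.one_mem _ (hN1out h hn u u.2) k hk htu'
        rw [ht, one_mul, one_mul] at htu'
        exact htu'
      have hh2 : h * h ∈ N1 := by
        by_contra h2n
        have := htwo h hh (h * h) (H.mul_mem hh hh) hn h2n
        rw [inv_mul_cancel_left] at this
        exact hn this
      refine false_of_regular a T hTna hTinj (fun x => ?_) (fun k hk => ?_) (fun u hu => ?_) hmax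
      · obtain ⟨m, hm⟩ := exists_smul_eq M a x
        obtain ⟨t0, ht0, k0, hk0, hmk⟩ := hdec m m.2
        obtain ⟨u, hu, huk⟩ := hK' k0 hk0
        obtain ⟨k1, hk1, hd⟩ := hproj u hu
        obtain ⟨w, hw, hwk⟩ := hK' k1 hk1
        have hv : h * k1 * h⁻¹ ∈ T := by
          rw [← hwk, show h * (h * w * h⁻¹) * h⁻¹ = (h * h) * w * (h * h)⁻¹ by group]
          exact (Subgroup.mem_normalizer_iff.mp hh2 w).mp hw
        have he := (hDn h hh _ hd).2
        have e1 : h * (u * k1) * h⁻¹ = k0 * (h * k1 * h⁻¹) := by rw [← huk]; group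
        rw [e1, ← hKc k0 hk0 _ hv] at he
        refine ⟨t0 * (h * k1 * h⁻¹)⁻¹, T.mul_mem ht0 (T.inv_mem hv), ?_⟩
        rw [← hm]
        change _ = (m : G) • a
        conv_lhs => rw [show a = ((h * k1 * h⁻¹) * k0) • a from he.symm]
        rw [hmk, ← mul_smul]
        congr 1
        group
      · rcases hfac k with r | r
        · exact Or.inl r
        · exact Or.inr fun t ht u hu => (hKc _ (r t ht) u hu).symm
      · obtain ⟨k, hk, hd⟩ := hproj u hu
        exact ⟨u * k, hd.2, fun x hx => hconjd u hu k hk x hx⟩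
    · -- product action case
      have hfixD : ∀ t ∈ T, t ∉ R → ∀ d ∈ D, t⁻¹ * d * t ∈ D := by
        intro t ht htR d hd
        have hne : t • a ≠ a := fun e => htR (hRmem t ht 1 K.one_mem (by
          rw [mul_one]; exact ⟨hTM ht, e⟩))
        rcases hmax (t • a) hne (H ⊓ N1) inf_le_left (fun k hk hkx => by
          refine ⟨hk, ?_⟩
          by_contra hkn
          exact htR (inv_inv t ▸ R.inv_mem (hRmem t⁻¹ (T.inv_mem ht) _ (hN1out k hkn t ht)
            (hmove t ht k hk hkx)))) with r | r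
        · refine ⟨M.mul_mem (M.mul_mem (M.inv_mem (hTM ht)) hd.1) (hTM ht), ?_⟩
          show (t⁻¹ * d * t) • a = a
          rw [mul_smul, mul_smul, r d ⟨hd.2, hMN1 hd.1⟩, inv_smul_smul]
        · exact absurd r hH1ne
      have hnorm : (R.subgroupOf T).Normal := by
        refine ⟨fun x hx t => ?_⟩
        rw [Subgroup.mem_subgroupOf] at hx ⊢
        rw [Subgroup.coe_mul, Subgroup.coe_mul, Subgroup.coe_inv]
        by_cases htR : (t : G) ∈ R
        · exact R.mul_mem (R.mul_mem htR hx) (R.inv_mem htR)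
        · obtain ⟨hxT, k, hk, hxk⟩ := hx
          have h1 := hfixD (t : G)⁻¹ (T.inv_mem t.2) (fun h => htR (by simpa using R.inv_mem h)) _ hxk
          rw [inv_inv] at h1
          refine hRmem _ (T.mul_mem (T.mul_mem t.2 hxT) (T.inv_mem t.2)) k hk ?_
          convert h1 using 1
          rw [mul_assoc _ ((t : G)⁻¹) k, hKc k hk _ (T.inv_mem t.2)]
          group
      rcases hnorm.eq_bot_or_eq_top with e | e
      · have hDK : ∀ d ∈ D, d ∈ K := by
          intro d hd
          obtain ⟨u, hu, k, hk, hduk⟩ := hdec d hd.1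
          have h0 : (⟨u, hu⟩ : T) ∈ R.subgroupOf T := hRmem u hu k hk (hduk ▸ hd)
          rw [e, Subgroup.mem_bot] at h0
          rw [hduk, show u = 1 from congrArg Subtype.val h0, one_mul]
          exact hk
        refine hDbot ((Subgroup.eq_bot_iff_forall _).mpr fun d hd => ?_)
        have hle : M ≤ Subgroup.centralizer {d} := hclos _ fun g x hx => by
          obtain ⟨h, hh, m, hm, rfl⟩ := hHM g
          have h1 : Commute (m * x * m⁻¹) (h⁻¹ * d * h⁻¹⁻¹) :=
            hKc _ (hDK _ (hDn h⁻¹ (H.inv_mem hh) d hd)) _ (hTn m hm x hx)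
          have h2 := h1.map (MulAut.conj h).toMonoidHom
          have e1 : (MulAut.conj h).toMonoidHom (h⁻¹ * d * h⁻¹⁻¹) = d := by
            show h * _ * h⁻¹ = _
            group
          have e2 : (MulAut.conj h).toMonoidHom (m * x * m⁻¹) = h * m * x * (h * m)⁻¹ := by
            show h * _ * h⁻¹ = _
            group
          rw [e1, e2] at h2
          exact Subgroup.mem_centralizer_singleton_iff.mpr h2
        have hz : d ∈ M ⊓ Subgroup.centralizer (M : Set G) := ⟨hd.1, Subgroup.mem_centralizer_iff.mpr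
          fun m hm => Subgroup.mem_centralizer_singleton_iff.mp (hle hm)⟩
        by_contra hd1
        refine hab ⟨M ⊓ Subgroup.centralizer (M : Set G), inferInstance,
          fun e => hd1 (Subgroup.mem_bot.mp (e ▸ hz)), ⟨⟨fun x y => Subtype.ext ?_⟩⟩⟩
        exact Subgroup.mem_centralizer_iff.mp y.2.2 x x.2.1
      · exact hRtop (le_antisymm hRT (Subgroup.subgroupOf_eq_top.mp e))

end Glue

end CfsgLib.Perm.ExtremelyPrimitive
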