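import Cfsg.Agent.Lib.Perm.MonomialSylow
import Cfsg.Agent.Lib.Solvable.FrattiniFitting

/-!
# Strongly closed subgroups of Sylow subgroups of alternating groups
-/

set_option autoImplicit false
set_option linter.style.haveILetI false
set_option linter.unusedSectionVars false

namespace CfsgLib.Perm.Monomial

open Equiv

theorem zmod_two_cases (a : ZMod 2) : a = 0 ∨ a = 1 := by revert a; decide

theorem zmod_two_add_self (a : ZMod 2) : a + a = 0 := by revert a; decide

theorem zmod_two_sub (a b : ZMod 2) : a - b = a + b := by revert a b; decide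

theorem zmod_two_ne {a : ZMod 2} (h : a ≠ 0) : a = 1 := (zmod_two_cases a).resolve_left h

variable {p : ℕ} [hp : Fact p.Prime] {ι ρ : Type*} [Fintype ι] [DecidableEq ι] [Fintype ρ] [DecidableEq ρ]

theorem sign_conj' {α : Type*} [Fintype α] [DecidableEq α] (g x : Equiv.Perm α) :
    Equiv.Perm.sign (g * x * g⁻¹) = Equiv.Perm.sign x := by
  rw [map_mul, map_mul, map_inv, mul_comm (Equiv.Perm.sign g), mul_inv_cancel_right]

/-- Pairs of translations of two fibres by the same amount are even. -/
theorem sign_tr_pair (i l : ι) (a c : ZMod p) (h : a = c ∨ p ≠ 2) :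
    Equiv.Perm.sign (tr (ρ := ρ) (Pi.single i a + Pi.single l c : ι → ZMod p)) = 1 := by
  rcases h with h | h
  · subst h
    have h1 : tr (ρ := ρ) (Pi.single l a) =
        lft (Equiv.swap i l) * tr (Pi.single i a) * (lft (Equiv.swap i l))⁻¹ := by
      rw [lft, conj_tr]
      congr 1
      funext k
      simp only [Pi.one_apply, Units.val_one, one_mul, Equiv.swap_inv]
      by_cases hk : k = l
      · subst hk; simp
      · rw [Pi.single_eq_of_ne hk, Pi.single_eq_of_ne]
        intro h2
        exact hk (by simpa using congrArg (Equiv.swap i l) h2)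
    rw [tr_add, map_mul, h1, sign_conj', Int.units_mul_self]
  · exact sign_tr_odd h _

theorem sign_tr_two (hp2 : p = 2) (i : ι) :
    Equiv.Perm.sign (tr (ρ := ρ) (Pi.single i (1 : ZMod p))) = -1 := by
  subst hp2
  have : tr (ρ := ρ) (Pi.single i (1 : ZMod 2)) = Equiv.swap (Sum.inl (i, 0)) (Sum.inl (i, 1)) := by
    ext (⟨j, y⟩ | r)
    · by_cases hj : j = i
      · subst hj
        rcases zmod_two_cases y with rfl | rfl
        · rw [tr_inl, Pi.single_eq_same, zero_add, Equiv.swap_apply_left]
        · rw [tr_inl, Pi.single_eq_same, Equiv.swap_apply_right]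
          rfl
      · rw [tr_inl, Pi.single_eq_of_ne hj, add_zero, Equiv.swap_apply_of_ne_of_ne] <;> simp [hj]
    · rw [tr_inr, Equiv.swap_apply_of_ne_of_ne] <;> simp
  rw [this, Equiv.Perm.sign_swap (by simp)]

/-- Every element of order `p` is conjugate under even permutations to a translation. -/
theorem exists_conj_base (hρ : Fintype.card ρ < p) [Nonempty ι] {x : Equiv.Perm (Pt p ι ρ)}
    (hx : x ^ p = 1) :
    ∃ g : Equiv.Perm (Pt p ι ρ), Equiv.Perm.sign g = 1 ∧ g * x * g⁻¹ ∈ base p ι ρ := by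
  haveI : NeZero p := ⟨hp.out.ne_zero⟩
  have hall : ∀ n ∈ x.cycleType, n = p := fun n hn => by
    have h1 : n ∣ p := (Equiv.Perm.dvd_of_mem_cycleType hn).trans (orderOf_dvd_of_pow_eq_one hx)
    rcases hp.out.eq_one_or_self_of_dvd n h1 with h2 | h2
    · exact absurd (Equiv.Perm.two_le_of_mem_cycleType hn) (by omega)
    · exact h2
  have hrep := Multiset.eq_replicate.2 ⟨rfl, hall⟩
  set k := x.cycleType.card
  have hkm : k ≤ Fintype.card ι := by
    have h1 := x.sum_cycleType
    rw [hrep, Multiset.sum_replicate, smul_eq_mul] at h1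
    have h2 := Finset.card_le_univ x.support
    rw [← h1, Fintype.card_sum, Fintype.card_prod, ZMod.card] at h2
    by_contra h3
    nlinarith [show Fintype.card ι + 1 ≤ k by omega]
  obtain ⟨s, -, hs⟩ := Finset.exists_subset_card_eq (s := (Finset.univ : Finset ι)) (n := k)
    (by rwa [Finset.card_univ])
  set f : ι → ZMod p := fun i => if i ∈ s then 1 else 0
  have hf : (tr (ρ := ρ) f).cycleType = x.cycleType := by
    have hall' : ∀ n ∈ (tr (ρ := ρ) f).cycleType, n = p := fun n hn => by
      have h1 : n ∣ p := (Equiv.Perm.dvd_of_mem_cycleType hn).trans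
        (orderOf_dvd_of_pow_eq_one (tr_pow_p f))
      rcases hp.out.eq_one_or_self_of_dvd n h1 with h2 | h2
      · exact absurd (Equiv.Perm.two_le_of_mem_cycleType hn) (by omega)
      · exact h2
    have hrep' := Multiset.eq_replicate.2 ⟨rfl, hall'⟩
    have h1 := (tr (ρ := ρ) f).sum_cycleType
    rw [hrep', Multiset.sum_replicate, smul_eq_mul] at h1
    have h2 : (tr (ρ := ρ) f).support =
        (s ×ˢ (Finset.univ : Finset (ZMod p))).map ⟨Sum.inl, Sum.inl_injective⟩ := by
      ext (⟨i, y⟩ | r)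
      · by_cases hi : i ∈ s <;> simp [tr_inl, f, hi]
      · simp [tr_inr]
    rw [h2, Finset.card_map, Finset.card_product, hs, Finset.card_univ, ZMod.card] at h1
    rw [hrep', hrep, Nat.eq_of_mul_eq_mul_right hp.out.pos h1]
  obtain ⟨g, hg⟩ := isConj_iff.1 (Equiv.Perm.isConj_iff_cycleType_eq.2 hf.symm)
  rcases Int.units_eq_one_or (Equiv.Perm.sign g) with e | e
  · exact ⟨g, e, hg ▸ tr_mem_base f⟩
  · obtain ⟨i⟩ := ‹Nonempty ι›
    obtain ⟨h, hh, hhN⟩ : ∃ h : Equiv.Perm (Pt p ι ρ), Equiv.Perm.sign h = -1 ∧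
        ∃ σ d b, h = mon σ d b := by
      by_cases hp2 : p = 2
      · exact ⟨_, sign_tr_two hp2 i, 1, 1, _, rfl⟩
      · obtain ⟨u, hu, -⟩ := exists_chi_eq_neg_one (p := p) hp2
        refine ⟨dia (Pi.mulSingle i u), ?_, 1, _, _, rfl⟩
        rw [sign_dia, Fintype.prod_pi_mulSingle', hu]
    obtain ⟨σ, d, b, rfl⟩ := hhN
    refine ⟨mon σ d b * g, by rw [map_mul, hh, e]; rfl, ?_⟩
    rw [show mon σ d b * g * x * (mon σ d b * g)⁻¹ = mon σ d b * (g * x * g⁻¹) * (mon σ d b)⁻¹ by group, hg,
      conj_tr]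
    exact tr_mem_base _

/-- The even elements of a Sylow subgroup are generated by those of order `p`. -/
theorem inf_alternating_le {α : Type*} [Fintype α] [DecidableEq α] (P : Sylow p (Equiv.Perm α))
    {H : Subgroup (Equiv.Perm α)}
    (h : ∀ x ∈ (P : Subgroup (Equiv.Perm α)), x ^ p = 1 → Equiv.Perm.sign x = 1 → x ∈ H)
    {x : Equiv.Perm α} (hx : x ∈ (P : Subgroup (Equiv.Perm α))) (hs : Equiv.Perm.sign x = 1) : x ∈ H := by
  let f : Equiv.Perm α ≃* Equiv.Perm (Fin (Fintype.card α)) :=
    Equiv.permCongrHom (Fintype.equivFin α)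
  have hf : ∀ y, Equiv.Perm.sign (f y) = Equiv.Perm.sign y := fun y => Equiv.Perm.sign_permCongr _ y
  let P' : Sylow p (Equiv.Perm (Fin (Fintype.card α))) := P.mapSurjective (f := f.toMonoidHom) f.surjective
  obtain ⟨G, hG⟩ := SylowGen.exists_closure_eq P'
  have hmem : f x ∈ Subgroup.closure G.S := by
    rw [hG]; exact ⟨x, hx, rfl⟩
  have h2 := SylowGen.even_mem G hmem (by rw [hf, hs])
  have h3 : f x ∈ H.map f.toMonoidHom := by
    refine (Subgroup.closure_le _).2 ?_ h2
    rintro g ⟨hg, hgp, hgs⟩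
    rw [hG] at hg
    obtain ⟨y, hy, rfl⟩ := hg
    refine ⟨y, h y hy (f.injective ?_) ?_, rfl⟩
    · rw [map_pow, map_one]; exact hgp
    · rw [← hf]; exact hgs
  obtain ⟨y, hy, hyx⟩ := h3
  rwa [← f.injective hyx]

/-- A Sylow `2`-subgroup of a symmetric group contains a transposition. -/
theorem exists_swap_mem {α : Type*} [Fintype α] [DecidableEq α] (h : 2 ≤ Fintype.card α)
    (P : Sylow 2 (Equiv.Perm α)) : ∃ i l : α, i ≠ l ∧ Equiv.swap i l ∈ (P : Subgroup (Equiv.Perm α)) := by
  haveI : Fact (Nat.Prime 2) := ⟨Nat.prime_two⟩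
  obtain ⟨a, b, hab⟩ := Fintype.exists_pair_of_one_lt_card h
  have hp' : IsPGroup 2 (Subgroup.zpowers (Equiv.swap a b)) := by
    refine IsPGroup.of_card (n := 1) ?_
    rw [Nat.card_zpowers, pow_one]
    exact Equiv.Perm.IsSwap.orderOf ⟨a, b, hab, rfl⟩
  obtain ⟨R, hR⟩ := hp'.exists_le_sylow
  obtain ⟨u, hu⟩ := MulAction.exists_smul_eq (Equiv.Perm α) R P
  refine ⟨u a, u b, u.injective.ne hab, ?_⟩
  rw [← hu, Sylow.coe_subgroup_smul, Equiv.swap_apply_apply]
  exact ⟨_, hR (Subgroup.mem_zpowers _), rfl⟩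

variable (hρ : Fintype.card ρ < p) (hι : 3 ≤ Fintype.card ι) (Q : Sylow p (Equiv.Perm ι))
  {T : Subgroup (Equiv.Perm (Pt p ι ρ))}

theorem exists_third (hι : 3 ≤ Fintype.card ι) (i l : ι) : ∃ q, q ≠ i ∧ q ≠ l := by
  by_contra h
  push Not at h
  have : (Finset.univ : Finset ι) ⊆ {i, l} := fun q _ => by
    by_cases hq : q = i
    · simp [hq]
    · simp [h q hq]
  have h2 := (Finset.card_le_card this).trans Finset.card_le_two
  rw [Finset.card_univ] at h2
  omega

include hρ hι in
/-- A nontrivial subgroup strongly closed in the Sylow subgroup of the alternating group is all of it. -/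
theorem le_of_stronglyClosed
    (hT : T ≤ wr (p := p) ρ (Q : Subgroup (Equiv.Perm ι)) ⊓ alternatingGroup (Pt p ι ρ)) (hne : T ≠ ⊥)
    (hcl : ∀ g x, Equiv.Perm.sign g = 1 → x ∈ T → g * x * g⁻¹ ∈ wr ρ (Q : Subgroup (Equiv.Perm ι)) →
      g * x * g⁻¹ ∈ T) :
    wr ρ (Q : Subgroup (Equiv.Perm ι)) ⊓ alternatingGroup (Pt p ι ρ) ≤ T := by
  haveI : NeZero p := ⟨hp.out.ne_zero⟩
  haveI : Nonempty ι := Fintype.card_pos_iff.1 (by omega)
  set W := wr (p := p) ρ (Q : Subgroup (Equiv.Perm ι))
  set S := W ⊓ alternatingGroup (Pt p ι ρ)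
  have hev : ∀ {x}, x ∈ T → Equiv.Perm.sign x = 1 := fun hx => Equiv.Perm.mem_alternatingGroup.1 (hT hx).2
  obtain ⟨z, hzT, hz1, hzc⟩ : ∃ z ∈ T, z ≠ 1 ∧ ∀ v ∈ S, z * v = v * z := by
    haveI : Group.IsNilpotent S :=
      ((wrSylow hρ Q).2.to_le (inf_le_left : S ≤ W) : IsPGroup p S).isNilpotent
    haveI : (T.subgroupOf S).Normal := ⟨fun x hx g => hcl g x (Equiv.Perm.mem_alternatingGroup.1 g.2.2) hx
      (mul_mem (mul_mem g.2.1 x.2.1) (inv_mem g.2.1))⟩
    have hz := CfsgLib.Solvable.FrattiniFitting.inf_center_ne_bot (T.subgroupOf S)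
      (fun h => hne (by
        rw [Subgroup.subgroupOf_eq_bot] at h
        exact disjoint_self.1 (h.mono_right hT)))
    obtain ⟨z, hz, hz1⟩ := (Subgroup.bot_or_exists_ne_one _).resolve_left hz
    exact ⟨z, hz.1, fun e => hz1 (Subtype.ext e), fun v hv =>
      (congrArg Subtype.val (Subgroup.mem_center_iff.1 hz.2 ⟨v, hv⟩)).symm⟩
  obtain ⟨σ, hσQ, b, rfl⟩ := (hT hzT).1
  have hb : σ = 1 := by
    by_contra hne'
    obtain ⟨i, hi⟩ : ∃ i, σ i ≠ i := by
      by_contra h; push Not at h; exact hne' (Equiv.ext h)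
    obtain ⟨l, hli, hls⟩ := exists_third hι i (σ i)
    have h1 := hzc (tr (Pi.single i 1 + Pi.single l 1)) ⟨tr_mem_wr _ _,
      Equiv.Perm.mem_alternatingGroup.2 (sign_tr_pair i l 1 1 (Or.inl rfl))⟩
    have h2 := congrFun (tr_injective ((conj_tr (ρ := ρ) σ 1 b _).symm.trans
      (mul_inv_eq_iff_eq_mul.2 h1))) (σ i)
    simp [inv_apply_self', hli.symm, hls.symm, hi, Pi.single_eq_of_ne] at h2
  subst hb
  change tr b ∈ T at hzT
  have hb0 : b ≠ 0 := fun h => hz1 (h ▸ mon_one)
  clear hzc hz1
  have mv : ∀ (τ : Equiv.Perm ι) (d : ι → (ZMod p)ˣ) (c : ι → ZMod p),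
      Equiv.Perm.sign (mon (ρ := ρ) τ d 0) = 1 → tr c ∈ T →
      tr (ρ := ρ) (fun i => (d (τ⁻¹ i) : ZMod p) * c (τ⁻¹ i)) ∈ T := fun τ d c hs hc => by
    rw [← conj_tr τ d 0 c]
    exact hcl _ _ hs hc (by rw [conj_tr]; exact tr_mem_wr _ _)
  have hsub : ∀ {c c' : ι → ZMod p}, tr c ∈ T → tr c' ∈ T → tr (c - c') ∈ T := fun hc hc' => by
    rw [sub_eq_add_neg, tr_add, tr_neg]; exact mul_mem hc (inv_mem hc')
  have hsmul : ∀ (a : ZMod p) {c : ι → ZMod p}, tr c ∈ T → tr (a • c) ∈ T := fun a c hc => by
    rw [← ZMod.natCast_zmod_val a, Nat.cast_smul_eq_nsmul, tr_nsmul]; exact pow_mem hc _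
  -- the translations
  have hbase : ∀ c, Equiv.Perm.sign (tr (ρ := ρ) c) = 1 → tr c ∈ T := by
    by_cases hp2 : p = 2
    · subst hp2
      have hmon : ∀ τ : Equiv.Perm ι, Equiv.Perm.sign (mon (ρ := ρ) τ (1 : ι → (ZMod 2)ˣ) 0) = 1 := fun τ => by
        change Equiv.Perm.sign (lft (p := 2) τ) = 1
        rw [sign_lft, sq, Int.units_mul_self]
      have hmix : ∀ c : ι → ZMod 2, tr c ∈ T → (∃ i, c i ≠ 0) → (∃ l, c l = 0) →
          ∃ i l, i ≠ l ∧ tr (ρ := ρ) (Pi.single i 1 + Pi.single l (1 : ZMod 2)) ∈ T := by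
        rintro c hc ⟨i, hi⟩ ⟨l, hl⟩
        have hil : i ≠ l := by rintro rfl; exact hi hl
        have hi1 : c i = 1 := zmod_two_ne hi
        refine ⟨i, l, hil, ?_⟩
        have h := hsub hc (mv (Equiv.swap i l) 1 c (hmon _) hc)
        have e : (c - fun k => ((1 : ι → (ZMod 2)ˣ) ((Equiv.swap i l)⁻¹ k) : ZMod 2) *
            c ((Equiv.swap i l)⁻¹ k)) = Pi.single i 1 + Pi.single l (1 : ZMod 2) := by
          funext k
          simp only [Pi.sub_apply, Pi.add_apply, Pi.one_apply, Units.val_one, one_mul, Equiv.swap_inv]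
          by_cases hki : k = i
          · subst hki; simp [hi1, hl, hil]
          · by_cases hkl : k = l
            · subst hkl; simp [hi1, hl, hki]
            · simp [Equiv.swap_apply_of_ne_of_ne hki hkl, hki, hkl]
        rwa [e] at h
      obtain ⟨i, l, hil, hpair⟩ : ∃ i l, i ≠ l ∧
          tr (ρ := ρ) (Pi.single i 1 + Pi.single l (1 : ZMod 2)) ∈ T := by
        obtain ⟨i₁, hi₁⟩ := Function.ne_iff.1 hb0
        by_cases hfull : ∃ l, b l = 0
        · exact hmix b hzT ⟨i₁, hi₁⟩ hfull
        push Not at hfull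
        have hb1 : ∀ k, b k = 1 := fun k => zmod_two_ne (hfull k)
        obtain ⟨i, l, hil, hswQ⟩ := exists_swap_mem (by omega : 2 ≤ Fintype.card ι) Q
        obtain ⟨q, hqi, hql⟩ := exists_third hι i l
        set u : Equiv.Perm (Pt 2 ι ρ) := Equiv.swap (Sum.inl (i, 1)) (Sum.inl (l, 0))
        set g := u * tr (Pi.single q (1 : ZMod 2))
        set c : ι → ZMod 2 := b - Pi.single i 1 - Pi.single l 1
        have hg : g * tr b * g⁻¹ = mon (Equiv.swap i l) 1 c := by
          rw [show g * tr b * g⁻¹ = u * tr b * u⁻¹ by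
            simp only [g, mul_inv_rev, mul_assoc]
            rw [← mul_assoc (tr (Pi.single q 1)) (tr b), ← tr_add, add_comm, tr_add, mul_assoc,
              ← mul_assoc (tr (Pi.single q 1)), mul_inv_cancel, one_mul]]
          rw [mul_inv_eq_iff_eq_mul]
          ext (⟨k, y⟩ | r)
          · simp only [Equiv.Perm.mul_apply, tr_inl, hb1]
            by_cases hki : k = i
            · subst hki
              rcases zmod_two_cases y with rfl | rfl <;>
                simp [u, c, hb1, hil, hil.symm, zmod_two_add_self, zmod_two_sub, Equiv.swap_apply_def]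
            · by_cases hkl : k = l
              · subst hkl
                rcases zmod_two_cases y with rfl | rfl <;>
                  simp [u, c, hb1, hil, hil.symm, zmod_two_add_self, zmod_two_sub, Equiv.swap_apply_def]
              · rw [show u (Sum.inl (k, y + 1)) = Sum.inl (k, y + 1) from
                  Equiv.swap_apply_of_ne_of_ne (by simp [hki]) (by simp [hkl]),
                  show u (Sum.inl (k, y)) = Sum.inl (k, y) from
                  Equiv.swap_apply_of_ne_of_ne (by simp [hki]) (by simp [hkl]), mon_inl]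
                simp [c, hb1, hki, hkl, Equiv.swap_apply_of_ne_of_ne hki hkl]
          · simp [u, tr_inr, Equiv.swap_apply_of_ne_of_ne]
        have hw : mon (Equiv.swap i l) 1 c ∈ T := by
          rw [← hg]
          refine hcl _ _ ?_ hzT (by rw [hg]; exact ⟨_, hswQ, _, rfl⟩)
          rw [map_mul, Equiv.Perm.sign_swap (by simp [hil]), sign_tr_two rfl]; rfl
        have hy := mul_mem hw hzT
        obtain ⟨h, hh, c', hc'⟩ := exists_conj_base hρ (x := mon (Equiv.swap i l) 1 c * tr b) (by
          rw [sq, tr, mon_mul, mon_mul]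
          refine Eq.trans ?_ mon_one
          congr 1
          · simp
          funext k
          by_cases hki : k = i
          · subst hki; simp [c, hb1, hil, hil.symm, zmod_two_add_self, zmod_two_sub]
          · by_cases hkl : k = l
            · subst hkl; simp [c, hb1, hil, hil.symm, zmod_two_add_self, zmod_two_sub]
            · simp [c, hb1, hki, hkl, Equiv.swap_apply_of_ne_of_ne hki hkl, zmod_two_add_self])
        have hc'T : tr c' ∈ T := hc' ▸ hcl h _ hh hy (hc' ▸ tr_mem_wr _ _)
        refine hmix c' hc'T ?_ ?_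
        · by_contra h0
          push Not at h0
          rw [show c' = 0 from funext h0, tr_zero] at hc'
          have := congrArg (fun e => h⁻¹ * e * h) hc'
          simp [mul_assoc] at this
          have h3 := congrArg (fun e : Equiv.Perm (Pt 2 ι ρ) => e (Sum.inl (i, 0))) this
          simp [tr_inl, hil.symm] at h3
          exact hil h3.1
        · by_contra h0
          push Not at h0
          have hall : ∀ k, c' k = 1 := fun k => zmod_two_ne (h0 k)
          have hm : {x | tr (ρ := ρ) c' x ≠ x}.ncard = 2 * Fintype.card ι := by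
            rw [show {x | tr (ρ := ρ) c' x ≠ x} = Set.range Sum.inl by
              ext (⟨k, y⟩ | r) <;> simp [tr_inl, tr_inr, hall],
              Set.ncard_range_of_injective Sum.inl_injective, Nat.card_prod, Nat.card_eq_fintype_card,
              Nat.card_zmod, mul_comm]
          rw [hc', moved_conj] at hm
          have hsub : {x | (mon (ρ := ρ) (Equiv.swap i l) (1 : ι → (ZMod 2)ˣ) c * tr b : Equiv.Perm (Pt 2 ι ρ)) x ≠ x} ⊆
              (fun z : Bool × ZMod 2 => (Sum.inl (cond z.1 i l, z.2) : Pt 2 ι ρ)) '' Set.univ := by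
            rintro (⟨k, y⟩ | r) hx
            · by_cases hki : k = i
              · exact ⟨(true, y), trivial, by simp [hki]⟩
              by_cases hkl : k = l
              · exact ⟨(false, y), trivial, by simp [hkl]⟩
              exfalso
              apply hx
              simp [tr_inl, c, hb1, hki, hkl, Equiv.swap_apply_of_ne_of_ne hki hkl, add_assoc, zmod_two_add_self]
            · exact absurd (by simp [tr_inr]) hx
          have h4 := (Set.ncard_le_ncard hsub (Set.toFinite _)).trans
            (Set.ncard_image_le (Set.toFinite _))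
          rw [hm, Set.ncard_univ, Nat.card_prod, Nat.card_zmod, Nat.card_eq_fintype_card] at h4
          simp at h4
          omega
      have hall : ∀ i' l', i' ≠ l' → tr (ρ := ρ) (Pi.single i' 1 + Pi.single l' (1 : ZMod 2)) ∈ T := by
        intro i' l' hne'
        set τ := Equiv.swap (Equiv.swap i i' l) l' * Equiv.swap i i'
        have h1 : τ i = i' := by
          simp only [τ, Equiv.Perm.mul_apply, Equiv.swap_apply_left]
          refine Equiv.swap_apply_of_ne_of_ne (fun e => hil ?_) hne'
          exact (Equiv.swap i i').injective ((Equiv.swap_apply_left i i').trans e)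
        have h2 : τ l = l' := by simp [τ]
        have h := mv τ 1 _ (hmon _) hpair
        have e : (fun k => (((1 : ι → (ZMod 2)ˣ) (τ⁻¹ k) : (ZMod 2)ˣ) : ZMod 2) *
            (Pi.single i 1 + Pi.single l (1 : ZMod 2) : ι → ZMod 2) (τ⁻¹ k)) =
            Pi.single i' 1 + Pi.single l' (1 : ZMod 2) := by
          funext k
          obtain ⟨j, rfl⟩ := τ.surjective k
          simp [inv_apply_self', Pi.single_apply, ← h1, ← h2]
        rwa [e] at h
      intro c hc
      obtain ⟨o⟩ := ‹Nonempty ι›
      have hc2 : ∀ k, tr (ρ := ρ) (c k • (Pi.single k 1 + Pi.single o (1 : ZMod 2))) ∈ T := fun k => by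
        by_cases hk : k = o
        · subst hk
          rw [← Pi.single_add, show (1 : ZMod 2) + 1 = 0 from rfl, Pi.single_zero, smul_zero, tr_zero]
          exact one_mem _
        · exact hsmul _ (hall k o hk)
      have hsum : tr (ρ := ρ) (∑ k, c k • (Pi.single k 1 + Pi.single o (1 : ZMod 2))) ∈ T :=
        Finset.sum_induction _ (fun e : ι → ZMod 2 => tr (ρ := ρ) e ∈ T)
          (fun a a' ha ha' => by rw [tr_add]; exact mul_mem ha ha') (by rw [tr_zero]; exact one_mem _)
          fun k _ => hc2 k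
      have hsplit : ∑ k, c k • (Pi.single k 1 + Pi.single o (1 : ZMod 2)) =
          c + Pi.single o (∑ k, c k) := by
        simp only [smul_add, Finset.sum_add_distrib, ← Pi.single_smul, smul_eq_mul, mul_one]
        rw [Finset.univ_sum_single]
        congr 1
        exact (map_sum (AddMonoidHom.single (fun _ : ι => ZMod 2) o) c Finset.univ).symm
      rw [hsplit] at hsum
      rcases zmod_two_cases (∑ k, c k) with h0 | h0
      · simpa [h0] using hsum
      · have := hev hsum
        rw [tr_add, map_mul, hc, h0, one_mul, sign_tr_two rfl] at this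
        exact absurd this (by decide)
    · intro c _
      have hp3 : (2 : ZMod p) ≠ 0 := fun h => hp2 ((Nat.prime_dvd_prime_iff_eq hp.out Nat.prime_two).1
        ((ZMod.natCast_eq_zero_iff 2 p).1 (by exact_mod_cast h)))
      set u : (ZMod p)ˣ := Units.mk0 2 hp3
      -- doubling two coordinates
      have hdbl : ∀ (e : ι → ZMod p) (i l : ι), i ≠ l → tr e ∈ T →
          tr (ρ := ρ) (Pi.single i (e i) + Pi.single l (e l)) ∈ T := by
        intro e i l hil he
        set d : ι → (ZMod p)ˣ := Pi.mulSingle i u * Pi.mulSingle l u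
        have hd : Equiv.Perm.sign (mon (ρ := ρ) 1 d 0) = 1 := by
          rw [sign_mon_odd hp2, map_one, one_mul]
          show chi (∏ k, (Pi.mulSingle i u * Pi.mulSingle l u : ι → (ZMod p)ˣ) k) = 1
          simp only [Pi.mul_apply]
          rw [Finset.prod_mul_distrib, Fintype.prod_pi_mulSingle', Fintype.prod_pi_mulSingle', map_mul,
            Int.units_mul_self]
        have h := hsub (mv 1 d e hd he) he
        have e' : ((fun k => (d ((1 : Equiv.Perm ι)⁻¹ k) : ZMod p) * e ((1 : Equiv.Perm ι)⁻¹ k)) - e) =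
            Pi.single i (e i) + Pi.single l (e l) := by
          funext k
          simp only [inv_one, Equiv.Perm.one_apply, Pi.sub_apply, Pi.add_apply, d, Pi.mul_apply, Units.val_mul]
          by_cases hki : k = i
          · subst hki; simp [u, hil]; ring
          · by_cases hkl : k = l
            · subst hkl; simp [u, hki]; ring
            · simp [hki, hkl]
        rwa [e'] at h
      obtain ⟨i, hi⟩ := Function.ne_iff.1 hb0
      obtain ⟨l, hli, -⟩ := exists_third hι i i
      have h2 := hdbl b i l hli.symm hzT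
      obtain ⟨q, hqi, hql⟩ := exists_third hι i l
      have h3 := hdbl _ i q hqi.symm h2
      simp [hli.symm, hqi, hql] at h3
      have hone : tr (ρ := ρ) (Pi.single i (1 : ZMod p)) ∈ T := by
        have := hsmul (b i)⁻¹ h3
        rwa [← Pi.single_smul, smul_eq_mul, inv_mul_cancel₀ hi] at this
      refine base_le_of_single (fun j => ?_) (tr_mem_base c)
      by_cases hji : j = i
      · subst hji; exact hone
      obtain ⟨k, hki, hkj⟩ := exists_third hι i j
      have hτ : Equiv.Perm.sign (mon (ρ := ρ) (Equiv.swap j k * Equiv.swap i j) (1 : ι → (ZMod p)ˣ) 0) = 1 := by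
        rw [sign_mon_odd hp2, map_mul, Equiv.Perm.sign_swap hkj.symm, Equiv.Perm.sign_swap (Ne.symm hji)]
        simp
      have h := mv _ _ _ hτ hone
      have h' := mv (Equiv.swap j k * Equiv.swap i j) 1 _ hτ h
      have e : (fun k' => (((1 : ι → (ZMod p)ˣ) ((Equiv.swap j k * Equiv.swap i j)⁻¹ k') : (ZMod p)ˣ) : ZMod p) *
          (fun k'' => (((1 : ι → (ZMod p)ˣ) ((Equiv.swap j k * Equiv.swap i j)⁻¹ k'') : (ZMod p)ˣ) : ZMod p) *
            (Pi.single i (1 : ZMod p) : ι → ZMod p) ((Equiv.swap j k * Equiv.swap i j)⁻¹ k''))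
            ((Equiv.swap j k * Equiv.swap i j)⁻¹ k')) = Pi.single j (1 : ZMod p) := by
        funext k'
        obtain ⟨k', rfl⟩ := (Equiv.swap j k * Equiv.swap i j).surjective k'
        obtain ⟨k', rfl⟩ := (Equiv.swap j k * Equiv.swap i j).surjective k'
        simp only [inv_apply_self', Pi.one_apply, Units.val_one, one_mul]
        have h1 : (Equiv.swap j k * Equiv.swap i j) i = k := by
          rw [Equiv.Perm.mul_apply, Equiv.swap_apply_left, Equiv.swap_apply_left]
        have h2 : (Equiv.swap j k * Equiv.swap i j) k = j := by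
          rw [Equiv.Perm.mul_apply, Equiv.swap_apply_of_ne_of_ne hki hkj, Equiv.swap_apply_right]
        have h0 : (Equiv.swap j k * Equiv.swap i j) ((Equiv.swap j k * Equiv.swap i j) i) = j :=
          (congrArg _ h1).trans h2
        generalize (Equiv.swap j k * Equiv.swap i j) = τ at h0 ⊢
        subst h0
        simp only [Pi.single_apply, τ.injective.eq_iff]
      rwa [e] at h'
  intro x hx
  refine inf_alternating_le (wrSylow hρ Q) (fun y hy hyp hys => ?_) hx.1 (Equiv.Perm.mem_alternatingGroup.1 hx.2)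
  obtain ⟨g, hg, c, hc⟩ := exists_conj_base hρ hyp
  have hgy : g * y * g⁻¹ ∈ T := hc ▸ hbase c (by rw [hc, sign_conj']; exact hys)
  have := hcl g⁻¹ _ (by rw [map_inv, hg, inv_one]) hgy (by simpa [mul_assoc] using (show y ∈ W from hy))
  simpa [mul_assoc] using this

end CfsgLib.Perm.Monomial
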