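import Cfsg.Agent.Lib.Perm.SylowGenerators
import Mathlib.GroupTheory.Perm.Cycle.Type

/-!
# Monomial permutations of `(ι × ZMod p) ⊕ ρ`

The normalizer of the group of translations in the fibres, and the Sylow subgroups built on it.
-/

set_option autoImplicit false

namespace CfsgLib.Perm.Monomial

open Equiv

theorem inv_apply_self' {α : Type*} (f : Equiv.Perm α) (x : α) : f⁻¹ (f x) = x := f.symm_apply_apply x

theorem apply_inv_self' {α : Type*} (f : Equiv.Perm α) (x : α) : f (f⁻¹ x) = x := f.apply_symm_apply x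

variable {p : ℕ} {ι ρ : Type*}

/-- The set acted on. -/
abbrev Pt (p : ℕ) (ι ρ : Type*) := (ι × ZMod p) ⊕ ρ

/-- The monomial permutation `(i, y) ↦ (σ i, d i * y + b i)`. -/
def mon (σ : Equiv.Perm ι) (d : ι → (ZMod p)ˣ) (b : ι → ZMod p) : Equiv.Perm (Pt p ι ρ) :=
  Equiv.sumCongr
    { toFun := fun x => (σ x.1, d x.1 * x.2 + b x.1)
      invFun := fun x => (σ.symm x.1, ((d (σ.symm x.1))⁻¹ : (ZMod p)ˣ) * (x.2 - b (σ.symm x.1)))
      left_inv := fun x => by
        simp [← mul_assoc]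
      right_inv := fun x => by
        simp [← mul_assoc] }
    (Equiv.refl ρ)

@[simp] theorem mon_inl (σ : Equiv.Perm ι) (d : ι → (ZMod p)ˣ) (b : ι → ZMod p) (i : ι) (y : ZMod p) :
    mon (ρ := ρ) σ d b (Sum.inl (i, y)) = Sum.inl (σ i, d i * y + b i) := rfl

@[simp] theorem mon_inr (σ : Equiv.Perm ι) (d : ι → (ZMod p)ˣ) (b : ι → ZMod p) (r : ρ) :
    mon (ρ := ρ) σ d b (Sum.inr r) = Sum.inr r := rfl

theorem mon_mul (σ τ : Equiv.Perm ι) (d e : ι → (ZMod p)ˣ) (b c : ι → ZMod p) :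
    mon (ρ := ρ) σ d b * mon τ e c =
      mon (σ * τ) (fun i => d (τ i) * e i) (fun i => d (τ i) * c i + b (τ i)) := by
  ext (⟨i, y⟩ | r)
  · simp [mul_add, mul_assoc, add_assoc]
  · simp

theorem mon_one : mon (ρ := ρ) (1 : Equiv.Perm ι) (1 : ι → (ZMod p)ˣ) 0 = 1 := by
  ext (⟨i, y⟩ | r) <;> simp

theorem mon_injective {σ τ : Equiv.Perm ι} {d e : ι → (ZMod p)ˣ} {b c : ι → ZMod p}
    (h : mon (ρ := ρ) σ d b = mon τ e c) : σ = τ ∧ d = e ∧ b = c := by
  have h0 : ∀ i, σ i = τ i ∧ b i = c i := fun i => by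
    have := congrArg (fun f : Equiv.Perm (Pt p ι ρ) => f (Sum.inl (i, 0))) h
    simpa using this
  refine ⟨Equiv.ext fun i => (h0 i).1, funext fun i => Units.ext ?_, funext fun i => (h0 i).2⟩
  have := congrArg (fun f : Equiv.Perm (Pt p ι ρ) => f (Sum.inl (i, 1))) h
  simp [(h0 i).2, (h0 i).1] at this
  exact this

theorem mon_inv (σ : Equiv.Perm ι) (d : ι → (ZMod p)ˣ) (b : ι → ZMod p) :
    (mon (ρ := ρ) σ d b)⁻¹ = mon σ⁻¹ (fun i => (d (σ⁻¹ i))⁻¹)
      (fun i => -(((d (σ⁻¹ i))⁻¹ : (ZMod p)ˣ) * b (σ⁻¹ i))) := by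
  refine inv_eq_of_mul_eq_one_right ?_
  rw [mon_mul, mul_inv_cancel]
  refine Eq.trans ?_ mon_one
  congr 1
  · funext i; simp
  · funext i; simp [← mul_assoc]

/-- Translations in the fibres. -/
def tr (b : ι → ZMod p) : Equiv.Perm (Pt p ι ρ) := mon 1 1 b

/-- Lifts of permutations of the fibres. -/
def lft (σ : Equiv.Perm ι) : Equiv.Perm (Pt p ι ρ) := mon σ 1 0

/-- Scalings in the fibres. -/
def dia (d : ι → (ZMod p)ˣ) : Equiv.Perm (Pt p ι ρ) := mon 1 d 0

theorem tr_inl (b : ι → ZMod p) (i : ι) (y : ZMod p) :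
    tr (ρ := ρ) b (Sum.inl (i, y)) = Sum.inl (i, y + b i) := by simp [tr]

theorem tr_inr (b : ι → ZMod p) (r : ρ) : tr (ρ := ρ) b (Sum.inr r) = Sum.inr r := rfl

theorem tr_add (b c : ι → ZMod p) : tr (ρ := ρ) (b + c) = tr b * tr c := by
  rw [tr, tr, tr, mon_mul]
  congr 1
  · funext i; simp
  · funext i; simp [add_comm]

theorem tr_zero : tr (ρ := ρ) (0 : ι → ZMod p) = 1 := mon_one

theorem tr_injective : Function.Injective (tr (p := p) (ι := ι) (ρ := ρ)) :=
  fun _ _ h => (mon_injective h).2.2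

theorem tr_neg (b : ι → ZMod p) : tr (ρ := ρ) (-b) = (tr b)⁻¹ := by
  refine eq_inv_of_mul_eq_one_left ?_
  rw [← tr_add, neg_add_cancel, tr_zero]

theorem tr_nsmul (b : ι → ZMod p) (k : ℕ) : tr (ρ := ρ) (k • b) = tr b ^ k := by
  induction k with
  | zero => rw [zero_nsmul, tr_zero, pow_zero]
  | succ k ih => rw [succ_nsmul, tr_add, ih, pow_succ]

theorem tr_pow_p (b : ι → ZMod p) : tr (ρ := ρ) b ^ p = 1 := by
  rw [← tr_nsmul]
  refine Eq.trans (congrArg _ ?_) tr_zero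
  funext i
  simp [nsmul_eq_mul]

theorem conj_tr (σ : Equiv.Perm ι) (d : ι → (ZMod p)ˣ) (b c : ι → ZMod p) :
    mon (ρ := ρ) σ d b * tr c * (mon σ d b)⁻¹ = tr (fun i => (d (σ⁻¹ i) : ZMod p) * c (σ⁻¹ i)) := by
  rw [mul_inv_eq_iff_eq_mul, tr, tr, mon_mul, mon_mul, mul_one, one_mul]
  congr 1
  · funext i; simp
  · funext i; simp [add_comm]

theorem mon_eq (σ : Equiv.Perm ι) (d : ι → (ZMod p)ˣ) (b : ι → ZMod p) :
    mon (ρ := ρ) σ d b = tr (b ∘ σ.symm) * lft σ * dia d := by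
  rw [tr, lft, dia, mon_mul, mon_mul, one_mul, mul_one]
  congr 1
  · funext i; simp
  · funext i; simp

theorem lft_mul (σ τ : Equiv.Perm ι) : lft (p := p) (ρ := ρ) (σ * τ) = lft σ * lft τ := by
  rw [lft, lft, lft, mon_mul]
  congr 1
  · funext i; simp
  · funext i; simp

theorem lft_one : lft (p := p) (ρ := ρ) (1 : Equiv.Perm ι) = 1 := mon_one

theorem dia_mul (d e : ι → (ZMod p)ˣ) : dia (ρ := ρ) (d * e) = dia d * dia e := by
  rw [dia, dia, dia, mon_mul]
  congr 1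
  funext i; simp

/-- The group of translations. -/
def base (p : ℕ) (ι ρ : Type*) : Subgroup (Equiv.Perm (Pt p ι ρ)) where
  carrier := Set.range tr
  one_mem' := ⟨0, tr_zero⟩
  mul_mem' := by rintro _ _ ⟨a, rfl⟩ ⟨b, rfl⟩; exact ⟨a + b, tr_add a b⟩
  inv_mem' := by rintro _ ⟨a, rfl⟩; exact ⟨-a, tr_neg a⟩

theorem tr_mem_base (b : ι → ZMod p) : tr (ρ := ρ) b ∈ base p ι ρ := ⟨b, rfl⟩

theorem mon_mem_normalizer (σ : Equiv.Perm ι) (d : ι → (ZMod p)ˣ) (b : ι → ZMod p) :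
    mon (ρ := ρ) σ d b ∈ Subgroup.normalizer (base p ι ρ : Set (Equiv.Perm (Pt p ι ρ))) := by
  rw [Subgroup.mem_normalizer_iff]
  intro x
  refine ⟨?_, fun hx => ?_⟩
  · rintro ⟨c, rfl⟩
    exact ⟨_, (conj_tr σ d b c).symm⟩
  · obtain ⟨c, hc⟩ := hx
    refine ⟨fun i => ((d i)⁻¹ : (ZMod p)ˣ) * c (σ i), ?_⟩
    have h := conj_tr (ρ := ρ) σ d b (fun i => ((d i)⁻¹ : (ZMod p)ˣ) * c (σ i))
    rw [show (fun i => (d (σ⁻¹ i) : ZMod p) * (((d (σ⁻¹ i))⁻¹ : (ZMod p)ˣ) * c (σ (σ⁻¹ i)))) = c from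
      funext fun i => by simp [← mul_assoc], hc] at h
    exact mul_left_cancel (mul_right_cancel h)

section Normalizer

variable [hp : Fact p.Prime] [DecidableEq ι] [Subsingleton ρ]

/-- The normalizer of the translations consists of monomial permutations. -/
theorem eq_mon_of_mem_normalizer {h : Equiv.Perm (Pt p ι ρ)}
    (hh : h ∈ Subgroup.normalizer (base p ι ρ : Set (Equiv.Perm (Pt p ι ρ)))) :
    ∃ σ d b, h = mon σ d b := by
  haveI : NeZero p := ⟨hp.out.ne_zero⟩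
  have hfix : ∀ r : ρ, h (Sum.inr r) = Sum.inr r := by
    intro r
    rcases hr : h (Sum.inr r) with ⟨j, y⟩ | r'
    · exfalso
      obtain ⟨f, hf⟩ := (Subgroup.mem_normalizer_iff.1 (inv_mem hh) (tr (Pi.single j 1))).1 (tr_mem_base _)
      have := congrArg (fun e : Equiv.Perm (Pt p ι ρ) => e (Sum.inr r)) hf
      simp only [Equiv.Perm.mul_apply, inv_inv, tr_inr, hr, tr_inl] at this
      have h2 := congrArg h this
      simp [Equiv.apply_symm_apply, hr] at h2
    · rw [Subsingleton.elim r' r]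
  have hinl : ∀ i y, ∃ j z, h (Sum.inl (i, y)) = Sum.inl (j, z) := by
    intro i y
    rcases hx : h (Sum.inl (i, y)) with ⟨j, z⟩ | r
    · exact ⟨j, z, rfl⟩
    · have := h.injective (hx.trans (hfix r).symm)
      cases this
  choose fj fz hf using hinl
  have hc : ∀ i, ∃ c : ι → ZMod p, h * tr (Pi.single i 1) * h⁻¹ = tr c := fun i => by
    obtain ⟨c, hc⟩ := (Subgroup.mem_normalizer_iff.1 hh (tr (Pi.single i 1))).1 (tr_mem_base _)
    exact ⟨c, hc.symm⟩
  choose c hc using hc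
  have hstep : ∀ i y, fj i (y + 1) = fj i y ∧ fz i (y + 1) = fz i y + c i (fj i y) := by
    intro i y
    have := congrArg (fun e : Equiv.Perm (Pt p ι ρ) => e (h (Sum.inl (i, y)))) (hc i)
    simp only [Equiv.Perm.mul_apply, inv_apply_self'] at this
    rw [tr_inl, Pi.single_eq_same, hf, hf, tr_inl] at this
    simpa using this
  have hnat : ∀ i (k : ℕ), fj i (k : ZMod p) = fj i 0 ∧ fz i (k : ZMod p) = fz i 0 + k * c i (fj i 0) := by
    intro i k
    induction k with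
    | zero => simp
    | succ k ih =>
      obtain ⟨h1, h2⟩ := hstep i (k : ZMod p)
      rw [Nat.cast_succ]
      refine ⟨h1.trans ih.1, ?_⟩
      rw [h2, ih.2, ih.1]
      ring
  have hall : ∀ i y, fj i y = fj i 0 ∧ fz i y = fz i 0 + y * c i (fj i 0) := by
    intro i y
    have := hnat i y.val
    rwa [ZMod.natCast_zmod_val] at this
  have hd : ∀ i, c i (fj i 0) ≠ 0 := by
    intro i h0
    have h1 : h (Sum.inl (i, 1)) = h (Sum.inl (i, 0)) := by
      rw [hf, hf, (hall i 1).1, (hall i 1).2, h0, mul_zero, add_zero]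
    have := h.injective h1
    simp at this
  have hσ : Function.Bijective fun i => fj i 0 := by
    refine ⟨fun i j hij => ?_, fun j => ?_⟩
    · have h1 : h (Sum.inl (i, (fz j 0 - fz i 0) / c i (fj i 0))) = h (Sum.inl (j, 0)) := by
        rw [hf, hf, (hall i _).1, (hall i _).2, div_mul_cancel₀ _ (hd i), add_sub_cancel]
        exact congrArg (fun k => Sum.inl (k, fz j 0)) hij
      have := h.injective h1
      simp only [Sum.inl.injEq, Prod.mk.injEq] at this
      exact this.1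
    · obtain ⟨x, hx⟩ := h.surjective (Sum.inl (j, (0 : ZMod p)))
      rcases x with ⟨i, y⟩ | r
      · refine ⟨i, ?_⟩
        rw [hf, (hall i y).1] at hx
        simpa using (Prod.ext_iff.1 (Sum.inl.inj hx)).1
      · rw [hfix] at hx
        cases hx
  refine ⟨Equiv.ofBijective _ hσ, fun i => Units.mk0 _ (hd i), fun i => fz i 0, ?_⟩
  ext (⟨i, y⟩ | r)
  · rw [hf, mon_inl, (hall i y).1, (hall i y).2]
    simp only [Equiv.ofBijective_apply, Units.val_mk0]
    ring_nf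
  · rw [hfix, mon_inr]

/-- The translations are their own centralizer. -/
theorem mem_base_of_commute {h : Equiv.Perm (Pt p ι ρ)}
    (hh : ∀ c : ι → ZMod p, h * tr c = tr c * h) : h ∈ base p ι ρ := by
  haveI : NeZero p := ⟨hp.out.ne_zero⟩
  have hN : h ∈ Subgroup.normalizer (base p ι ρ : Set (Equiv.Perm (Pt p ι ρ))) := by
    rw [Subgroup.mem_normalizer_iff]
    intro x
    refine ⟨?_, ?_⟩
    · rintro ⟨c, rfl⟩
      exact ⟨c, by rw [hh, mul_inv_cancel_right]⟩
    · rintro ⟨c, hc⟩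
      exact ⟨c, mul_left_cancel (((hh c).trans (mul_inv_eq_iff_eq_mul.1 hc.symm).symm))⟩
  obtain ⟨σ, d, b, rfl⟩ := eq_mon_of_mem_normalizer hN
  have key : ∀ i, σ i = i ∧ (d i : ZMod p) = 1 := by
    intro i
    have h1 := congrFun (tr_injective ((conj_tr (ρ := ρ) σ d b (Pi.single i 1)).symm.trans
      (by rw [hh, mul_inv_cancel_right]))) (σ i)
    rw [inv_apply_self', Pi.single_eq_same, mul_one] at h1
    by_cases h2 : σ i = i
    · rw [h2, Pi.single_eq_same] at h1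
      exact ⟨h2, h1⟩
    · rw [Pi.single_eq_of_ne h2] at h1
      exact absurd h1 (Units.ne_zero _)
  obtain rfl : σ = 1 := Equiv.ext fun i => (key i).1
  obtain rfl : d = 1 := funext fun i => Units.ext (key i).2
  exact tr_mem_base b

end Normalizer

end CfsgLib.Perm.Monomial
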