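import Cfsg.Agent.Lib.Perm.MonomialClosed
import Mathlib.GroupTheory.Perm.Cycle.Concrete

/-!
# Normalizers of Sylow subgroups of alternating groups in the monomial model
-/

set_option autoImplicit false
set_option linter.style.haveILetI false
set_option linter.unusedSectionVars false

namespace CfsgLib.Perm.Monomial

open Equiv
open scoped Pointwise

variable {p : ℕ} [hp : Fact p.Prime] {ι ρ : Type*} [Fintype ι] [DecidableEq ι] [Fintype ρ] [DecidableEq ρ]

theorem mem_of_mon_mem {Q : Subgroup (Equiv.Perm ι)} {σ : Equiv.Perm ι} {d : ι → (ZMod p)ˣ} {b : ι → ZMod p}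
    (h : mon (ρ := ρ) σ d b ∈ wr ρ Q) : σ ∈ Q ∧ d = 1 := by
  obtain ⟨τ, hτ, c, e⟩ := h
  obtain ⟨h1, h2, -⟩ := mon_injective e
  exact ⟨h1 ▸ hτ, h2⟩

section Two

theorem units_zmod_two (u : (ZMod 2)ˣ) : u = 1 := Units.ext (zmod_two_ne u.ne_zero)

/-- A monomial permutation normalizing a group inside `C_2 ≀ Q` containing the lifts of `Q`. -/
theorem mem_wr_of_normalizer {Q : Subgroup (Equiv.Perm ι)} (hQ : Subgroup.normalizer (Q : Set (Equiv.Perm ι)) ≤ Q)
    {S : Subgroup (Equiv.Perm (Pt 2 ι ρ))} (hS : S ≤ wr (p := 2) ρ Q) (hlift : ∀ q ∈ Q, lft (p := 2) q ∈ S)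
    {σ : Equiv.Perm ι} {d : ι → (ZMod 2)ˣ} {b : ι → ZMod 2}
    (h : mon (ρ := ρ) σ d b ∈ Subgroup.normalizer (S : Set (Equiv.Perm (Pt 2 ι ρ)))) :
    mon (ρ := ρ) σ d b ∈ wr ρ Q := by
  haveI : Fact (Nat.Prime 2) := ⟨Nat.prime_two⟩
  obtain rfl : d = 1 := funext fun i => units_zmod_two _
  refine ⟨σ, hQ (CfsgLib.Coprime.mem_normalizer_of_conj_map_le fun q hq => ?_), b, rfl⟩
  have h1 := hS ((Subgroup.mem_normalizer_iff.1 h _).1 (hlift q hq))
  rw [lft, mon_inv, mon_mul, mon_mul] at h1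
  exact (mem_of_mon_mem h1).1

/-- Sylow `2`-subgroups of symmetric groups are self-normalizing. -/
theorem normalizer_sylow_two_le (n : ℕ) : ∀ {α : Type} [Fintype α] [DecidableEq α], Fintype.card α = n →
    ∀ P : Sylow 2 (Equiv.Perm α), Subgroup.normalizer ((P : Subgroup (Equiv.Perm α)) : Set (Equiv.Perm α)) ≤ P := by
  haveI : Fact (Nat.Prime 2) := ⟨Nat.prime_two⟩
  induction n using Nat.strong_induction_on with
  | _ n ih =>
    intro α _ _ hα P
    by_cases hn : n ≤ 1
    · haveI : Subsingleton α := Fintype.card_le_one_iff_subsingleton.1 (hα ▸ hn)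
      intro x _
      rw [show x = 1 from Subsingleton.elim _ _]
      exact one_mem _
    let e : Pt 2 (Fin (n / 2)) (Fin (n % 2)) ≃ α := Fintype.equivOfCardEq (by
      rw [Fintype.card_sum, Fintype.card_prod, Fintype.card_fin, Fintype.card_fin, ZMod.card, hα]
      omega)
    have hρ : Fintype.card (Fin (n % 2)) < 2 := by rw [Fintype.card_fin]; omega
    obtain ⟨Q⟩ : Nonempty (Sylow 2 (Equiv.Perm (Fin (n / 2)))) := inferInstance
    have hQ := ih (n / 2) (by omega) (Fintype.card_fin _) Q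
    have key : Subgroup.normalizer (wr (p := 2) (Fin (n % 2)) (Q : Subgroup (Equiv.Perm (Fin (n / 2)))) :
        Set (Equiv.Perm (Pt 2 (Fin (n / 2)) (Fin (n % 2))))) ≤ wr (p := 2) _ (Q : Subgroup _) := by
      intro h hh
      haveI : Subsingleton (Fin (n % 2)) :=
        Fintype.card_le_one_iff_subsingleton.1 (by rw [Fintype.card_fin]; omega)
      obtain ⟨σ, d, b, rfl⟩ := eq_mon_of_mem_normalizer (normalizer_wr_le _ hh)
      exact mem_wr_of_normalizer hQ le_rfl (fun q hq => lft_mem_wr hq) hh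
    let f := Equiv.permCongrHom e
    let P₀ : Sylow 2 (Equiv.Perm α) := (wrSylow hρ Q).mapSurjective (f := f.toMonoidHom) f.surjective
    obtain ⟨u, rfl⟩ := MulAction.exists_smul_eq (Equiv.Perm α) P₀ P
    intro x hx
    rw [Sylow.coe_subgroup_smul] at hx ⊢
    rw [Subgroup.mem_pointwise_smul_iff_inv_smul_mem]
    have h0 : f.symm (u⁻¹ * x * u) ∈ wr (p := 2) (Fin (n % 2)) (Q : Subgroup (Equiv.Perm (Fin (n / 2)))) := by
      refine key (CfsgLib.Coprime.mem_normalizer_of_conj_map_le fun w hw => ?_)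
      have h1 : u * f w * u⁻¹ ∈ (MulAut.conj u • (P₀ : Subgroup (Equiv.Perm α))) := ⟨f w, ⟨w, hw, rfl⟩, rfl⟩
      obtain ⟨v, ⟨w', hw', hv⟩, hvx⟩ := (Subgroup.mem_normalizer_iff.1 hx _).1 h1
      change f w' = v at hv
      change u * v * u⁻¹ = x * (u * f w * u⁻¹) * x⁻¹ at hvx
      have : f.symm (u⁻¹ * x * u) * w * (f.symm (u⁻¹ * x * u))⁻¹ = w' := by
        apply f.injective
        rw [map_mul, map_mul, map_inv, MulEquiv.apply_symm_apply, hv]
        calc u⁻¹ * x * u * f w * (u⁻¹ * x * u)⁻¹ = u⁻¹ * (x * (u * f w * u⁻¹) * x⁻¹) * u := by group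
          _ = v := by rw [← hvx]; group
      rw [this]; exact hw'
    refine ⟨f.symm (u⁻¹ * x * u), h0, ?_⟩
    show f (f.symm (u⁻¹ * x * u)) = _
    rw [MulEquiv.apply_symm_apply, ← map_inv, MulAut.smul_def, MulAut.conj_apply, inv_inv]

/-- A transposition normalizing the even part of `C_2 ≀ Q` is a translation. -/
theorem swap_mem_base (hι : 3 ≤ Fintype.card ι) [Subsingleton ρ] {Q : Subgroup (Equiv.Perm ι)}
    {a c : Pt 2 ι ρ} (hac : a ≠ c)
    (ht : Equiv.swap a c ∈ Subgroup.normalizer ((wr (p := 2) ρ Q ⊓ alternatingGroup (Pt 2 ι ρ) :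
      Subgroup (Equiv.Perm (Pt 2 ι ρ))) : Set (Equiv.Perm (Pt 2 ι ρ)))) :
    Equiv.swap a c ∈ base 2 ι ρ := by
  haveI : Fact (Nat.Prime 2) := ⟨Nat.prime_two⟩
  wlog hinl : ∃ i y, a = Sum.inl (i, y) generalizing a c
  · rcases a with ⟨i, y⟩ | r
    · exact absurd ⟨i, y, rfl⟩ hinl
    rcases c with ⟨i, y⟩ | r'
    · rw [Equiv.swap_comm]
      exact this hac.symm (by rwa [Equiv.swap_comm] at ht) ⟨i, y, rfl⟩
    · exact absurd (congrArg Sum.inr (Subsingleton.elim r r')) hac
  obtain ⟨i, y, rfl⟩ := hinl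
  by_cases hc : c = Sum.inl (i, y + 1)
  · subst hc
    refine ⟨Pi.single i 1, ?_⟩
    ext (⟨j, z⟩ | r)
    · by_cases hj : j = i
      · subst hj
        rcases zmod_two_cases y with rfl | rfl <;> rcases zmod_two_cases z with rfl | rfl <;>
          simp [tr_inl, Equiv.swap_apply_def, zmod_two_add_self]
      · rw [tr_inl, Pi.single_eq_of_ne hj, add_zero, Equiv.swap_apply_of_ne_of_ne] <;> simp [hj]
    · rw [tr_inr, Equiv.swap_apply_of_ne_of_ne] <;> simp
  exfalso
  obtain ⟨l, hli, hlc⟩ : ∃ l, l ≠ i ∧ ∀ j z, c = Sum.inl (j, z) → l ≠ j := by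
    rcases c with ⟨j, z⟩ | r
    · obtain ⟨l, h1, h2⟩ := exists_third hι i j
      exact ⟨l, h1, by rintro j' z' e; obtain ⟨rfl, -⟩ := Prod.ext_iff.1 (Sum.inl.inj e); exact h2⟩
    · obtain ⟨l, h1, -⟩ := exists_third hι i i
      exact ⟨l, h1, by simp⟩
  set t := Equiv.swap (Sum.inl (i, y) : Pt 2 ι ρ) c
  set f := tr (ρ := ρ) (Pi.single i 1 + Pi.single l (1 : ZMod 2) : ι → ZMod 2)
  have hcne : ∀ z, c ≠ Sum.inl (i, z) := by
    intro z e
    subst e
    have hz : z ≠ y := fun e => hac (by rw [e])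
    refine hc (congrArg Sum.inl (Prod.ext rfl ?_))
    rcases zmod_two_cases y with rfl | rfl <;> rcases zmod_two_cases z with rfl | rfl <;>
      first | exact absurd rfl hz | rfl
  have hmem := (Subgroup.mem_normalizer_iff.1 ht f).1 ⟨tr_mem_wr _ _,
    Equiv.Perm.mem_alternatingGroup.2 (sign_tr_pair i l 1 1 (Or.inl rfl))⟩
  obtain ⟨σ, -, b, hb⟩ := hmem.1
  have hF : t * f * t⁻¹ * tr (fun _ => 1) = tr (fun _ => 1) * (t * f * t⁻¹) := by
    rw [hb]
    exact mul_inv_eq_iff_eq_mul.1 ((conj_tr σ 1 b (fun _ => (1 : ZMod 2))).trans (congrArg tr (by funext k; simp)))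
  have hFc : tr (ρ := ρ) (fun _ => (1 : ZMod 2)) c ≠ Sum.inl (i, y) ∧
      f (tr (ρ := ρ) (fun _ => (1 : ZMod 2)) c) = tr (ρ := ρ) (fun _ => (1 : ZMod 2)) c := by
    rcases c with ⟨j, z⟩ | r
    · have hji : j ≠ i := fun e => hcne z (by rw [e])
      simp [f, tr_inl, hji, (hlc j z rfl).symm]
    · simp [f, tr_inr]
  have := congrArg (fun e : Equiv.Perm (Pt 2 ι ρ) => e c) hF
  have hy1 : t (Sum.inl (i, y + 1)) = Sum.inl (i, y + 1) :=
    Equiv.swap_apply_of_ne_of_ne (by simp) (Ne.symm (hcne _))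
  have hfy : f (Sum.inl (i, y)) = Sum.inl (i, y + 1) := by simp [f, tr_inl, hli.symm]
  have hfy1 : f (Sum.inl (i, y + 1)) = Sum.inl (i, y) := by
    simp [f, tr_inl, hli.symm, add_assoc, zmod_two_add_self]
  simp only [Equiv.Perm.mul_apply, t, Equiv.swap_inv, Equiv.swap_apply_right] at this
  rw [show Equiv.swap (Sum.inl (i, y) : Pt 2 ι ρ) c = t from rfl] at this
  rw [hfy, hy1, tr_inl, add_assoc, zmod_two_add_self, add_zero] at this
  by_cases hFcc : tr (ρ := ρ) (fun _ => (1 : ZMod 2)) c = c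
  · rw [hFcc, show t c = Sum.inl (i, y) from Equiv.swap_apply_right _ _, hfy, hy1] at this
    simp at this
  · rw [show t (tr (ρ := ρ) (fun _ => (1 : ZMod 2)) c) = tr (ρ := ρ) (fun _ => (1 : ZMod 2)) c from
      Equiv.swap_apply_of_ne_of_ne hFc.1 hFcc, hFc.2, show t (tr (ρ := ρ) (fun _ => (1 : ZMod 2)) c) = _ from
      Equiv.swap_apply_of_ne_of_ne hFc.1 hFcc] at this
    rcases c with ⟨j, z⟩ | r
    · rw [tr_inl] at this
      have hji : j = i := (Prod.ext_iff.1 (Sum.inl.inj this)).1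
      exact hcne z (by rw [hji])
    · exact hFcc rfl

/-- The Sylow `2`-subgroups of an alternating group are self-normalizing. -/
theorem normalizer_even_le {ι ρ : Type} [Fintype ι] [DecidableEq ι] [Fintype ρ] [DecidableEq ρ]
    [Subsingleton ρ] (hι : 3 ≤ Fintype.card ι) (Q : Sylow 2 (Equiv.Perm ι))
    {h : Equiv.Perm (Pt 2 ι ρ)} (hs : Equiv.Perm.sign h = 1)
    (hh : h ∈ Subgroup.normalizer ((wr (p := 2) ρ (Q : Subgroup (Equiv.Perm ι)) ⊓
      alternatingGroup (Pt 2 ι ρ) : Subgroup _) : Set (Equiv.Perm (Pt 2 ι ρ)))) :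
    h ∈ wr (p := 2) ρ (Q : Subgroup (Equiv.Perm ι)) ⊓ alternatingGroup (Pt 2 ι ρ) := by
  haveI : Fact (Nat.Prime 2) := ⟨Nat.prime_two⟩
  have hN : h ∈ Subgroup.normalizer (base 2 ι ρ : Set (Equiv.Perm (Pt 2 ι ρ))) := by
    refine mem_normalizer_base fun i => ?_
    have hn : tr (ρ := ρ) (Pi.single i (1 : ZMod 2)) ∈ Subgroup.normalizer ((wr (p := 2) ρ
        (Q : Subgroup (Equiv.Perm ι)) ⊓ alternatingGroup (Pt 2 ι ρ) : Subgroup _) :
        Set (Equiv.Perm (Pt 2 ι ρ))) := by
      refine CfsgLib.Coprime.mem_normalizer_of_conj_map_le fun x hx => Subgroup.mem_inf.2 ⟨?_, ?_⟩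
      · exact mul_mem (mul_mem (tr_mem_wr _ _) hx.1) (inv_mem (tr_mem_wr _ _))
      · rw [Equiv.Perm.mem_alternatingGroup, sign_conj']
        exact Equiv.Perm.mem_alternatingGroup.1 hx.2
    obtain ⟨a, c, hac, e⟩ : ∃ a c : Pt 2 ι ρ, a ≠ c ∧ h * tr (Pi.single i (1 : ZMod 2)) * h⁻¹ = Equiv.swap a c := by
      refine ⟨h (Sum.inl (i, 0)), h (Sum.inl (i, 1)), h.injective.ne (by simp), ?_⟩
      rw [Equiv.swap_apply_apply]
      congr 2
      ext (⟨j, z⟩ | r)
      · by_cases hj : j = i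
        · subst hj
          rcases zmod_two_cases z with rfl | rfl <;> simp [tr_inl, Equiv.swap_apply_def, zmod_two_add_self]
        · rw [tr_inl, Pi.single_eq_of_ne hj, add_zero, Equiv.swap_apply_of_ne_of_ne] <;> simp [hj]
      · rw [tr_inr, Equiv.swap_apply_of_ne_of_ne] <;> simp
    rw [e]
    refine swap_mem_base (Q := (Q : Subgroup (Equiv.Perm ι))) hι hac ?_
    rw [← e]
    exact mul_mem (mul_mem hh hn) (inv_mem hh)
  obtain ⟨σ, d, b, rfl⟩ := eq_mon_of_mem_normalizer hN
  refine ⟨mem_wr_of_normalizer (normalizer_sylow_two_le _ rfl Q) inf_le_left (fun q hq => Subgroup.mem_inf.2 ⟨lft_mem_wr hq, ?_⟩) hh,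
    Equiv.Perm.mem_alternatingGroup.2 hs⟩
  rw [Equiv.Perm.mem_alternatingGroup, sign_lft, sq, Int.units_mul_self]

end Two

section Odd

theorem exists_pcycle_mem {α : Type*} [Fintype α] [DecidableEq α] (h : p ≤ Fintype.card α)
    (P : Sylow p (Equiv.Perm α)) :
    ∃ c : Equiv.Perm α, c.IsCycle ∧ c.support.card = p ∧ c ∈ (P : Subgroup (Equiv.Perm α)) := by
  obtain ⟨l, hl⟩ : ∃ l : List α, l.Nodup ∧ l.length = p := by
    refine ⟨(Finset.univ : Finset α).toList.take p, (Finset.nodup_toList _).sublist (List.take_sublist _ _), ?_⟩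
    rw [List.length_take, Finset.length_toList, Finset.card_univ]
    omega
  have hc : l.formPerm.IsCycle := List.isCycle_formPerm hl.1 (by rw [hl.2]; exact hp.out.two_le)
  have hcard : l.formPerm.support.card = p := by
    rw [List.support_formPerm_of_nodup _ hl.1 (fun x hx => by
      have := congrArg List.length hx; rw [hl.2] at this; exact hp.out.ne_one (by simpa using this)),
      List.toFinset_card_of_nodup hl.1, hl.2]
  have hP : IsPGroup p (Subgroup.zpowers l.formPerm) := by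
    refine IsPGroup.of_card (n := 1) ?_
    rw [Nat.card_zpowers, pow_one, hc.orderOf, hcard]
  obtain ⟨R, hR⟩ := hP.exists_le_sylow
  obtain ⟨u, hu⟩ := MulAction.exists_smul_eq (Equiv.Perm α) R P
  refine ⟨u * l.formPerm * u⁻¹, hc.conj, by rw [Equiv.Perm.card_support_conj, hcard], ?_⟩
  rw [← hu, Sylow.coe_subgroup_smul]
  exact ⟨_, hR (Subgroup.mem_zpowers _), rfl⟩

/-- A subgroup containing `C_p ≀ Q` and invariant under the even normalizer of the translations contains all
even monomial permutations of determinant one. -/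
theorem mon_mem_core (hp2 : p ≠ 2) (hι : p ≤ Fintype.card ι) (Q : Sylow p (Equiv.Perm ι))
    {K : Subgroup (Equiv.Perm (Pt p ι ρ))} (hW : wr ρ (Q : Subgroup (Equiv.Perm ι)) ≤ K)
    (hK : ∀ σ d b x, Equiv.Perm.sign (mon (ρ := ρ) σ d b) = 1 → x ∈ K →
      mon σ d b * x * (mon σ d b)⁻¹ ∈ K)
    {σ : Equiv.Perm ι} {d : ι → (ZMod p)ˣ} (b : ι → ZMod p) (hσ : Equiv.Perm.sign σ = 1) (hd : ∏ i, d i = 1) :
    mon (ρ := ρ) σ d b ∈ K := by
  have h3 : 3 ≤ Fintype.card ι := by
    have := hp.out.two_le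
    omega
  obtain ⟨u, hu, -⟩ := exists_chi_eq_neg_one (p := p) hp2
  obtain ⟨c, hc, hcs, hcQ⟩ := exists_pcycle_mem hι Q
  let P : Subgroup (Equiv.Perm ι) := K.comap
    { toFun := lft, map_one' := lft_one, map_mul' := lft_mul }
  have hP : ∀ τ, τ * c * τ⁻¹ ∈ P := by
    intro τ
    set e : ι → (ZMod p)ˣ := if Equiv.Perm.sign τ = 1 then 1 else fun i => if i ∈ c.support then u else 1
    have hec : ∀ i, e (c i) = e i := fun i => by
      simp only [e]; split
      · rfl
      · simp [Equiv.Perm.apply_mem_support]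
    have hs : Equiv.Perm.sign (mon (ρ := ρ) τ e 0) = 1 := by
      rw [sign_mon_odd hp2]
      simp only [e]
      split
      · next h => simp [h]
      · next h =>
        rw [(Int.units_eq_one_or _).resolve_left h, Finset.prod_ite_mem, Finset.univ_inter, Finset.prod_const,
          hcs, map_pow, hu, (hp.out.eq_two_or_odd'.resolve_left hp2).neg_one_pow]
        rfl
    have := hK τ e 0 (lft c) hs (hW (lft_mem_wr hcQ))
    show lft (τ * c * τ⁻¹) ∈ K
    convert this using 1
    rw [eq_mul_inv_iff_mul_eq, lft, lft, mon_mul, mon_mul]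
    congr 1
    · group
    · funext i; simp [hec]
    · funext i; simp
  have hA : alternatingGroup ι ≤ P := by
    have hN : Subgroup.normalClosure {c} ≤ P := by
      refine (Subgroup.closure_le _).2 fun x hx => ?_
      obtain ⟨y, hy, τ, hτ⟩ := Group.mem_conjugatesOfSet_iff.1 hx
      rw [Set.mem_singleton_iff] at hy
      subst hy
      obtain ⟨τ', hτ'⟩ := isConj_iff.1 ⟨τ, hτ⟩
      rw [← hτ']
      exact hP τ'
    refine le_trans ?_ hN
    obtain ⟨a, ha⟩ : ∃ a, c a ≠ a := by
      by_contra h; push Not at h; exact hc.ne_one (Equiv.ext h)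
    set τ := Equiv.swap a (c a)
    have hcca : c (c a) ≠ a := by
      intro e
      have h2 : c.support ⊆ {a, c a} := by
        intro x hx
        obtain ⟨k, rfl⟩ := hc.exists_pow_eq ha (Equiv.Perm.mem_support.1 hx)
        clear hx
        induction k with
        | zero => simp
        | succ k ih =>
          rw [pow_succ', Equiv.Perm.mul_apply]
          rcases Finset.mem_insert.1 ih with h | h
          · rw [h]; simp
          · rw [Finset.mem_singleton.1 h, e]; simp
      have := (Finset.card_le_card h2).trans Finset.card_le_two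
      rw [hcs] at this
      exact hp2 (le_antisymm this hp.out.two_le)
    have hmem : Equiv.swap (c a) (c (c a)) * Equiv.swap (c a) a ∈ Subgroup.normalClosure ({c} : Set (Equiv.Perm ι)) := by
      have he : c * (τ * c⁻¹ * τ⁻¹) = Equiv.swap (c a) (c (c a)) * Equiv.swap (c a) a := by
        have h2 : Equiv.swap (c a) (c (c a)) = c * τ * c⁻¹ := Equiv.swap_apply_apply c a (c a)
        rw [h2, Equiv.swap_comm (c a) a]
        simp only [τ, Equiv.swap_inv]
        group
      rw [← he]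
      exact mul_mem (Subgroup.subset_normalClosure (Set.mem_singleton c))
        (Subgroup.normalClosure_normal.conj_mem _
          (inv_mem (Subgroup.subset_normalClosure (Set.mem_singleton c))) τ)
    have h3c : (Equiv.swap (c a) (c (c a)) * Equiv.swap (c a) a).IsThreeCycle :=
      Equiv.Perm.isThreeCycle_swap_mul_swap_same (fun e => ha (c.injective e.symm)) ha hcca.symm.symm
    rw [← Equiv.Perm.closure_three_cycles_eq_alternating]
    refine (Subgroup.closure_le _).2 fun x hx => ?_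
    obtain ⟨τ', hτ'⟩ := isConj_iff.1 (Equiv.Perm.isConj_iff_cycleType_eq.2
      (h3c.cycleType.trans (hx : x.IsThreeCycle).cycleType.symm))
    rw [← hτ']
    exact Subgroup.normalClosure_normal.conj_mem _ hmem _
  have hlft : ∀ τ, Equiv.Perm.sign τ = 1 → lft τ ∈ K := fun τ hτ => hA (Equiv.Perm.mem_alternatingGroup.2 hτ)
  have hpair : ∀ (j l : ι) (v : (ZMod p)ˣ),
      dia (ρ := ρ) (Pi.mulSingle j v * Pi.mulSingle l v⁻¹) ∈ K := by
    intro j l v
    by_cases hjl : j = l
    · subst hjl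
      rw [← Pi.mulSingle_mul, mul_inv_cancel, Pi.mulSingle_one,
        show dia (ρ := ρ) (1 : ι → (ZMod p)ˣ) = 1 from mon_one]
      exact one_mem _
    obtain ⟨i, hij, hil⟩ := exists_third h3 j l
    set τ := Equiv.swap i l * Equiv.swap j l
    have hτs : Equiv.Perm.sign τ = 1 := by
      rw [map_mul, Equiv.Perm.sign_swap hil, Equiv.Perm.sign_swap hjl, Int.units_mul_self]
    have hτi : τ i = l := by simp [τ, Equiv.swap_apply_of_ne_of_ne hij hil]
    have hτj : τ j = i := by simp [τ]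
    set d₀ : ι → (ZMod p)ˣ := Pi.mulSingle i v * Pi.mulSingle j v
    have hs : Equiv.Perm.sign (mon (ρ := ρ) 1 d₀ 0) = 1 := by
      rw [sign_mon_odd hp2, map_one, one_mul]
      simp only [d₀, Pi.mul_apply]
      rw [Finset.prod_mul_distrib, Fintype.prod_pi_mulSingle', Fintype.prod_pi_mulSingle', map_mul,
        Int.units_mul_self]
    have h := mul_mem (hK 1 d₀ 0 (lft τ) hs (hlft τ hτs)) (inv_mem (hlft τ hτs))
    convert h using 1
    rw [eq_mul_inv_iff_mul_eq, eq_mul_inv_iff_mul_eq, dia, lft, mon_mul, mon_mul, mon_mul]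
    congr 1
    · funext k
      simp only [d₀, Pi.mul_apply, Pi.mulSingle_apply, Pi.one_apply, Equiv.Perm.one_apply, mul_one, one_mul]
      by_cases hki : k = i
      · subst hki
        have e1 : (l = j) = False := eq_false (Ne.symm hjl)
        have e2 : (k = j) = False := eq_false hij
        have e3 : (l = k) = False := eq_false (Ne.symm hil)
        simp only [hτi, e1, e2, e3, if_true, if_false, one_mul, mul_one, inv_mul_cancel]
      · by_cases hkj : k = j
        · subst hkj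
          have e1 : (i = k) = False := eq_false hij
          have e2 : (i = l) = False := eq_false hil
          have e3 : (k = i) = False := eq_false hki
          simp only [hτj, e1, e2, e3, if_true, if_false, one_mul, mul_one]
        · have h1 : τ k ≠ l := fun e => hki (τ.injective (e.trans hτi.symm))
          have h2 : τ k ≠ i := fun e => hkj (τ.injective (e.trans hτj.symm))
          simp only [h1, hki, hkj, h2, if_false, one_mul, mul_one]
    · funext k; simp
  have hdia : dia (ρ := ρ) d ∈ K := by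
    obtain ⟨o⟩ : Nonempty ι := Fintype.card_pos_iff.1 (by omega)
    have h := Finset.prod_induction (s := Finset.univ)
      (fun k => Pi.mulSingle k (d k) * Pi.mulSingle o (d k)⁻¹) (fun e : ι → (ZMod p)ˣ => dia (ρ := ρ) e ∈ K)
      (fun a a' ha ha' => by rw [dia_mul]; exact mul_mem ha ha')
      (by rw [show dia (ρ := ρ) (1 : ι → (ZMod p)ˣ) = 1 from mon_one]; exact one_mem _)
      (fun k _ => hpair k o (d k))
    rw [Finset.prod_mul_distrib, Finset.univ_prod_mulSingle,
      show ∏ k, Pi.mulSingle o (d k)⁻¹ = (Pi.mulSingle o (∏ k, (d k)⁻¹) : ι → (ZMod p)ˣ) from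
        (map_prod (MonoidHom.mulSingle (fun _ : ι => (ZMod p)ˣ) o) _ Finset.univ).symm,
      Finset.prod_inv_distrib, hd, inv_one, Pi.mulSingle_one, mul_one] at h
    exact h
  rw [mon_eq]
  exact mul_mem (mul_mem (hW (tr_mem_wr _ _)) (hlft σ hσ)) hdia

end Odd

end CfsgLib.Perm.Monomial
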