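import Cfsg.Agent.Lib.Perm.MonomialModel
import Cfsg.Agent.Lib.Coprime.SchurZassenhaus

/-!
# Signs of monomial permutations and the Sylow subgroups `C_p ≀ Q`
-/

set_option autoImplicit false
set_option linter.style.haveILetI false

namespace CfsgLib.Perm.Monomial

open Equiv

variable {p : ℕ} [hp : Fact p.Prime] {ι ρ : Type*} [Fintype ι] [DecidableEq ι] [Fintype ρ] [DecidableEq ρ]

/-- Multiplication by a unit as a permutation of `ZMod p`. -/
def chi : (ZMod p)ˣ →* ℤˣ where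
  toFun u := Equiv.Perm.sign ((Units.mulLeft u : Equiv.Perm (ZMod p)))
  map_one' := by
    rw [show (Units.mulLeft (1 : (ZMod p)ˣ) : Equiv.Perm (ZMod p)) = 1 by ext; simp]
    exact map_one _
  map_mul' u v := by
    rw [← map_mul]
    congr 1
    ext; simp [mul_assoc]

theorem sign_lft (σ : Equiv.Perm ι) :
    Equiv.Perm.sign (lft (p := p) (ρ := ρ) σ) = Equiv.Perm.sign σ ^ p := by
  have h : lft (p := p) (ρ := ρ) σ = Equiv.Perm.sumCongr (SylowGen.lift (p := p) σ) 1 := by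
    ext (⟨i, y⟩ | r) <;> simp [lft, SylowGen.lift_apply]
  rw [h, Equiv.Perm.sign_sumCongr, map_one, mul_one, SylowGen.sign_lift]

theorem sign_dia (d : ι → (ZMod p)ˣ) :
    Equiv.Perm.sign (dia (ρ := ρ) d) = chi (∏ i, d i) := by
  have h : dia (ρ := ρ) d =
      Equiv.Perm.sumCongr (Equiv.prodCongrRight fun i => (Units.mulLeft (d i) : Equiv.Perm (ZMod p))) 1 := by
    ext (⟨i, y⟩ | r) <;> simp [dia]
  rw [h, Equiv.Perm.sign_sumCongr, map_one, mul_one, Equiv.Perm.sign_prodCongrRight, map_prod]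
  rfl

theorem sign_tr_odd (hp2 : p ≠ 2) (b : ι → ZMod p) : Equiv.Perm.sign (tr (ρ := ρ) b) = 1 := by
  have h := congrArg Equiv.Perm.sign (tr_pow_p (ρ := ρ) b)
  rw [map_pow, map_one] at h
  rcases Int.units_eq_one_or (Equiv.Perm.sign (tr (ρ := ρ) b)) with e | e
  · exact e
  · rw [e, (hp.out.eq_two_or_odd'.resolve_left hp2).neg_one_pow] at h
    exact absurd h (by decide)

theorem sign_mon_odd (hp2 : p ≠ 2) (σ : Equiv.Perm ι) (d : ι → (ZMod p)ˣ) (b : ι → ZMod p) :
    Equiv.Perm.sign (mon (ρ := ρ) σ d b) = Equiv.Perm.sign σ * chi (∏ i, d i) := by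
  rw [mon_eq, map_mul, map_mul, sign_tr_odd hp2, one_mul, sign_lft, sign_dia]
  congr 1
  rcases Int.units_eq_one_or (Equiv.Perm.sign σ) with e | e
  · rw [e, one_pow]
  · rw [e, (hp.out.eq_two_or_odd'.resolve_left hp2).neg_one_pow]

/-- A unit of `ZMod p` acting as an odd permutation. -/
theorem exists_chi_eq_neg_one (hp2 : p ≠ 2) :
    ∃ u : (ZMod p)ˣ, chi u = -1 ∧ ∀ v : (ZMod p)ˣ, v ∈ Subgroup.zpowers u := by
  haveI : NeZero p := ⟨hp.out.ne_zero⟩
  obtain ⟨u, hu⟩ := IsCyclic.exists_generator (α := (ZMod p)ˣ)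
  refine ⟨u, ?_, hu⟩
  show Equiv.Perm.sign ((Units.mulLeft u : Equiv.Perm (ZMod p))) = -1
  have hone : (u : ZMod p) ≠ 1 := by
    intro h
    have h1 : u = 1 := Units.ext h
    obtain ⟨k, hk⟩ := Subgroup.mem_zpowers_iff.1 (hu (-1))
    rw [h1, one_zpow] at hk
    have h2 : (1 : ZMod p) = -1 := congrArg Units.val hk
    have h3 : ((2 : ℕ) : ZMod p) = 0 := by push_cast; linear_combination h2
    exact hp2 ((Nat.prime_dvd_prime_iff_eq hp.out Nat.prime_two).1 ((ZMod.natCast_eq_zero_iff 2 p).1 h3))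
  have hsupp : (Units.mulLeft u : Equiv.Perm (ZMod p)).support = Finset.univ.erase 0 := by
    ext x
    simp [mul_left_eq_self₀, hone]
  have hpow : ∀ (k : ℤ) (x : ZMod p),
      ((Units.mulLeft u : Equiv.Perm (ZMod p)) ^ k) x = ((u ^ k : (ZMod p)ˣ) : ZMod p) * x := by
    intro k
    induction k using Int.induction_on with
    | zero => simp
    | succ n ih => intro x; rw [zpow_add_one, Equiv.Perm.mul_apply, ih, zpow_add_one, Units.val_mul,
                     Units.mulLeft_apply, mul_assoc]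
    | pred n ih => intro x; rw [zpow_sub_one, Equiv.Perm.mul_apply, ih, zpow_sub_one, Units.val_mul,
                     Equiv.Perm.inv_def, Units.mulLeft_symm, Units.mulLeft_apply, mul_assoc]
  have hcyc : (Units.mulLeft u : Equiv.Perm (ZMod p)).IsCycle := by
    refine ⟨1, by simpa using hone, fun y hy => ?_⟩
    have hy0 : y ≠ 0 := by rintro rfl; simp at hy
    obtain ⟨k, hk⟩ := Subgroup.mem_zpowers_iff.1 (hu (Units.mk0 y hy0))
    exact ⟨k, by rw [hpow, hk, mul_one, Units.val_mk0]⟩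
  rw [hcyc.sign, hsupp, Finset.card_erase_of_mem (Finset.mem_univ _), Finset.card_univ, ZMod.card,
    Even.neg_one_pow]
  exact Nat.Odd.sub_odd (hp.out.eq_two_or_odd'.resolve_left hp2) odd_one

/-- The permutations `tr b * lft σ` with `σ ∈ Q`. -/
def wr (ρ : Type*) (Q : Subgroup (Equiv.Perm ι)) : Subgroup (Equiv.Perm (Pt p ι ρ)) where
  carrier := {g | ∃ σ ∈ Q, ∃ b, g = mon σ 1 b}
  one_mem' := ⟨1, one_mem _, 0, mon_one.symm⟩
  mul_mem' := by
    rintro _ _ ⟨σ, hσ, b, rfl⟩ ⟨τ, hτ, c, rfl⟩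
    refine ⟨σ * τ, mul_mem hσ hτ, fun i => c i + b (τ i), ?_⟩
    rw [mon_mul]
    congr 1
    · funext i; simp
    · funext i; simp
  inv_mem' := by
    rintro _ ⟨σ, hσ, b, rfl⟩
    refine ⟨σ⁻¹, inv_mem hσ, fun i => -b (σ⁻¹ i), ?_⟩
    rw [mon_inv]
    congr 1
    all_goals (funext i; simp)

theorem tr_mem_wr (Q : Subgroup (Equiv.Perm ι)) (b : ι → ZMod p) : tr (ρ := ρ) b ∈ wr ρ Q :=
  ⟨1, one_mem _, b, rfl⟩

theorem lft_mem_wr {Q : Subgroup (Equiv.Perm ι)} {σ : Equiv.Perm ι} (hσ : σ ∈ Q) :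
    lft (p := p) (ρ := ρ) σ ∈ wr ρ Q := ⟨σ, hσ, 0, rfl⟩

theorem base_le_wr (Q : Subgroup (Equiv.Perm ι)) : base p ι ρ ≤ wr ρ Q := by
  rintro _ ⟨b, rfl⟩; exact tr_mem_wr Q b

theorem wr_le_normalizer (Q : Subgroup (Equiv.Perm ι)) :
    wr (p := p) ρ Q ≤ Subgroup.normalizer (base p ι ρ : Set (Equiv.Perm (Pt p ι ρ))) := by
  rintro _ ⟨σ, -, b, rfl⟩; exact mon_mem_normalizer σ 1 b

theorem card_wr (Q : Subgroup (Equiv.Perm ι)) :
    Nat.card (wr (p := p) ρ Q) = p ^ Fintype.card ι * Nat.card Q := by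
  haveI : NeZero p := ⟨hp.out.ne_zero⟩
  rw [show p ^ Fintype.card ι * Nat.card Q = Nat.card ((ι → ZMod p) × Q) by
    rw [Nat.card_prod, Nat.card_fun, Nat.card_zmod, Nat.card_eq_fintype_card (α := ι)]]
  symm
  refine Nat.card_eq_of_bijective
    (fun i => (⟨mon (i.2 : Equiv.Perm ι) 1 i.1, i.2, i.2.2, i.1, rfl⟩ : wr ρ Q)) ⟨fun i j h => ?_, ?_⟩
  · obtain ⟨h1, -, h3⟩ := mon_injective (congrArg Subtype.val h)
    exact Prod.ext h3 (Subtype.ext h1)
  · rintro ⟨_, σ, hσ, b, rfl⟩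
    exact ⟨(b, ⟨σ, hσ⟩), rfl⟩

theorem card_wr_sylow (hρ : Fintype.card ρ < p) (Q : Sylow p (Equiv.Perm ι)) :
    Nat.card (wr (p := p) ρ (Q : Subgroup (Equiv.Perm ι))) =
      p ^ (Nat.card (Equiv.Perm (Pt p ι ρ))).factorization p := by
  rw [card_wr, Q.card_eq_multiplicity, ← pow_add, Nat.card_perm, Nat.card_perm,
    Nat.card_eq_fintype_card (α := ι), Nat.card_eq_fintype_card (α := Pt p ι ρ),
    Nat.factorization_def _ hp.out, Nat.factorization_def _ hp.out, Fintype.card_sum, Fintype.card_prod,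
    ZMod.card]
  congr 1
  have h1 := padicValNat_mul_div_factorial (p := p) (Fintype.card ι * p + Fintype.card ρ)
  rw [show (Fintype.card ι * p + Fintype.card ρ) / p = Fintype.card ι by
    rw [add_comm, Nat.add_mul_div_right _ _ hp.out.pos, Nat.div_eq_of_lt hρ, zero_add]] at h1
  rw [← h1, padicValNat_factorial_mul, add_comm]

/-- `C_p ≀ Q` as a Sylow subgroup. -/
noncomputable def wrSylow (hρ : Fintype.card ρ < p) (Q : Sylow p (Equiv.Perm ι)) :
    Sylow p (Equiv.Perm (Pt p ι ρ)) :=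
  Sylow.ofCard _ (card_wr_sylow hρ Q)

omit hp in
theorem moved_conj {α : Type*} (h g : Equiv.Perm α) :
    {x | (h * g * h⁻¹) x ≠ x}.ncard = {x | g x ≠ x}.ncard := by
  rw [← Set.ncard_image_of_injective {x | g x ≠ x} h.injective]
  congr 1
  ext x
  constructor
  · intro hx
    refine ⟨h⁻¹ x, fun e => hx ?_, apply_inv_self' h x⟩
    simp only [Equiv.Perm.mul_apply, e, apply_inv_self']
  · rintro ⟨y, hy, rfl⟩ e
    simp only [Equiv.Perm.mul_apply, inv_apply_self'] at e
    exact hy (h.injective e)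

theorem moved_tr_single (i : ι) {a : ZMod p} (ha : a ≠ 0) :
    {x | tr (ρ := ρ) (Pi.single i a) x ≠ x}.ncard = p := by
  have : {x | tr (ρ := ρ) (Pi.single i a) x ≠ x} = (fun y => (Sum.inl (i, y) : Pt p ι ρ)) '' Set.univ := by
    ext (⟨j, y⟩ | r)
    · by_cases h : j = i
      · subst h; simp [tr_inl, ha]
      · simp [tr_inl, Pi.single_eq_of_ne h, Ne.symm h]
    · simp [tr_inr]
  rw [this, Set.ncard_image_of_injective _ (fun a b h => by simpa using h), Set.ncard_univ, Nat.card_zmod]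

/-- An element of `C_p ≀ Q` moving exactly `p` points is a translation of one fibre. -/
theorem eq_single_of_moved {g : Equiv.Perm (Pt p ι ρ)} {Q : Subgroup (Equiv.Perm ι)} (hg : g ∈ wr ρ Q)
    (hm : {x | g x ≠ x}.ncard = p) : ∃ i a, g = tr (Pi.single i a) := by
  haveI : NeZero p := ⟨hp.out.ne_zero⟩
  obtain ⟨σ, -, b, rfl⟩ := hg
  have hσ : σ = 1 := by
    by_contra hne
    obtain ⟨i, hi⟩ : ∃ i, σ i ≠ i := by
      by_contra h; push Not at h; exact hne (Equiv.ext h)
    have hsub : (fun z : Bool × ZMod p => (Sum.inl (cond z.1 i (σ i), z.2) : Pt p ι ρ)) '' Set.univ ⊆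
        {x | mon (ρ := ρ) σ 1 b x ≠ x} := by
      rintro _ ⟨⟨c, y⟩, -, rfl⟩
      cases c <;> simp only [cond, Set.mem_setOf_eq, mon_inl, ne_eq, Sum.inl.injEq, Prod.mk.injEq, not_and]
      · exact fun e => absurd (σ.injective e) hi
      · exact fun e => absurd e hi
    have hle := Set.ncard_le_ncard hsub (Set.toFinite _)
    rw [Set.ncard_image_of_injective, Set.ncard_univ, Nat.card_prod, Nat.card_zmod, hm] at hle
    · simp [Nat.card_eq_fintype_card] at hle
      have := hp.out.pos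
      omega
    · rintro ⟨c, y⟩ ⟨c', y'⟩ h
      cases c <;> cases c' <;> simp [hi, Ne.symm hi] at h <;> simp [h]
  subst hσ
  obtain ⟨i, hi⟩ : ∃ i, b i ≠ 0 := by
    by_contra h
    push Not at h
    rw [show b = 0 from funext h, show mon (ρ := ρ) (1 : Equiv.Perm ι) (1 : ι → (ZMod p)ˣ) 0 = 1 from mon_one]
      at hm
    simp at hm
    exact hp.out.ne_zero hm.symm
  refine ⟨i, b i, ?_⟩
  show tr b = tr _
  congr 1
  funext j
  by_cases hj : j = i
  · subst hj; simp
  · rw [Pi.single_eq_of_ne hj]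
    by_contra hbj
    have hsub : (fun z : Bool × ZMod p => (Sum.inl (cond z.1 i j, z.2) : Pt p ι ρ)) '' Set.univ ⊆
        {x | tr (ρ := ρ) b x ≠ x} := by
      rintro _ ⟨⟨c, y⟩, -, rfl⟩
      cases c <;> simp [tr_inl, hi, hbj]
    have hle := Set.ncard_le_ncard hsub (Set.toFinite _)
    rw [Set.ncard_image_of_injective, Set.ncard_univ, Nat.card_prod, Nat.card_zmod] at hle
    · rw [show {x | tr (ρ := ρ) b x ≠ x}.ncard = p from hm] at hle
      simp [Nat.card_eq_fintype_card] at hle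
      have := hp.out.pos
      omega
    · rintro ⟨c, y⟩ ⟨c', y'⟩ h
      cases c <;> cases c' <;> simp [hj, Ne.symm hj] at h <;> simp [h]

/-- The translations are generated by those of the single fibres. -/
theorem base_le_of_single {H : Subgroup (Equiv.Perm (Pt p ι ρ))}
    (h : ∀ i, tr (Pi.single i (1 : ZMod p)) ∈ H) : base p ι ρ ≤ H := by
  haveI : NeZero p := ⟨hp.out.ne_zero⟩
  rintro _ ⟨b, rfl⟩
  rw [← Finset.univ_sum_single b]
  refine Finset.sum_induction _ (fun c : ι → ZMod p => tr (ρ := ρ) c ∈ H) (fun a c ha hc => ?_) ?_ fun i _ => ?_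
  · rw [tr_add]; exact mul_mem ha hc
  · rw [tr_zero]; exact one_mem _
  · rw [show (Pi.single i (b i) : ι → ZMod p) = (b i).val • Pi.single i 1 by
      rw [← Pi.single_smul, nsmul_eq_mul, mul_one, ZMod.natCast_zmod_val], tr_nsmul]
    exact pow_mem (h i) _

/-- A permutation mapping the generators of the translations to translations normalizes them. -/
theorem mem_normalizer_base {h : Equiv.Perm (Pt p ι ρ)}
    (hh : ∀ i, h * tr (Pi.single i (1 : ZMod p)) * h⁻¹ ∈ base p ι ρ) :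
    h ∈ Subgroup.normalizer (base p ι ρ : Set (Equiv.Perm (Pt p ι ρ))) :=
  CfsgLib.Coprime.mem_normalizer_of_conj_map_le fun x hx =>
    (show base p ι ρ ≤ (base p ι ρ).comap (MulAut.conj h).toMonoidHom from base_le_of_single fun i => hh i) hx

/-- The normalizer of `C_p ≀ Q` normalizes the translations. -/
theorem normalizer_wr_le (Q : Subgroup (Equiv.Perm ι)) :
    Subgroup.normalizer (wr (p := p) ρ Q : Set (Equiv.Perm (Pt p ι ρ))) ≤
      Subgroup.normalizer (base p ι ρ : Set (Equiv.Perm (Pt p ι ρ))) := by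
  intro h hh
  refine mem_normalizer_base fun i => ?_
  obtain ⟨j, a, e⟩ := eq_single_of_moved ((Subgroup.mem_normalizer_iff.1 hh _).1 (tr_mem_wr Q (Pi.single i 1)))
    (by rw [moved_conj, moved_tr_single i one_ne_zero])
  rw [e]
  exact tr_mem_base _

end CfsgLib.Perm.Monomial
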