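import Mathlib
import Cfsg.Prelude.Def_KGroupFacts

/-!
A simple group with a subgroup of prime index has solvable outer automorphism group.

If `z` has order `p`, then the automorphisms fixing `z` commute: identify the cosets of `H` with
`⟨z⟩`; for two such automorphisms `α`, `β` the orbit sets `S α`, `S β` of `H` are proper and non-empty,
and their convolution intertwines the action with both of the twists by `α * β` and `β * α`; a
non-constant function on a group of prime order is translation-invariant only trivially.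
-/

set_option autoImplicit false

namespace CfsgLib.Perm.PrimeIndexOut

variable {G : Type*} [Group G]

section Comm

variable (Z : Subgroup G) (H : Subgroup G) (p : ℕ) (ρ : G →* Equiv.Perm Z)

/-- `R α u v` : some element sends `1` to `u`, and in the `α`-twisted action to `v`. -/
def rel (α : MulAut G) (u v : Z) : Prop := ∃ g : G, ρ g 1 = u ∧ ρ (α⁻¹ g) 1 = v

theorem rel_smul (α : MulAut G) (g : G) (u v : Z) :
    rel Z ρ α (ρ g u) (ρ (α⁻¹ g) v) ↔ rel Z ρ α u v := by
  constructor
  · rintro ⟨k, h1, h2⟩
    refine ⟨g⁻¹ * k, ?_, ?_⟩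
    · rw [map_mul, Equiv.Perm.mul_apply, h1, map_inv, Equiv.Perm.inv_def, Equiv.symm_apply_apply]
    · rw [map_mul, map_mul, Equiv.Perm.mul_apply, h2, map_inv, map_inv, Equiv.Perm.inv_def,
        Equiv.symm_apply_apply]
  · rintro ⟨k, h1, h2⟩
    exact ⟨g * k, by rw [map_mul, Equiv.Perm.mul_apply, h1],
      by rw [map_mul, map_mul, Equiv.Perm.mul_apply, h2]⟩

theorem comm_of_fix [Finite G] (hp : p.Prime) (hZ : Nat.card Z = p) (hρ : Function.Injective ρ)
    (htr : ∀ w u : Z, ρ (w : G) u = w * u) (hH : ¬ p ∣ Nat.card H)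
    (hst : ∀ g : G, ρ g 1 = 1 ↔ g ∈ H)
    (α β : MulAut G) (hα : ∀ u : Z, α (u : G) = u) (hβ : ∀ u : Z, β (u : G) = u) :
    α * β = β * α := by
  classical
  haveI : Fintype Z := Fintype.ofFinite _
  haveI := Fact.mk hp
  haveI : IsCyclic Z := isCyclic_of_prime_card hZ
  letI : CommGroup Z := IsCyclic.commGroup
  have hinv : ∀ γ : MulAut G, (∀ u : Z, γ (u : G) = u) → ∀ u : Z, γ⁻¹ (u : G) = u := by
    intro γ hγ u
    apply γ.injective
    rw [MulAut.apply_inv_self, hγ u]
  have hrel : ∀ γ : MulAut G, (∀ u : Z, γ (u : G) = u) → ∀ u v : Z,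
      rel Z ρ γ u v ↔ rel Z ρ γ 1 (u⁻¹ * v) := by
    intro γ hγ u v
    have := rel_smul Z ρ γ ((u⁻¹ : Z) : G) u v
    rw [hinv γ hγ, htr, htr, inv_mul_cancel] at this
    exact this.symm
  let S : MulAut G → Finset Z := fun γ => Finset.univ.filter fun v => rel Z ρ γ 1 v
  have hS1 : ∀ γ, (S γ).Nonempty := fun γ =>
    ⟨1, Finset.mem_filter.2 ⟨Finset.mem_univ _, 1, by simp, by simp⟩⟩
  have hS2 : ∀ γ, (S γ).card < p := by
    intro γ
    let ψ : H →* Equiv.Perm Z := (ρ.comp (γ⁻¹ : MulAut G).toMonoidHom).comp H.subtype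
    letI : MulAction H Z := MulAction.compHom Z ψ
    have horb : ∀ v : Z, v ∈ S γ ↔ v ∈ MulAction.orbit H (1 : Z) := by
      intro v
      constructor
      · intro hv
        obtain ⟨k, hk1, hk2⟩ := (Finset.mem_filter.1 hv).2
        exact ⟨⟨k, (hst k).1 hk1⟩, hk2⟩
      · rintro ⟨k, rfl⟩
        exact Finset.mem_filter.2 ⟨Finset.mem_univ _, (k : G), (hst _).2 k.2, rfl⟩
    have hd : (S γ).card ∣ Nat.card H := by
      have h1 : Nat.card (MulAction.orbit H (1 : Z)) = (S γ).card := by
        rw [← Nat.card_eq_finsetCard (S γ)]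
        exact (Nat.card_congr (Equiv.subtypeEquivRight horb)).symm
      rw [← h1, Nat.card_coe_set_eq, ← MulAction.index_stabilizer H (1 : Z)]
      exact Subgroup.index_dvd_card _
    have hle : (S γ).card ≤ p := by
      rw [← hZ, Nat.card_eq_fintype_card]
      exact Finset.card_le_univ _
    rcases lt_or_eq_of_le hle with h | h
    · exact h
    · exact absurd (h ▸ hd) hH
  let f : Z → ℕ := fun t => ((S α ×ˢ S β).filter fun x => x.1 * x.2 = t).card
  have hf' : ∀ t, ((S β ×ˢ S α).filter fun x => x.1 * x.2 = t).card = f t := by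
    intro t
    refine Finset.card_bij (fun x _ => x.swap) ?_ ?_ ?_
    · intro x hx
      simp only [Finset.mem_filter, Finset.mem_product] at hx ⊢
      exact ⟨⟨hx.1.2, hx.1.1⟩, by rw [Prod.fst_swap, Prod.snd_swap, mul_comm]; exact hx.2⟩
    · intro a _ b _ h
      exact Prod.swap_injective h
    · intro x hx
      simp only [Finset.mem_filter, Finset.mem_product] at hx
      refine ⟨x.swap, ?_, Prod.swap_swap x⟩
      simp only [Finset.mem_filter, Finset.mem_product]
      exact ⟨⟨hx.1.2, hx.1.1⟩, by rw [Prod.fst_swap, Prod.snd_swap, mul_comm]; exact hx.2⟩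
  -- the number of two-step paths
  have hcount : ∀ γ δ : MulAut G, (∀ u : Z, γ (u : G) = u) → (∀ u : Z, δ (u : G) = u) →
      ∀ (g : G) (u w : Z),
      ((S γ ×ˢ S δ).filter fun x => x.1 * x.2 = (ρ g u)⁻¹ * ρ ((γ * δ)⁻¹ g) w).card
        = ((S γ ×ˢ S δ).filter fun x => x.1 * x.2 = u⁻¹ * w).card := by
    intro γ δ hγ hδ g u w
    have key : ∀ a c : Z, ((S γ ×ˢ S δ).filter fun x => x.1 * x.2 = a⁻¹ * c).card
        = (Finset.univ.filter fun v => rel Z ρ γ a v ∧ rel Z ρ δ v c).card := by
      intro a c
      refine Finset.card_bij (fun x _ => a * x.1) ?_ ?_ ?_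
      · intro x hx
        simp only [Finset.mem_filter, Finset.mem_product, S, Finset.mem_univ, true_and] at hx ⊢
        refine ⟨(hrel γ hγ _ _).2 (by rw [inv_mul_cancel_left]; exact hx.1.1), (hrel δ hδ _ _).2 ?_⟩
        have e : (a * x.1)⁻¹ * c = x.2 := by
          rw [mul_inv_rev, mul_assoc, ← hx.2, inv_mul_cancel_left]
        rw [e]; exact hx.1.2
      · intro x hx y hy h
        simp only [Finset.mem_filter] at hx hy
        have h1 : x.1 = y.1 := mul_left_cancel h
        have h2 : x.2 = y.2 := by
          have := hx.2.trans hy.2.symm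
          rw [h1] at this
          exact mul_left_cancel this
        exact Prod.ext h1 h2
      · intro v hv
        simp only [Finset.mem_filter, Finset.mem_univ, true_and] at hv
        refine ⟨(a⁻¹ * v, v⁻¹ * c), ?_, mul_inv_cancel_left a v⟩
        simp only [Finset.mem_filter, Finset.mem_product, S, Finset.mem_univ, true_and]
        exact ⟨⟨(hrel γ hγ _ _).1 hv.1, (hrel δ hδ _ _).1 hv.2⟩, by
          rw [mul_assoc, mul_inv_cancel_left]⟩
    rw [key, key]
    symm
    have hgd : (γ * δ)⁻¹ g = δ⁻¹ (γ⁻¹ g) := by rw [mul_inv_rev, MulAut.mul_apply]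
    rw [hgd]
    refine Finset.card_equiv (ρ (γ⁻¹ g)) ?_
    intro v
    simp only [Finset.mem_filter, Finset.mem_univ, true_and, rel_smul]
  -- `f` is not constant
  have hnc : ¬ ∀ t t' : Z, f t = f t' := by
    intro hc
    have h1 : (S α ×ˢ S β).card = ∑ t : Z, f t :=
      Finset.card_eq_sum_card_fiberwise (fun x _ => Finset.mem_univ _)
    rw [Finset.sum_congr rfl (fun t _ => hc t 1), Finset.sum_const, Finset.card_univ,
      smul_eq_mul, ← Nat.card_eq_fintype_card, hZ, Finset.card_product] at h1
    rcases hp.dvd_mul.1 (Dvd.intro _ h1.symm) with h | h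
    · exact absurd (Nat.le_of_dvd (hS1 α).card_pos h) (not_le.2 (hS2 α))
    · exact absurd (Nat.le_of_dvd (hS1 β).card_pos h) (not_le.2 (hS2 β))
  have hperm : ∀ g : G, ρ ((α * β)⁻¹ g) = ρ ((β * α)⁻¹ g) := by
    intro g
    refine Equiv.ext fun w => ?_
    set a := ρ ((α * β)⁻¹ g) w with ha
    set b := ρ ((β * α)⁻¹ g) w with hb
    by_contra hne
    apply hnc
    have hshift : ∀ x : Z, f (x * a) = f (x * b) := by
      intro x
      obtain ⟨u, hu⟩ := (ρ g).surjective x⁻¹
      have e1 := hcount α β hα hβ g u w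
      have e2 := hcount β α hβ hα g u w
      rw [← ha, hu, inv_inv] at e1
      rw [← hb, hu, inv_inv, hf', hf'] at e2
      exact e1.trans e2.symm
    set t := a⁻¹ * b with ht
    have ht1 : t ≠ 1 := by
      rw [ht, Ne, inv_mul_eq_one]
      exact hne
    have hinvf : ∀ x : Z, f x = f (x * t) := by
      intro x
      have := hshift (x * a⁻¹)
      rwa [inv_mul_cancel_right, mul_assoc] at this
    intro x y
    have hgen : (x⁻¹ * y) ∈ Subgroup.zpowers t := by
      rw [zpowers_eq_top_of_prime_card hZ ht1]
      trivial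
    obtain ⟨n, hn⟩ := (mem_powers_iff_mem_zpowers.2 hgen)
    have hpow : ∀ k : ℕ, f x = f (x * t ^ k) := by
      intro k
      induction k with
      | zero => rw [pow_zero, mul_one]
      | succ k ih => rw [ih, pow_succ, ← mul_assoc]; exact hinvf _
    rw [hpow n, show t ^ n = x⁻¹ * y from hn, mul_inv_cancel_left]
  apply inv_injective
  exact MulEquiv.ext fun g => hρ (hperm g)

end Comm

theorem isSolvable_out [Finite G] [IsSimpleGroup G] (H : Subgroup G) (hH : H.index.Prime) :
    Group.IsSolvable (Cfsg.Out G) := by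
  classical
  have hsurj := QuotientGroup.mk'_surjective (Cfsg.Inn G)
  by_cases hab : ∀ a b : G, a * b = b * a
  · letI : CommGroup G := { ‹Group G› with mul_comm := hab }
    haveI : IsCyclic G := inferInstance
    obtain ⟨g, hg⟩ := IsCyclic.exists_generator (α := G)
    haveI : Group.IsSolvable (MulAut G) := Group.isSolvable_of_comm fun α β => by
      obtain ⟨a, ha⟩ := Subgroup.mem_zpowers_iff.1 (hg (α g))
      obtain ⟨b, hb⟩ := Subgroup.mem_zpowers_iff.1 (hg (β g))
      refine MulEquiv.ext fun x => ?_
      obtain ⟨c, rfl⟩ := Subgroup.mem_zpowers_iff.1 (hg x)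
      simp only [MulAut.mul_apply, map_zpow, ← ha, ← hb]
      rw [zpow_comm g b a]
    exact Group.isSolvable_of_surjective hsurj
  · set p := H.index with hpdef
    haveI := Fact.mk hH
    have hHne : H ≠ ⊤ := fun h => hH.one_lt.ne' (by rw [hpdef, h, Subgroup.index_top])
    have hcore : H.normalCore = ⊥ := by
      rcases H.normalCore_normal.eq_bot_or_eq_top with h | h
      · exact h
      · exact absurd (top_le_iff.1 (h ▸ H.normalCore_le)) hHne
    have hker : (MulAction.toPermHom G (G ⧸ H)).ker = ⊥ := by
      rw [← Subgroup.normalCore_eq_ker]; exact hcore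
    have hinj : Function.Injective (MulAction.toPermHom G (G ⧸ H)) :=
      (MonoidHom.ker_eq_bot_iff _).1 hker
    have hdvd : Nat.card G ∣ p.factorial := by
      have h := Subgroup.card_dvd_of_injective _ hinj
      rwa [Nat.card_perm, ← Subgroup.index] at h
    have hpG : p ∣ Nat.card G := Subgroup.index_dvd_card H
    have hp2 : ¬ p ^ 2 ∣ Nat.card G := by
      intro h
      have h2 := h.trans hdvd
      rw [← Nat.mul_factorial_pred hH.ne_zero, sq] at h2
      have h3 := Nat.dvd_of_mul_dvd_mul_left hH.pos h2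
      have := (hH.dvd_factorial).1 h3
      have := hH.pos
      omega
    have hHp : ¬ p ∣ Nat.card H := by
      intro h
      apply hp2
      rw [← Subgroup.card_mul_index H, sq, ← hpdef]
      exact mul_dvd_mul h dvd_rfl
    obtain ⟨z, hz⟩ := exists_prime_orderOf_dvd_card' p hpG
    set Z := Subgroup.zpowers z with hZdef
    have hZ : Nat.card Z = p := by rw [hZdef, Nat.card_zpowers, hz]
    let φ : Z → G ⧸ H := fun u => ((u : G) : G ⧸ H)
    have hφinj : Function.Injective φ := by
      intro u v huv
      have h1 : ((u⁻¹ * v : Z) : G) ∈ H := by simpa [φ] using QuotientGroup.eq.1 huv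
      by_contra hne
      apply hHp
      have h2 : orderOf (u⁻¹ * v) = p :=
        (hH.eq_one_or_self_of_dvd _ (hZ ▸ orderOf_dvd_natCard _)).resolve_left
          (fun h => hne (inv_mul_eq_one.1 (orderOf_eq_one_iff.1 h)))
      rw [← h2, ← Subgroup.orderOf_coe, ← Subgroup.orderOf_mk _ h1]
      exact orderOf_dvd_natCard _
    have hφ : Function.Bijective φ :=
      (Nat.bijective_iff_injective_and_card φ).2 ⟨hφinj, by rw [hZ]; rfl⟩
    let e : Z ≃ G ⧸ H := Equiv.ofBijective φ hφ
    let ρ : G →* Equiv.Perm Z :=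
      e.symm.permCongrHom.toMonoidHom.comp (MulAction.toPermHom G (G ⧸ H))
    have hρ_apply : ∀ g u, ρ g u = e.symm (g • e u) := fun g u => rfl
    have hρ : Function.Injective ρ := e.symm.permCongrHom.injective.comp hinj
    have htr : ∀ w u : Z, ρ (w : G) u = w * u := by
      intro w u
      rw [hρ_apply, Equiv.symm_apply_eq]
      rfl
    have hst : ∀ g : G, ρ g 1 = 1 ↔ g ∈ H := by
      intro g
      rw [hρ_apply, Equiv.symm_apply_eq]
      show g • ((1 : G) : G ⧸ H) = ((1 : G) : G ⧸ H) ↔ _
      rw [← MulAction.mem_stabilizer_iff, MulAction.stabilizer_quotient]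
    -- the stabilizer of `⟨z⟩` in the automorphism group
    let N : Subgroup (MulAut G) :=
      { carrier := {α | Z.map α.toMonoidHom = Z}
        one_mem' := Z.map_id
        mul_mem' := fun {α β} ha hb => by
          show Z.map (α * β : MulAut G).toMonoidHom = Z
          have : (α * β : MulAut G).toMonoidHom = α.toMonoidHom.comp β.toMonoidHom := rfl
          rw [this, ← Subgroup.map_map, hb, ha]
        inv_mem' := fun {α} ha => by
          show Z.map (α⁻¹ : MulAut G).toMonoidHom = Z
          conv_lhs => rw [← (ha : Z.map α.toMonoidHom = Z), Subgroup.map_map]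
          have : (α⁻¹ : MulAut G).toMonoidHom.comp α.toMonoidHom = MonoidHom.id G :=
            MonoidHom.ext fun x => α.symm_apply_apply x
          rw [this, Subgroup.map_id] }
    have hfrat : Function.Surjective ((QuotientGroup.mk' (Cfsg.Inn G)).comp N.subtype) := by
      intro x
      obtain ⟨α, rfl⟩ := hsurj x
      have hfac : (Nat.card G).factorization p = 1 := by
        have h1 : 1 ≤ (Nat.card G).factorization p :=
          (hH.pow_dvd_iff_le_factorization Nat.card_pos.ne').1 (by rwa [pow_one])
        have h2 : ¬ 2 ≤ (Nat.card G).factorization p := fun h =>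
          hp2 ((hH.pow_dvd_iff_le_factorization Nat.card_pos.ne').2 h)
        omega
      have hZ' : Nat.card (Z.map α.toMonoidHom) = p := by
        rw [Subgroup.card_map_of_injective α.injective, hZ]
      let P : Sylow p G := Sylow.ofCard Z (by rw [hfac, pow_one, hZ])
      let Q : Sylow p G := Sylow.ofCard (Z.map α.toMonoidHom) (by rw [hfac, pow_one, hZ'])
      obtain ⟨g, hg⟩ := MulAction.exists_smul_eq G Q P
      refine ⟨⟨MulAut.conj g * α, ?_⟩, ?_⟩
      · show Z.map (MulAut.conj g * α : MulAut G).toMonoidHom = Z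
        have : (MulAut.conj g * α : MulAut G).toMonoidHom
            = (MulAut.conj g).toMonoidHom.comp α.toMonoidHom := rfl
        rw [this, ← Subgroup.map_map]
        exact congrArg Sylow.toSubgroup hg
      · show QuotientGroup.mk' (Cfsg.Inn G) (MulAut.conj g * α) = QuotientGroup.mk' (Cfsg.Inn G) α
        rw [map_mul, mul_eq_right]
        exact (QuotientGroup.eq_one_iff _).2 ⟨g, rfl⟩
    let C : Subgroup N :=
      { carrier := {α | ∀ u : Z, (α : MulAut G) (u : G) = u}
        one_mem' := fun u => rfl
        mul_mem' := fun {α β} ha hb u => by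
          show (α : MulAut G) ((β : MulAut G) (u : G)) = u
          rw [hb u, ha u]
        inv_mem' := fun {α} ha u => by
          show (α : MulAut G)⁻¹ (u : G) = u
          apply (α : MulAut G).injective
          rw [MulAut.apply_inv_self, ha u] }
    haveI : Group.IsSolvable N := by
      refine ⟨⟨2, ?_⟩⟩
      have h1 : derivedSeries N 1 ≤ C := by
        rw [derivedSeries_succ, derivedSeries_zero, Subgroup.commutator_le]
        intro α _ β _ u
        have key : ∀ γ : N, ∃ a : ℤ, (γ : MulAut G) z = z ^ a := by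
          intro γ
          have : (γ : MulAut G) z ∈ Z := by
            have h := Subgroup.mem_map_of_mem (γ : MulAut G).toMonoidHom
              (Subgroup.mem_zpowers z : z ∈ Z)
            rw [γ.2] at h
            exact h
          obtain ⟨a, ha⟩ := Subgroup.mem_zpowers_iff.1 this
          exact ⟨a, ha.symm⟩
        have hcomm : ∀ γ δ : N, ∀ k : ℤ,
            (γ : MulAut G) ((δ : MulAut G) (z ^ k)) = (δ : MulAut G) ((γ : MulAut G) (z ^ k)) := by
          intro γ δ k
          obtain ⟨a, ha⟩ := key γ
          obtain ⟨b, hb⟩ := key δ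
          simp only [map_zpow, hb, ha]
          rw [zpow_comm z a b]
        obtain ⟨k, hk⟩ := Subgroup.mem_zpowers_iff.1 u.2
        rw [← hk, commutatorElement_def]
        simp only [Subgroup.coe_mul, InvMemClass.coe_inv, MulAut.mul_apply]
        rw [← InvMemClass.coe_inv, ← InvMemClass.coe_inv, hcomm α⁻¹ β⁻¹ k]
        simp only [InvMemClass.coe_inv, MulAut.apply_inv_self]
      rw [show (2 : ℕ) = 1 + 1 from rfl, derivedSeries_succ, eq_bot_iff, Subgroup.commutator_le]
      intro α hα β hβ
      rw [Subgroup.mem_bot, commutatorElement_eq_one_iff_mul_comm]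
      exact Subtype.ext (comm_of_fix Z H p ρ hH hZ hρ htr hHp hst α β (h1 hα) (h1 hβ))
    exact Group.isSolvable_of_surjective hfrat

end CfsgLib.Perm.PrimeIndexOut
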