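import Mathlib
import Cfsg.Prelude.Def_RootSubgroups

/-! Unipotent groups of linear maps: fixed-point criterion and Baer's generation theorem. -/

namespace CfsgLib.Perm.Unipotent

open Cfsg

variable {k : Type*} [Field k] {M : Type*} [AddCommGroup M] [Module k M]

local notation "GLk" => LinearMap.GeneralLinearGroup k M

/-- The ascending fixed-point series of a subgroup. -/
def fixMod (H : Subgroup (LinearMap.GeneralLinearGroup k M)) : ℕ → Submodule k M
  | 0 => ⊥
  | n + 1 => ⨅ g ∈ H, (fixMod H n).comap ((g : M →ₗ[k] M) - 1)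

theorem mem_fixMod_succ {H : Subgroup GLk} {n : ℕ} {m : M} :
    m ∈ fixMod H (n + 1) ↔ ∀ g ∈ H, (g : M →ₗ[k] M) m - m ∈ fixMod H n := by
  simp [fixMod]

theorem fixMod_mono (H : Subgroup GLk) : Monotone (fixMod H) := by
  refine monotone_nat_of_le_succ fun n => ?_
  induction n with
  | zero => exact bot_le
  | succ n ih => exact fun m hm => mem_fixMod_succ.mpr fun g hg => ih (mem_fixMod_succ.mp hm g hg)

theorem fixMod_invariant {H : Subgroup GLk} {g : GLk} (hg : g ∈ H) {n : ℕ} {m : M}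
    (hm : m ∈ fixMod H n) : (g : M →ₗ[k] M) m ∈ fixMod H n := by
  have h1 := mem_fixMod_succ.mp (fixMod_mono H n.le_succ hm) g hg
  simpa using Submodule.add_mem _ h1 hm

theorem prod_fixMod (H : Subgroup GLk) : ∀ (l : List GLk), (∀ g ∈ l, g ∈ H) → ∀ j,
    ∀ m ∈ fixMod H (j + l.length),
      (l.map fun g : GLk => (g : M →ₗ[k] M) - 1).prod m ∈ fixMod H j := by
  intro l
  induction l with
  | nil => intro _ j m hm; simpa using hm
  | cons g l ih =>
    intro hl j m hm
    have h1 := ih (fun x hx => hl x (List.mem_cons_of_mem _ hx)) (j + 1) m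
      (by rwa [List.length_cons, ← Nat.add_assoc, Nat.add_right_comm] at hm)
    simpa using mem_fixMod_succ.mp h1 g (hl g List.mem_cons_self)

theorem isUnipotentOn_iff {H : Subgroup GLk} : IsUnipotentOn H ↔ ∃ n : ℕ, ∀ l : List GLk,
    (∀ g ∈ l, g ∈ H) → l.length = n → (l.map fun g : GLk => (g : M →ₗ[k] M) - 1).prod = 0 := by
  have : ∀ l : List GLk, ((do let a ← l; pure (a : M →ₗ[k] M)) : List (M →ₗ[k] M)) =
      l.map fun g : GLk => (g : M →ₗ[k] M) := fun l => by
    induction l with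
    | nil => rfl
    | cons a l ih => simp [List.map_eq_flatMap]
  simp only [IsUnipotentOn, this, List.map_map]
  rfl

theorem isUnipotentOn_of_fixMod {H : Subgroup GLk} {n : ℕ} (h : fixMod H n = ⊤) :
    IsUnipotentOn H := by
  refine isUnipotentOn_iff.mpr ⟨n, fun l hl hlen => LinearMap.ext fun m => ?_⟩
  have := prod_fixMod H l hl 0 m (by simp [hlen, h])
  simpa [fixMod] using this

/-- A unipotent group has a non-zero fixed vector modulo every proper subspace. -/
theorem exists_fixed {H : Subgroup GLk} (hu : IsUnipotentOn H) {S : Submodule k M} (hS : S ≠ ⊤) :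
    ∃ m, m ∉ S ∧ ∀ g ∈ H, (g : M →ₗ[k] M) m - m ∈ S := by
  obtain ⟨n, hn⟩ := isUnipotentOn_iff.mp hu
  by_contra hcon
  push Not at hcon
  obtain ⟨m, hm⟩ : ∃ m, m ∉ S := by
    by_contra h
    push Not at h
    exact hS (eq_top_iff.mpr fun x _ => h x)
  have key : ∀ j, ∃ l : List GLk, (∀ g ∈ l, g ∈ H) ∧ l.length = j ∧
      (l.map fun g : GLk => (g : M →ₗ[k] M) - 1).prod m ∉ S := by
    intro j
    induction j with
    | zero => exact ⟨[], by simp, rfl, by simpa using hm⟩
    | succ j ih =>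
      obtain ⟨l, hl, hlen, hnot⟩ := ih
      obtain ⟨g, hg, hgn⟩ := hcon _ hnot
      exact ⟨g :: l, by simpa [hg] using hl, by simp [hlen], by simpa using hgn⟩
  obtain ⟨l, hl, hlen, hnot⟩ := key n
  exact hnot (by rw [hn l hl hlen]; simp)

theorem isUnipotentOn_mono {H K : Subgroup GLk} (h : H ≤ K) (hu : IsUnipotentOn K) :
    IsUnipotentOn H := by
  obtain ⟨n, hn⟩ := hu
  exact ⟨n, fun l hl => hn l (fun g hg => h (hl g hg))⟩

variable [FiniteDimensional k M]

theorem inv_apply_mem {g : GLk} {S : Submodule k M}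
    (hg : ∀ s ∈ S, (g : M →ₗ[k] M) s ∈ S) {s : M} (hs : s ∈ S) :
    ((g⁻¹ : GLk) : M →ₗ[k] M) s ∈ S := by
  have hinv : ∀ x, ((g⁻¹ : GLk) : M →ₗ[k] M) ((g : M →ₗ[k] M) x) = x := fun x => by
    rw [← Module.End.mul_apply, ← Units.val_mul, inv_mul_cancel]; rfl
  have heq : S.map (g : M →ₗ[k] M) = S := by
    refine Submodule.eq_of_le_of_finrank_eq (fun x hx => ?_) ?_
    · obtain ⟨y, hy, rfl⟩ := Submodule.mem_map.mp hx
      exact hg y hy
    · exact (Submodule.equivMapOfInjective _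
        (Function.LeftInverse.injective hinv) S).finrank_eq.symm
  rw [← heq, Submodule.mem_map] at hs
  obtain ⟨y, hy, rfl⟩ := hs
  rwa [hinv]

theorem closure_invariant {X : Set GLk} {S : Submodule k M}
    (hX : ∀ g ∈ X, ∀ s ∈ S, (g : M →ₗ[k] M) s ∈ S) :
    ∀ g ∈ Subgroup.closure X, ∀ s ∈ S, (g : M →ₗ[k] M) s ∈ S := by
  intro g hg
  induction hg using Subgroup.closure_induction with
  | mem x hx => exact hX x hx
  | one => intro s hs; simpa using hs
  | mul x y _ _ hx hy => intro s hs; simpa using hx _ (hy s hs)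
  | inv x _ hx => intro s hs; exact inv_apply_mem hx hs

theorem closure_fixes {X : Set GLk} {S : Submodule k M}
    (hX : ∀ g ∈ X, ∀ s ∈ S, (g : M →ₗ[k] M) s ∈ S) {m : M}
    (hm : ∀ g ∈ X, (g : M →ₗ[k] M) m - m ∈ S) :
    ∀ g ∈ Subgroup.closure X, (g : M →ₗ[k] M) m - m ∈ S := by
  intro g hg
  induction hg using Subgroup.closure_induction with
  | mem x hx => exact hm x hx
  | one => simp
  | mul x y hx hy ihx ihy =>
    have := Submodule.add_mem _ (closure_invariant hX x hx _ ihy) ihx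
    simpa using this
  | inv x hx ih =>
    have h1 := closure_invariant hX x⁻¹ (inv_mem hx) _ ih
    have h2 : ((x⁻¹ : GLk) : M →ₗ[k] M) ((x : M →ₗ[k] M) m) = m := by
      rw [← Module.End.mul_apply, ← Units.val_mul, inv_mul_cancel]; rfl
    rw [map_sub, h2] at h1
    simpa using Submodule.neg_mem _ h1

/-- Generators that always fix something modulo a proper invariant subspace generate a unipotent group. -/
theorem isUnipotentOn_closure {X : Set GLk}
    (h : ∀ S : Submodule k M, S ≠ ⊤ → (∀ g ∈ X, ∀ s ∈ S, (g : M →ₗ[k] M) s ∈ S) →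
      ∃ m, m ∉ S ∧ ∀ g ∈ X, (g : M →ₗ[k] M) m - m ∈ S) :
    IsUnipotentOn (Subgroup.closure X) := by
  have key : ∀ n, fixMod (Subgroup.closure X) n = ⊤ ∨
      n ≤ Module.finrank k (fixMod (Subgroup.closure X) n) := by
    intro n
    induction n with
    | zero => exact Or.inr (Nat.zero_le _)
    | succ n ih =>
      rcases ih with e | hle
      · exact Or.inl (eq_top_iff.mpr (e ▸ fixMod_mono _ n.le_succ))
      · by_cases e : fixMod (Subgroup.closure X) n = ⊤
        · exact Or.inl (eq_top_iff.mpr (e ▸ fixMod_mono _ n.le_succ))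
        have hinv : ∀ g ∈ X, ∀ s ∈ fixMod (Subgroup.closure X) n,
            (g : M →ₗ[k] M) s ∈ fixMod (Subgroup.closure X) n := fun g hg s hs =>
          fixMod_invariant (Subgroup.subset_closure hg) hs
        obtain ⟨m, hm, hfix⟩ := h _ e hinv
        have hlt : fixMod (Subgroup.closure X) n < fixMod (Subgroup.closure X) (n + 1) :=
          lt_of_le_of_ne (fixMod_mono _ n.le_succ) fun he => hm (he ▸ mem_fixMod_succ.mpr
            (closure_fixes hinv hfix))
        exact Or.inr (lt_of_le_of_lt hle (Submodule.finrank_lt_finrank_of_lt hlt))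
  rcases key (Module.finrank k M + 1) with e | e
  · exact isUnipotentOn_of_fixMod e
  · have := Submodule.finrank_le (fixMod (Subgroup.closure X) (Module.finrank k M + 1))
    omega

theorem exists_fixMod_eq_top {H : Subgroup GLk} (hu : IsUnipotentOn H) :
    fixMod H (Module.finrank k M + 1) = ⊤ := by
  have key : ∀ n, fixMod H n = ⊤ ∨ n ≤ Module.finrank k (fixMod H n) := by
    intro n
    induction n with
    | zero => exact Or.inr (Nat.zero_le _)
    | succ n ih =>
      by_cases e : fixMod H n = ⊤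
      · exact Or.inl (eq_top_iff.mpr (e ▸ fixMod_mono _ n.le_succ))
      obtain ⟨m, hm, hfix⟩ := exists_fixed hu e
      have hlt : fixMod H n < fixMod H (n + 1) :=
        lt_of_le_of_ne (fixMod_mono _ n.le_succ) fun he => hm (he ▸ mem_fixMod_succ.mpr hfix)
      exact Or.inr (lt_of_le_of_lt (ih.resolve_left e) (Submodule.finrank_lt_finrank_of_lt hlt))
  rcases key (Module.finrank k M + 1) with e | e
  · exact e
  · have := Submodule.finrank_le (fixMod H (Module.finrank k M + 1))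
    omega

/-- The join of two unipotent groups is unipotent when one normalises the other. -/
theorem isUnipotentOn_sup {H K : Subgroup GLk} (hH : IsUnipotentOn H) (hK : IsUnipotentOn K)
    (hn : K ≤ Subgroup.normalizer (H : Set GLk)) : IsUnipotentOn (H ⊔ K) := by
  rw [← Subgroup.closure_eq H, ← Subgroup.closure_eq K, ← Subgroup.closure_union]
  refine isUnipotentOn_closure fun S hS hinv => ?_
  let P : Submodule k M := ⨅ g ∈ H, S.comap ((g : M →ₗ[k] M) - 1)
  have memP : ∀ {m}, m ∈ P ↔ ∀ g ∈ H, (g : M →ₗ[k] M) m - m ∈ S := by simp [P]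
  obtain ⟨m₀, hm₀, hfix₀⟩ := exists_fixed hH hS
  have hPinv : ∀ g ∈ K, ∀ s ∈ P, (g : M →ₗ[k] M) s ∈ P := by
    intro g hg s hs
    rw [memP] at hs ⊢
    intro u hu
    have hu' : g⁻¹ * u * g ∈ H := ((Subgroup.mem_normalizer_iff'').mp (hn hg) u).mp hu
    have h1 := hinv g (Or.inr hg) _ (hs _ hu')
    rw [map_sub, ← Module.End.mul_apply, ← Units.val_mul, ← mul_assoc, ← mul_assoc,
      mul_inv_cancel, one_mul, Units.val_mul, Module.End.mul_apply] at h1
    exact h1
  by_contra hcon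
  push Not at hcon
  obtain ⟨n, hn'⟩ := isUnipotentOn_iff.mp hK
  have key : ∀ j, ∃ l : List GLk, (∀ g ∈ l, g ∈ K) ∧ l.length = j ∧
      (l.map fun g : GLk => (g : M →ₗ[k] M) - 1).prod m₀ ∉ S ∧
      (l.map fun g : GLk => (g : M →ₗ[k] M) - 1).prod m₀ ∈ P := by
    intro j
    induction j with
    | zero => exact ⟨[], by simp, rfl, by simpa using hm₀, by simpa [memP] using hfix₀⟩
    | succ j ih =>
      obtain ⟨l, hl, hlen, hnot, hP⟩ := ih
      obtain ⟨g, hg, hgn⟩ := hcon _ hnot
      rcases hg with hg | hg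
      · exact absurd (memP.mp hP g hg) hgn
      · refine ⟨g :: l, by simpa [show g ∈ K from hg] using hl, by simp [hlen], by simpa using hgn, ?_⟩
        simpa using Submodule.sub_mem _ (hPinv g hg _ hP) hP
  obtain ⟨l, hl, hlen, hnot, -⟩ := key n
  exact hnot (by rw [hn' l hl hlen]; simp)

/-- The subspace spanned by `g - 1`, `g ∈ H`. -/
def augSpan (H : Subgroup (LinearMap.GeneralLinearGroup k M)) : Submodule k (M →ₗ[k] M) :=
  Submodule.span k ((fun g : LinearMap.GeneralLinearGroup k M => (g : M →ₗ[k] M) - 1) '' H)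

omit [FiniteDimensional k M] in
theorem augSpan_mono {H K : Subgroup GLk} (h : H ≤ K) : augSpan H ≤ augSpan K :=
  Submodule.span_mono (Set.image_mono h)

omit [FiniteDimensional k M] in
theorem augSpan_fixes {H : Subgroup GLk} {S : Submodule k M} {m : M}
    (hm : ∀ g ∈ H, (g : M →ₗ[k] M) m - m ∈ S) {x : M →ₗ[k] M} (hx : x ∈ augSpan H) : x m ∈ S := by
  suffices augSpan H ≤ S.comap (LinearMap.applyₗ m) from this hx
  rw [augSpan, Submodule.span_le]
  rintro _ ⟨g, hg, rfl⟩
  exact hm g hg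

/-- Baer: a conjugation invariant family generates a unipotent group when its pairs do. -/
theorem isUnipotentOn_iSup {W : Set (Subgroup (LinearMap.GeneralLinearGroup k M))}
    (hWW : ∀ A ∈ W, ∀ B ∈ W, IsUnipotentOn (A ⊔ B))
    (hconj : ∀ A ∈ W, ∀ B ∈ W, ∀ a ∈ A, conjBy B a ∈ W) :
    IsUnipotentOn (⨆ A ∈ W, A) := by
  classical
  let U : Set (Subgroup GLk) → Subgroup GLk := fun T => ⨆ A ∈ T, A
  have hU : ∀ T, U T = Subgroup.closure {g | ∃ A ∈ T, g ∈ A} := by
    intro T
    apply le_antisymm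
    · exact iSup₂_le fun A hA g hg => Subgroup.subset_closure ⟨A, hA, hg⟩
    · rw [Subgroup.closure_le]
      rintro g ⟨A, hA, hg⟩
      exact (le_iSup₂_of_le A hA le_rfl : A ≤ U T) hg
  have hle : ∀ {T : Set (Subgroup GLk)} {A}, A ∈ T → A ≤ U T := fun {T A} hA => le_iSup₂_of_le A hA le_rfl
  have hmono : ∀ {T T' : Set (Subgroup GLk)}, T ⊆ T' → U T ≤ U T' := fun {T T'} h => biSup_mono fun A hA => h hA
  let Good : Set (Subgroup GLk) → Prop := fun T => T ⊆ W ∧ IsUnipotentOn (U T)
  let Max : Set (Subgroup GLk) → Prop := fun T => Good T ∧ ∀ T', Good T' → T ⊆ T' → T' = T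
  -- hull property
  have hull : ∀ T, Good T → ∀ T', T' ⊆ W →
      (∀ A ∈ T', ∀ g ∈ A, (g : M →ₗ[k] M) - 1 ∈ augSpan (U T)) → Good T' := by
    intro T hT T' hT' hsub
    refine ⟨hT', ?_⟩
    rw [hU]
    refine isUnipotentOn_closure fun S hS _ => ?_
    obtain ⟨m, hm, hfix⟩ := exists_fixed hT.2 hS
    refine ⟨m, hm, fun g ⟨A, hA, hg⟩ => ?_⟩
    simpa using augSpan_fixes hfix (hsub A hA g hg)
  have hext : ∀ T, Good T → ∃ T', T ⊆ T' ∧ Max T' := by
    intro T hT
    obtain ⟨L, ⟨T', hT', hsub, rfl⟩, hmax⟩ :=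
      (wellFounded_gt (α := Submodule k (M →ₗ[k] M))).has_min
        {L | ∃ T', Good T' ∧ T ⊆ T' ∧ augSpan (U T') = L} ⟨_, T, hT, subset_rfl, rfl⟩
    refine ⟨{A | A ∈ W ∧ ∀ g ∈ A, (g : M →ₗ[k] M) - 1 ∈ augSpan (U T')}, fun A hA => ⟨hT.1 hA,
      fun g hg => Submodule.subset_span ⟨g, hle (hsub hA) hg, rfl⟩⟩,
      hull T' hT' _ (fun A hA => hA.1) (fun A hA => hA.2), fun T'' hT'' hs => ?_⟩
    have hs' : T' ⊆ T'' := fun A hA => hs ⟨hT'.1 hA, fun g hg =>
      Submodule.subset_span ⟨g, hle hA hg, rfl⟩⟩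
    have heq : augSpan (U T') = augSpan (U T'') := by
      rcases (augSpan_mono (hmono hs')).lt_or_eq with h | h
      · exact absurd h (hmax _ ⟨T'', hT'', hsub.trans hs', rfl⟩)
      · exact h
    refine Set.Subset.antisymm (fun A hA => ⟨hT''.1 hA, fun g hg => ?_⟩) hs
    rw [heq]
    exact Submodule.subset_span ⟨g, hle hA hg, rfl⟩
  have hclosed : ∀ T, Max T → ∀ A ∈ W,
      (∀ g ∈ A, (g : M →ₗ[k] M) - 1 ∈ augSpan (U T)) → A ∈ T := by
    intro T hT A hA hsub
    have : Good (insert A T) := hull T hT.1 _ (Set.insert_subset hA hT.1.1) (by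
      rintro B (rfl | hB) g hg
      · exact hsub g hg
      · exact Submodule.subset_span ⟨g, hle hB hg, rfl⟩)
    rw [← hT.2 _ this (Set.subset_insert _ _)]
    exact Set.mem_insert _ _
  have hbot : Good ∅ := ⟨Set.empty_subset _, isUnipotentOn_iff.mpr ⟨1, fun l hl hlen => by
    obtain ⟨g, rfl⟩ := List.length_eq_one_iff.mp hlen
    have : g ∈ (⊥ : Subgroup GLk) := by simpa [U] using hl g (by simp)
    rw [Subgroup.mem_bot] at this
    simp [this]⟩⟩
  suffices huniq : ∀ T₁ T₂, Max T₁ → Max T₂ → T₁ = T₂ by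
    obtain ⟨T, -, hT⟩ := hext ∅ hbot
    have : T = W := by
      refine hT.1.1.antisymm fun A hA => ?_
      obtain ⟨T', hsub, hT'⟩ := hext {A} ⟨by simpa using hA,
        by simpa [U] using isUnipotentOn_mono le_sup_left (hWW A hA A hA)⟩
      rw [huniq T T' hT hT']
      exact hsub rfl
    rw [← this]
    exact hT.1.2
  by_contra hcon
  push Not at hcon
  obtain ⟨T₁, T₂, hT₁, hT₂, hne⟩ := hcon
  obtain ⟨L, ⟨T₁, T₂, hT₁, hT₂, hne, rfl⟩, hmax⟩ :=
    (wellFounded_gt (α := Submodule k (M →ₗ[k] M))).has_min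
      {L | ∃ T₁ T₂, Max T₁ ∧ Max T₂ ∧ T₁ ≠ T₂ ∧ augSpan (U (T₁ ∩ T₂)) = L}
      ⟨_, T₁, T₂, hT₁, hT₂, hne, rfl⟩
  -- a member outside the intersection normalising it
  have hfind : ∀ T T', Max T → Max T' → T ≠ T' → ∃ A ∈ T, A ∉ T' ∧
      A ≤ Subgroup.normalizer ((U (T ∩ T')) : Set GLk) := by
    intro T T' hT hT' hne
    have hex : ∃ A ∈ T, A ∉ T' := by
      by_contra h
      push Not at h
      exact hne (hT.2 T' hT'.1 h).symm
    let D : ℕ → Subgroup GLk := fun i => Subgroup.closure {g | g ∈ U T ∧ ∀ j,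
      ∀ m ∈ fixMod (U T) (j + i), (g : M →ₗ[k] M) m - m ∈ fixMod (U T) j}
    have hDm : ∀ i g, g ∈ D i → g ∈ U T ∧ ∀ j, ∀ m ∈ fixMod (U T) (j + i),
        (g : M →ₗ[k] M) m - m ∈ fixMod (U T) j := by
      intro i g hg
      have hgU : g ∈ U T := (Subgroup.closure_le _).mpr (fun x hx => hx.1) hg
      exact ⟨hgU, fun j m hm => closure_fixes (fun x hx s hs => fixMod_invariant hx.1 hs)
        (fun x hx => hx.2 j m hm) g hg⟩
    have hcomm : ∀ i g u, g ∈ U T → u ∈ D i → g * u * g⁻¹ * u⁻¹ ∈ D (i + 1) := by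
      intro i g u hg hu
      have huU := (hDm i u hu).1
      refine Subgroup.subset_closure ⟨mul_mem (mul_mem (mul_mem hg huU) (inv_mem hg)) (inv_mem huU),
        fun j m hm => ?_⟩
      obtain ⟨v, hv⟩ : ∃ v : M, v = ((g⁻¹ * u⁻¹ : GLk) : M →ₗ[k] M) m := ⟨_, rfl⟩
      have hvm : v ∈ fixMod (U T) (j + (i + 1)) :=
        hv ▸ fixMod_invariant (mul_mem (inv_mem hg) (inv_mem huU)) hm
      have e1 : ((g * u * g⁻¹ * u⁻¹ : GLk) : M →ₗ[k] M) m =
          (g : M →ₗ[k] M) ((u : M →ₗ[k] M) v) := by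
        rw [hv, ← Module.End.mul_apply, ← Module.End.mul_apply, ← Units.val_mul, ← Units.val_mul]
        simp only [mul_assoc]
      have e2 : m = (u : M →ₗ[k] M) ((g : M →ₗ[k] M) v) := by
        rw [hv, ← Module.End.mul_apply, ← Module.End.mul_apply, ← Units.val_mul, ← Units.val_mul]
        simp only [mul_assoc, mul_inv_cancel_left, mul_inv_cancel, Units.val_one, Module.End.one_apply]
      rw [e1]
      rw [e2]
      have hx : (g : M →ₗ[k] M) v - v ∈ fixMod (U T) (j + i) :=
        mem_fixMod_succ.mp (by rwa [← Nat.add_assoc] at hvm) g hg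
      have hy : (u : M →ₗ[k] M) v - v ∈ fixMod (U T) (j + 1) :=
        (hDm i u hu).2 (j + 1) v (by rwa [Nat.add_right_comm, Nat.add_assoc])
      have hxy := mem_fixMod_succ.mp hy g hg
      have hyx := (hDm i u hu).2 j _ hx
      have := Submodule.sub_mem _ hxy hyx
      simp only [map_sub] at this
      convert this using 1
      abel
    let P : ℕ → Prop := fun i => ∃ A ∈ T, A ∉ T' ∧ A ≤ U (T ∩ T') ⊔ D i
    have hP1 : P 1 := by
      obtain ⟨A, hA, hA'⟩ := hex
      exact ⟨A, hA, hA', fun g hg => Subgroup.mem_sup_right (Subgroup.subset_closure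
        ⟨hle hA hg, fun j m hm => mem_fixMod_succ.mp hm g (hle hA hg)⟩)⟩
    have hPn : ¬ P (Module.finrank k M + 1) := by
      rintro ⟨A, hA, hA', hsub⟩
      apply hA'
      refine hclosed T' hT' A (hT.1.1 hA) fun g hg => ?_
      have hD : D (Module.finrank k M + 1) = ⊥ := by
        rw [Subgroup.eq_bot_iff_forall]
        intro u hu
        have h0 := (hDm _ u hu).2 0
        rw [Nat.zero_add, exists_fixMod_eq_top hT.1.2] at h0
        apply Units.ext
        ext m
        have := h0 m Submodule.mem_top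
        simpa [fixMod, sub_eq_zero] using this
      have := hsub hg
      rw [hD, sup_bot_eq] at this
      exact augSpan_mono (hmono Set.inter_subset_right) (Submodule.subset_span ⟨g, this, rfl⟩)
    obtain ⟨i, hi1, hi2⟩ : ∃ i, P i ∧ ¬ P (i + 1) := by
      by_contra h
      push Not at h
      exact hPn (Nat.le_induction hP1 (fun i _ hi => h i hi) _ (Nat.le_add_left 1 _))
    obtain ⟨A, hA, hA', hsub⟩ := hi1
    refine ⟨A, hA, hA', fun a ha => ?_⟩
    -- `A` normalises `K = U (T ∩ T') ⊔ D (i+1)`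
    have hK : ∀ x ∈ U (T ∩ T') ⊔ D i, ∀ y ∈ U (T ∩ T'), x * y * x⁻¹ ∈ U (T ∩ T') ⊔ D (i + 1) := by
      intro x hx y hy
      have hyU : y ∈ U T := hmono Set.inter_subset_left hy
      have hDnorm : ∀ w ∈ U T, ∀ d ∈ D (i + 1), w * d * w⁻¹ ∈ D (i + 1) := by
        intro w hw d hd
        have h1 : w * d * w⁻¹ * d⁻¹ ∈ D (i + 2) := hcomm _ w d hw hd
        have h2 : D (i + 2) ≤ D (i + 1) := by
          refine Subgroup.closure_mono fun u hu => ⟨hu.1, fun j m hm => ?_⟩
          exact hu.2 j m (fixMod_mono _ (by omega) hm)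
        simpa using mul_mem (h2 h1) hd
      have hgen : ∀ x ∈ ((U (T ∩ T') : Subgroup GLk) : Set GLk) ∪ D i,
          ∀ y ∈ U (T ∩ T') ⊔ D (i + 1), x * y * x⁻¹ ∈ U (T ∩ T') ⊔ D (i + 1) := by
        intro x hx y hy
        have hxU : x ∈ U T := hx.elim (fun h => hmono Set.inter_subset_left h) (fun h => (hDm i x h).1)
        rw [← Subgroup.closure_eq (U (T ∩ T')), ← Subgroup.closure_eq (D (i + 1)),
          ← Subgroup.closure_union] at hy
        induction hy using Subgroup.closure_induction with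
        | mem y hy =>
          rcases hy with hy | hy
          · rcases hx with hx | hx
            · exact Subgroup.mem_sup_left (mul_mem (mul_mem hx hy) (inv_mem hx))
            · have := hcomm i y x (hmono Set.inter_subset_left hy) hx
              rw [show x * y * x⁻¹ = (y * x * y⁻¹ * x⁻¹)⁻¹ * y by group]
              exact mul_mem (Subgroup.mem_sup_right (inv_mem this)) (Subgroup.mem_sup_left hy)
          · exact Subgroup.mem_sup_right (hDnorm x hxU y hy)
        | one => simp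
        | mul y z _ _ hy hz =>
          rw [show x * (y * z) * x⁻¹ = (x * y * x⁻¹) * (x * z * x⁻¹) by group]
          exact mul_mem hy hz
        | inv y _ hy =>
          rw [show x * y⁻¹ * x⁻¹ = (x * y * x⁻¹)⁻¹ by group]
          exact inv_mem hy
      have : ∀ y ∈ U (T ∩ T') ⊔ D (i + 1), x * y * x⁻¹ ∈ U (T ∩ T') ⊔ D (i + 1) := by
        rw [← Subgroup.closure_eq (U (T ∩ T')), ← Subgroup.closure_eq (D i),
          ← Subgroup.closure_union] at hx
        induction hx using Subgroup.closure_induction'' with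
        | mem x hx => exact hgen x hx
        | inv_mem x hx =>
          exact hgen x⁻¹ (hx.elim (fun h => Or.inl (inv_mem h)) (fun h => Or.inr (inv_mem h)))
        | one => intro y hy; simpa using hy
        | mul x z _ _ hx hz =>
          intro y hy
          rw [show x * z * y * (x * z)⁻¹ = x * (z * y * z⁻¹) * x⁻¹ by group]
          exact hx _ (hz y hy)
      exact this y (Subgroup.mem_sup_left hy)
    have hI : ∀ b ∈ A, ∀ y ∈ U (T ∩ T'), b * y * b⁻¹ ∈ U (T ∩ T') := by
      intro b hb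
      rw [hU (T ∩ T')]
      intro y hy
      induction hy using Subgroup.closure_induction with
      | mem y hy =>
        obtain ⟨B, hB, hy⟩ := hy
        have hBW := hconj A (hT.1.1 hA) B (hT.1.1 hB.1) b hb
        have hcle : conjBy B b ≤ U (T ∩ T') ⊔ D (i + 1) := by
          rintro _ ⟨z, hz, rfl⟩
          exact hK b (hsub hb) z (hle hB hz)
        have hBT : conjBy B b ∈ T := hclosed T hT _ hBW fun g hg => Submodule.subset_span
          ⟨g, (sup_le (hmono Set.inter_subset_left) (fun d hd => (hDm _ d hd).1)) (hcle hg), rfl⟩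
        by_cases hBT' : conjBy B b ∈ T'
        · exact Subgroup.subset_closure ⟨_, ⟨hBT, hBT'⟩, ⟨y, hy, rfl⟩⟩
        · exact absurd ⟨_, hBT, hBT', hcle⟩ hi2
      | one => simp
      | mul y z _ _ hy hz =>
        rw [show b * (y * z) * b⁻¹ = (b * y * b⁻¹) * (b * z * b⁻¹) by group]
        exact mul_mem hy hz
      | inv y _ hy =>
        rw [show b * y⁻¹ * b⁻¹ = (b * y * b⁻¹)⁻¹ by group]
        exact inv_mem hy
    rw [Subgroup.mem_normalizer_iff]
    refine fun y => ⟨hI a ha y, fun hy => ?_⟩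
    have := hI a⁻¹ (inv_mem ha) _ hy
    simpa [mul_assoc] using this
  obtain ⟨A₁, hA₁, hA₁', hn₁⟩ := hfind T₁ T₂ hT₁ hT₂ hne
  obtain ⟨A₂, hA₂, hA₂', hn₂⟩ := hfind T₂ T₁ hT₂ hT₁ hne.symm
  rw [Set.inter_comm] at hn₂
  have hgood : Good (insert A₁ (insert A₂ (T₁ ∩ T₂))) := by
    refine ⟨Set.insert_subset (hT₁.1.1 hA₁) (Set.insert_subset (hT₂.1.1 hA₂)
      (Set.inter_subset_left.trans hT₁.1.1)), ?_⟩
    have := isUnipotentOn_sup (isUnipotentOn_mono (hmono Set.inter_subset_left) hT₁.1.2)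
      (hWW A₁ (hT₁.1.1 hA₁) A₂ (hT₂.1.1 hA₂)) (sup_le hn₁ hn₂)
    refine isUnipotentOn_mono ?_ this
    simp only [U]
    rw [iSup_insert, iSup_insert]
    exact sup_le (le_sup_left.trans le_sup_right) (sup_le (le_sup_right.trans le_sup_right) le_sup_left)
  obtain ⟨T₃, hsub, hT₃⟩ := hext _ hgood
  have h13 : T₁ = T₃ := by
    by_contra hne'
    have hlt : augSpan (U (T₁ ∩ T₂)) < augSpan (U (T₁ ∩ T₃)) := by
      refine lt_of_le_of_ne (augSpan_mono (hmono fun A hA =>
        ⟨hA.1, hsub (Set.mem_insert_of_mem _ (Set.mem_insert_of_mem _ hA))⟩)) fun he => hA₁' ?_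
      refine hclosed T₂ hT₂ A₁ (hT₁.1.1 hA₁) fun g hg => ?_
      apply augSpan_mono (hmono Set.inter_subset_right)
      rw [he]
      exact Submodule.subset_span
        ⟨g, hle (T := T₁ ∩ T₃) ⟨hA₁, hsub (Set.mem_insert _ _)⟩ hg, rfl⟩
    exact hmax _ ⟨T₁, T₃, hT₁, hT₃, hne', rfl⟩ hlt
  exact hA₂' (h13 ▸ hsub (Set.mem_insert_of_mem _ (Set.mem_insert _ _)))

end CfsgLib.Perm.Unipotent
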