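import Mathlib

/-! A checkable certificate that a subgroup of `GL(2,p)` generated by given matrices is regular on
the non-zero vectors. -/

namespace CfsgLib.Perm.Regular2

open Matrix

abbrev M4 := ℕ × ℕ × ℕ × ℕ

/-- product of two 2×2 matrices with entries modulo `p` -/
def mul4 (p : ℕ) : M4 → M4 → M4
  | (a, b, c, d), (a', b', c', d') =>
    ((a * a' + b * c') % p, (a * b' + b * d') % p, (c * a' + d * c') % p, (c * b' + d * d') % p)

def toM (p : ℕ) : M4 → Matrix (Fin 2) (Fin 2) (ZMod p)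
  | (a, b, c, d) => !![(a : ZMod p), b; c, d]

theorem toM_mul (p : ℕ) (x y : M4) : toM p (mul4 p x y) = toM p x * toM p y := by
  obtain ⟨a, b, c, d⟩ := x
  obtain ⟨a', b', c', d'⟩ := y
  simp [toM, mul4, Matrix.mul_fin_two, ZMod.natCast_mod, Nat.cast_add, Nat.cast_mul]

/-- right multiply a list by the generators, keep one copy of each -/
def step (p : ℕ) (L : List M4) (S : List M4) : List M4 :=
  (S ++ L.flatMap fun g => S.map fun s => mul4 p s g).dedup

def iter (p : ℕ) (L : List M4) : ℕ → List M4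
  | 0 => [(1, 0, 0, 1)]
  | n + 1 => step p L (iter p L n)

def scalars (p c m : ℕ) : List ℕ := (List.range m).map fun i => c ^ i % p

def colCodes (p c m : ℕ) (S : List M4) : List ℕ :=
  (scalars p c m).flatMap fun z => S.map fun s => (z * s.1 % p) * p + z * s.2.2.1 % p

def cover (l : List ℕ) : ℕ := l.foldl (fun acc x => acc ||| (1 <<< x)) 0

theorem testBit_foldl (l : List ℕ) : ∀ (acc i : ℕ),
    (l.foldl (fun acc x => acc ||| (1 <<< x)) acc).testBit i = true → acc.testBit i = true ∨ i ∈ l := by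
  induction l with
  | nil => intro acc i h; exact Or.inl h
  | cons x l ih =>
    intro acc i h
    rcases ih _ i h with h' | h'
    · rw [Nat.testBit_lor, Bool.or_eq_true] at h'
      rcases h' with h' | h'
      · exact Or.inl h'
      · rw [Nat.one_shiftLeft, Nat.testBit_two_pow] at h'
        simp only [decide_eq_true_eq] at h'
        exact Or.inr (h' ▸ List.mem_cons_self)
    · exact Or.inr (List.mem_cons_of_mem _ h')

/-- the boolean certificate -/
def check (p : ℕ) (L : List M4) (c m n : ℕ) : Bool :=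
  let S := iter p L n
  (L.all fun g => S.all fun s => S.contains (mul4 p s g)) && (c ^ m % p == 1) &&
    (S.length * m == p * p - 1) &&
    (cover (colCodes p c m S) == (2 ^ (p * p - 1) - 1) * 2)

theorem regular {p : ℕ} [Fact p.Prime] (L : List M4) (c m n : ℕ) (hm : 0 < m)
    (hchk : check p L c m n = true)
    (gens : Set (GL (Fin 2) (ZMod p)))
    (hL : ∀ g ∈ L, ∃ x ∈ gens, (x : Matrix (Fin 2) (Fin 2) (ZMod p)) = toM p g)
    (hc : ∃ x ∈ Subgroup.closure gens, (x : Matrix (Fin 2) (Fin 2) (ZMod p)) = (c : ZMod p) • (1 : Matrix (Fin 2) (Fin 2) (ZMod p)))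
    (hgens : ∀ x ∈ gens, (∃ g ∈ L, (x : Matrix (Fin 2) (Fin 2) (ZMod p)) = toM p g) ∨
      (x : Matrix (Fin 2) (Fin 2) (ZMod p)) = (c : ZMod p) • (1 : Matrix (Fin 2) (Fin 2) (ZMod p))) :
    Nat.card (Subgroup.closure gens) = p * p - 1 ∧ ∀ v w : Fin 2 → ZMod p, v ≠ 0 → w ≠ 0 →
      ∃! h : Subgroup.closure gens,
        Matrix.mulVec ((h : GL (Fin 2) (ZMod p)) : Matrix (Fin 2) (Fin 2) (ZMod p)) v = w := by
  classical
  simp only [check, Bool.and_eq_true, List.all_eq_true, beq_iff_eq, List.contains_iff_mem] at hchk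
  obtain ⟨⟨⟨hclosed, hcm⟩, hlen⟩, hcov'⟩ := hchk
  have hcov : ∀ i, i < p * p - 1 → (cover (colCodes p c m (iter p L n))).testBit (i + 1) = true := by
    intro i hi
    rw [hcov', show (2 : ℕ) = 2 ^ 1 from rfl, Nat.testBit_mul_two_pow]
    simp [Nat.testBit_two_pow_sub_one, hi]
  set H := Subgroup.closure gens
  set S := iter p L n with hS
  have hone : ∀ k, (1, 0, 0, 1) ∈ iter p L k := by
    intro k
    induction k with
    | zero => simp [iter]
    | succ k ih => simp only [iter, step, List.mem_dedup, List.mem_append]; exact Or.inl ih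
  have hmem : ∀ k, ∀ s ∈ iter p L k, ∃ x ∈ H, (x : Matrix (Fin 2) (Fin 2) (ZMod p)) = toM p s := by
    intro k
    induction k with
    | zero =>
      intro s hs
      simp only [iter, List.mem_singleton] at hs
      subst hs
      exact ⟨1, H.one_mem, by simp [toM, Matrix.one_fin_two]⟩
    | succ k ih =>
      intro s hs
      simp only [iter, step, List.mem_dedup, List.mem_append, List.mem_flatMap, List.mem_map] at hs
      rcases hs with hs | ⟨g, hg, t, ht, rfl⟩
      · exact ih s hs
      · obtain ⟨x, hx, hxe⟩ := ih t ht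
        obtain ⟨y, hy, hye⟩ := hL g hg
        exact ⟨x * y, H.mul_mem hx (Subgroup.subset_closure hy), by
          rw [Units.val_mul, hxe, hye, toM_mul]⟩
  obtain ⟨C, hC, hCe⟩ := hc
  have hCpow : ∀ i : ℕ, ((C ^ i : GL (Fin 2) (ZMod p)) : Matrix (Fin 2) (Fin 2) (ZMod p)) =
      ((c : ZMod p) ^ i) • (1 : Matrix (Fin 2) (Fin 2) (ZMod p)) := by
    intro i
    rw [Units.val_pow_eq_pow_val, hCe, smul_pow, one_pow]
  have hcm' : (c : ZMod p) ^ m = 1 := by
    have := congrArg (fun t : ℕ => (t : ZMod p)) hcm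
    simpa [ZMod.natCast_mod] using this
  -- every member of H has the normal form
  let nf : Fin m × {s // s ∈ S} → Matrix (Fin 2) (Fin 2) (ZMod p) := fun z =>
    ((c : ZMod p) ^ (z.1 : ℕ)) • toM p z.2.1
  have hform : ∀ x ∈ H, ∃ z, nf z = (x : Matrix (Fin 2) (Fin 2) (ZMod p)) := by
    have : NeZero m := ⟨hm.ne'⟩
    let R : Submonoid (GL (Fin 2) (ZMod p)) :=
      { carrier := {x | ∀ z, ∃ z', nf z' = nf z * (x : Matrix (Fin 2) (Fin 2) (ZMod p))}
        one_mem' := fun z => ⟨z, by simp⟩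
        mul_mem' := fun {x y} hx hy z => by
          obtain ⟨z₁, h₁⟩ := hx z
          obtain ⟨z₂, h₂⟩ := hy z₁
          exact ⟨z₂, by rw [h₂, h₁, Units.val_mul, mul_assoc]⟩ }
    intro x hx
    have hxR : x ∈ R := by
      have hx' : x ∈ Submonoid.closure gens := by
        rwa [← Subgroup.closure_toSubmonoid_of_finite, Subgroup.mem_toSubmonoid]
      refine Submonoid.closure_le.mpr ?_ hx'
      intro g hg z
      rcases hgens g hg with ⟨t, ht, hte⟩ | hte
      · exact ⟨(z.1, ⟨mul4 p z.2.1 t, hclosed t ht _ z.2.2⟩), by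
          simp only [nf, hte, toM_mul, smul_mul_assoc]⟩
      · refine ⟨(⟨((z.1 : ℕ) + 1) % m, Nat.mod_lt _ hm⟩, z.2), ?_⟩
        simp only [nf, hte, Matrix.mul_smul, Matrix.mul_one, smul_smul, smul_mul_assoc]
        congr 1
        rw [← pow_succ, ← pow_eq_pow_mod _ hcm']
    obtain ⟨z', hz'⟩ := hxR (⟨0, hm⟩, ⟨(1, 0, 0, 1), hone n⟩)
    exact ⟨z', by rw [hz']; simp [nf, toM, ← Matrix.one_fin_two]⟩
  have hle : Nat.card H ≤ p * p - 1 := by
    choose f hf using fun x : H => hform x x.2
    have hinj : Function.Injective f := fun x y h => by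
      apply Subtype.ext; apply Units.ext; rw [← hf x, ← hf y, h]
    refine (Nat.card_le_card_of_injective f hinj).trans ?_
    rw [Nat.card_prod, Nat.card_fin, ← hlen, mul_comm]
    refine Nat.mul_le_mul_right m ?_
    rw [Nat.card_eq_fintype_card, Fintype.card_of_subtype S.toFinset (by simp)]
    exact List.toFinset_card_le _
  let e : Fin 2 → ZMod p := ![1, 0]
  let act : H → {v : Fin 2 → ZMod p // v ≠ 0} := fun x =>
    ⟨((x : GL (Fin 2) (ZMod p)) : Matrix (Fin 2) (Fin 2) (ZMod p)) *ᵥ e, fun h => by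
      have := congrArg ((((x : GL (Fin 2) (ZMod p))⁻¹ : GL (Fin 2) (ZMod p)) : Matrix (Fin 2) (Fin 2) (ZMod p)) *ᵥ ·) h
      simp only [Matrix.mulVec_mulVec, Units.inv_mul, Matrix.one_mulVec, Matrix.mulVec_zero] at this
      exact one_ne_zero (congrFun this 0)⟩
  have hsurj : Function.Surjective act := by
    intro ⟨v, hv⟩
    have hp : 0 < p := (Fact.out : p.Prime).pos
    have hlt : (v 0).val * p + (v 1).val < p * p := by
      have h0 := (v 0).val_lt; have h1 := (v 1).val_lt
      calc (v 0).val * p + (v 1).val < (v 0).val * p + p := by omega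
        _ = ((v 0).val + 1) * p := by ring
        _ ≤ p * p := Nat.mul_le_mul_right p h0
    have hne : (v 0).val * p + (v 1).val ≠ 0 := fun h => by
      rw [Nat.add_eq_zero_iff, Nat.mul_eq_zero] at h
      apply hv
      funext i
      fin_cases i
      · exact (ZMod.val_eq_zero _).mp (h.1.resolve_right hp.ne')
      · exact (ZMod.val_eq_zero _).mp h.2
    have hb := hcov ((v 0).val * p + (v 1).val - 1) (by omega)
    rw [Nat.sub_add_cancel (Nat.one_le_iff_ne_zero.mpr hne)] at hb
    have hmemc := (testBit_foldl _ 0 _ hb).resolve_left (by simp)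
    simp only [colCodes, scalars, List.mem_flatMap, List.mem_map, List.mem_range] at hmemc
    obtain ⟨z, ⟨i, hi, rfl⟩, ⟨a, b, c', d⟩, hs, heq⟩ := hmemc
    obtain ⟨x, hx, hxe⟩ := hmem n _ hs
    refine ⟨⟨C ^ i * x, H.mul_mem (H.pow_mem hC i) hx⟩, ?_⟩
    apply Subtype.ext
    have hdiv := congrArg (· / p) heq
    have hmod := congrArg (· % p) heq
    simp only [Nat.mul_comm _ p, Nat.mul_add_div hp, Nat.mul_add_mod, Nat.mod_mod,
      Nat.div_eq_of_lt (Nat.mod_lt _ hp), Nat.div_eq_of_lt (v 1).val_lt, add_zero,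
      Nat.mod_eq_of_lt (v 1).val_lt] at hdiv hmod
    have c0 := congrArg (fun t : ℕ => (t : ZMod p)) hdiv
    have c1 := congrArg (fun t : ℕ => (t : ZMod p)) hmod
    simp only [ZMod.natCast_mod, Nat.cast_mul, Nat.cast_pow, ZMod.natCast_zmod_val] at c0 c1
    funext j
    simp only [act, Units.val_mul, hCpow, hxe, Matrix.smul_mul, Matrix.one_mul,
      Matrix.smul_mulVec]
    fin_cases j <;> simp [toM, e, ← c0, ← c1, mul_comm]
  have hcardV : Nat.card {v : Fin 2 → ZMod p // v ≠ 0} = p * p - 1 := by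
    rw [Nat.card_eq_fintype_card, Fintype.card_subtype_compl, Fintype.card_subtype_eq]
    simp [Fintype.card_fun, ZMod.card, sq]
  have hcard : Nat.card H = p * p - 1 :=
    le_antisymm hle (hcardV ▸ Nat.card_le_card_of_surjective act hsurj)
  refine ⟨hcard, fun v w hv hw => ?_⟩
  have hinj : Function.Injective act :=
    ((Nat.bijective_iff_surjective_and_card act).mpr ⟨hsurj, hcard.trans hcardV.symm⟩).1
  obtain ⟨x, hx⟩ := hsurj ⟨v, hv⟩
  obtain ⟨y, hy⟩ := hsurj ⟨w, hw⟩
  have hx' := congrArg Subtype.val hx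
  have hy' := congrArg Subtype.val hy
  simp only [act] at hx' hy'
  refine ⟨y * x⁻¹, ?_, fun h hh => ?_⟩
  · change ((y * x⁻¹ : H) : GL (Fin 2) (ZMod p)).val *ᵥ v = w
    rw [← hx', ← hy', Matrix.mulVec_mulVec, ← Units.val_mul, ← Subgroup.coe_mul,
      inv_mul_cancel_right]
  · have : act (h * x) = act y := Subtype.ext (by
      simp only [act, Subgroup.coe_mul, Units.val_mul, ← Matrix.mulVec_mulVec, hx', hh, hy'])
    rw [← hinj this, mul_inv_cancel_right]

end CfsgLib.Perm.Regular2
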