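import Mathlib
import Cfsg.Agent.Lib.Recognition.NearField.Main

/-!
# Linear groups regular on the non-zero vectors
-/

set_option autoImplicit false

namespace CfsgLib.Perm.RegularLinear

open Polynomial CfsgLib.Recognition.NearField

variable {p : ℕ} [Fact p.Prime] {V : Type*} [AddCommGroup V] [Module (ZMod p) V]

/-- The tautological representation of a group of linear automorphisms. -/
def rep (H : Subgroup (V ≃ₗ[ZMod p] V)) : H →* Module.End (ZMod p) V where
  toFun h := (h : V ≃ₗ[ZMod p] V).toLinearMap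
  map_one' := rfl
  map_mul' _ _ := rfl

theorem rep_apply (H : Subgroup (V ≃ₗ[ZMod p] V)) (h : H) (v : V) :
    rep H h v = (h : V ≃ₗ[ZMod p] V) v := rfl

variable {H : Subgroup (V ≃ₗ[ZMod p] V)}

theorem fpf (hreg : ∀ v w : V, v ≠ 0 → w ≠ 0 → ∃! h : H, (h : V ≃ₗ[ZMod p] V) v = w) :
    Fpf (rep H) := by
  intro g v hv hg
  exact (hreg v v hv hv).unique hg rfl

variable [Finite V]

theorem finite_aut : Finite (V ≃ₗ[ZMod p] V) :=
  Finite.of_injective _ (DFunLike.coe_injective (F := V ≃ₗ[ZMod p] V))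

theorem card_eq [Nontrivial V]
    (hreg : ∀ v w : V, v ≠ 0 → w ≠ 0 → ∃! h : H, (h : V ≃ₗ[ZMod p] V) v = w) :
    Nat.card H = Nat.card V - 1 := by
  classical
  obtain ⟨v0, hv0⟩ := exists_ne (0 : V)
  have hne : ∀ h : H, (h : V ≃ₗ[ZMod p] V) v0 ≠ 0 := fun h e => hv0 (by simpa using e)
  have hbij : Function.Bijective fun h : H => (⟨(h : V ≃ₗ[ZMod p] V) v0, hne h⟩ : {v : V // v ≠ 0}) := by
    refine ⟨fun a b hab => (hreg v0 _ hv0 (hne b)).unique (congrArg Subtype.val hab) rfl, fun v => ?_⟩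
    obtain ⟨g, hg, -⟩ := hreg v0 v.1 hv0 v.2
    exact ⟨g, Subtype.ext hg⟩
  rw [Nat.card_congr (Equiv.ofBijective _ hbij)]
  haveI := Fintype.ofFinite V
  rw [Nat.card_eq_fintype_card, Nat.card_eq_fintype_card, Fintype.card_subtype_compl,
    Fintype.card_subtype_eq]

omit [Finite V] in
theorem nontrivial (hI : ∀ A : Subgroup H, A.Normal → IsCyclic A →
      ∃ W : Submodule (ZMod p) V, W ≠ ⊥ ∧ W ≠ ⊤ ∧ ∀ a ∈ A, ∀ v ∈ W, ((a : H) : V ≃ₗ[ZMod p] V) v ∈ W) :
    Nontrivial V := by
  obtain ⟨W, hW, -, -⟩ := hI ⊥ inferInstance inferInstance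
  by_contra h
  rw [not_nontrivial_iff_subsingleton] at h
  exact hW (Subsingleton.elim _ _)

/-- Without an irreducible cyclic normal subgroup no cyclic normal subgroup is self-centralising. -/
theorem centralizer_ne (hreg : ∀ v w : V, v ≠ 0 → w ≠ 0 → ∃! h : H, (h : V ≃ₗ[ZMod p] V) v = w)
    (hI : ∀ A : Subgroup H, A.Normal → IsCyclic A →
      ∃ W : Submodule (ZMod p) V, W ≠ ⊥ ∧ W ≠ ⊤ ∧ ∀ a ∈ A, ∀ v ∈ W, ((a : H) : V ≃ₗ[ZMod p] V) v ∈ W)
    (B : Subgroup H) [B.Normal] (hB : IsCyclic B) : Subgroup.centralizer (B : Set H) ≠ B := by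
  classical
  intro hC
  haveI := nontrivial hI
  haveI := finite_aut (p := p) (V := V)
  have hqp := (Fact.out : p.Prime)
  have h := fpf hreg
  set n := Module.finrank (ZMod p) V with hn
  have hn0 : 0 < n := Module.finrank_pos
  obtain ⟨⟨t, htB⟩, htgen⟩ := IsCyclic.exists_generator (α := B)
  have ht : Subgroup.zpowers t = B := by
    refine le_antisymm (Subgroup.zpowers_le.mpr htB) fun x hx => ?_
    obtain ⟨s, hs⟩ := Subgroup.mem_zpowers_iff.mp (htgen ⟨x, hx⟩)
    exact Subgroup.mem_zpowers_iff.mpr ⟨s, congrArg Subtype.val hs⟩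
  obtain ⟨f, hf, hfd, -, hord, hconjn⟩ := eigen (ρ := rep H) t (h.powers t)
    (minpoly (ZMod p) (rep H t)) (minpoly.ne_zero (Algebra.IsIntegral.isIntegral _))
    (minpoly.aeval _ _) (conj_pow_of_normal B ht)
  have hmdeg : (minpoly (ZMod p) (rep H t)).natDegree ≤ n :=
    (natDegree_le_of_dvd (LinearMap.minpoly_dvd_charpoly (rep H t))
      (rep H t).charpoly_monic.ne_zero).trans (rep H t).charpoly_natDegree.le
  have hbr : orderOf t * Nat.card (conjugatesOf t) = p ^ n - 1 := by
    rw [card_conjugates, centralizer_eq ht, hC, ← Nat.card_zpowers, ht, B.card_mul_index,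
      card_eq hreg, Module.natCard_eq_pow_finrank (K := ZMod p), Nat.card_zmod]
  have hdeg : n ≤ f.natDegree := by
    by_contra hlt
    push Not at hlt
    have hgcd : orderOf t ∣ p ^ Nat.gcd f.natDegree n - 1 := by
      rw [← Nat.pow_sub_one_gcd_pow_sub_one]
      exact Nat.dvd_gcd hord ⟨_, hbr.symm⟩
    have hpos : 0 < p ^ Nat.gcd f.natDegree n - 1 := by
      have := Nat.one_lt_pow (Nat.gcd_pos_of_pos_right f.natDegree hn0).ne' hqp.one_lt
      omega
    refine count_false hqp.two_le hn0 hbr.ge (hconjn.trans hmdeg) (Nat.le_of_dvd hpos hgcd) ?_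
    obtain ⟨k, hk⟩ := Nat.gcd_dvd_right f.natDegree n
    have hle : Nat.gcd f.natDegree n ≤ f.natDegree :=
      Nat.le_of_dvd hf.natDegree_pos (Nat.gcd_dvd_left _ _)
    rcases k with _ | _ | k
    · omega
    · omega
    · calc 2 * Nat.gcd f.natDegree n ≤ (k + 1 + 1) * Nat.gcd f.natDegree n :=
          Nat.mul_le_mul_right _ (by omega)
        _ = n := by rw [mul_comm]; exact hk.symm
  obtain ⟨W, hW, hW', hinv⟩ := hI B inferInstance hB
  have hmaps : ∀ v ∈ W, rep H t v ∈ W := fun v hv => hinv t htB v hv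
  have hfT : aeval (rep H t) f = 0 := by
    have hm0 := minpoly.ne_zero (Algebra.IsIntegral.isIntegral (R := ZMod p) (rep H t))
    obtain ⟨r, hr⟩ := hfd
    have hr' : r ≠ 0 := fun e => hm0 (by rw [hr, e, mul_zero])
    rw [hr, natDegree_mul hf.ne_zero hr'] at hmdeg
    have hu : IsUnit r := isUnit_iff_degree_eq_zero.mpr
      (by rw [degree_eq_natDegree hr', show r.natDegree = 0 by omega]; rfl)
    obtain ⟨c, hc⟩ := hu.exists_right_inv
    rw [show f = minpoly (ZMod p) (rep H t) * c by rw [hr, mul_assoc, hc, mul_one], map_mul,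
      minpoly.aeval, zero_mul]
  let S : Module.End (ZMod p) W := (rep H t).restrict hmaps
  have hS : aeval S f = 0 := by
    have key : ∀ (g : (ZMod p)[X]) (w : W), ((aeval S g) w : V) = aeval (rep H t) g w := by
      intro g
      induction g using Polynomial.induction_on with
      | C a => intro w; simp
      | add g g' hg hg' => intro w; simp [hg, hg']
      | monomial m a hg =>
        intro w
        have e1 : aeval S (C a * X ^ m * X) = aeval S (C a * X ^ m) * S := by
          rw [map_mul (aeval S) (C a * X ^ m) X, aeval_X]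
        have e2 : aeval (rep H t) (C a * X ^ m * X) = aeval (rep H t) (C a * X ^ m) * rep H t := by
          rw [map_mul (aeval (rep H t)) (C a * X ^ m) X, aeval_X]
        rw [pow_succ, ← mul_assoc, e1, e2, Module.End.mul_apply, Module.End.mul_apply, hg]
        rfl
    refine LinearMap.ext fun w => Subtype.ext ?_
    rw [key, hfT]
    rfl
  haveI : Nontrivial W := (Submodule.nontrivial_iff_ne_bot).mpr hW
  have hd : minpoly (ZMod p) S ∣ f := minpoly.dvd _ _ hS
  have hassoc := (hf.dvd_iff.mp hd).resolve_left (minpoly.not_isUnit _ _)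
  have h1 : f.natDegree = (minpoly (ZMod p) S).natDegree :=
    natDegree_eq_of_degree_eq (degree_eq_degree_of_associated hassoc)
  have h2 : (minpoly (ZMod p) S).natDegree ≤ Module.finrank (ZMod p) W :=
    (natDegree_le_of_dvd (LinearMap.minpoly_dvd_charpoly S) S.charpoly_monic.ne_zero).trans
      S.charpoly_natDegree.le
  have h3 := Submodule.finrank_lt hW'
  omega

end CfsgLib.Perm.RegularLinear
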