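import Mathlib
import Cfsg.Prelude.Def_RootSubgroups
import Cfsg.Agent.Lib.Perm.RankOne

/-! Sets of abstract root subgroups: the commutator case. -/

namespace CfsgLib.Perm.RootSet

open Cfsg CfsgLib.Perm.RankOne

variable {G : Type*} [Group G] {S : Set (Subgroup G)} {A B : Subgroup G}

theorem exists_partner (h : ¬ IsIsolatedIn (FAdj S) S A) (hA : A ∈ S) :
    ∃ D ∈ S, IsRankOnePair A D := by
  simp only [IsIsolatedIn, not_and, not_forall] at h
  obtain ⟨C, hC⟩ := h hA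
  by_cases h1 : FAdj S A C
  · exact ⟨C, h1.2.1, h1.2.2⟩
  · have h2 : FAdj S C A := not_not.mp (hC h1)
    exact ⟨C, h2.1, RankOnePair_symm h2.2.2⟩

theorem not_isolated {D : Subgroup G} (hA : A ∈ S) (hD : D ∈ S) (h : IsRankOnePair A D) :
    ¬ IsIsolatedIn (FAdj S) S A := fun hi => (hi.2 D).1 ⟨hA, hD, h⟩

theorem exists_ne_one {H : Subgroup G} (h : H ≠ ⊥) : ∃ x ∈ H, x ≠ 1 := by
  obtain ⟨⟨x, hx⟩, hx1⟩ := right_ne_bot.exists_ne_one_of_ne_bot h
  exact ⟨x, hx, fun e => hx1 (Subtype.ext e)⟩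

theorem bot_of_commute {H K : Subgroup G} (h : ∀ x ∈ H, ∀ y ∈ K, x * y = y * x) : ⁅H, K⁆ = ⊥ := by
  rw [Subgroup.commutator_eq_bot_iff_le_centralizer]
  exact fun x hx => Subgroup.mem_centralizer_iff.mpr fun y hy => (h x hx y hy).symm

/-- A commutator subgroup in `S` puts the pair in the commutator case. -/
theorem commCase_of_mem (hS : IsRootSubgroupSet S) (hA : A ∈ S) (hB : B ∈ S) (hC : ⁅A, B⁆ ∈ S) :
    RootCommutatorCase S A B := by
  rcases hS.pair A hA B hB with h | h | h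
  · exact absurd h (hS.ne_bot _ hC)
  · exfalso
    have hle : ⁅A, B⁆ ≤ A ⊔ B := by
      rw [Subgroup.commutator_le]
      intro a ha b hb
      exact mul_mem (mul_mem (mul_mem (Subgroup.mem_sup_left ha) (Subgroup.mem_sup_right hb))
        (inv_mem (Subgroup.mem_sup_left ha))) (inv_mem (Subgroup.mem_sup_right hb))
    by_cases hc : ∀ c ∈ ⁅A, B⁆, ∀ x ∈ A ⊔ B, c * x = x * c
    · obtain ⟨a, ha, ha1⟩ := exists_ne_one (left_ne_bot h)
      obtain ⟨b, hb, hb1⟩ := exists_ne_one (right_ne_bot h)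
      have hne : conjBy B a ≠ B := fun e => ha1 (eq_one_of_normalizes h ha e)
      have hp := (pair_of_mem h (right_mem_unipotent h)
        (conjBy_mem_unipotent (right_mem_unipotent h) (Subgroup.mem_sup_left ha)) hne.symm).1
      refine hb1 (eq_one_of_normalizes hp hb (conjBy_of_comm ?_))
      rintro x ⟨b', hb', rfl⟩
      simp only [MulEquiv.coe_toMonoidHom, MulAut.conj_apply]
      have h1 := hc _ (Subgroup.commutator_mem_commutator ha hb') b (Subgroup.mem_sup_right hb)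
      have h2 : b' * b = b * b' :=
        congrArg Subtype.val ((hS.commutative B hB).1.comm ⟨b', hb'⟩ ⟨b, hb⟩)
      rw [commutatorElement_def] at h1
      calc b * (a * b' * a⁻¹) = (b * (a * b' * a⁻¹ * b'⁻¹)) * b' := by group
        _ = a * b' * a⁻¹ * b'⁻¹ * (b * b') := by rw [← h1]; group
        _ = a * b' * a⁻¹ * b := by rw [← h2]; group
    · have hu := mem_unipotent_of_le hS hA hB h hC hle hc
      obtain ⟨y, hy, hye⟩ := hu
      have hn : ∀ x ∈ A ⊔ B, conjBy ⁅A, B⁆ x = ⁅A, B⁆ := fun x hx =>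
        conjBy_eq_iff_mem_normalizer.mpr ((sup_le (Subgroup.normalizer_commutator_ge_left A B)
          (Subgroup.normalizer_commutator_ge_right A B) :
            A ⊔ B ≤ Subgroup.normalizer ((⁅A, B⁆ : Subgroup G) : Set G)) hx)
      have hA' : A = ⁅A, B⁆ := by
        have := hn y⁻¹ (inv_mem hy)
        conv_lhs at this => rw [hye, conjBy_inv_conjBy]
        exact this
      obtain ⟨x, hx, hxB⟩ := right_mem_unipotent h
      exact h.ne (hxB.trans ((congrArg (conjBy · x) hA').trans ((hn x hx).trans hA'.symm))).symm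
  · exact h

/-- The commutator map `b ↦ a⁻¹ b⁻¹ a b`. -/
theorem comm_mem {a b : G} (ha : a ∈ A) (hb : b ∈ B) :
    a⁻¹ * b⁻¹ * a * b ∈ ⁅A, B⁆ := by
  have := Subgroup.commutator_mem_commutator (A.inv_mem ha) (B.inv_mem hb)
  simpa [commutatorElement_def] using this

theorem comm_mul (hC : RootCommutatorCase S A B) {a b b' : G} (ha : a ∈ A) (hb : b ∈ B)
    (hb' : b' ∈ B) : a⁻¹ * (b * b')⁻¹ * a * (b * b') =
      (a⁻¹ * b⁻¹ * a * b) * (a⁻¹ * b'⁻¹ * a * b') := by
  have h1 := hC.2.1 _ (comm_mem ha hb) (a⁻¹ * b'⁻¹ * a)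
    (mul_mem (mul_mem (inv_mem (Subgroup.mem_sup_left ha)) (inv_mem (Subgroup.mem_sup_right hb')))
      (Subgroup.mem_sup_left ha))
  calc a⁻¹ * (b * b')⁻¹ * a * (b * b') = (a⁻¹ * b'⁻¹ * a) * (a⁻¹ * b⁻¹ * a * b) * b' := by group
    _ = (a⁻¹ * b⁻¹ * a * b) * (a⁻¹ * b'⁻¹ * a) * b' := by rw [h1]
    _ = _ := by group

theorem left_ne_comm (hC : RootCommutatorCase S A B) (hS : IsRootSubgroupSet S) :
    ∀ C, C = ⁅A, B⁆ → A ≠ C := by
  rintro C rfl e
  refine hS.ne_bot _ hC.1 (bot_of_commute fun a ha b hb => ?_)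
  exact hC.2.1 a (e ▸ ha) b (Subgroup.mem_sup_right hb)

theorem inf_comm_eq_bot (hS : IsRootSubgroupSet S) {D : Subgroup G} (hD : D ∈ S)
    (h : IsRankOnePair A D) (hC : RootCommutatorCase S A B) : A ⊓ ⁅A, B⁆ = ⊥ :=
  (inf_eq_bot_or_eq hS hD h hC.1).resolve_right (left_ne_comm hC hS _ rfl)

theorem comm_eq_one (hS : IsRootSubgroupSet S) {D : Subgroup G} (hA : A ∈ S) (hD : D ∈ S)
    (h : IsRankOnePair A D) (hC : RootCommutatorCase S A B) {a b : G} (ha : a ∈ A) (ha1 : a ≠ 1)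
    (hb : b ∈ B) (he : a⁻¹ * b⁻¹ * a * b = 1) : b = 1 := by
  by_contra hb1
  have hab : a * b = b * a := by
    rw [mul_assoc (a⁻¹ * b⁻¹)] at he
    have : a * b = (a⁻¹ * b⁻¹)⁻¹ := eq_inv_of_mul_eq_one_right he
    simpa using this
  have hAb : A = conjBy A b := by
    rcases inf_eq_bot_or_eq hS hD h (hS.conj_mem A hA b) with e | e
    · refine absurd ?_ ha1
      rw [← Subgroup.mem_bot, ← e]
      exact ⟨ha, mem_conjBy.mpr (by rw [mul_assoc, hab, inv_mul_cancel_left]; exact ha)⟩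
    · exact e
  refine hS.ne_bot _ hC.1 ?_
  rw [← hC.2.2.2 b hb hb1, Subgroup.closure_eq_bot_iff]
  rintro _ ⟨x, hx, rfl⟩
  rw [Set.mem_singleton_iff, ← Subgroup.mem_bot, ← inf_comm_eq_bot hS hD h hC]
  refine ⟨?_, Subgroup.commutator_mem_commutator hx hb⟩
  have : b * x⁻¹ * b⁻¹ ∈ A := by rw [hAb]; exact conjBy_conj_mem (A.inv_mem hx)
  simpa [mul_assoc] using A.mul_mem hx this

/-- `b ↦ a⁻¹ b⁻¹ a b` is an isomorphism of `B` onto `⁅A, B⁆`. -/
theorem exists_comm_equiv (hS : IsRootSubgroupSet S) {D : Subgroup G} (hA : A ∈ S) (hD : D ∈ S)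
    (h : IsRankOnePair A D) (hC : RootCommutatorCase S A B) {a : G} (ha : a ∈ A) (ha1 : a ≠ 1) :
    ∃ φ : ↥B ≃* ↥⁅A, B⁆, ∀ b : ↥B, (φ b : G) = a⁻¹ * (b : G)⁻¹ * a * b := by
  let f : ↥B →* ↥⁅A, B⁆ := MonoidHom.mk' (fun b => ⟨a⁻¹ * (b : G)⁻¹ * a * b, comm_mem ha b.2⟩)
    (fun b b' => Subtype.ext (comm_mul hC ha b.2 b'.2))
  refine ⟨MulEquiv.ofBijective f ⟨?_, ?_⟩, fun b => rfl⟩
  · rw [injective_iff_map_eq_one]
    exact fun b hb => Subtype.ext (comm_eq_one hS hA hD h hC ha ha1 b.2 (congrArg Subtype.val hb))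
  · have hle : ⁅A, B⁆ ≤ f.range.map (Subgroup.subtype _) := by
      conv_lhs => rw [← hC.2.2.1 a⁻¹ (A.inv_mem ha) (by simpa using ha1)]
      rw [Subgroup.closure_le]
      rintro _ ⟨b, hb, rfl⟩
      refine ⟨f ⟨b⁻¹, B.inv_mem hb⟩, ⟨_, rfl⟩, ?_⟩
      simp [f, mul_assoc]
    intro c
    obtain ⟨d, ⟨b, hb⟩, e⟩ := hle c.2
    exact ⟨b, hb.trans (Subtype.ext e)⟩

theorem comm_bij (hS : IsRootSubgroupSet S) {D : Subgroup G} (hA : A ∈ S) (hD : D ∈ S)
    (h : IsRankOnePair A D) (hC : RootCommutatorCase S A B) {a : G} (ha : a ∈ A) (ha1 : a ≠ 1)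
    {c : G} (hc : c ∈ ⁅A, B⁆) : ∃ b ∈ B, a⁻¹ * b⁻¹ * a * b = c := by
  obtain ⟨φ, hφ⟩ := exists_comm_equiv hS hA hD h hC ha ha1
  exact ⟨φ.symm ⟨c, hc⟩, (φ.symm ⟨c, hc⟩).2, by rw [← hφ, MulEquiv.apply_symm_apply]⟩

/-- A member contained in `⁅A, B⁆` equals it. -/
theorem eq_comm_of_le (hS : IsRootSubgroupSet S) {D : Subgroup G} (hA : A ∈ S) (hD : D ∈ S)
    (h : IsRankOnePair A D) (hC : RootCommutatorCase S A B)
    {E : Subgroup G} (hE : E ∈ S) (hle : E ≤ ⁅A, B⁆) : E = ⁅A, B⁆ := by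
  obtain ⟨e, he, he1⟩ := exists_ne_one (hS.ne_bot E hE)
  obtain ⟨a, ha, ha1⟩ := exists_ne_one (left_ne_bot h)
  have hnc : ∀ z ∈ ⁅A, B⁆, z ≠ 1 → ¬ ∀ d ∈ D, d * z = z * d := by
    intro z hz hz1 hall
    obtain ⟨b, hb, hbz⟩ := comm_bij hS hA hD h hC ha ha1 hz
    have hzc : z ∈ Subgroup.centralizer ((A ⊔ D : Subgroup G) : Set G) := by
      have h1 : A ⊔ D ≤ Subgroup.centralizer ({z} : Set G) := sup_le
        (fun x hx => Subgroup.mem_centralizer_singleton_iff.mpr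
          (hC.2.1 z hz x (Subgroup.mem_sup_left hx)).symm)
        (fun x hx => Subgroup.mem_centralizer_singleton_iff.mpr (hall x hx))
      exact Subgroup.mem_centralizer_iff.mpr fun x hx =>
        Subgroup.mem_centralizer_singleton_iff.mp (h1 hx)
    have hza : z * a = b⁻¹ * a * b := by
      rw [hC.2.1 z hz a (Subgroup.mem_sup_left ha), ← hbz]; group
    refine mul_not_mem_root hS hA hD h hzc hz1 ha ha1 ⟨?_, conjBy A b⁻¹, hS.conj_mem A hA _, ?_⟩
    · rw [hza]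
      simpa [mul_assoc, inv_mul_eq_one] using ha1
    · rw [hza]; exact mem_conjBy.mpr (by simpa [mul_assoc] using ha)
  have hE' : ⁅D, E⁆ ≠ ⊥ := fun hb => hnc e (hle he) he1 fun d hd => commutes_of_bot hb hd he
  have hC' : ⁅D, ⁅A, B⁆⁆ ≠ ⊥ := fun hb => hnc e (hle he) he1 fun d hd => commutes_of_bot hb hd (hle he)
  rcases (hS.pair D hD E hE).resolve_left hE' with h1 | h1
  · rcases inf_eq_bot_or_eq hS hD (RankOnePair_symm h1) hC.1 with h2 | h2
    · exact absurd ((inf_eq_left.mpr hle).symm.trans h2) (hS.ne_bot E hE)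
    · exact h2
  rcases (hS.pair D hD _ hC.1).resolve_left hC' with h2 | h2
  · rcases inf_eq_bot_or_eq hS hD (RankOnePair_symm h2) hE with h3 | h3
    · exact absurd ((inf_eq_right.mpr hle).symm.trans h3) (hS.ne_bot E hE)
    · exact h3.symm
  have heq : ⁅D, E⁆ = ⁅D, ⁅A, B⁆⁆ := (h1.2.2.2 e he he1).symm.trans (h2.2.2.2 e (hle he) he1)
  obtain ⟨d, hd, hd1⟩ := exists_ne_one (right_ne_bot h)
  refine le_antisymm hle fun c hc => ?_
  have hm : d⁻¹ * c⁻¹ * d * c ∈ ⁅D, E⁆ := heq ▸ comm_mem hd hc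
  obtain ⟨e', he', hee⟩ := comm_bij hS hD hA (RankOnePair_symm h) h1 hd hd1 hm
  obtain ⟨φ, hφ⟩ := exists_comm_equiv hS hD hA (RankOnePair_symm h) h2 hd hd1
  have : φ ⟨e', hle he'⟩ = φ ⟨c, hc⟩ := Subtype.ext (by rw [hφ, hφ]; exact hee)
  have he2 : e' = c := congrArg Subtype.val (φ.injective this)
  exact he2 ▸ he'

end CfsgLib.Perm.RootSet

namespace CfsgLib.Perm.RootSet

open Cfsg CfsgLib.Perm.RankOne
open scoped commutatorElement

variable {G : Type*} [Group G] {S : Set (Subgroup G)} {A B : Subgroup G}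

theorem fAdj_symm {P Q : Subgroup G} (h : FAdj S P Q) : FAdj S Q P :=
  ⟨h.2.1, h.1, RankOnePair_symm h.2.2⟩

theorem reach_symm {P Q : Subgroup G} (h : Relation.ReflTransGen (FAdj S) P Q) :
    Relation.ReflTransGen (FAdj S) Q P := by
  induction h with
  | refl => exact .refl
  | tail _ h ih => exact (Relation.ReflTransGen.single (fAdj_symm h)).trans ih

theorem component_eq {P Q : Subgroup G} (h : Relation.ReflTransGen (FAdj S) P Q) :
    componentOf (FAdj S) S P = componentOf (FAdj S) S Q := by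
  ext X
  exact ⟨fun hX => ⟨hX.1, (reach_symm h).trans hX.2⟩, fun hX => ⟨hX.1, h.trans hX.2⟩⟩

/-- An element of a member with partner `D` is no product of two commuting root elements whose
members are not partners of `D`. -/
theorem not_product (hS : IsRootSubgroupSet S) {C D : Subgroup G} (hA : A ∈ S) (hB : B ∈ S)
    (hC : C ∈ S) (hD : D ∈ S) (h : IsRankOnePair A D)
    (hDB : ¬ IsRankOnePair B D) (hDC : ¬ IsRankOnePair C D)
    {a b c : G} (ha : a ∈ A) (ha1 : a ≠ 1) (hb : b ∈ B) (hc : c ∈ C) (habc : a = c * b)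
    (hcb : c * b = b * c) : False := by
  have hmove : conjBy D a ≠ D := fun e => ha1 (eq_one_of_normalizes h ha e)
  have hp0 : IsRankOnePair D (conjBy D a) :=
    (pair_of_mem h (right_mem_unipotent h)
      (conjBy_mem_unipotent (right_mem_unipotent h) (Subgroup.mem_sup_left ha)) hmove.symm).1
  have hPQ : IsRankOnePair (conjBy D c⁻¹) (conjBy D b) := by
    have := pair_conj hp0 c⁻¹
    rwa [← conjBy_mul D c⁻¹ a, habc, inv_mul_cancel_left] at this
  have hcomm : ∀ {E : Subgroup G}, E ∈ S → ¬ IsRankOnePair E D → ∀ e ∈ E,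
      ∀ x ∈ conjBy D e, ∀ d ∈ D, x * d = d * x := by
    intro E hE hne e he x hx d hd
    rcases hS.pair E hE D hD with h0 | h0 | h0
    · rw [conjBy_of_comm (fun y hy => commutes_of_bot h0 he hy)] at hx
      exact congrArg Subtype.val ((hS.commutative D hD).1.comm ⟨x, hx⟩ ⟨d, hd⟩)
    · exact absurd h0 hne
    · exact commutatorCase_conj h0 (hS.commutative D hD) he hd hx
  rcases hS.pair B hB D hD with hB0 | hB0 | hB0
  · rw [conjBy_of_comm (fun y hy => commutes_of_bot hB0 hb hy)] at hPQ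
    exact not_commute_pair hPQ (bot_of_commute fun x hx d hd => hcomm hC hDC _ (inv_mem hc) x hx d hd)
  · exact hDB hB0
  rcases hS.pair C hC D hD with hC0 | hC0 | hC0
  · rw [conjBy_of_comm (fun y hy => commutes_of_bot hC0 (inv_mem hc) hy)] at hPQ
    exact not_commute_pair hPQ (bot_of_commute fun x hx y hy => (hcomm hB hDB _ hb y hy x hx).symm)
  · exact hDC hC0
  have hTd : ∀ t ∈ ⁅B, D⁆, ∀ d ∈ D, d * t = t * d := fun t ht d hd =>
    (hB0.2.1 t ht d (Subgroup.mem_sup_right hd)).symm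
  have hUd : ∀ t ∈ ⁅C, D⁆, ∀ d ∈ D, d * t = t * d := fun t ht d hd =>
    (hC0.2.1 t ht d (Subgroup.mem_sup_right hd)).symm
  have hP : ∀ x ∈ conjBy D b, ∃ t ∈ ⁅B, D⁆, ∃ d ∈ D, x = t * d := by
    rintro _ ⟨d, hd, rfl⟩
    exact ⟨_, Subgroup.commutator_mem_commutator hb hd, d, hd, by
      simp [commutatorElement_def, mul_assoc]⟩
  have hQ : ∀ x ∈ conjBy D c⁻¹, ∃ t ∈ ⁅C, D⁆, ∃ d ∈ D, x = t * d := by
    rintro _ ⟨d, hd, rfl⟩
    exact ⟨_, Subgroup.commutator_mem_commutator (inv_mem hc) hd, d, hd, by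
      simp [commutatorElement_def, mul_assoc]⟩
  have hDD : ∀ d ∈ D, ∀ e ∈ D, d * e = e * d := fun d hd e he =>
    congrArg Subtype.val ((hS.commutative D hD).1.comm ⟨d, hd⟩ ⟨e, he⟩)
  -- the product of two such elements
  have hswap : ∀ t ∈ ⁅B, D⁆, ∀ u ∈ ⁅C, D⁆, ∀ d ∈ D, ∀ e ∈ D,
      (t * d) * (u * e) = (t * u) * (d * e) := by
    intro t _ u hu d hd e _
    calc (t * d) * (u * e) = t * (d * u) * e := by group
      _ = t * (u * d) * e := by rw [hUd u hu d hd]
      _ = _ := by group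
  rcases hS.pair _ hB0.1 _ hC0.1 with h1 | h1 | h1
  · refine not_commute_pair hPQ (bot_of_commute fun q hq p hp => ?_)
    obtain ⟨t, ht, d, hd, rfl⟩ := hP p hp
    obtain ⟨u, hu, e, he, rfl⟩ := hQ q hq
    rw [hswap t ht u hu d hd e he, commutes_of_bot h1 ht hu, hDD d hd e he]
    calc (u * e) * (t * d) = u * (e * t) * d := by group
      _ = u * (t * e) * d := by rw [hTd t ht e he]
      _ = _ := by group
  · obtain ⟨d, hd, hd1⟩ : ∃ d ∈ D, ⁅b, d⁆ ≠ 1 := by
      by_contra hall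
      push Not at hall
      refine hS.ne_bot _ hB0.1 ?_
      by_cases hb1 : b = 1
      · subst hb1
        exact absurd (by rw [habc, mul_one]) (fun e : a = c => hDC ((inf_eq_bot_or_eq hS hD h hC).elim
          (fun e' => absurd (show a ∈ (⊥ : Subgroup G) from e' ▸ ⟨ha, e ▸ hc⟩) ha1) (fun e' => e' ▸ h)))
      rw [← hB0.2.2.1 b hb hb1, Subgroup.closure_eq_bot_iff]
      rintro _ ⟨y, hy, rfl⟩
      exact hall y hy
    have hd1' : d ≠ 1 := fun e => hd1 (by simp [e])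
    refine mul_not_mem_root hS hB0.1 hC0.1 h1 (z := d) ?_ hd1'
      (Subgroup.commutator_mem_commutator hb hd) hd1 ⟨?_, conjBy D b, hS.conj_mem D hD b, ?_⟩
    · rw [Subgroup.mem_centralizer_iff]
      intro x hx
      have : ⁅B, D⁆ ⊔ ⁅C, D⁆ ≤ Subgroup.centralizer ({d} : Set G) := sup_le
        (fun t ht => Subgroup.mem_centralizer_singleton_iff.mpr (hTd t ht d hd).symm)
        (fun t ht => Subgroup.mem_centralizer_singleton_iff.mpr (hUd t ht d hd).symm)
      exact Subgroup.mem_centralizer_singleton_iff.mp (this hx)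
    · rw [hTd _ (Subgroup.commutator_mem_commutator hb hd) d hd, commutatorElement_def, inv_mul_cancel_right,
        conj_eq_one_iff.ne]
      exact hd1'
    · rw [hTd _ (Subgroup.commutator_mem_commutator hb hd) d hd]
      exact ⟨d, hd, by simp [commutatorElement_def, mul_assoc]⟩
  · obtain ⟨q0, hq0, hq01⟩ := exists_ne_one (left_ne_bot hPQ)
    obtain ⟨p, hp, hp1⟩ := exists_ne_one (right_ne_bot hPQ)
    have hne : conjBy (conjBy D c⁻¹) p ≠ conjBy D c⁻¹ := fun e =>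
      hp1 (eq_one_of_normalizes (RankOnePair_symm hPQ) hp e)
    have hpair := (pair_of_mem hPQ (self_mem_unipotent _ _)
      (conjBy_mem_unipotent (self_mem_unipotent _ _) (Subgroup.mem_sup_right hp)) hne.symm).1
    refine not_commute_pair hpair (bot_of_commute fun q' hq' x hx => ?_)
    obtain ⟨q, hq, rfl⟩ := hx
    obtain ⟨t, ht, d, hd, rfl⟩ := hP p hp
    obtain ⟨u, hu, e, he, rfl⟩ := hQ q hq
    obtain ⟨u', hu', e', he', rfl⟩ := hQ q' hq'
    have hk := Subgroup.commutator_mem_commutator ht hu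
    have hck : ∀ y, y = ⁅t, u⁆ → ∀ f ∈ D, f * y = y * f := by
      intro y hy f hf
      subst hy
      have hcent : ∀ z, (f * z = z * f) → f * z⁻¹ = z⁻¹ * f := fun z hz =>
        (Commute.inv_right (hz : Commute f z)).eq
      have a1 := hTd t ht f hf
      have a2 := hUd u hu f hf
      rw [commutatorElement_def]
      exact ((((show Commute f t from a1).mul_right (show Commute f u from a2)).mul_right
        (show Commute f t⁻¹ from hcent t a1)).mul_right (show Commute f u⁻¹ from hcent u a2)).eq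
    have hx : (MulAut.conj (t * d)).toMonoidHom (u * e) = ⁅t, u⁆ * (u * e) := by
      simp only [MulEquiv.coe_toMonoidHom, MulAut.conj_apply, commutatorElement_def]
      have a1 : d * (u * e) * d⁻¹ = u * e := by
        rw [← mul_assoc d u e, hUd u hu d hd, mul_assoc u d e, hDD d hd e he]; group
      have a2 : t * e * t⁻¹ = e := by rw [← hTd t ht e he, mul_inv_cancel_right]
      calc t * d * (u * e) * (t * d)⁻¹ = t * (d * (u * e) * d⁻¹) * t⁻¹ := by group
        _ = t * (u * e) * t⁻¹ := by rw [a1]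
        _ = t * u * t⁻¹ * (t * e * t⁻¹) := by group
        _ = _ := by rw [a2]; group
    rw [hx]
    have k1 := h1.2.1 _ hk u' (Subgroup.mem_sup_right hu')
    have k2 : Commute (u' * e') ⁅t, u⁆ := Commute.mul_left (show Commute u' ⁅t, u⁆ from k1.symm)
      (hck _ rfl e' he')
    have k3 : Commute (u' * e') (u * e) := congrArg Subtype.val
      ((hS.commutative _ (hS.conj_mem D hD c⁻¹)).1.comm ⟨_, hq'⟩ ⟨_, hq⟩)
    exact (k2.mul_right k3).eq

end CfsgLib.Perm.RootSet
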