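import Mathlib
import Cfsg.Prelude.Def_RootSubgroups
import Cfsg.Agent.Lib.Perm.RankOne
import Cfsg.Agent.Lib.Perm.RootSet
import Cfsg.Agent.Lib.Perm.SpecialRankOne
import Cfsg.Agent.S5029

/-!
A rank one pair `A`, `B` of root subgroups with `A` in some commutator case: a line partner of `A`
is in the commutator case with `B`, and `⟨A, B⟩` acts quadratically on an abelian subgroup.
-/

set_option autoImplicit false

namespace CfsgLib.Perm.RootLine

open Cfsg CfsgLib.Perm.RankOne CfsgLib.Perm.RootSet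
open scoped commutatorElement

variable {G : Type*} [Group G] {S : Set (Subgroup G)} {A B : Subgroup G}

theorem le_centralizer_of_bot {H K : Subgroup G} (h : ⁅H, K⁆ = ⊥) :
    H ≤ Subgroup.centralizer (K : Set G) :=
  Subgroup.commutator_eq_bot_iff_le_centralizer.mp h

theorem bot_symm {H K : Subgroup G} (h : ⁅H, K⁆ = ⊥) : ⁅K, H⁆ = ⊥ := by
  rwa [Subgroup.commutator_comm]

theorem conj_comm_bot {H K : Subgroup G} (h : ⁅H, K⁆ = ⊥) (g : G) :
    ⁅conjBy H g, conjBy K g⁆ = ⊥ := by
  rw [conjBy, conjBy, ← Subgroup.map_commutator, h, Subgroup.map_bot]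

/-- A line partner of `A` which is in the commutator case with `B`. -/
theorem exists_line_partner (hS : IsRootSubgroupSet S) (hA : A ∈ S) (hB : B ∈ S)
    (h : IsRankOnePair A B) {E : Subgroup G} (hE : E ∈ S) (hC : RootCommutatorCase S A E) :
    ∃ F ∈ linePartners S A, RootCommutatorCase S B F := by
  set C := ⁅A, E⁆ with hCdef
  have hCS : C ∈ S := hC.1
  have hACne : A ≠ C := left_ne_comm hC hS _ rfl
  have hACc : ⁅A, C⁆ = ⊥ := bot_of_commute fun a ha c hc => (hC.2.1 c hc a (Subgroup.mem_sup_left ha)).symm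
  obtain ⟨hmem, hpart, -, -⟩ := Cfsg.Agent.S5029.result hS (not_isolated hA hB h) hA hE hC.1
  -- every member of the line other than `A` spans the line with `A`
  have hspan : ∀ F ∈ membersIn S (A ⊔ C), F ≠ A → A ⊔ F = A ⊔ C := by
    intro F hF hne
    refine le_antisymm (sup_le le_sup_left hF.2) (sup_le le_sup_left ?_)
    rw [hmem] at hF
    rcases hF with ⟨e, he, rfl⟩ | rfl
    · have he1 : e ≠ 1 := fun e' => hne (by rw [e']; exact conjBy_one A)
      rw [hCdef, ← hC.2.2.2 e he he1, Subgroup.closure_le]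
      rintro _ ⟨a, ha, rfl⟩
      simp only [SetLike.mem_coe]
      rw [show a * e * a⁻¹ * e⁻¹ = a * (e * a⁻¹ * e⁻¹) by group]
      exact mul_mem (Subgroup.mem_sup_left ha) (Subgroup.mem_sup_right (conjBy_conj_mem (A.inv_mem ha)))
    · exact le_sup_right
  have habel : ∀ x ∈ A ⊔ C, ∀ y ∈ A ⊔ C, x * y = y * x := by
    have hA' : A ≤ Subgroup.centralizer ((A ⊔ C : Subgroup G) : Set G) := by
      rw [Subgroup.le_centralizer_iff, sup_le_iff]
      refine ⟨?_, le_centralizer_of_bot (bot_symm hACc)⟩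
      exact fun x hx => Subgroup.mem_centralizer_iff.mpr fun y hy =>
        congrArg Subtype.val ((hS.commutative A hA).1.comm (⟨y, hy⟩ : A) ⟨x, hx⟩)
    have hC' : C ≤ Subgroup.centralizer ((A ⊔ C : Subgroup G) : Set G) := by
      rw [Subgroup.le_centralizer_iff, sup_le_iff]
      refine ⟨le_centralizer_of_bot hACc, ?_⟩
      exact fun x hx => Subgroup.mem_centralizer_iff.mpr fun y hy =>
        congrArg Subtype.val ((hS.commutative C hCS).1.comm (⟨y, hy⟩ : C) ⟨x, hx⟩)
    intro x hx y hy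
    exact (Subgroup.mem_centralizer_iff.mp (sup_le hA' hC' hx) y hy).symm
  have hAC : A ⊓ C = ⊥ := (inf_eq_bot_or_eq hS hB h hCS).resolve_right hACne
  -- some member of the line is no partner of `B`
  obtain ⟨F, hF, hFB⟩ : ∃ F ∈ membersIn S (A ⊔ C), ¬ IsRankOnePair F B := by
    by_contra hall
    push Not at hall
    have hpC := hall C ⟨hCS, le_sup_right⟩
    obtain ⟨b, hb, hb1⟩ := exists_ne_one (right_ne_bot h)
    obtain ⟨a, ha, ha1, hea⟩ := h.cond_right b hb hb1
    obtain ⟨c, hc, -, hec⟩ := hpC.cond_right b hb hb1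
    have hbot := conj_comm_bot hACc b⁻¹
    rw [← hea, ← hec] at hbot
    have hbot' := conj_comm_bot hbot a
    rw [conjBy_conjBy_inv, ← conjBy_mul] at hbot'
    have hne : a * c⁻¹ ≠ 1 := by
      intro e
      rw [mul_inv_eq_one] at e
      exact ha1 (Subgroup.mem_bot.mp (hAC ▸ Subgroup.mem_inf.mpr ⟨ha, e ▸ hc⟩))
    have hgm : a * c⁻¹ ∈ A ⊔ C :=
      mul_mem (Subgroup.mem_sup_left ha) (inv_mem (Subgroup.mem_sup_right hc))
    obtain ⟨F, hF, hgF⟩ := hpart.2.1 _ hgm hne
    have hp := hall F hF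
    have hmove : B ≠ conjBy B (a * c⁻¹) := fun e => hne (eq_one_of_normalizes hp hgF e.symm)
    exact not_commute_pair (pair_of_mem hp (right_mem_unipotent hp)
      (conjBy_mem_unipotent (right_mem_unipotent hp) (Subgroup.mem_sup_left hgF)) hmove).1 hbot'
  have hFA : F ≠ A := fun e => hFB (e ▸ h)
  have hAF : A ⊔ F = A ⊔ C := hspan F hF hFA
  have hAFc : ⁅A, F⁆ = ⊥ :=
    bot_of_commute fun a ha f hf => habel a (Subgroup.mem_sup_left ha) f (hF.2 hf)
  have hcase : RootCommutatorCase S F B := by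
    rcases hS.pair F hF.1 B hB with h0 | h0 | h0
    · exfalso
      obtain ⟨z, hz, hz1⟩ := exists_ne_one (hS.ne_bot F hF.1)
      obtain ⟨a, ha, ha1⟩ := exists_ne_one (left_ne_bot h)
      have hzc : z ∈ Subgroup.centralizer ((A ⊔ B : Subgroup G) : Set G) := by
        refine (Subgroup.le_centralizer_iff.mp (sup_le ?_ ?_)) hz
        · exact le_centralizer_of_bot hAFc
        · exact le_centralizer_of_bot (bot_symm h0)
      refine mul_not_mem_root hS hA hB h hzc hz1 ha ha1 ?_
      have hne : z * a ≠ 1 := by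
        intro e
        have hzA : z ∈ A := (eq_inv_of_mul_eq_one_left e) ▸ A.inv_mem ha
        exact hz1 (Subgroup.mem_bot.mp (((inf_eq_bot_or_eq hS hB h hF.1).resolve_right hFA.symm) ▸
          Subgroup.mem_inf.mpr ⟨hzA, hz⟩))
      obtain ⟨K, hK, hK'⟩ := hpart.2.1 _ (mul_mem (hF.2 hz) (Subgroup.mem_sup_left ha)) hne
      exact ⟨hne, K, hK.1, hK'⟩
    · exact absurd h0 hFB
    · exact h0
  exact ⟨F, ⟨⟨hF.1, hFA, hAFc⟩, by rw [hAF]; exact hpart⟩, commCase_swap hcase⟩

/-- The module of `⟨A, B⟩` attached to a member `F` commuting with `A`, in the commutator case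
with `B`. -/
theorem module_of (hS : IsRootSubgroupSet S) (hA : A ∈ S) (hB : B ∈ S) (h : IsRankOnePair A B)
    {F : Subgroup G} (hF : F ∈ S) (hAF : ⁅A, F⁆ = ⊥) (hBF : RootCommutatorCase S B F) :
    RootCommutatorCase S A ⁅B, F⁆ ∧ ⁅B, ⁅B, F⁆⁆ = ⊥ ∧
      ∀ b ∈ B, b ≠ 1 → ∃ a ∈ A, conjBy ⁅A, ⁅B, F⁆⁆ b⁻¹ = conjBy ⁅B, F⁆ a⁻¹ := by
  set K := ⁅B, F⁆ with hK
  have hBK : ⁅B, K⁆ = ⊥ := bot_of_commute fun b hb k hk =>
    (hBF.2.1 k hk b (Subgroup.mem_sup_left hb)).symm
  have hFK : ∀ f ∈ F, ∀ k ∈ K, f * k = k * f := fun f hf k hk =>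
    (hBF.2.1 k hk f (Subgroup.mem_sup_right hf)).symm
  have hAFnp : ¬ IsRankOnePair F A := fun hp => not_commute_pair hp (bot_symm hAF)
  have hFnp : ∀ b ∈ B, ¬ IsRankOnePair (conjBy F b) A := by
    intro b hb hp
    by_cases hb1 : b = 1
    · rw [hb1, conjBy_one] at hp; exact hAFnp hp
    obtain ⟨a, ha, -, he⟩ := h.cond_right b hb hb1
    have h1 := pair_conj hp b⁻¹
    rw [conjBy_inv_conjBy, ← he] at h1
    have h2 := pair_conj h1 a
    rw [conjBy_conjBy_inv, conjBy_of_comm (A := F) (fun f hf => commutes_of_bot hAF ha hf)] at h2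
    exact not_commCase_pair hS hB h2 (commCase_swap hBF)
  have hAK : RootCommutatorCase S A K := by
    rcases hS.pair A hA K hBF.1 with h0 | h0 | h0
    · exfalso
      obtain ⟨b, hb, hb1⟩ := exists_ne_one (right_ne_bot h)
      obtain ⟨a, ha, -, he⟩ := h.cond_right b hb hb1
      have hbot : ⁅A, conjBy F b⁆ = ⊥ := bot_of_commute fun x hx y hy => by
        rw [mem_conjBy] at hy
        set f := b⁻¹ * y * b
        have hy' : y = ⁅b, f⁆ * f := by simp [f, commutatorElement_def, mul_assoc]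
        have e1 : Commute x f := commutes_of_bot hAF hx hy
        have e2 : Commute x ⁅b, f⁆ :=
          commutes_of_bot h0 hx (Subgroup.commutator_mem_commutator hb hy)
        rw [hy']
        exact (e2.mul_right e1).eq
      have h1 := conj_comm_bot hbot b⁻¹
      rw [conjBy_inv_conjBy, ← he] at h1
      have h2 := conj_comm_bot h1 a
      rw [conjBy_conjBy_inv, conjBy_of_comm (A := F) (fun f hf => commutes_of_bot hAF ha hf)] at h2
      exact hS.ne_bot _ hBF.1 h2
    · exfalso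
      obtain ⟨b, hb, f, hf, hne⟩ : ∃ b ∈ B, ∃ f ∈ F, ⁅b, f⁆ ≠ 1 := by
        by_contra hall
        push Not at hall
        refine hS.ne_bot _ hBF.1 ?_
        rw [eq_bot_iff, Subgroup.commutator_le]
        exact fun b hb f hf => Subgroup.mem_bot.mpr (hall b hb f hf)
      have hfk : f * ⁅b, f⁆ = ⁅b, f⁆ * f := hFK f hf _ (Subgroup.commutator_mem_commutator hb hf)
      refine not_product hS hBF.1 hF (hS.conj_mem F hF b) hA (RankOnePair_symm h0) hAFnp (hFnp b hb)
        (a := ⁅b, f⁆) (b := f⁻¹) (c := b * f * b⁻¹) (Subgroup.commutator_mem_commutator hb hf) hne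
        (F.inv_mem hf) (conjBy_conj_mem hf) (by rw [commutatorElement_def]) ?_
      calc b * f * b⁻¹ * f⁻¹ = f⁻¹ * (f * ⁅b, f⁆) := by rw [inv_mul_cancel_left, commutatorElement_def]
        _ = f⁻¹ * (⁅b, f⁆ * f) := by rw [hfk]
        _ = f⁻¹ * (b * f * b⁻¹) := by rw [commutatorElement_def]; group
    · exact h0
  refine ⟨hAK, hBK, fun b hb hb1 => ?_⟩
  obtain ⟨a, ha, -, he⟩ := h.cond_right b hb hb1
  refine ⟨a, ha, ?_⟩
  -- `⁅A, F ^ b⁆` lies in `⁅A, K⁆`
  have hle : ⁅A, conjBy F b⁆ ≤ ⁅A, K⁆ := by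
    rw [Subgroup.commutator_le]
    intro x hx y hy
    rw [mem_conjBy] at hy
    set f := b⁻¹ * y * b
    have hy' : y = f * ⁅b, f⁆ := by
      rw [hFK f hy _ (Subgroup.commutator_mem_commutator hb hy)]
      simp [f, commutatorElement_def, mul_assoc]
    have hkk := Subgroup.commutator_mem_commutator hb hy
    have c1 : Commute x f := commutes_of_bot hAF hx hy
    have c2 : Commute ⁅b, f⁆ f := (hFK f hy _ hkk).symm
    have c3 : Commute ⁅x, ⁅b, f⁆⁆ f := by
      rw [commutatorElement_def]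
      exact (((c1.mul_left c2).mul_left c1.inv_left).mul_left c2.inv_left)
    have : ⁅x, y⁆ = ⁅x, ⁅b, f⁆⁆ := by
      rw [hy', commutatorElement_def]
      calc x * (f * ⁅b, f⁆) * x⁻¹ * (f * ⁅b, f⁆)⁻¹ = (x * f) * ⁅b, f⁆ * x⁻¹ * ⁅b, f⁆⁻¹ * f⁻¹ := by group
        _ = (f * x) * ⁅b, f⁆ * x⁻¹ * ⁅b, f⁆⁻¹ * f⁻¹ := by rw [c1.eq]
        _ = (f * ⁅x, ⁅b, f⁆⁆) * f⁻¹ := by rw [commutatorElement_def x]; group
        _ = ⁅x, ⁅b, f⁆⁆ := by rw [← c3.eq, mul_inv_cancel_right]
    rw [this]
    exact Subgroup.commutator_mem_commutator hx hkk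
  have e1 : ⁅A, conjBy F b⁆ = conjBy (conjBy K a⁻¹) b := by
    have hFa : conjBy F a⁻¹ = F :=
      conjBy_of_comm fun f hf => commutes_of_bot hAF (A.inv_mem ha) hf
    calc ⁅A, conjBy F b⁆ = conjBy ⁅conjBy A b⁻¹, F⁆ b := by
          conv_rhs => rw [conjBy, Subgroup.map_commutator]
          rw [← conjBy, ← conjBy, conjBy_conjBy_inv]
      _ = conjBy ⁅conjBy B a⁻¹, conjBy F a⁻¹⁆ b := by rw [← he, hFa]
      _ = _ := by
          congr 1
          rw [conjBy, conjBy, ← Subgroup.map_commutator]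
  rw [e1] at hle
  rw [← eq_comm_of_le hS hA hB h hAK (hS.conj_mem _ (hS.conj_mem _ hBF.1 _) b) hle, conjBy_inv_conjBy]

/-- The module of `⟨A, B⟩`: a member `K` centralised by `B`, with `⁅A, K⁆` a member, such that
`⁅A, K⁆` is moved by the non-identity elements of `B` to conjugates of `K` under `A`. -/
theorem exists_module (hS : IsRootSubgroupSet S) (hA : A ∈ S) (hB : B ∈ S)
    (h : IsRankOnePair A B) {E : Subgroup G} (hE : E ∈ S) (hC : RootCommutatorCase S A E) :
    ∃ K ∈ S, RootCommutatorCase S A K ∧ ⁅B, K⁆ = ⊥ ∧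
      ∀ b ∈ B, b ≠ 1 → ∃ a ∈ A, conjBy ⁅A, K⁆ b⁻¹ = conjBy K a⁻¹ := by
  obtain ⟨F, ⟨⟨hF, -, hAF⟩, -⟩, hBF⟩ := exists_line_partner hS hA hB h hE hC
  exact ⟨_, hBF.1, module_of hS hA hB h hF hAF hBF⟩

theorem map_conjBy {H : Type*} [Group H] (f : G →* H) (A : Subgroup G) (x : G) :
    (conjBy A x).map f = conjBy (A.map f) (f x) := by
  rw [conjBy, conjBy, Subgroup.map_map, Subgroup.map_map]
  congr 1
  ext y
  simp

theorem pair_subtype {X : Subgroup G} {A' B' : Subgroup X} (hA : A'.map X.subtype = A)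
    (hB : B'.map X.subtype = B) (hR : IsRankOnePair A B) : IsRankOnePair A' B' := by
  have hinj := X.subtype_injective
  have hcond : ∀ {P Q : Subgroup X}, RankOneCondition (P.map X.subtype) (Q.map X.subtype) →
      RankOneCondition P Q := by
    intro P Q hc p hp hp1
    obtain ⟨_, ⟨q, hq, rfl⟩, hq1, he⟩ := hc _ ⟨p, hp, rfl⟩ (fun e => hp1 (hinj e))
    refine ⟨q, hq, fun e => hq1 (by rw [e]; rfl), Subgroup.map_injective hinj ?_⟩
    rw [map_conjBy, map_conjBy, map_inv, map_inv]
    exact he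
  subst hA hB
  exact
    { ne := fun e => hR.ne (by rw [e])
      nilpotent_left := by
        haveI := hR.nilpotent_left
        exact Group.nilpotent_of_mulEquiv (A'.equivMapOfInjective X.subtype hinj).symm
      nilpotent_right := by
        haveI := hR.nilpotent_right
        exact Group.nilpotent_of_mulEquiv (B'.equivMapOfInjective X.subtype hinj).symm
      cond_left := hcond hR.cond_left
      cond_right := hcond hR.cond_right }

/-- Such a pair is special. -/
theorem special (hS : IsRootSubgroupSet S) (hA : A ∈ S) (hB : B ∈ S)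
    (h : IsRankOnePair A B) {E : Subgroup G} (hE : E ∈ S) (hC : RootCommutatorCase S A E) :
    IsSpecialRankOnePair A B := by
  obtain ⟨K, hK, hAK, hBK, hmove⟩ := exists_module hS hA hB h hE hC
  set E' := ⁅A, K⁆ with hE'
  set M := K ⊔ E' with hM
  have hKE : ⁅K, E'⁆ = ⊥ := bot_of_commute fun k hk e he =>
    (hAK.2.1 e he k (Subgroup.mem_sup_right hk)).symm
  have hMc : ∀ x ∈ M, ∀ y ∈ M, x * y = y * x := by
    have hK' : K ≤ Subgroup.centralizer (M : Set G) := by
      rw [Subgroup.le_centralizer_iff, hM, sup_le_iff]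
      exact ⟨fun x hx => Subgroup.mem_centralizer_iff.mpr fun y hy =>
        congrArg Subtype.val ((hS.commutative K hK).1.comm (⟨y, hy⟩ : K) ⟨x, hx⟩),
        le_centralizer_of_bot (bot_symm hKE)⟩
    have hE'' : E' ≤ Subgroup.centralizer (M : Set G) := by
      rw [Subgroup.le_centralizer_iff, hM, sup_le_iff]
      exact ⟨le_centralizer_of_bot hKE, fun x hx => Subgroup.mem_centralizer_iff.mpr fun y hy =>
        congrArg Subtype.val ((hS.commutative _ hAK.1).1.comm (⟨y, hy⟩ : E') ⟨x, hx⟩)⟩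
    exact fun x hx y hy => (Subgroup.mem_centralizer_iff.mp (sup_le hK' hE'' hx) y hy).symm
  have hAE : ∀ a ∈ A, ∀ e ∈ E', a * e = e * a := fun a ha e he =>
    (hAK.2.1 e he a (Subgroup.mem_sup_left ha)).symm
  have hAM : ∀ a ∈ A, ∀ m ∈ M, a * m * a⁻¹ ∈ M := by
    intro a ha m hm
    have : conjBy M a ≤ M := by
      rw [hM, conjBy_sup, sup_le_iff]
      refine ⟨?_, le_of_eq_of_le (conjBy_of_comm fun e he => hAE a ha e he) le_sup_right⟩
      rintro _ ⟨k, hk, rfl⟩
      simp only [MulEquiv.coe_toMonoidHom, MulAut.conj_apply]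
      rw [show a * k * a⁻¹ = ⁅a, k⁆ * k by simp [commutatorElement_def]]
      exact mul_mem (Subgroup.mem_sup_right (Subgroup.commutator_mem_commutator ha hk))
        (Subgroup.mem_sup_left hk)
    exact this (conjBy_conj_mem hm)
  have hEb : ∀ b ∈ B, b ≠ 1 → conjBy E' b⁻¹ ≤ M := by
    intro b hb hb1
    obtain ⟨a, ha, he⟩ := hmove b hb hb1
    rw [he]
    rintro _ ⟨k, hk, rfl⟩
    simp only [MulEquiv.coe_toMonoidHom, MulAut.conj_apply]
    exact hAM a⁻¹ (A.inv_mem ha) k (Subgroup.mem_sup_left hk)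
  have hBM : ∀ b ∈ B, ∀ m ∈ M, b * m * b⁻¹ ∈ M := by
    intro b hb m hm
    by_cases hb1 : b = 1
    · simpa [hb1] using hm
    have h1 := hEb b⁻¹ (B.inv_mem hb) (inv_ne_one.mpr hb1)
    rw [inv_inv] at h1
    have : conjBy M b ≤ M := by
      rw [hM, conjBy_sup, sup_le_iff]
      exact ⟨le_of_eq_of_le (conjBy_of_comm fun k hk => commutes_of_bot hBK hb hk) le_sup_left, h1⟩
    exact this (conjBy_conj_mem hm)
  set X := A ⊔ B with hX
  have hnorm : X ≤ Subgroup.normalizer (M : Set G) := by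
    have key : ∀ {P : Subgroup G}, (∀ p ∈ P, ∀ m ∈ M, p * m * p⁻¹ ∈ M) →
        P ≤ Subgroup.normalizer (M : Set G) := by
      intro P hP p hp
      rw [Subgroup.mem_normalizer_iff]
      refine fun m => ⟨hP p hp m, fun hm => ?_⟩
      simpa [mul_assoc] using hP p⁻¹ (P.inv_mem hp) _ hm
    exact sup_le (key hAM) (key hBM)
  letI : CommGroup M :=
    { M.toGroup with mul_comm := fun x y => Subtype.ext (hMc x x.2 y y.2) }
  letI : DistribMulAction X (Additive M) :=
    { smul := fun x m => Additive.ofMul ⟨x * (Additive.toMul m : M) * (x : G)⁻¹,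
        (Subgroup.mem_normalizer_iff.mp (hnorm x.2) _).mp (Additive.toMul m).2⟩
      one_smul := fun m => congrArg Additive.ofMul (Subtype.ext
        (show ((1 : X) : G) * (Additive.toMul m : M) * ((1 : X) : G)⁻¹ = (Additive.toMul m : M) by simp))
      mul_smul := fun x y m => congrArg Additive.ofMul (Subtype.ext
        (show ((x * y : X) : G) * (Additive.toMul m : M) * ((x * y : X) : G)⁻¹ =
          x * (y * (Additive.toMul m : M) * (y : G)⁻¹) * (x : G)⁻¹ by simp [mul_assoc]))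
      smul_zero := fun x => congrArg Additive.ofMul (Subtype.ext
        (show (x : G) * 1 * (x : G)⁻¹ = 1 by simp))
      smul_add := fun x m n => congrArg Additive.ofMul (Subtype.ext
        (show (x : G) * ((Additive.toMul m : M) * (Additive.toMul n : M)) * (x : G)⁻¹ =
          x * (Additive.toMul m : M) * (x : G)⁻¹ * (x * (Additive.toMul n : M) * (x : G)⁻¹) by group)) }
  have hval : ∀ (x : X) (m : Additive M),
      ((Additive.toMul (x • m - m) : M) : G) = x * (Additive.toMul m : M) * (x : G)⁻¹ *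
        ((Additive.toMul m : M) : G)⁻¹ := fun x m => by
    rw [sub_eq_add_neg]
    rfl
  -- the commutators with `A` lie in `E'`
  have hAc : ∀ a ∈ A, ∀ m ∈ M, a * m * a⁻¹ * m⁻¹ ∈ E' := by
    intro a ha m hm
    obtain ⟨k, hk, e, he, rfl⟩ : ∃ k ∈ K, ∃ e ∈ E', k * e = m := by
      rw [hM, ← SetLike.mem_coe, Subgroup.coe_mul_of_left_le_normalizer_right K E'
        (fun k hk => Subgroup.centralizer_le_normalizer _ (le_centralizer_of_bot hKE hk))] at hm
      exact hm
    have : a * (k * e) * a⁻¹ * (k * e)⁻¹ = ⁅a, k⁆ := by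
      rw [commutatorElement_def]
      calc a * (k * e) * a⁻¹ * (k * e)⁻¹ = a * k * ((e * a⁻¹) * e⁻¹) * k⁻¹ := by group
        _ = a * k * a⁻¹ * k⁻¹ := by rw [← hAE a⁻¹ (A.inv_mem ha) e he]; group
    rw [this]
    exact Subgroup.commutator_mem_commutator ha hk
  have hAX : (A.subgroupOf X).map X.subtype = A :=
    Subgroup.map_subgroupOf_eq_of_le le_sup_left
  have hBX : (B.subgroupOf X).map X.subtype = B :=
    Subgroup.map_subgroupOf_eq_of_le le_sup_right
  have hpair := pair_subtype hAX hBX h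
  have htop : A.subgroupOf X ⊔ B.subgroupOf X = ⊤ := by
    refine Subgroup.map_injective X.subtype_injective ?_
    rw [Subgroup.map_sup, hAX, hBX, ← MonoidHom.range_eq_map, Subgroup.range_subtype]
  have hq : CfsgLib.Perm.SpecialRankOne.Quadratic (Additive M) (A.subgroupOf X) := by
    intro a ha a' ha' m
    refine congrArg Additive.ofMul (Subtype.ext ?_)
    show (a' : G) * _ * (a' : G)⁻¹ = _
    have he := hAc a (Subgroup.mem_subgroupOf.mp ha) _ (Additive.toMul m).2
    rw [← hval] at he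
    rw [hAE _ (Subgroup.mem_subgroupOf.mp ha') _ he, mul_inv_cancel_right]
    rfl
  have hne : ∃ x y : X, ∃ n : Additive M, y • (x • n - n) ≠ x • n - n := by
    by_contra hall
    push Not at hall
    obtain ⟨b, hb, hb1⟩ := exists_ne_one (right_ne_bot h)
    obtain ⟨a, ha, he⟩ := hmove b hb hb1
    -- `E'` would be centralised by `b`
    have hfix : conjBy E' b⁻¹ = E' := by
      refine conjBy_of_comm fun e hem => ?_
      rw [hE'] at hem
      have hcl : E' ≤ Subgroup.centralizer ({b⁻¹} : Set G) := by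
        rw [hE', Subgroup.commutator_le]
        intro x hx k hk
        rw [Subgroup.mem_centralizer_singleton_iff, commutatorElement_def]
        have h1 := hall ⟨x, Subgroup.mem_sup_left hx⟩ ⟨b⁻¹, Subgroup.mem_sup_right (B.inv_mem hb)⟩
          (Additive.ofMul (⟨k, Subgroup.mem_sup_left hk⟩ : M))
        have h2 := congrArg (fun z : Additive M => ((Additive.toMul z : M) : G)) h1
        have h3 := hval ⟨x, Subgroup.mem_sup_left hx⟩ (Additive.ofMul (⟨k, Subgroup.mem_sup_left hk⟩ : M))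
        change b⁻¹ * _ * b⁻¹⁻¹ = _ at h2
        rw [h3] at h2
        exact (mul_inv_eq_iff_eq_mul.mp h2).symm
      exact (Subgroup.mem_centralizer_singleton_iff.mp (hcl hem)).symm
    rw [hfix] at he
    have hK' : K = E' := by
      have h1 := congrArg (fun H => conjBy H a) he
      simp only [conjBy_conjBy_inv] at h1
      rw [← h1]
      exact conjBy_of_comm fun e hem => hAE a ha e hem
    exact left_ne_comm (commCase_swap hAK) hS _ rfl (hK'.trans (Subgroup.commutator_comm A K))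
  have hsp := CfsgLib.Perm.SpecialRankOne.special_of_quadratic hpair htop hq hne
  refine ⟨h, fun a ha ha1 b hb hb1 he => ?_⟩
  have := hsp.2 ⟨a, Subgroup.mem_sup_left ha⟩ (Subgroup.mem_subgroupOf.mpr ha)
    (fun e => ha1 (congrArg Subtype.val e)) ⟨b, Subgroup.mem_sup_right hb⟩
    (Subgroup.mem_subgroupOf.mpr hb) (fun e => hb1 (congrArg Subtype.val e))
    (Subgroup.map_injective X.subtype_injective (by
      rw [map_conjBy, map_conjBy, hAX, hBX]; exact he))
  simpa using congrArg Subtype.val this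

end CfsgLib.Perm.RootLine
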