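import Mathlib
import Cfsg.Prelude.Def_RootSubgroups
import Cfsg.Agent.Lib.Perm.RankOne
import Cfsg.Agent.Lib.Perm.RootSet
import Cfsg.Agent.Lib.Perm.RootLine
import Cfsg.Agent.S5029

/-!
Lines and paths of length three in sets of abstract root subgroups.

* `opposite`: `⁅P, Q⁆ = A` and `⁅A, K⁆ = Q` force `(P, K)` to be a rank one pair.
* `line_struct`: the member of a line through `A` which is no partner of a partner `B` of `A`.
-/

set_option autoImplicit false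

namespace CfsgLib.Perm.RootPath

open Cfsg CfsgLib.Perm.RankOne CfsgLib.Perm.RootSet CfsgLib.Perm.RootLine
open scoped commutatorElement

variable {G : Type*} [Group G] {S : Set (Subgroup G)} {A B : Subgroup G}

theorem conj_eq_comm_mul (x y : G) : x * y * x⁻¹ = ⁅x, y⁆ * y := by
  simp [commutatorElement_def, mul_assoc]

theorem comm_commute {x y g : G} (hx : Commute g x) (hy : Commute g y) : Commute g ⁅x, y⁆ := by
  rw [commutatorElement_def]
  exact ((hx.mul_right hy).mul_right hx.inv_right).mul_right hy.inv_right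

theorem commute_comm_of_bot {H K L : Subgroup G} (h1 : ⁅L, H⁆ = ⊥) (h2 : ⁅L, K⁆ = ⊥) :
    ⁅L, ⁅H, K⁆⁆ = ⊥ := by
  refine bot_symm ?_
  rw [Subgroup.commutator_eq_bot_iff_le_centralizer, Subgroup.commutator_le]
  intro x hx y hy
  rw [Subgroup.mem_centralizer_iff]
  exact fun z hz => (comm_commute (g := z) (commutes_of_bot h1 hz hx) (commutes_of_bot h2 hz hy)).eq

theorem bot_left_of_case (hC : RootCommutatorCase S A B) : ⁅A, ⁅A, B⁆⁆ = ⊥ :=
  bot_of_commute fun a ha c hc => (hC.2.1 c hc a (Subgroup.mem_sup_left ha)).symm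

theorem bot_right_of_case (hC : RootCommutatorCase S A B) : ⁅B, ⁅A, B⁆⁆ = ⊥ :=
  bot_of_commute fun b hb c hc => (hC.2.1 c hc b (Subgroup.mem_sup_right hb)).symm

theorem comm_mul_right (hC : RootCommutatorCase S A B) {a b b' : G} (ha : a ∈ A) (hb : b ∈ B)
    (hb' : b' ∈ B) : ⁅a, b * b'⁆ = ⁅a, b⁆ * ⁅a, b'⁆ := by
  have h1 := hC.2.1 _ (Subgroup.commutator_mem_commutator ha hb') b (Subgroup.mem_sup_right hb)
  calc ⁅a, b * b'⁆ = ⁅a, b⁆ * (b * ⁅a, b'⁆ * b⁻¹) := by simp only [commutatorElement_def]; group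
    _ = ⁅a, b⁆ * ⁅a, b'⁆ := by rw [← h1, mul_inv_cancel_right]

/-- Commutators with one fixed element cover the commutator subgroup. -/
theorem comm_surj (hC : RootCommutatorCase S A B) {a c : G} (ha : a ∈ A) (ha1 : a ≠ 1)
    (hc : c ∈ ⁅A, B⁆) : ∃ b ∈ B, ⁅a, b⁆ = c := by
  let f : ↥B →* G := MonoidHom.mk' (fun b => ⁅a, (b : G)⁆) fun b b' => comm_mul_right hC ha b.2 b'.2
  have hle : ⁅A, B⁆ ≤ f.range := by
    rw [← hC.2.2.1 a ha ha1, Subgroup.closure_le]
    rintro _ ⟨b, hb, rfl⟩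
    exact ⟨⟨b, hb⟩, commutatorElement_def a b⟩
  obtain ⟨⟨b, hb⟩, e⟩ := hle hc
  exact ⟨b, hb, e⟩

/-- An element of one member commuting with the other member of a commutator case is trivial. -/
theorem eq_one_of_commute (hS : IsRootSubgroupSet S) (hC : RootCommutatorCase S A B) {a : G}
    (ha : a ∈ A) (h : ∀ b ∈ B, a * b = b * a) : a = 1 := by
  by_contra ha1
  refine hS.ne_bot _ hC.1 ?_
  rw [← hC.2.2.1 a ha ha1, Subgroup.closure_eq_bot_iff]
  rintro _ ⟨b, hb, rfl⟩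
  simp [h b hb]

theorem exists_comm_ne {H K : Subgroup G} (h : ⁅H, K⁆ ≠ ⊥) : ∃ x ∈ H, ∃ y ∈ K, ⁅x, y⁆ ≠ 1 := by
  by_contra hall
  push Not at hall
  refine h ?_
  rw [eq_bot_iff, Subgroup.commutator_le]
  exact fun x hx y hy => Subgroup.mem_bot.mpr (hall x hx y hy)

/-- The ends of a path of length three form a rank one pair. -/
theorem opposite (hS : IsRootSubgroupSet S) {P Q K : Subgroup G} (hP : P ∈ S) (hQ : Q ∈ S)
    (hA : A ∈ S) (hK : K ∈ S) (hPQ : ⁅P, Q⁆ = A) (hAK : ⁅A, K⁆ = Q) : IsRankOnePair P K := by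
  have c1 : RootCommutatorCase S P Q := commCase_of_mem hS hP hQ (hPQ ▸ hA)
  have c2 : RootCommutatorCase S A K := commCase_of_mem hS hA hK (hAK ▸ hQ)
  have hQK : ⁅K, Q⁆ = ⊥ := hAK ▸ bot_right_of_case c2
  have hAQ : ⁅A, Q⁆ = ⊥ := hAK ▸ bot_left_of_case c2
  have hPA : ⁅P, A⁆ = ⊥ := hPQ ▸ bot_left_of_case c1
  rcases hS.pair P hP K hK with h0 | h0 | h0
  · refine absurd ?_ (hS.ne_bot Q hQ)
    rw [← hAK, ← hPQ]
    exact bot_symm (commute_comm_of_bot (bot_symm h0) hQK)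
  · exact h0
  exfalso
  set R := ⁅P, K⁆ with hR
  have hRS : R ∈ S := h0.1
  have hPR : ⁅P, R⁆ = ⊥ := bot_left_of_case h0
  have hKR : ⁅K, R⁆ = ⊥ := bot_right_of_case h0
  obtain ⟨a, ha, k, hk, hne⟩ := exists_comm_ne (show ⁅A, K⁆ ≠ ⊥ from hAK.symm ▸ hS.ne_bot Q hQ)
  have ha1 : a ≠ 1 := fun e => hne (by simp [e])
  obtain ⟨p, hp, hp1⟩ := exists_ne_one (hS.ne_bot P hP)
  obtain ⟨q, hq, hpq⟩ := comm_surj c1 hp hp1 (hPQ.symm ▸ ha)
  set e := ⁅k, a⁆ with he
  have heQ : e ∈ Q := by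
    rw [← hAK, Subgroup.commutator_comm]
    exact Subgroup.commutator_mem_commutator hk ha
  have he1 : e ≠ 1 := fun e' => hne (by rw [← commutatorElement_inv k a, ← he, e', inv_one])
  set r := ⁅k, p⁆ with hr
  have hrR : r ∈ R := by
    rw [hR, Subgroup.commutator_comm]
    exact Subgroup.commutator_mem_commutator hk hp
  have hkey : e * a = r * a * r⁻¹ * ⁅r, q⁆ := by
    have h1 : k * ⁅p, q⁆ * k⁻¹ = ⁅r * p, q⁆ := by
      rw [hr, ← conj_eq_comm_mul k p]
      have : k * q * k⁻¹ = q := by rw [commutes_of_bot hQK hk hq, mul_inv_cancel_right]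
      conv_rhs => rw [← this]
      simp only [commutatorElement_def]; group
    rw [hpq, conj_eq_comm_mul, ← he] at h1
    rw [h1, ← hpq]
    simp only [commutatorElement_def]; group
  have hnRA : ¬ IsRankOnePair R A := by
    -- `p` centralises `⟨R, A⟩` and `p * a` is a root element
    intro r1
    obtain ⟨q', hq', hpq'⟩ := comm_surj c1 hp hp1 (hPQ.symm ▸ A.inv_mem ha)
    refine mul_not_mem_root hS hA hRS (RankOnePair_symm r1) (z := p) ?_ hp1 ha ha1 ⟨?_, conjBy P q',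
      hS.conj_mem P hP q', ?_⟩
    · exact Subgroup.le_centralizer_iff.mp (sup_le (le_centralizer_of_bot (bot_symm hPA))
        (le_centralizer_of_bot (bot_symm hPR))) hp
    · intro e'
      exact ha1 (eq_one_of_normalizes (RankOnePair_symm r1) ha (conjBy_of_comm fun x hx => by
        rw [eq_inv_of_mul_eq_one_right e']
        exact commutes_of_bot hPR (P.inv_mem hp) hx))
    · have : p * a = q' * p * q'⁻¹ := by
        rw [conj_eq_comm_mul q' p, ← commutatorElement_inv p q', hpq', inv_inv,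
          commutes_of_bot hPA hp ha]
      rw [this]
      exact conjBy_conj_mem hp
  have hnRQ : ¬ IsRankOnePair R Q := by
    -- `k` centralises `⟨Q, R⟩` and `k * q₀` is a root element
    intro r2
    have hq0 : ⁅a, k⁆ ∈ Q := hAK ▸ Subgroup.commutator_mem_commutator ha hk
    refine mul_not_mem_root hS hQ hRS (RankOnePair_symm r2) (z := k) ?_ (fun e' => hne (by simp [e']))
      hq0 hne ⟨?_, conjBy K a, hS.conj_mem K hK a, ?_⟩
    · exact Subgroup.le_centralizer_iff.mp (sup_le (le_centralizer_of_bot (bot_symm hQK))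
        (le_centralizer_of_bot (bot_symm hKR))) hk
    · intro e'
      exact hne (eq_one_of_normalizes (RankOnePair_symm r2) hq0 (conjBy_of_comm fun x hx => by
        rw [eq_inv_of_mul_eq_one_right e']
        exact commutes_of_bot hKR (K.inv_mem hk) hx))
    · rw [commutes_of_bot hQK hk hq0, ← conj_eq_comm_mul]
      exact conjBy_conj_mem hk
  rcases hS.pair R hRS A hA with r1 | r1 | r1
  · rw [commutes_of_bot r1 hrR ha, mul_inv_cancel_right] at hkey
    rcases hS.pair R hRS Q hQ with r2 | r2 | r2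
    · rw [commutatorElement_eq_one_iff_mul_comm.mpr (commutes_of_bot r2 hrR hq), mul_one] at hkey
      exact he1 (mul_eq_right.mp hkey)
    · exact hnRQ r2
    · rw [← commutes_of_bot hAQ ha heQ] at hkey
      refine he1 (eq_one_of_commute hS (commCase_swap r2) heQ fun x hx => ?_)
      exact r2.2.1 e (mul_left_cancel hkey ▸ Subgroup.commutator_mem_commutator hrR hq) x
        (Subgroup.mem_sup_left hx)
  · exact hnRA r1
  rw [conj_eq_comm_mul] at hkey
  rcases hS.pair R hRS Q hQ with r2 | r2 | r2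
  · rw [commutatorElement_eq_one_iff_mul_comm.mpr (commutes_of_bot r2 hrR hq), mul_one] at hkey
    refine he1 (eq_one_of_commute hS (commCase_swap c1) heQ fun x hx => ?_)
    exact (commutes_of_bot (commute_comm_of_bot hPR hPA) hx
      (mul_right_cancel hkey ▸ Subgroup.commutator_mem_commutator hrR ha)).symm
  · exact hnRQ r2
  set u := ⁅r, a⁆ with hu
  set t := ⁅r, q⁆ with ht
  have hua : Commute u a :=
    r1.2.1 u (Subgroup.commutator_mem_commutator hrR ha) a (Subgroup.mem_sup_right ha)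
  have hea : Commute e a := (commutes_of_bot hAQ ha heQ).symm
  have hte : t = u⁻¹ * e := by
    calc t = a⁻¹ * u⁻¹ * (u * a * t) := by group
      _ = a⁻¹ * (u⁻¹ * e) * a := by rw [← hkey]; group
      _ = u⁻¹ * e := by rw [mul_assoc, (hua.inv_left.mul_left hea).eq, inv_mul_cancel_left]
  have hta : Commute t a := hte ▸ hua.inv_left.mul_left hea
  have hpr : Commute p r := commutes_of_bot hPR hp hrR
  have hconj : p * t * p⁻¹ = e := by
    have e1 : p * t * p⁻¹ = ⁅r, a * q⁆ := by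
      rw [ht, ← hpq, ← conj_eq_comm_mul p q]
      have : p * r * p⁻¹ = r := by rw [hpr.eq, mul_inv_cancel_right]
      conv_rhs => rw [← this]
      simp only [commutatorElement_def]; group
    calc p * t * p⁻¹ = ⁅r, a⁆ * (a * t * a⁻¹) := by
          rw [e1, ht]; simp only [commutatorElement_def]; group
      _ = u * t := by rw [← hu, ← hta.eq, mul_inv_cancel_right]
      _ = e := by rw [hte, mul_inv_cancel_left]
  refine he1 (eq_one_of_commute hS (commCase_swap r2) heQ fun x hx => ?_)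
  have hpx : Commute p x := commutes_of_bot hPR hp hx
  have htx : Commute t x :=
    r2.2.1 t (Subgroup.commutator_mem_commutator hrR hq) x (Subgroup.mem_sup_left hx)
  rw [← hconj]
  exact ((hpx.mul_left htx).mul_left hpx.inv_left).eq

theorem linePartners_symm {C : Subgroup G} (hA : A ∈ S) (h : C ∈ linePartners S A) :
    A ∈ linePartners S C :=
  ⟨⟨hA, h.1.2.1.symm, bot_symm h.1.2.2⟩, by rw [sup_comm]; exact h.2⟩

theorem linePartners_conj (hS : IsRootSubgroupSet S) {C : Subgroup G} (h : C ∈ linePartners S A)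
    (g : G) : conjBy C g ∈ linePartners S (conjBy A g) := by
  refine ⟨⟨hS.conj_mem _ h.1.1 g, fun e => h.1.2.1 (conjBy_inj e), conj_comm_bot h.1.2.2 g⟩, ?_⟩
  rw [← conjBy_sup]
  obtain ⟨h1, h2, h3⟩ := h.2
  have hmem : ∀ {W}, W ∈ membersIn S (conjBy (A ⊔ C) g) → conjBy W g⁻¹ ∈ membersIn S (A ⊔ C) :=
    fun {W} hW => ⟨hS.conj_mem W hW.1 g⁻¹, by simpa [conjBy_inv_conjBy] using conjBy_mono hW.2 g⁻¹⟩
  refine ⟨fun W hW => hW.2, fun x hx hx1 => ?_, fun W hW V hV hne => ?_⟩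
  · rw [mem_conjBy] at hx
    obtain ⟨W, hW, hxW⟩ := h2 _ hx (fun e => hx1 (by
      have : x = g * (g⁻¹ * x * g) * g⁻¹ := by group
      rw [this, e, mul_one, mul_inv_cancel]))
    exact ⟨conjBy W g, ⟨hS.conj_mem W hW.1 g, conjBy_mono hW.2 g⟩, mem_conjBy.mpr hxW⟩
  · rw [← conjBy_conjBy_inv W g, ← conjBy_conjBy_inv V g, conjBy, conjBy, ← Subgroup.map_inf _ _ _
      (MulAut.conj g).injective, h3 _ (hmem hW) _ (hmem hV) (fun e => hne (conjBy_inj e)), Subgroup.map_bot]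

/-- A commutator partner gives a line. -/
theorem linePartners_of_case (hS : IsRootSubgroupSet S) (hA : A ∈ S)
    (hiso : ¬ IsIsolatedIn (FAdj S) S A) {E : Subgroup G} (hE : E ∈ S) (hC : RootCommutatorCase S A E) :
    ⁅A, E⁆ ∈ linePartners S A :=
  linePartners_symm hC.1 (Cfsg.Agent.S5029.result hS hiso hA hE hC.1).2.2.1

/-- A member `F` commuting with `A`, in the commutator case with a partner `B` of `A`, with all
products of elements of `A` and `F` being root elements, is `⁅A, ⁅B, F⁆⁆`. -/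
theorem module_eq (hS : IsRootSubgroupSet S) (hA : A ∈ S) (hB : B ∈ S) (h : IsRankOnePair A B)
    {F : Subgroup G} (hF : F ∈ S) (hAF : ⁅A, F⁆ = ⊥) (hBF : RootCommutatorCase S B F)
    (hroot : ∀ a ∈ A, ∀ f ∈ F, a * f ≠ 1 → ∃ W ∈ S, a * f ∈ W) : ⁅A, ⁅B, F⁆⁆ = F := by
  obtain ⟨hAK, hBK, hmove⟩ := module_of hS hA hB h hF hAF hBF
  set K := ⁅B, F⁆ with hK
  set E := ⁅A, K⁆ with hE
  have hAE : ⁅A, E⁆ = ⊥ := bot_left_of_case hAK
  have hKE : ⁅K, E⁆ = ⊥ := bot_right_of_case hAK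
  have hKF : ⁅K, F⁆ = ⊥ := bot_symm (bot_right_of_case hBF)
  have hFE : ⁅F, E⁆ = ⊥ := commute_comm_of_bot (bot_symm hAF) (bot_symm hKF)
  -- decomposition of conjugates of `E`
  have hdec : ∀ b ∈ B, b ≠ 1 → ∀ e ∈ E, ∃ k ∈ K, ∃ e' ∈ E, b⁻¹ * e * b = k * e' := by
    intro b hb hb1 e he
    obtain ⟨a, ha, hae⟩ := hmove b hb hb1
    have h1 : b⁻¹ * e * b ∈ conjBy K a⁻¹ := hae ▸ (by simpa using conjBy_conj_mem (g := b⁻¹) he)
    obtain ⟨k, hk, hk'⟩ := h1
    refine ⟨k, hk, ⁅a⁻¹, k⁆, Subgroup.commutator_mem_commutator (A.inv_mem ha) hk, ?_⟩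
    have hk'' : b⁻¹ * e * b = a⁻¹ * k * a⁻¹⁻¹ := by
      rw [← hk']; rfl
    rw [hk'', conj_eq_comm_mul]
    exact (commutes_of_bot hKE hk (Subgroup.commutator_mem_commutator (A.inv_mem ha) hk)).symm
  have hBE : RootCommutatorCase S B E := by
    obtain ⟨b, hb, hb1⟩ := exists_ne_one (right_ne_bot h)
    obtain ⟨a, ha, hae⟩ := hmove b hb hb1
    have hne : conjBy E b⁻¹ ≠ E := by
      intro e'
      rw [e'] at hae
      have h1 := congrArg (fun H => conjBy H a) hae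
      simp only [conjBy_conjBy_inv] at h1
      rw [conjBy_of_comm fun e hem => commutes_of_bot hAE ha hem] at h1
      exact left_ne_comm (commCase_swap hAK) hS _ rfl (h1.symm.trans (Subgroup.commutator_comm A K))
    rcases hS.pair B hB E hAK.1 with h0 | h0 | h0
    · exact absurd (conjBy_of_comm fun e he => commutes_of_bot h0 (B.inv_mem hb) he) hne
    · refine absurd (bot_of_commute fun x hx y hy => ?_) (not_commute_pair
        (pair_of_mem h0 (conjBy_mem_unipotent (right_mem_unipotent h0) (Subgroup.mem_sup_left (B.inv_mem hb)))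
          (right_mem_unipotent h0) hne).1)
      rw [mem_conjBy, inv_inv] at hx
      obtain ⟨k, hk, e', he', hd⟩ := hdec b hb hb1 _ hx
      have hx' : x = k * e' := by rw [← hd]; group
      rw [hx']
      exact ((show Commute k y from commutes_of_bot hKE hk hy).mul_left
        (congrArg Subtype.val ((hS.commutative E hAK.1).1.comm (⟨e', he'⟩ : E) ⟨y, hy⟩))).eq
    · exact h0
  -- the elements of `⁅B, E⁆` lie in `K`
  have hBEK : ∀ b ∈ B, ∀ e ∈ E, ⁅b, e⁆ ∈ K := by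
    intro b hb e he
    by_cases hb1 : b = 1
    · simp [hb1]
    obtain ⟨k, hk, e', he', hd⟩ := hdec b⁻¹ (B.inv_mem hb) (inv_ne_one.mpr hb1) e he
    rw [inv_inv, conj_eq_comm_mul] at hd
    set e'' := e' * e⁻¹ with he''
    have he''E : e'' ∈ E := E.mul_mem he' (E.inv_mem he)
    have hval : ⁅b, e⁆ = k * e'' := by rw [he'', ← mul_assoc, ← hd, mul_inv_cancel_right]
    have : e'' = 1 := by
      refine eq_one_of_commute hS (commCase_swap hBE) he''E fun x hx => ?_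
      have h1 : Commute ⁅b, e⁆ x :=
        hBE.2.1 _ (Subgroup.commutator_mem_commutator hb he) x (Subgroup.mem_sup_left hx)
      have h2 : Commute k x := (commutes_of_bot hBK hx hk).symm
      have : e'' = k⁻¹ * ⁅b, e⁆ := by rw [hval, inv_mul_cancel_left]
      rw [this]
      exact (h2.inv_left.mul_left h1).eq
    rw [hval, this, mul_one]; exact hk
  have hKEi : ∀ {k e : G}, k ∈ K → e ∈ E → k = e → k = 1 := fun {k e} hk he hke =>
    eq_one_of_commute hS (commCase_swap hAK) hk fun x hx =>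
      (commutes_of_bot hAE hx (hke ▸ he)).symm
  refine (eq_comm_of_le hS hA hB h hAK hF fun f hf => ?_).symm
  obtain ⟨b, hb, hb1⟩ := exists_ne_one (right_ne_bot h)
  obtain ⟨a, ha, hae⟩ := hmove b hb hb1
  set k1 := ⁅b⁻¹, f⁆ with hk1
  have hk1K : k1 ∈ K := Subgroup.commutator_mem_commutator (B.inv_mem hb) hf
  -- an element of `E` with the same commutator
  obtain ⟨e, he, hee⟩ : ∃ e ∈ E, ⁅b⁻¹, e⁆ = k1 := by
    have h1 : a⁻¹ * k1 * a ∈ conjBy E b⁻¹ := hae ▸ (by simpa using conjBy_conj_mem (g := a⁻¹) hk1K)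
    rw [mem_conjBy, inv_inv] at h1
    set e := b * (a⁻¹ * k1 * a) * b⁻¹ with hedef
    refine ⟨e, h1, ?_⟩
    have h2 : ⁅b⁻¹, e⁆ * e = ⁅a⁻¹, k1⁆ * k1 := by
      rw [← conj_eq_comm_mul, ← conj_eq_comm_mul, hedef]; group
    have hE2 := Subgroup.commutator_mem_commutator (A.inv_mem ha) hk1K
    have hK2 := hBEK _ (B.inv_mem hb) e h1
    have h3 : k1⁻¹ * ⁅b⁻¹, e⁆ = 1 := by
      refine hKEi (e := ⁅a⁻¹, k1⁆ * e⁻¹) (K.mul_mem (K.inv_mem hk1K) hK2)
        (E.mul_mem hE2 (E.inv_mem h1)) ?_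
      calc k1⁻¹ * ⁅b⁻¹, e⁆ = k1⁻¹ * (⁅b⁻¹, e⁆ * e) * e⁻¹ := by group
        _ = k1⁻¹ * (k1 * ⁅a⁻¹, k1⁆) * e⁻¹ := by rw [h2, ← commutes_of_bot hKE hk1K hE2]
        _ = _ := by group
    exact (inv_mul_eq_one.mp h3).symm
  set y := f * e⁻¹ with hy
  have hyA : ∀ x ∈ A, Commute y x := fun x hx =>
    (show Commute f x from (commutes_of_bot hAF hx hf).symm).mul_left
      ((show Commute x e from commutes_of_bot hAE hx he).inv_right).symm
  have hyb : Commute b⁻¹ y := by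
    have e1 : b⁻¹ * f * b⁻¹⁻¹ = k1 * f := conj_eq_comm_mul _ _
    have e2 : b⁻¹ * e * b⁻¹⁻¹ = k1 * e := by rw [conj_eq_comm_mul, hee]
    show b⁻¹ * y = y * b⁻¹
    rw [← mul_inv_eq_iff_eq_mul, hy]
    calc b⁻¹ * (f * e⁻¹) * b⁻¹⁻¹ = (b⁻¹ * f * b⁻¹⁻¹) * (b⁻¹ * e * b⁻¹⁻¹)⁻¹ := by group
      _ = k1 * (f * e⁻¹) * k1⁻¹ := by rw [e1, e2]; group
      _ = f * e⁻¹ := by
        rw [((show Commute k1 f from commutes_of_bot hKF hk1K hf).mul_right
          (show Commute k1 e from commutes_of_bot hKE hk1K he).inv_right).eq, mul_inv_cancel_right]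
  suffices hy1 : y = 1 by
    rw [hy, mul_inv_eq_one] at hy1
    exact hy1 ▸ he
  by_contra hy1
  have hne : conjBy A b⁻¹ ≠ A := fun e' =>
    inv_ne_one.mpr hb1 (eq_one_of_normalizes (RankOnePair_symm h) (B.inv_mem hb) e')
  have hsup := (pair_of_mem h (conjBy_mem_unipotent (self_mem_unipotent A B)
    (Subgroup.mem_sup_right (B.inv_mem hb))) (self_mem_unipotent A B) hne).2
  have hycent : y ∈ Subgroup.centralizer ((A ⊔ B : Subgroup G) : Set G) := by
    rw [← hsup]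
    refine Subgroup.le_centralizer_iff.mp (sup_le ?_ ?_ :
      conjBy A b⁻¹ ⊔ A ≤ Subgroup.centralizer ((Subgroup.zpowers y : Subgroup G) : Set G))
      (Subgroup.mem_zpowers y)
    · rintro _ ⟨x, hx, rfl⟩
      rw [Subgroup.zpowers_eq_closure, Subgroup.centralizer_closure, Subgroup.mem_centralizer_singleton_iff]
      exact (((hyb.mul_left (hyA x hx).symm).mul_left hyb.inv_left)).eq
    · intro x hx
      rw [Subgroup.zpowers_eq_closure, Subgroup.centralizer_closure, Subgroup.mem_centralizer_singleton_iff]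
      exact (hyA x hx).symm.eq
  obtain ⟨a₀, ha₀, ha₀1⟩ := exists_ne_one (left_ne_bot h)
  obtain ⟨k, hk, hkk⟩ := comm_surj hAK ha₀ ha₀1 he
  have hroot' : a₀ * f ≠ 1 := by
    intro e'
    have hAF' : A = F := (inf_eq_bot_or_eq hS hB h hF).resolve_left fun hb0 => ha₀1
      (Subgroup.mem_bot.mp (hb0 ▸ Subgroup.mem_inf.mpr
        ⟨ha₀, eq_inv_of_mul_eq_one_left e' ▸ F.inv_mem hf⟩))
    exact not_commCase_pair hS hB (hAF' ▸ h) (commCase_swap hBF)
  obtain ⟨W, hW, hmem⟩ := hroot a₀ ha₀ f hf hroot'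
  refine mul_not_mem_root hS hA hB h hycent hy1 ha₀ ha₀1 ⟨?_, conjBy W k, hS.conj_mem W hW k, ?_⟩
  · intro e'
    refine ha₀1 (eq_one_of_normalizes h ha₀ (conjBy_of_comm fun x hx => ?_))
    rw [eq_inv_of_mul_eq_one_right e']
    exact ((show Commute y x from
      (Subgroup.mem_centralizer_iff.mp hycent x (Subgroup.mem_sup_right hx)).symm).inv_left).eq
  · have : y * a₀ = k * (a₀ * f) * k⁻¹ := by
      have hkf : Commute k f := commutes_of_bot hKF hk hf
      have hka : k * a₀ * k⁻¹ = e⁻¹ * a₀ := by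
        rw [conj_eq_comm_mul, ← commutatorElement_inv a₀ k, hkk]
      have hae' : Commute e a₀ := (commutes_of_bot hAE ha₀ he).symm
      have hfe : Commute f e := commutes_of_bot hFE hf he
      have hfa : Commute f a₀ := (commutes_of_bot hAF ha₀ hf).symm
      calc y * a₀ = f * (e⁻¹ * a₀) := by rw [hy, mul_assoc]
        _ = (e⁻¹ * a₀) * f := (hfe.inv_right.mul_right hfa).eq
        _ = (k * a₀ * k⁻¹) * (k * f * k⁻¹) := by rw [hka, hkf.eq, mul_inv_cancel_right]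
        _ = _ := by group
    rw [this]
    exact conjBy_conj_mem hmem

theorem line_abelian (hS : IsRootSubgroupSet S) {C : Subgroup G} (hA : A ∈ S)
    (hC : C ∈ linePartners S A) : ∀ x ∈ A ⊔ C, ∀ y ∈ A ⊔ C, x * y = y * x := by
  have hA' : A ≤ Subgroup.centralizer ((A ⊔ C : Subgroup G) : Set G) := by
    rw [Subgroup.le_centralizer_iff, sup_le_iff]
    refine ⟨?_, le_centralizer_of_bot (bot_symm hC.1.2.2)⟩
    exact fun x hx => Subgroup.mem_centralizer_iff.mpr fun y hy =>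
      congrArg Subtype.val ((hS.commutative A hA).1.comm (⟨y, hy⟩ : A) ⟨x, hx⟩)
  have hC' : C ≤ Subgroup.centralizer ((A ⊔ C : Subgroup G) : Set G) := by
    rw [Subgroup.le_centralizer_iff, sup_le_iff]
    refine ⟨le_centralizer_of_bot hC.1.2.2, ?_⟩
    exact fun x hx => Subgroup.mem_centralizer_iff.mpr fun y hy =>
      congrArg Subtype.val ((hS.commutative C hC.1.1).1.comm (⟨y, hy⟩ : C) ⟨x, hx⟩)
  intro x hx y hy
  exact (Subgroup.mem_centralizer_iff.mp (sup_le hA' hC' hx) y hy).symm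

/-- On a line through `A` there is a member `F` in the commutator case with a partner `B` of `A`;
it is `⁅A, ⁅B, F⁆⁆` and spans the line with `A`. -/
theorem line_struct (hS : IsRootSubgroupSet S) (hA : A ∈ S) (hB : B ∈ S) (h : IsRankOnePair A B)
    {C : Subgroup G} (hC : C ∈ linePartners S A) :
    ∃ F ∈ membersIn S (A ⊔ C), F ≠ A ∧ RootCommutatorCase S B F ∧
      RootCommutatorCase S A ⁅B, F⁆ ∧ ⁅A, ⁅B, F⁆⁆ = F ∧ A ⊔ F = A ⊔ C := by
  have habel := line_abelian hS hA hC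
  have hpart := hC.2
  have hCS : C ∈ S := hC.1.1
  have hACne : A ≠ C := hC.1.2.1.symm
  have hAC : A ⊓ C = ⊥ := (inf_eq_bot_or_eq hS hB h hCS).resolve_right hACne
  -- facts about a member of the line which is no partner of `B`
  have key : ∀ F ∈ membersIn S (A ⊔ C), ¬ IsRankOnePair F B → F ≠ A ∧ RootCommutatorCase S B F ∧
      RootCommutatorCase S A ⁅B, F⁆ ∧ ⁅A, ⁅B, F⁆⁆ = F := by
    intro F hF hFB
    have hFA : F ≠ A := fun e => hFB (e ▸ h)
    have hAFc : ⁅A, F⁆ = ⊥ :=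
      bot_of_commute fun a ha f hf => habel a (Subgroup.mem_sup_left ha) f (hF.2 hf)
    have hroot : ∀ a ∈ A, ∀ f ∈ F, a * f ≠ 1 → ∃ W ∈ S, a * f ∈ W := by
      intro a ha f hf hne
      obtain ⟨W, hW, hW'⟩ := hpart.2.1 _ (mul_mem (Subgroup.mem_sup_left ha) (hF.2 hf)) hne
      exact ⟨W, hW.1, hW'⟩
    have hcase : RootCommutatorCase S F B := by
      rcases hS.pair F hF.1 B hB with h0 | h0 | h0
      · exfalso
        obtain ⟨z, hz, hz1⟩ := exists_ne_one (hS.ne_bot F hF.1)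
        obtain ⟨a, ha, ha1⟩ := exists_ne_one (left_ne_bot h)
        have hzc : z ∈ Subgroup.centralizer ((A ⊔ B : Subgroup G) : Set G) :=
          Subgroup.le_centralizer_iff.mp (sup_le (le_centralizer_of_bot hAFc)
            (le_centralizer_of_bot (bot_symm h0))) hz
        refine mul_not_mem_root hS hA hB h hzc hz1 ha ha1 ?_
        have hne : z * a ≠ 1 := by
          intro e
          exact hz1 (Subgroup.mem_bot.mp (((inf_eq_bot_or_eq hS hB h hF.1).resolve_right hFA.symm) ▸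
            Subgroup.mem_inf.mpr ⟨eq_inv_of_mul_eq_one_left e ▸ A.inv_mem ha, hz⟩))
        obtain ⟨K, hK, hK'⟩ := hpart.2.1 _ (mul_mem (hF.2 hz) (Subgroup.mem_sup_left ha)) hne
        exact ⟨hne, K, hK.1, hK'⟩
      · exact absurd h0 hFB
      · exact h0
    exact ⟨hFA, commCase_swap hcase, (module_of hS hA hB h hF.1 hAFc (commCase_swap hcase)).1,
      module_eq hS hA hB h hF.1 hAFc (commCase_swap hcase) hroot⟩
  by_cases hpC : IsRankOnePair C B
  · obtain ⟨b, hb, hb1⟩ := exists_ne_one (right_ne_bot h)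
    obtain ⟨a, ha, ha1, hea⟩ := h.cond_right b hb hb1
    obtain ⟨c, hc, hc1, hec⟩ := hpC.cond_right b hb hb1
    have hbot := conj_comm_bot hC.1.2.2 b⁻¹
    rw [← hea, ← hec] at hbot
    have hbot' := conj_comm_bot hbot a
    rw [conjBy_conjBy_inv, ← conjBy_mul] at hbot'
    have hne : a * c⁻¹ ≠ 1 := by
      intro e
      rw [mul_inv_eq_one] at e
      exact ha1 (Subgroup.mem_bot.mp (hAC ▸ Subgroup.mem_inf.mpr ⟨ha, e ▸ hc⟩))
    have hgm : a * c⁻¹ ∈ A ⊔ C :=
      mul_mem (Subgroup.mem_sup_left ha) (inv_mem (Subgroup.mem_sup_right hc))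
    obtain ⟨F, hF, hgF⟩ := hpart.2.1 _ hgm hne
    have hFB : ¬ IsRankOnePair F B := by
      intro hp
      have hmove : B ≠ conjBy B (a * c⁻¹) := fun e => hne (eq_one_of_normalizes hp hgF e.symm)
      exact not_commute_pair (pair_of_mem hp (right_mem_unipotent hp)
        (conjBy_mem_unipotent (right_mem_unipotent hp) (Subgroup.mem_sup_left hgF)) hmove).1 hbot'
    obtain ⟨hFA, hBF, hAK, hAKF⟩ := key F hF hFB
    refine ⟨F, hF, hFA, hBF, hAK, hAKF, le_antisymm (sup_le le_sup_left hF.2) (sup_le le_sup_left ?_)⟩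
    obtain ⟨-, hp2, -, -⟩ := Cfsg.Agent.S5029.result hS (not_isolated hA hB h) hA hBF.1 hAK.1
    rw [hAKF] at hp2
    have hcm : c ∈ A ⊔ F := by
      rw [show c = (a * c⁻¹)⁻¹ * a by group]
      exact mul_mem (inv_mem (Subgroup.mem_sup_right hgF)) (Subgroup.mem_sup_left ha)
    obtain ⟨W, hW, hcW⟩ := hp2.2.1 c hcm hc1
    rcases inf_eq_bot_or_eq hS hB hpC hW.1 with e | e
    · exact absurd (Subgroup.mem_bot.mp (e ▸ Subgroup.mem_inf.mpr ⟨hc, hcW⟩)) hc1
    · exact e ▸ hW.2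
  · exact ⟨C, ⟨hCS, le_sup_right⟩, hC.1.2.1, (key C ⟨hCS, le_sup_right⟩ hpC).2.1,
      (key C ⟨hCS, le_sup_right⟩ hpC).2.2.1, (key C ⟨hCS, le_sup_right⟩ hpC).2.2.2, rfl⟩

/-- A member normalising the line, fixing one of its members and transitive on the others. -/
theorem line_move (hS : IsRootSubgroupSet S) (hA : A ∈ S) (hiso : ¬ IsIsolatedIn (FAdj S) S A)
    {C : Subgroup G} (hC : C ∈ linePartners S A) :
    ∃ F ∈ membersIn S (A ⊔ C), ∃ K ∈ normalizingMembers S (A ⊔ C), F ≠ A ∧ ⁅A, K⁆ = F ∧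
      (∀ k ∈ K, conjBy F k = F) ∧ A ⊔ F = A ⊔ C ∧
      (∀ D ∈ membersIn S (A ⊔ C), D ≠ F → ∃ k ∈ K, D = conjBy A k) ∧
      (∀ D ∈ membersIn S (A ⊔ C), D ≠ A → A ⊔ D = A ⊔ C) ∧
      ∃ D ∈ membersIn S (A ⊔ C), D ≠ A ∧ D ≠ F := by
  obtain ⟨B, hB, h⟩ := exists_partner hiso hA
  obtain ⟨F, hF, hFA, hBF, hAK, hAKF, hspan⟩ := line_struct hS hA hB h hC
  set K := ⁅B, F⁆ with hK
  obtain ⟨hmem, -, -, -⟩ := Cfsg.Agent.S5029.result hS hiso hA hBF.1 hAK.1
  rw [hAKF, hspan] at hmem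
  have hKF : ∀ k ∈ K, conjBy F k = F := fun k hk => conjBy_of_comm fun f hf =>
    (hAK.2.1 f (hAKF.symm ▸ hf) k (Subgroup.mem_sup_right hk)).symm
  have hdesc : ∀ D ∈ membersIn S (A ⊔ C), D ≠ F → ∃ k ∈ K, D = conjBy A k := by
    intro D hD hne
    rw [hmem] at hD
    rcases hD with ⟨k, hk, rfl⟩ | e
    · exact ⟨k, hk, rfl⟩
    · exact absurd e hne
  have hle : ∀ k ∈ K, conjBy (A ⊔ C) k ≤ A ⊔ C := by
    intro k hk
    rw [← hspan, conjBy_sup, sup_le_iff, hKF k hk]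
    refine ⟨?_, le_sup_right⟩
    have : conjBy A k ∈ membersIn S (A ⊔ C) := hmem.symm ▸ Or.inl ⟨k, hk, rfl⟩
    exact hspan.symm ▸ this.2
  have hnorm : K ∈ normalizingMembers S (A ⊔ C) := by
    refine ⟨hBF.1, fun k hk => conjBy_eq_iff_mem_normalizer.mp (le_antisymm (hle k hk) ?_)⟩
    simpa [conjBy_conjBy_inv] using conjBy_mono (hle k⁻¹ (K.inv_mem hk)) k
  refine ⟨F, hF, K, hnorm, hFA, hAKF, hKF, hspan, hdesc, fun D hD hne => ?_, ?_⟩
  · by_cases hDF : D = F
    · rw [hDF, hspan]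
    obtain ⟨k, hk, rfl⟩ := hdesc D hD hDF
    have hk1 : k ≠ 1 := fun e => hne (by rw [e, conjBy_one])
    refine le_antisymm (sup_le le_sup_left hD.2) ?_
    rw [← hspan, sup_le_iff]
    refine ⟨le_sup_left, ?_⟩
    rw [← hAKF, ← hAK.2.2.2 k hk hk1, Subgroup.closure_le]
    rintro _ ⟨a, ha, rfl⟩
    simp only [SetLike.mem_coe]
    rw [show a * k * a⁻¹ * k⁻¹ = a * (k * a⁻¹ * k⁻¹) by group]
    exact mul_mem (Subgroup.mem_sup_left ha) (Subgroup.mem_sup_right (conjBy_conj_mem (A.inv_mem ha)))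
  · obtain ⟨k, hk, hk1⟩ := exists_ne_one (hS.ne_bot K hBF.1)
    refine ⟨conjBy A k, hmem.symm ▸ Or.inl ⟨k, hk, rfl⟩, fun e => hk1 ?_, fun e => hFA ?_⟩
    · refine eq_one_of_commute hS (commCase_swap hAK) hk fun a ha => ?_
      have h1 : ⁅k, a⁆ ∈ A ⊓ F := by
        refine Subgroup.mem_inf.mpr ⟨?_, ?_⟩
        · rw [commutatorElement_def]
          exact A.mul_mem (e ▸ conjBy_conj_mem ha) (A.inv_mem ha)
        · rw [← hAKF, Subgroup.commutator_comm]
          exact Subgroup.commutator_mem_commutator hk ha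
      rw [(inf_eq_bot_or_eq hS hB h hF.1).resolve_right hFA.symm, Subgroup.mem_bot] at h1
      exact commutatorElement_eq_one_iff_mul_comm.mp h1
    · rw [← hKF k hk] at e
      exact (conjBy_inj e).symm

/-- The members normalising a line act doubly transitively on it. -/
theorem line_two_transitive (hS : IsRootSubgroupSet S)
    (hiso : ∀ A ∈ S, ¬ IsIsolatedIn (FAdj S) S A) (hA : A ∈ S) {C : Subgroup G}
    (hC : C ∈ linePartners S A) :
    ∀ C₁ ∈ membersIn S (A ⊔ C), ∀ C₂ ∈ membersIn S (A ⊔ C), ∀ D₁ ∈ membersIn S (A ⊔ C),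
      ∀ D₂ ∈ membersIn S (A ⊔ C), C₁ ≠ C₂ → D₁ ≠ D₂ →
        ∃ x ∈ ⨆ E ∈ normalizingMembers S (A ⊔ C), E, conjBy C₁ x = D₁ ∧ conjBy C₂ x = D₂ := by
  set H := ⨆ E ∈ normalizingMembers S (A ⊔ C), E with hH
  set L := membersIn S (A ⊔ C) with hL
  obtain ⟨F, hF, K, hK, hFA, -, hKF, hspan, hdesc, hspan', D₀, hD₀, hD₀A, hD₀F⟩ :=
    line_move hS hA (hiso A hA) hC
  have hKH : K ≤ H := le_iSup₂_of_le K hK le_rfl
  -- `A` and `F` are in one orbit
  have hAF : ∃ x ∈ H, conjBy A x = F := by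
    have hFl : A ∈ linePartners S F := by
      refine linePartners_symm hA (⟨⟨hF.1, hFA, ?_⟩, hspan.symm ▸ hC.2⟩ : F ∈ linePartners S A)
      exact bot_of_commute fun a ha f hf =>
        line_abelian hS hA hC a (Subgroup.mem_sup_left ha) f (hF.2 hf)
    obtain ⟨F', -, K', hK', -, -, -, -, hdesc', -, -⟩ := line_move hS hF.1 (hiso F hF.1) hFl
    rw [sup_comm, hspan] at hK' hdesc'
    have hK'H : K' ≤ H := le_iSup₂_of_le K' hK' le_rfl
    by_cases hAF' : A = F'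
    · obtain ⟨k, hk, hk'⟩ := hdesc D₀ hD₀ hD₀F
      obtain ⟨k', hk₂, hk₂'⟩ := hdesc' D₀ hD₀ (hAF' ▸ hD₀A)
      refine ⟨k'⁻¹ * k, H.mul_mem (H.inv_mem (hK'H hk₂)) (hKH hk), ?_⟩
      rw [conjBy_mul, ← hk', hk₂', conjBy_inv_conjBy]
    · obtain ⟨k', hk₂, hk₂'⟩ := hdesc' A ⟨hA, le_sup_left⟩ hAF'
      exact ⟨k'⁻¹, H.inv_mem (hK'H hk₂), by conv_lhs => rw [hk₂', conjBy_inv_conjBy]⟩
  have hto : ∀ D ∈ L, ∃ x ∈ H, conjBy D x = F := by
    intro D hD
    by_cases hDF : D = F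
    · exact ⟨1, H.one_mem, by rw [conjBy_one, hDF]⟩
    obtain ⟨x, hx, hxe⟩ := hAF
    obtain ⟨k, hk, rfl⟩ := hdesc D hD hDF
    exact ⟨x * k⁻¹, H.mul_mem hx (H.inv_mem (hKH hk)), by rw [conjBy_mul, conjBy_inv_conjBy, hxe]⟩
  have hHL : ∀ x ∈ H, ∀ D ∈ L, conjBy D x ∈ L := by
    intro x hx D hD
    have hn : x ∈ Subgroup.normalizer ((A ⊔ C : Subgroup G) : Set G) :=
      (iSup₂_le fun E hE => hE.2 : H ≤ _) hx
    refine ⟨hS.conj_mem D hD.1 x, ?_⟩
    rw [← conjBy_eq_iff_mem_normalizer.mpr hn]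
    exact conjBy_mono hD.2 x
  have hnf : ∀ C₁ ∈ L, ∀ C₂ ∈ L, C₁ ≠ C₂ → ∃ x ∈ H, conjBy C₁ x = F ∧ conjBy C₂ x = A := by
    intro C₁ h1 C₂ h2 hne
    obtain ⟨x, hx, hxe⟩ := hto C₁ h1
    obtain ⟨k, hk, hke⟩ := hdesc _ (hHL x hx C₂ h2) fun e => hne (conjBy_inj (hxe.trans e.symm))
    exact ⟨k⁻¹ * x, H.mul_mem (H.inv_mem (hKH hk)) hx,
      by rw [conjBy_mul, hxe, hKF _ (K.inv_mem hk)], by rw [conjBy_mul, hke, conjBy_inv_conjBy]⟩
  intro C₁ h1 C₂ h2 D₁ h3 D₂ h4 hC12 hD12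
  obtain ⟨x, hx, e1, e2⟩ := hnf C₁ h1 C₂ h2 hC12
  obtain ⟨y, hy, e3, e4⟩ := hnf D₁ h3 D₂ h4 hD12
  exact ⟨y⁻¹ * x, H.mul_mem (H.inv_mem hy) hx, by rw [conjBy_mul, e1, ← e3, conjBy_inv_conjBy],
    by rw [conjBy_mul, e2, ← e4, conjBy_inv_conjBy]⟩

/-- For a line partner `C` of `A` some member `Q` has `⁅C, Q⁆ = A`. -/
theorem exists_mid (hS : IsRootSubgroupSet S) (hiso : ∀ A ∈ S, ¬ IsIsolatedIn (FAdj S) S A)
    (hA : A ∈ S) {C : Subgroup G} (hC : C ∈ linePartners S A) : ∃ Q ∈ S, ⁅C, Q⁆ = A := by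
  have hCS : C ∈ S := hC.1.1
  have hA' := linePartners_symm hA hC
  obtain ⟨F, hF, K, hK, hFC, hCKF, -, -, -, -, -⟩ := line_move hS hCS (hiso C hCS) hA'
  obtain ⟨x, -, e1, e2⟩ := line_two_transitive hS hiso hCS hA' C ⟨hCS, le_sup_left⟩ F hF
    C ⟨hCS, le_sup_left⟩ A ⟨hA, le_sup_right⟩ hFC.symm hA'.1.2.1.symm
  refine ⟨conjBy K x, hS.conj_mem K hK.1 x, ?_⟩
  nth_rw 1 [← e1]
  rw [← e2, ← hCKF, conjBy, conjBy, conjBy, ← Subgroup.map_commutator]

/-- Two commuting members: a partner `E` of `C` in the commutator case with `A` has `⁅A, E⁆` not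
commuting with `C`. -/
theorem not_commute_mid (hS : IsRootSubgroupSet S) {C E : Subgroup G} (hE : E ∈ S)
    (hAC : ⁅A, C⁆ = ⊥) (hCE : IsRankOnePair C E) (hAE : RootCommutatorCase S A E) :
    ⁅⁅A, E⁆, C⁆ ≠ ⊥ := by
  intro hUC
  obtain ⟨e, he, he1⟩ := exists_ne_one (hS.ne_bot E hE)
  obtain ⟨c, hc, -, hce⟩ := hCE.cond_right e he he1
  -- `A ^ e` is centralised by `c`
  refine hS.ne_bot _ hAE.1 (bot_of_commute fun a ha x hx => ?_)
  set a' := e⁻¹ * a * e with ha'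
  have hcomm : ∀ y ∈ C, Commute a' y := by
    intro y hy
    have e1 : a' = ⁅e⁻¹, a⁆ * a := by rw [← conj_eq_comm_mul, ha', inv_inv]
    have hm : ⁅e⁻¹, a⁆ ∈ ⁅A, E⁆ := by
      rw [Subgroup.commutator_comm]
      exact Subgroup.commutator_mem_commutator (E.inv_mem he) ha
    rw [e1]
    exact (show Commute ⁅e⁻¹, a⁆ y from commutes_of_bot hUC hm hy).mul_left (commutes_of_bot hAC ha hy)
  have hA' : ∀ z ∈ conjBy C e⁻¹, Commute a' z := by
    rintro _ ⟨w, hw, rfl⟩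
    simp only [MulEquiv.coe_toMonoidHom, MulAut.conj_apply, ha', inv_inv]
    have h1 : Commute a w := commutes_of_bot hAC ha hw
    simpa using (Commute.conj_iff (h := e⁻¹)).mpr h1
  rw [← hce] at hA'
  have hx' : Commute a' x := by
    have h1 := hA' _ (conjBy_conj_mem (g := c⁻¹) hx)
    have h2 := (hcomm c hc)
    have : x = c * (c⁻¹ * x * c⁻¹⁻¹) * c⁻¹ := by group
    rw [this]
    exact (h2.mul_right h1).mul_right h2.inv_right
  have hee : Commute e x := congrArg Subtype.val ((hS.commutative E hE).1.comm (⟨e, he⟩ : E) ⟨x, hx⟩)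
  have : a = e * a' * e⁻¹ := by rw [ha']; group
  rw [this]
  exact ((hee.mul_left hx').mul_left hee.inv_left).eq

/-- The comparison element: for commuting `A`, `C` with a common partner `E` some `g` moving `E`
controls both directions. -/
theorem comparison (hS : IsRootSubgroupSet S) (rel : Subgroup G → Set (Subgroup G))
    (hrel : ∀ U : Subgroup G, ∀ g : G, rel (conjBy U g) = (fun W => conjBy W g) '' rel U)
    {C E : Subgroup G} (hA : A ∈ S) (hC : C ∈ S) (hE : E ∈ S) (hAC : ⁅A, C⁆ = ⊥)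
    (hAE : IsRankOnePair A E) (hCE : IsRankOnePair C E) (hsub : rel A ⊆ rel C) : rel A = rel C := by
  -- for every `a` there is exactly one `c` with commuting conjugates
  have huniq : ∀ {e a c c' : G}, e ∈ E → e ≠ 1 → a ∈ A → conjBy E a = conjBy A e → c ∈ C →
      conjBy E c = conjBy C e → c' ∈ C → ⁅conjBy E a, conjBy E c'⁆ = ⊥ → c' = c := by
    intro e a c c' he he1 ha hea hc hec hc' hbot
    by_contra hne
    have hcc : conjBy E c ≠ conjBy E c' := fun e' => hne (eq_of_conj_eq hCE hc hc' e').symm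
    obtain ⟨-, hsup⟩ := pair_of_mem hCE
      (conjBy_mem_unipotent (right_mem_unipotent hCE) (Subgroup.mem_sup_left hc))
      (conjBy_mem_unipotent (right_mem_unipotent hCE) (Subgroup.mem_sup_left hc')) hcc
    have h1 : ⁅conjBy E a, conjBy E c⁆ = ⊥ := by rw [hea, hec]; exact conj_comm_bot hAC e
    have h2 : conjBy E a ≤ Subgroup.centralizer ((C ⊔ E : Subgroup G) : Set G) := by
      rw [← hsup, Subgroup.le_centralizer_iff]
      exact sup_le (le_centralizer_of_bot (bot_symm h1)) (le_centralizer_of_bot (bot_symm hbot))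
    have hmove : conjBy E a ≠ E := fun e' => hAE.ne (conjBy_inj ((hea.symm.trans e').trans
      (conjBy_of_mem he).symm))
    refine not_commute_pair (pair_of_mem hAE
      (conjBy_mem_unipotent (right_mem_unipotent hAE) (Subgroup.mem_sup_left ha))
      (right_mem_unipotent hAE) hmove).1 ?_
    rw [Subgroup.commutator_eq_bot_iff_le_centralizer]
    exact h2.trans (Subgroup.centralizer_le (SetLike.coe_subset_coe.mpr le_sup_right))
  have himg : ∀ {U V : Subgroup G} (g : G), rel U ⊆ rel V → rel (conjBy U g) ⊆ rel (conjBy V g) := by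
    intro U V g h
    rw [hrel, hrel]
    exact Set.image_mono h
  obtain ⟨e, he, he1⟩ := exists_ne_one (hS.ne_bot E hE)
  obtain ⟨a₀, ha₀, -, hea₀⟩ := hAE.cond_right e⁻¹ (E.inv_mem he) (inv_ne_one.mpr he1)
  obtain ⟨c₀, hc₀, -, hec₀⟩ := hCE.cond_right e⁻¹ (E.inv_mem he) (inv_ne_one.mpr he1)
  rw [inv_inv] at hea₀ hec₀
  set a := a₀⁻¹ with ha
  set c := c₀⁻¹ with hc'
  have haA : a ∈ A := A.inv_mem ha₀
  have hcC : c ∈ C := C.inv_mem hc₀
  have hac : Commute a c := commutes_of_bot hAC haA hcC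
  have ha1 : a ≠ 1 := fun e' => hAE.ne (conjBy_inj (g := e) (by
    rw [← hea₀, e', conjBy_one, conjBy_of_mem he]))
  obtain ⟨e₁, he₁, he₁1, he₁e⟩ := hAE.cond_left a haA ha1
  obtain ⟨c₁, hc₁, -, hec₁⟩ := hCE.cond_right e₁ he₁ he₁1
  have hc₁c : c₁⁻¹ = c⁻¹ := by
    refine (huniq (E.inv_mem he₁) (inv_ne_one.mpr he₁1) (A.inv_mem haA) he₁e.symm (C.inv_mem hc₁) hec₁
      (C.inv_mem hcC) ?_).symm
    have h1 : ⁅conjBy E a, conjBy E c⁆ = ⊥ := by rw [hea₀, hec₀]; exact conj_comm_bot hAC e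
    have h2 := conj_comm_bot h1 (a⁻¹ * c⁻¹)
    rw [← conjBy_mul, ← conjBy_mul, inv_mul_cancel_right,
      show a⁻¹ * c⁻¹ * a = c⁻¹ by rw [mul_assoc, (hac.inv_right.symm).eq, inv_mul_cancel_left]] at h2
    exact bot_symm h2
  have h1 : rel E ⊆ rel (conjBy E (a⁻¹ * c)) := by
    have h := himg a⁻¹ (himg e hsub)
    rwa [← hea₀, ← hec₀, conjBy_inv_conjBy, ← conjBy_mul] at h
  have h2 : rel (conjBy E (a⁻¹ * c)) ⊆ rel E := by
    have h := himg c (himg e₁⁻¹ hsub)
    rw [he₁e, ← hec₁, hc₁c, conjBy_conjBy_inv, ← conjBy_mul] at h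
    rwa [(hac.inv_left).eq]
  have h3 : rel (conjBy E a) = rel (conjBy E c) := by
    have h := congrArg (fun X : Set (Subgroup G) => (fun W => conjBy W a) '' X) (h1.antisymm h2)
    simp only [← hrel, ← conjBy_mul, mul_inv_cancel_left] at h
    exact h
  rw [hea₀, hec₀] at h3
  have h4 := congrArg (fun X : Set (Subgroup G) => (fun W => conjBy W e⁻¹) '' X) h3
  simp only [← hrel, conjBy_inv_conjBy] at h4
  exact h4

end CfsgLib.Perm.RootPath
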