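import Mathlib
import Cfsg.Prelude.Def_RootSubgroups
import Cfsg.Agent.Lib.Perm.RootPath
import Cfsg.Agent.S5032

/-! Classes of abstract root subgroups with a commutator case. -/

set_option autoImplicit false

namespace CfsgLib.Perm.RootClass

open Cfsg CfsgLib.Perm.RankOne CfsgLib.Perm.RootSet CfsgLib.Perm.RootLine CfsgLib.Perm.RootPath
open scoped commutatorElement

variable {G : Type*} [Group G] {S : Set (Subgroup G)} {A B : Subgroup G}

theorem conjBy_le {M : Subgroup G} (hA : A ≤ M) {m : G} (hm : m ∈ M) : conjBy A m ≤ M := by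
  rintro _ ⟨a, ha, rfl⟩
  exact M.mul_mem (M.mul_mem hm (hA ha)) (M.inv_mem hm)

theorem all_not_isolated (hS : IsRootSubgroupClass S) (hp : ∃ A ∈ S, ∃ B ∈ S, IsRankOnePair A B) :
    ∀ A ∈ S, ¬ IsIsolatedIn (FAdj S) S A := by
  obtain ⟨A₀, hA₀, B₀, hB₀, h₀⟩ := hp
  intro A hA
  obtain ⟨g, rfl⟩ := hS.2.2 A₀ hA₀ A hA
  exact not_isolated hA (hS.1.conj_mem B₀ hB₀ g) (pair_conj h₀ g)

theorem exists_case (hS : IsRootSubgroupClass S) (hc : ∃ A ∈ S, ∃ E ∈ S, RootCommutatorCase S A E) :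
    ∀ A ∈ S, ∃ E ∈ S, RootCommutatorCase S A E := by
  obtain ⟨A₀, hA₀, E₀, hE₀, hC₀⟩ := hc
  intro A hA
  obtain ⟨g, rfl⟩ := hS.2.2 A₀ hA₀ A hA
  refine ⟨_, hS.1.conj_mem E₀ hE₀ g, commCase_of_mem hS.1 hA (hS.1.conj_mem E₀ hE₀ g) ?_⟩
  have := hS.1.conj_mem _ hC₀.1 g
  rwa [conjBy, Subgroup.map_commutator] at this

/-- The line graph is connected. -/
theorem eAdj_connected (hS : IsRootSubgroupClass S) (hnd : IsNondegenerateRootSet S) :
    IsConnectedFamily (EAdj S S) S := by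
  obtain ⟨⟨A₀, hA₀, B₀, hB₀, hne, -⟩, hp, hc⟩ := hnd
  have hiso := all_not_isolated hS hp
  have hcase := exists_case hS hc
  have hF := (Cfsg.Agent.S5032.result hS.1 ⟨A₀, hA₀, B₀, hB₀, hne⟩).mpr
    ⟨hS.2, A₀, hA₀, hiso A₀ hA₀⟩
  intro A hA B hB
  have h := hF A hA B hB
  induction h with
  | refl => exact .refl
  | @tail P Q _ hPQ ih =>
    obtain ⟨hP, hQ, hpq⟩ := hPQ
    refine (ih hP).trans ?_
    obtain ⟨E, hE, hC⟩ := hcase P hP
    obtain ⟨F, hFl, hQF⟩ := exists_line_partner hS.1 hP hQ hpq hE hC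
    have hF' : F ∈ S := hFl.1.1
    have hFQ := commCase_swap hQF
    refine ((Relation.ReflTransGen.single ⟨hP, hF', hFl⟩).tail
      (c := ⁅F, Q⁆) ⟨hF', hFQ.1, linePartners_of_case hS.1 hF' (hiso F hF') hQ hFQ⟩).tail
      ⟨hFQ.1, hQ, ?_⟩
    rw [Subgroup.commutator_comm]
    exact linePartners_symm hQ (linePartners_of_case hS.1 hQ (hiso Q hQ) hF' hQF)

/-- `⟨Λ_A, B⟩ = G`. -/
theorem generate (hS : IsRootSubgroupClass S) (hnd : IsNondegenerateRootSet S) (hA : A ∈ S)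
    (hB : B ∈ S) (h : IsRankOnePair A B) : (⨆ C ∈ linePartners S A, C) ⊔ B = ⊤ := by
  set M := (⨆ C ∈ linePartners S A, C) ⊔ B with hM
  have hiso := all_not_isolated hS hnd.2.1
  have hS' := hS.1
  have hLM : ∀ C ∈ linePartners S A, C ≤ M := fun C hC =>
    (le_iSup₂_of_le C hC le_rfl : C ≤ ⨆ C ∈ linePartners S A, C).trans le_sup_left
  have hBM : B ≤ M := le_sup_right
  -- second points
  have hsecond : ∀ C ∈ linePartners S A, ∃ Q ∈ linePartners S A, ⁅C, Q⁆ = A := by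
    intro C hC
    obtain ⟨Q, hQ, hCQ⟩ := exists_mid hS' hiso hA hC
    refine ⟨Q, linePartners_symm hQ ?_, hCQ⟩
    have hQC : RootCommutatorCase S Q C :=
      commCase_swap (commCase_of_mem hS' hC.1.1 hQ (hCQ.symm ▸ hA))
    have := linePartners_of_case hS' hQ (hiso Q hQ) hC.1.1 hQC
    rwa [Subgroup.commutator_comm, hCQ] at this
  have hAM : A ≤ M := by
    obtain ⟨E, hE, hC⟩ := exists_case hS hnd.2.2 A hA
    have hl := linePartners_of_case hS' hA (hiso A hA) hE hC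
    obtain ⟨Q, hQ, hQA⟩ := hsecond _ hl
    rw [← hQA, Subgroup.commutator_le]
    intro x hx y hy
    rw [commutatorElement_def]
    exact mul_mem (mul_mem (mul_mem (hLM _ hl hx) (hLM Q hQ hy)) (inv_mem (hLM _ hl hx)))
      (inv_mem (hLM Q hQ hy))
  have hcommM : ∀ {X Y : Subgroup G}, X ≤ M → Y ≤ M → ⁅X, Y⁆ ≤ M := by
    intro X Y hX hY
    rw [Subgroup.commutator_le]
    intro x hx y hy
    rw [commutatorElement_def]
    exact mul_mem (mul_mem (mul_mem (hX hx) (hY hy)) (inv_mem (hX hx))) (inv_mem (hY hy))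
  -- every line partner of `A` is a conjugate of `A` under `M`
  have hLA : ∀ C ∈ linePartners S A, ∃ m ∈ M, C = conjBy A m := by
    intro C hC
    obtain ⟨F, hF, hFA, hBF, hAK, hAKF, hspan⟩ := line_struct hS' hA hB h hC
    obtain ⟨hmem, -, -, -⟩ := Cfsg.Agent.S5029.result hS' (hiso A hA) hA hBF.1 hAK.1
    rw [hAKF, hspan] at hmem
    have hFl : F ∈ linePartners S A :=
      ⟨⟨hF.1, hFA, bot_of_commute fun a ha f hf =>
        line_abelian hS' hA hC a (Subgroup.mem_sup_left ha) f (hF.2 hf)⟩, hspan.symm ▸ hC.2⟩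
    have hKM : ⁅B, F⁆ ≤ M := hcommM hBM (hLM F hFl)
    have hCm : C ∈ membersIn S (A ⊔ C) := ⟨hC.1.1, le_sup_right⟩
    rw [hmem] at hCm
    rcases hCm with ⟨k, hk, e⟩ | e
    · exact ⟨k, hKM hk, e.symm⟩
    rw [Set.mem_singleton_iff] at e
    suffices hFm : ∃ m ∈ M, F = conjBy A m by rw [e]; exact hFm
    -- a second point in the commutator case with `B`
    obtain ⟨Q₀, hQ₀, hFQ₀⟩ := hsecond F hFl
    obtain ⟨Q, hQm, hQA, hBQ, hAK', hAKQ, hspanQ⟩ := line_struct hS' hA hB h hQ₀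
    have hQl : Q ∈ linePartners S A :=
      ⟨⟨hQm.1, hQA, bot_of_commute fun a ha f hf =>
        line_abelian hS' hA hQ₀ a (Subgroup.mem_sup_left ha) f (hQm.2 hf)⟩, hspanQ.symm ▸ hQ₀.2⟩
    have hQ₀F : RootCommutatorCase S Q₀ F :=
      commCase_swap (commCase_of_mem hS' hF.1 hQ₀.1.1 (hFQ₀.symm ▸ hA))
    obtain ⟨hmem₀, -, -, -⟩ := Cfsg.Agent.S5029.result hS' (hiso _ hQ₀.1.1) hQ₀.1.1 hF.1 hQ₀F.1
    rw [Subgroup.commutator_comm, hFQ₀, sup_comm] at hmem₀
    have hQ' := hQm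
    rw [hmem₀] at hQ'
    have hFQ : ⁅F, Q⁆ = A := by
      rcases hQ' with ⟨f, hf, e'⟩ | e'
      · have hfA : conjBy A f = A := conjBy_of_comm fun a ha => by
          have hh := hQ₀F.2.1 a (by rwa [Subgroup.commutator_comm, hFQ₀]) f (Subgroup.mem_sup_right hf)
          exact hh.symm
        rw [← e']
        dsimp only
        nth_rw 1 [← conjBy_of_mem hf]
        rw [← hfA, ← hFQ₀, conjBy, conjBy, conjBy, ← Subgroup.map_commutator]
      · exact absurd (Set.mem_singleton_iff.mp e') hQA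
    have hFK' : IsRankOnePair F ⁅B, Q⁆ := opposite hS' hF.1 hQm.1 hA hBQ.1 hFQ hAKQ
    have hK'M : ⁅B, Q⁆ ≤ M := hcommM hBM (hLM Q hQl)
    -- a third member of the line `A F` is a partner of `⁅B, Q⁆` as well
    obtain ⟨k, hk, hk1⟩ := exists_ne_one (hS'.ne_bot _ hBF.1)
    have hD : conjBy A k ∈ membersIn S (A ⊔ C) := hmem.symm ▸ Or.inl ⟨k, hk, rfl⟩
    have hkA : ∀ a ∈ A, k * a * k⁻¹ = ⁅k, a⁆ * a ∧ ⁅k, a⁆ ∈ F := fun a ha =>
      ⟨conj_eq_comm_mul k a, by
        rw [← hAKF, Subgroup.commutator_comm]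
        exact Subgroup.commutator_mem_commutator hk ha⟩
    have hle : ⁅conjBy A k, Q⁆ ≤ A := by
      rw [Subgroup.commutator_le]
      rintro _ ⟨a, ha, rfl⟩ q hq
      simp only [MulEquiv.coe_toMonoidHom, MulAut.conj_apply]
      rw [(hkA a ha).1]
      have haq : Commute a q := commutes_of_bot hQl.1.2.2 ha hq
      have : ⁅⁅k, a⁆ * a, q⁆ = ⁅⁅k, a⁆, q⁆ := by
        simp only [commutatorElement_def]
        calc _ = k * a * k⁻¹ * a⁻¹ * (a * q * a⁻¹) * (k * a * k⁻¹ * a⁻¹)⁻¹ * q⁻¹ := by group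
          _ = _ := by rw [haq.eq, mul_inv_cancel_right]
      rw [this, ← hFQ]
      exact Subgroup.commutator_mem_commutator (hkA a ha).2 hq
    have hcase : RootCommutatorCase S (conjBy A k) Q := by
      rcases hS'.pair _ hD.1 Q hQm.1 with h0 | h0 | h0
      · exfalso
        have hfk : ∀ a ∈ A, ⁅k, a⁆ = 1 := by
          intro a ha
          refine eq_one_of_commute hS' (commCase_of_mem hS' hF.1 hQm.1 (hFQ.symm ▸ hA)) (hkA a ha).2
            fun q hq => ?_
          have h1 : Commute (k * a * k⁻¹) q := commutes_of_bot h0 (conjBy_conj_mem ha) hq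
          have h2 : Commute a q := commutes_of_bot hQl.1.2.2 ha hq
          have : ⁅k, a⁆ = (k * a * k⁻¹) * a⁻¹ := by rw [commutatorElement_def]
          rw [this]
          exact (h1.mul_left h2.inv_left).eq
        refine hk1 (eq_one_of_commute hS' (commCase_swap hAK) hk fun y hy => ?_)
        exact commutatorElement_eq_one_iff_mul_comm.mp (hfk y hy)
      · exfalso
        obtain ⟨x, hx, hx1⟩ := exists_ne_one (left_ne_bot h0)
        have hne : conjBy Q x ≠ Q := fun e' => hx1 (eq_one_of_normalizes h0 hx e')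
        refine not_commute_pair (pair_of_mem h0 (conjBy_mem_unipotent (right_mem_unipotent h0)
          (Subgroup.mem_sup_left hx)) (right_mem_unipotent h0) hne).1 (bot_of_commute ?_)
        rintro _ ⟨q', hq', rfl⟩ q hq
        simp only [MulEquiv.coe_toMonoidHom, MulAut.conj_apply]
        rw [conj_eq_comm_mul]
        exact line_abelian hS' hA hQl _ (mul_mem (Subgroup.mem_sup_left
          (hle (Subgroup.commutator_mem_commutator hx hq'))) (Subgroup.mem_sup_right hq'))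
          q (Subgroup.mem_sup_right hq)
      · exact h0
    have hDQ : ⁅conjBy A k, Q⁆ = A := by
      refine le_antisymm hle ?_
      obtain ⟨x, hx, hx1⟩ := exists_ne_one (hS'.ne_bot _ hcase.1)
      exact le_of_eq ((inf_eq_bot_or_eq hS' hB h hcase.1).resolve_left fun e' =>
        hx1 (Subgroup.mem_bot.mp (e' ▸ Subgroup.mem_inf.mpr ⟨hle hx, hx⟩)))
    have hDK' : IsRankOnePair (conjBy A k) ⁅B, Q⁆ :=
      opposite hS' hD.1 hQm.1 hA hBQ.1 hDQ hAKQ
    obtain ⟨x, hx, hxe⟩ := right_mem_unipotent hDK'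
    obtain ⟨y, hy, hye⟩ := right_mem_unipotent (RankOnePair_symm hFK')
    have hxM : x ∈ M := (sup_le (conjBy_le hAM (hKM hk)) hK'M : _ ≤ M) hx
    have hyM : y ∈ M := (sup_le hK'M (hLM F hFl) : _ ≤ M) hy
    refine ⟨y * (x * k), M.mul_mem hyM (M.mul_mem hxM (hKM hk)), ?_⟩
    rw [conjBy_mul, conjBy_mul, ← hxe, ← hye]
  have hstep : ∀ {W W' : Subgroup G}, (∃ m ∈ M, W = conjBy A m) → EAdj S S W W' →
      ∃ m ∈ M, W' = conjBy A m := by
    rintro W W' ⟨m, hm, rfl⟩ ⟨-, -, hl⟩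
    have hl' := linePartners_conj hS' hl m⁻¹
    rw [conjBy_inv_conjBy] at hl'
    obtain ⟨n, hn, hne⟩ := hLA _ hl'
    exact ⟨m * n, M.mul_mem hm hn, by rw [conjBy_mul, ← hne, conjBy_conjBy_inv]⟩
  rw [eq_top_iff, ← hS'.generates, iSup₂_le_iff]
  intro W hW
  have hall : ∀ {W : Subgroup G}, Relation.ReflTransGen (EAdj S S) A W → ∃ m ∈ M, W = conjBy A m := by
    intro W hr
    induction hr with
    | refl => exact ⟨1, M.one_mem, (conjBy_one A).symm⟩
    | tail _ hadj ih => exact hstep ih hadj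
  obtain ⟨m, hm, rfl⟩ := hall (eAdj_connected hS hnd A hA W hW)
  exact conjBy_le hAM hm

end CfsgLib.Perm.RootClass
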