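import Mathlib
import Cfsg.Prelude.Def_RootSubgroups
import Cfsg.Agent.Lib.Perm.RankOne
import Cfsg.Agent.Lib.Perm.SpecialRankOne

/-!
The diagonal subgroup of a special rank one pair with abelian unipotent subgroups: if `A` has more
than three elements then `⁅A, H⁆ = A`.
-/

set_option autoImplicit false

namespace CfsgLib.Perm.Torus

open Cfsg CfsgLib.Perm.RankOne CfsgLib.Perm.SpecialRankOne
open scoped commutatorElement

variable {G : Type*} [Group G] {A B : Subgroup G}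

/-- `W` interchanges `A` and `B`. -/
def Swaps (A B : Subgroup G) (W : G) : Prop :=
  W ∈ A ⊔ B ∧ conjBy A W = B ∧ conjBy B W = A

theorem Swaps.inv {W : G} (h : Swaps A B W) : Swaps A B W⁻¹ :=
  ⟨inv_mem h.1, by conv_lhs => rw [← h.2.2, conjBy_inv_conjBy],
    by conv_lhs => rw [← h.2.1, conjBy_inv_conjBy]⟩

theorem mem_diag {x : G} :
    x ∈ rankOneDiagonal A B ↔ x ∈ A ⊔ B ∧ conjBy A x = A ∧ conjBy B x = B := by
  rw [conjBy_eq_iff_mem_normalizer, conjBy_eq_iff_mem_normalizer]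
  simp only [rankOneDiagonal, Subgroup.mem_inf, and_assoc]

theorem Swaps.conj_diag {W : G} (h : Swaps A B W) :
    conjBy (rankOneDiagonal A B) W = rankOneDiagonal A B := by
  have key : ∀ {V : G}, Swaps A B V → ∀ x ∈ rankOneDiagonal A B,
      V * x * V⁻¹ ∈ rankOneDiagonal A B := by
    intro V hV x hx
    obtain ⟨hx0, hxA, hxB⟩ := mem_diag.mp hx
    refine mem_diag.mpr ⟨mul_mem (mul_mem hV.1 hx0) (inv_mem hV.1), ?_, ?_⟩
    · rw [conjBy_mul, conjBy_mul, hV.inv.2.1, hxB, hV.2.2]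
    · rw [conjBy_mul, conjBy_mul, hV.inv.2.2, hxA, hV.2.1]
  ext x
  rw [mem_conjBy]
  constructor
  · intro hx
    simpa [mul_assoc] using key h _ hx
  · intro hx
    simpa using key h.inv x hx

theorem Swaps.map_comm {W : G} (h : Swaps A B W) :
    conjBy ⁅A, rankOneDiagonal A B⁆ W = ⁅B, rankOneDiagonal A B⁆ ∧
      conjBy ⁅B, rankOneDiagonal A B⁆ W = ⁅A, rankOneDiagonal A B⁆ := by
  have e1 := h.2.1
  have e2 := h.2.2
  have e3 := h.conj_diag
  rw [conjBy] at e1 e2 e3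
  constructor
  · rw [conjBy, Subgroup.map_commutator, e1, e3]
  · rw [conjBy, Subgroup.map_commutator, e2, e3]

theorem mul_comm_of_mem {K : Subgroup G} (hK : IsMulCommutative K) {x y : G} (hx : x ∈ K)
    (hy : y ∈ K) : x * y = y * x :=
  congrArg Subtype.val (hK.1.comm (⟨x, hx⟩ : K) ⟨y, hy⟩)

section Special

variable (hs : IsSpecialRankOnePair A B)
include hs

theorem braid {a b : G} (h : Partner A B a b) : a * b⁻¹ * a = b⁻¹ * a * b⁻¹ := by
  have hsp := hs.2 a h.1 h.2.1 b h.2.2.1 h.2.2.2.1 h.2.2.2.2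
  calc a * b⁻¹ * a = a * (b⁻¹ * a * b) * (b⁻¹) := by group
    _ = a * (a⁻¹ * b⁻¹ * a) * b⁻¹ := by rw [hsp]
    _ = b⁻¹ * a * b⁻¹ := by group

theorem w_conj_self {a b : G} (h : Partner A B a b) :
    (a * b⁻¹ * a) * a * (a * b⁻¹ * a)⁻¹ = b⁻¹ := by
  rw [mul_inv_eq_iff_eq_mul]
  nth_rw 1 [braid hs h]
  group

theorem swaps_w {a b : G} (h : Partner A B a b) : Swaps A B (a * b⁻¹ * a) := by
  refine ⟨mul_mem (mul_mem (Subgroup.mem_sup_left h.1) (inv_mem (Subgroup.mem_sup_right h.2.2.1)))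
    (Subgroup.mem_sup_left h.1), ?_, ?_⟩
  · rw [conjBy_mul, conjBy_mul, conjBy_of_mem h.1, h.2.2.2.2, conjBy_conjBy_inv]
  · rw [conjBy_mul, conjBy_mul, ← partner_inv hs h, conjBy_inv_conjBy, conjBy_of_mem h.1]

theorem eq_of_partner {a a' b : G} (h : Partner A B a b) (h' : Partner A B a' b) : a = a' :=
  (existsUnique_b (RankOnePair_symm hs.1) h.2.2.1 h.2.2.2.1).unique
    ⟨h.1, h.2.1, h.2.2.2.2.symm⟩ ⟨h'.1, h'.2.1, h'.2.2.2.2.symm⟩

theorem partner_unique {a b b' : G} (h : Partner A B a b) (h' : Partner A B a b') : b = b' :=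
  (existsUnique_b hs.1 h.1 h.2.1).unique ⟨h.2.2.1, h.2.2.2.1, h.2.2.2.2⟩
    ⟨h'.2.2.1, h'.2.2.2.1, h'.2.2.2.2⟩

omit hs in
theorem exists_partner (hR : IsRankOnePair A B) {a : G} (ha : a ∈ A) (ha1 : a ≠ 1) :
    ∃ b, Partner A B a b := by
  obtain ⟨b, hb, hb1, he⟩ := hR.cond_left a ha ha1
  exact ⟨b, ha, ha1, hb, hb1, he⟩

omit hs in
theorem exists_partner_right (hR : IsRankOnePair A B) {b : G} (hb : b ∈ B) (hb1 : b ≠ 1) :
    ∃ a, Partner A B a b := by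
  obtain ⟨a, ha, ha1, he⟩ := hR.cond_right b hb hb1
  exact ⟨a, ha, ha1, hb, hb1, he.symm⟩

omit hs in
/-- Partners are respected by the diagonal subgroup. -/
theorem partner_conj {a b h : G} (hh : h ∈ rankOneDiagonal A B) (hp : Partner A B a b) :
    Partner A B (h * a * h⁻¹) (h * b * h⁻¹) := by
  obtain ⟨-, hA, hB⟩ := mem_diag.mp hh
  obtain ⟨ha, ha1, hb, hb1, he⟩ := hp
  have hA' : conjBy A h⁻¹ = A := by conv_lhs => rw [← hA, conjBy_inv_conjBy]
  have hB' : conjBy B h⁻¹ = B := by conv_lhs => rw [← hB, conjBy_inv_conjBy]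
  have ha' := conjBy_conj_mem (g := h) ha
  have hb' := conjBy_conj_mem (g := h) hb
  rw [hA] at ha'
  rw [hB] at hb'
  refine ⟨ha', by simpa using ha1, hb', by simpa using hb1, ?_⟩
  rw [show (h * b * h⁻¹)⁻¹ = h * b⁻¹ * h⁻¹ by group, show (h * a * h⁻¹)⁻¹ = h * a⁻¹ * h⁻¹ by group,
    conjBy_mul, conjBy_mul, conjBy_mul, conjBy_mul, hA', hB', he]

/-- Uniqueness of the decompositions `x W y`. -/
theorem bruhat_unique {x x' y y' W W' : G} (hx : x ∈ A) (hx' : x' ∈ A) (hy : y ∈ A) (hy' : y' ∈ A)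
    (hW : conjBy A W = B ∧ conjBy B W = A) (hW' : conjBy A W' = B ∧ conjBy B W' = A)
    (he : x * W * y = x' * W' * y') : x = x' ∧ y = y' := by
  have hB : conjBy B x = conjBy B x' := by
    have := congrArg (conjBy A) he
    rwa [conjBy_mul, conjBy_mul, conjBy_of_mem hy, hW.1, conjBy_mul, conjBy_mul, conjBy_of_mem hy',
      hW'.1] at this
  obtain rfl := eq_of_conj_eq hs.1 hx hx' hB
  refine ⟨rfl, ?_⟩
  rw [mul_assoc, mul_assoc] at he
  have he' : W * y = W' * y' := mul_left_cancel he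
  have hz : y * y'⁻¹ = 1 := by
    refine eq_one_of_normalizes hs.1 (A.mul_mem hy (A.inv_mem hy')) ?_
    have : y * y'⁻¹ = W⁻¹ * W' := by
      calc y * y'⁻¹ = W⁻¹ * (W * y) * y'⁻¹ := by group
        _ = W⁻¹ * W' := by rw [he']; group
    rw [this, conjBy_mul, hW'.2, conjBy_eq_iff, inv_inv, hW.2]
  exact mul_inv_eq_one.mp hz

/-- The formula for the action of `w(a)` on `A`. -/
theorem w_conj (hA : IsMulCommutative A) (hB : IsMulCommutative B) {a b c d v : G}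
    (hab : Partner A B a b) (hcd : Partner A B c d) (hv : Partner A B v (b * d)) :
    ∃ q, Partner A B (v * a⁻¹) q ∧ (a * b⁻¹ * a) * c * (a * b⁻¹ * a)⁻¹ = b * q := by
  obtain ⟨hWm, hWA, hWB⟩ := swaps_w hs hab
  obtain ⟨hVm, hVA, hVB⟩ := swaps_w hs hcd
  have hconj : ∀ {x : G}, x ∈ A → (a * b⁻¹ * a) * x * (a * b⁻¹ * a)⁻¹ ∈ B := by
    intro x hx
    have := conjBy_conj_mem (g := a * b⁻¹ * a) hx
    rwa [hWA] at this
  set W := a * b⁻¹ * a with hW
  set V := c * d⁻¹ * c with hV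
  set σ := W * (a * c) * W⁻¹ with hσ
  have hσB : σ ∈ B := hconj (A.mul_mem hab.1 hcd.1)
  have hac : a * c ≠ 1 := by
    intro e
    have hc : c = a⁻¹ := eq_inv_of_mul_eq_one_right e
    have h2 : Partner A B c b⁻¹ := by
      rw [hc]
      exact ⟨A.inv_mem hab.1, inv_ne_one.mpr hab.2.1, B.inv_mem hab.2.2.1,
        inv_ne_one.mpr hab.2.2.2.1, by rw [inv_inv, inv_inv, partner_inv hs hab]⟩
    exact hv.2.2.2.1 (by rw [partner_unique hs hcd h2, mul_inv_cancel])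
  have hσ1 : σ ≠ 1 := by rw [hσ, ne_eq, conj_eq_one_iff]; exact hac
  obtain ⟨r, hr⟩ := exists_partner_right hs.1 hσB hσ1
  obtain ⟨hRm, hRA, hRB⟩ := swaps_w hs hr
  set R := r * σ⁻¹ * r with hR
  set U := v * (b * d)⁻¹ * v with hU
  obtain ⟨hUm, hUA, hUB⟩ := swaps_w hs hv
  -- move `r⁻¹` to the right
  set r' := (W * V)⁻¹ * r⁻¹ * (W * V) with hr'
  have hr'A : r' ∈ A := by
    rw [hr', ← mem_conjBy, conjBy_mul, hVA, hWB]
    exact A.inv_mem hr.1
  have he : (a⁻¹ * r⁻¹) * (R * W * V) * (r' * c⁻¹) = v⁻¹ * U * v⁻¹ := by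
    calc (a⁻¹ * r⁻¹) * (R * W * V) * (r' * c⁻¹) = a⁻¹ * (r⁻¹ * R * r⁻¹) * W * V * c⁻¹ := by
          rw [hr']; group
      _ = a⁻¹ * σ⁻¹ * W * V * c⁻¹ := by rw [hR]; group
      _ = a⁻¹ * W * (c⁻¹ * a⁻¹) * V * c⁻¹ := by rw [hσ]; group
      _ = a⁻¹ * W * (a⁻¹ * c⁻¹) * V * c⁻¹ := by
          rw [mul_comm_of_mem hA (A.inv_mem hcd.1) (A.inv_mem hab.1)]
      _ = b⁻¹ * d⁻¹ := by rw [hW, hV]; group
      _ = (b * d)⁻¹ := by rw [mul_comm_of_mem hB hab.2.2.1 hcd.2.2.1, mul_inv_rev]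
      _ = v⁻¹ * U * v⁻¹ := by rw [hU]; group
  have hkey := (bruhat_unique hs (A.mul_mem (A.inv_mem hab.1) (A.inv_mem hr.1)) (A.inv_mem hv.1)
    (A.mul_mem hr'A (A.inv_mem hcd.1)) (A.inv_mem hv.1)
    ⟨by rw [conjBy_mul, conjBy_mul, hVA, hWB, hRA], by rw [conjBy_mul, conjBy_mul, hVB, hWA, hRB]⟩
    ⟨hUA, hUB⟩ he).1
  have hrv : v * a⁻¹ = r := by
    have h1 : r * a = v := by
      have := congrArg (·⁻¹) hkey
      simpa using this
    rw [← h1, mul_inv_cancel_right]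
  refine ⟨σ, hrv ▸ hr, ?_⟩
  have hb : W * a * W⁻¹ = b⁻¹ := w_conj_self hs hab
  calc W * c * W⁻¹ = (W * a * W⁻¹)⁻¹ * (W * (a * c) * W⁻¹) := by group
    _ = b * σ := by rw [hb, inv_inv]

/-- If `A` has more than three elements then some element of the diagonal subgroup moves `A`. -/
theorem exists_moved (hA : IsMulCommutative A) (hB : IsMulCommutative B) (h3 : 3 < ENat.card A) :
    ∃ a ∈ A, ∃ h ∈ rankOneDiagonal A B, h * a * h⁻¹ ≠ a := by
  by_contra hall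
  push Not at hall
  have hsame : ∀ {W W' : G}, Swaps A B W → Swaps A B W' → ∀ x ∈ A, W * x * W⁻¹ = W' * x * W'⁻¹ := by
    intro W W' hW hW' x hx
    have hh : W⁻¹ * W' ∈ rankOneDiagonal A B := mem_diag.mpr ⟨mul_mem (inv_mem hW.1) hW'.1,
      by rw [conjBy_mul, hW'.2.1, hW.inv.2.2], by rw [conjBy_mul, hW'.2.2, hW.inv.2.1]⟩
    nth_rw 1 [← hall x hx _ hh]
    group
  obtain ⟨c, hc, hc1⟩ : ∃ c ∈ A, c ≠ 1 := by
    obtain ⟨⟨c, hc⟩, hc1⟩ := right_ne_bot.exists_ne_one_of_ne_bot (left_ne_bot hs.1)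
    exact ⟨c, hc, fun e => hc1 (Subtype.ext e)⟩
  obtain ⟨d, hcd⟩ := exists_partner hs.1 hc hc1
  set V := c * d⁻¹ * c with hV
  have hsub : (A : Set G) ⊆ {1, c⁻¹, (c * c)⁻¹} := by
    intro a ha
    simp only [Set.mem_insert_iff, Set.mem_singleton_iff]
    by_contra hn
    push Not at hn
    obtain ⟨b, hab⟩ := exists_partner hs.1 ha hn.1
    have hac : a * c ≠ 1 := fun e => hn.2.1 (eq_inv_of_mul_eq_one_left e)
    obtain ⟨g, hg⟩ := exists_partner hs.1 (A.mul_mem ha hc) hac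
    have h1 : g⁻¹ = b⁻¹ * d⁻¹ := by
      have e1 := hsame (swaps_w hs hg) (swaps_w hs hab) _ (A.mul_mem ha hc)
      have e2 := hsame (swaps_w hs hcd) (swaps_w hs hab) _ hc
      rw [w_conj_self hs hg] at e1
      rw [w_conj_self hs hcd] at e2
      have e3 := w_conj_self hs hab
      generalize a * b⁻¹ * a = W at e1 e2 e3
      rw [e1, e2, ← e3]
      group
    have hg' : g = b * d := by
      rw [← inv_inv g, h1, mul_inv_rev, inv_inv, inv_inv, mul_comm_of_mem hB hcd.2.2.1 hab.2.2.1]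
    obtain ⟨q, hq, he⟩ := w_conj hs hA hB hab hcd (hg' ▸ hg)
    rw [mul_comm_of_mem hA ha hc, mul_inv_cancel_right] at hq
    rw [partner_unique hs hq hcd, ← hsame (swaps_w hs hcd) (swaps_w hs hab) _ hc,
      w_conj_self hs hcd] at he
    have h2 : g = d⁻¹ := hg'.trans he.symm
    have h3' : Partner A B c⁻¹ d⁻¹ :=
      ⟨A.inv_mem hc, inv_ne_one.mpr hc1, B.inv_mem hcd.2.2.1, inv_ne_one.mpr hcd.2.2.2.1,
        by rw [inv_inv, inv_inv, partner_inv hs hcd]⟩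
    have h4 : a * c = c⁻¹ := eq_of_partner hs (h2 ▸ hg) h3'
    refine hn.2.2 ?_
    rw [mul_inv_rev]
    exact eq_mul_inv_of_mul_eq h4
  have h5 : (A : Set G).encard ≤ 3 := (Set.encard_le_encard hsub).trans
    ((Set.encard_insert_le _ _).trans (by
      calc Set.encard {c⁻¹, (c * c)⁻¹} + 1 ≤ (Set.encard {(c * c)⁻¹} + 1) + 1 :=
            add_le_add_left (Set.encard_insert_le _ _) 1
        _ = 3 := by rw [Set.encard_singleton]; norm_num))
  exact absurd h5 (not_le.mpr h3)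

/-- `⁅A, H⁆ = A` when `A` has more than three elements. -/
theorem commutator_diag (hA : IsMulCommutative A) (hB : IsMulCommutative B) (h3 : 3 < ENat.card A) :
    ⁅A, rankOneDiagonal A B⁆ = A := by
  set H := rankOneDiagonal A B with hH
  set T := ⁅A, H⁆ with hT
  have hle : T ≤ A := by
    rw [hT, Subgroup.commutator_le]
    intro a ha h hh
    rw [commutatorElement_def, show a * h * a⁻¹ * h⁻¹ = a * (h * a⁻¹ * h⁻¹) by group]
    refine A.mul_mem ha ?_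
    have := conjBy_conj_mem (g := h) (A.inv_mem ha)
    rwa [(mem_diag.mp hh).2.1] at this
  refine le_antisymm hle ?_
  by_contra hnle
  obtain ⟨a₀, ha₀, ha₀T⟩ := SetLike.not_le_iff_exists.mp hnle
  obtain ⟨a, ha, haT, h, hh, hmove⟩ : ∃ a ∈ A, a ∉ T ∧ ∃ h ∈ H, h * a * h⁻¹ ≠ a := by
    by_contra hall
    push Not at hall
    obtain ⟨x, hx, h, hh, hne⟩ := exists_moved hs hA hB h3
    by_cases hxT : x ∈ T
    · apply hne
      have h1 := hall (a₀ * x) (A.mul_mem ha₀ hx) (fun e => ha₀T (by simpa using T.mul_mem e (T.inv_mem hxT))) h hh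
      have h2 := hall a₀ ha₀ ha₀T h hh
      calc h * x * h⁻¹ = (h * a₀ * h⁻¹)⁻¹ * (h * (a₀ * x) * h⁻¹) := by group
        _ = x := by rw [h1, h2, inv_mul_cancel_left]
    · exact hne (hall x hx hxT h hh)
  have ha1 : a ≠ 1 := fun e => haT (e ▸ one_mem T)
  obtain ⟨b, hab⟩ := exists_partner hs.1 ha ha1
  have hp := partner_conj hh hab
  set τ := h * b * h⁻¹ * b⁻¹ with hτ
  have hτT : τ ∈ ⁅B, H⁆ := by
    rw [hτ, Subgroup.commutator_comm]
    exact Subgroup.commutator_mem_commutator hh hab.2.2.1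
  have hτB : τ ∈ B := B.mul_mem hp.2.2.1 (B.inv_mem hab.2.2.1)
  have hτ1 : τ ≠ 1 := by
    intro e
    rw [hτ, mul_inv_eq_one] at e
    exact hmove (eq_of_partner hs (e ▸ hp) hab)
  obtain ⟨c, hcd⟩ := exists_partner_right hs.1 hτB hτ1
  -- partners of elements of `T` lie in `⁅B, H⁆` and conversely
  have hback : ∀ {x y : G}, Partner A B x y → (y ∈ ⁅B, H⁆ ↔ x ∈ T) := by
    intro x y hxy
    have hsw := swaps_w hs hxy
    have hm := hsw.map_comm.1
    constructor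
    · intro hy
      have hw := w_conj_self hs hxy
      have h1 : y⁻¹ ∈ conjBy T (x * y⁻¹ * x) := hm ▸ inv_mem hy
      generalize x * y⁻¹ * x = W at h1 hw
      rwa [mem_conjBy, ← hw, show W⁻¹ * (W * x * W⁻¹) * W = x by group] at h1
    · intro hx
      have h1 := conjBy_conj_mem (g := x * y⁻¹ * x) hx
      rw [hm, w_conj_self hs hxy] at h1
      simpa using h1
  have hcT : c ∈ T := (hback hcd).mp hτT
  have hbτ : h * b * h⁻¹ = b * τ := by
    rw [mul_comm_of_mem hB hab.2.2.1 hτB, hτ, inv_mul_cancel_right]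
  obtain ⟨q, hq, he⟩ := w_conj hs hA hB hab hcd (hbτ ▸ hp)
  have hrT : h * a * h⁻¹ * a⁻¹ ∈ T := by
    rw [hT, Subgroup.commutator_comm]
    exact Subgroup.commutator_mem_commutator hh ha
  have hqT : q ∈ ⁅B, H⁆ := (hback hq).mpr hrT
  have hwc : (a * b⁻¹ * a) * c * (a * b⁻¹ * a)⁻¹ ∈ ⁅B, H⁆ := by
    have := conjBy_conj_mem (g := a * b⁻¹ * a) hcT
    rwa [(swaps_w hs hab).map_comm.1] at this
  rw [he] at hwc
  have hb : b ∈ ⁅B, H⁆ := by simpa using mul_mem hwc (inv_mem hqT)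
  exact haT ((hback hab).mp hb)

end Special

end CfsgLib.Perm.Torus
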