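import Mathlib
import Cfsg.Prelude.Def_RootSubgroups
import Cfsg.Agent.Lib.Perm.RankOne
import Cfsg.Agent.Lib.Perm.SpecialRankOne
import Cfsg.Agent.Lib.Perm.Torus

/-! Tools for the quasisimplicity of groups generated by special rank one pairs. -/

set_option autoImplicit false

namespace CfsgLib.Perm.RootQuasisimple

open Cfsg CfsgLib.Perm.RankOne CfsgLib.Perm.SpecialRankOne
open scoped commutatorElement

variable {G : Type*} [Group G] {A B : Subgroup G}

theorem map_mk_conjBy (N : Subgroup G) [N.Normal] (A : Subgroup G) (x : G) :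
    (conjBy A x).map (QuotientGroup.mk' N) =
      conjBy (A.map (QuotientGroup.mk' N)) (QuotientGroup.mk' N x) := by
  rw [conjBy, conjBy, Subgroup.map_map, Subgroup.map_map]
  congr 1

/-- An element of `N` in `A` forces one in `B`, and equal images modulo `N`. -/
theorem image_eq (hs : IsSpecialRankOnePair A B) (N : Subgroup G) [N.Normal] {a : G} (ha : a ∈ A)
    (ha1 : a ≠ 1) (haN : a ∈ N) :
    A.map (QuotientGroup.mk' N) = B.map (QuotientGroup.mk' N) ∧ ∃ b ∈ B, b ≠ 1 ∧ b ∈ N := by
  obtain ⟨b, hb, hb1, he⟩ := hs.1.cond_left a ha ha1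
  have hsp := hs.2 a ha ha1 b hb hb1 he
  have hbN : b ∈ N := by
    have h1 : b⁻¹ = a * (b⁻¹ * a * b) * a⁻¹ := by rw [hsp]; group
    rw [← N.inv_mem_iff, h1]
    refine (inferInstance : N.Normal).conj_mem _ ?_ _
    simpa using (inferInstance : N.Normal).conj_mem a haN b⁻¹
  refine ⟨?_, b, hb, hb1, hbN⟩
  have h1 := congrArg (Subgroup.map (QuotientGroup.mk' N)) he
  rw [map_mk_conjBy, map_mk_conjBy, map_inv, map_inv,
    show QuotientGroup.mk' N b = 1 from (QuotientGroup.eq_one_iff b).mpr hbN,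
    show QuotientGroup.mk' N a = 1 from (QuotientGroup.eq_one_iff a).mpr haN, inv_one,
    conjBy_one, conjBy_one] at h1
  exact h1

/-- If modulo `N` everything is the image of an abelian subgroup then `G' ≤ N`. -/
theorem commutator_le_of_image (N : Subgroup G) [N.Normal] (hA : IsMulCommutative A)
    (h : (⊤ : Subgroup G).map (QuotientGroup.mk' N) ≤ A.map (QuotientGroup.mk' N)) :
    commutator G ≤ N := by
  rw [commutator_def, Subgroup.commutator_le]
  intro x _ y _
  obtain ⟨a, ha, hax⟩ := h ⟨x, Subgroup.mem_top x, rfl⟩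
  obtain ⟨a', ha', hay⟩ := h ⟨y, Subgroup.mem_top y, rfl⟩
  rw [← QuotientGroup.eq_one_iff, ← QuotientGroup.mk'_apply, map_commutatorElement, ← hax, ← hay,
    ← map_commutatorElement, commutatorElement_eq_one_iff_mul_comm.mpr
      (CfsgLib.Perm.Torus.mul_comm_of_mem hA ha ha'), map_one]

/-- If `A` has more than three elements and `⁅A, B⁆ ≤ N` then `A ≤ N`. -/
theorem le_of_comm_le (hs : IsSpecialRankOnePair A B) (hA : IsMulCommutative A)
    (hB : IsMulCommutative B) (h3 : 3 < ENat.card A) (N : Subgroup G) [N.Normal]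
    (h : ⁅A, B⁆ ≤ N) : A ≤ N := by
  have hcA : ∀ x ∈ A, ∀ y ∈ A, x * y = y * x := fun x hx y hy =>
    CfsgLib.Perm.Torus.mul_comm_of_mem hA hx hy
  have hcB : ∀ x ∈ B, ∀ y ∈ B, x * y = y * x := fun x hx y hy =>
    CfsgLib.Perm.Torus.mul_comm_of_mem hB hx hy
  set π := QuotientGroup.mk' N
  have hAX : A.map π ≤ Subgroup.centralizer (((A ⊔ B).map π : Subgroup (G ⧸ N)) : Set (G ⧸ N)) := by
    rw [Subgroup.le_centralizer_iff, Subgroup.map_sup, sup_le_iff]
    constructor
    · rintro _ ⟨x, hx, rfl⟩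
      rw [Subgroup.mem_centralizer_iff]
      rintro _ ⟨y, hy, rfl⟩
      rw [← map_mul, ← map_mul, hcA y hy x hx]
    · rintro _ ⟨x, hx, rfl⟩
      rw [Subgroup.mem_centralizer_iff]
      rintro _ ⟨y, hy, rfl⟩
      exact commutatorElement_eq_one_iff_mul_comm.mp (by
        rw [← map_commutatorElement]
        exact (QuotientGroup.eq_one_iff _).mpr (h (Subgroup.commutator_mem_commutator hy hx)))
  rw [← CfsgLib.Perm.Torus.commutator_diag hs hA hB h3, Subgroup.commutator_le]
  intro a ha x hx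
  rw [← QuotientGroup.eq_one_iff, ← QuotientGroup.mk'_apply, map_commutatorElement]
  exact commutatorElement_eq_one_iff_mul_comm.mpr
    (Subgroup.mem_centralizer_iff.mp (hAX ⟨a, ha, rfl⟩) _ ⟨x, (CfsgLib.Perm.Torus.mem_diag.mp hx).1, rfl⟩).symm

/-- The criterion: perfect, not abelian, and every non-central normal subgroup is everything. -/
theorem quasisimple_of (hperf : commutator G = ⊤) (hne : Subgroup.center G ≠ ⊤)
    (hN : ∀ N : Subgroup G, N.Normal → ¬ N ≤ Subgroup.center G → N = ⊤) :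
    IsQuasisimple ↥(commutator G) := by
  set K := commutator G with hK
  have hmem : ∀ x : G, x ∈ K := fun x => hperf ▸ Subgroup.mem_top x
  have hcen : ∀ x : K, x ∈ Subgroup.center K ↔ (x : G) ∈ Subgroup.center G := fun x => by
    simp only [Subgroup.mem_center_iff]
    exact ⟨fun h g => congrArg Subtype.val (h ⟨g, hmem g⟩), fun h g => Subtype.ext (h g)⟩
  refine ⟨?_, ?_⟩
  · rw [Group.isPerfect_def]
    refine Subgroup.map_injective K.subtype_injective ?_
    rw [commutator_def, Subgroup.map_commutator, ← MonoidHom.range_eq_map, Subgroup.range_subtype,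
      hperf, ← commutator_def]
    exact hperf
  · have : Nontrivial (↥K ⧸ Subgroup.center ↥K) := by
      rw [QuotientGroup.nontrivial_iff]
      intro e
      refine hne (eq_top_iff.mpr fun x _ => ?_)
      exact (hcen ⟨x, hmem x⟩).mp (e ▸ Subgroup.mem_top _)
    refine ⟨fun Q hQ => ?_⟩
    set M := Q.comap (QuotientGroup.mk' (Subgroup.center K)) with hM
    have hMn : (M.map K.subtype).Normal :=
      ⟨by
        rintro _ ⟨m, hm, rfl⟩ g
        exact ⟨⟨g, hmem g⟩ * m * ⟨g, hmem g⟩⁻¹, (inferInstance : M.Normal).conj_mem m hm _, rfl⟩⟩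
    by_cases hc : M.map K.subtype ≤ Subgroup.center G
    · refine Or.inl (eq_bot_iff.mpr fun q hq => ?_)
      obtain ⟨x, rfl⟩ := QuotientGroup.mk'_surjective _ q
      exact Subgroup.mem_bot.mpr ((QuotientGroup.eq_one_iff x).mpr
        ((hcen x).mpr (hc ⟨x, hq, rfl⟩)))
    · refine Or.inr (eq_top_iff.mpr fun q _ => ?_)
      obtain ⟨x, rfl⟩ := QuotientGroup.mk'_surjective _ q
      obtain ⟨y, hy, e⟩ : (x : G) ∈ M.map K.subtype := hN _ hMn hc ▸ Subgroup.mem_top _
      exact K.subtype_injective e ▸ hy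

end CfsgLib.Perm.RootQuasisimple
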