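import Mathlib
import Cfsg.Prelude.Def_RootSubgroups
import Cfsg.Agent.Lib.Perm.RankOne
import Cfsg.Agent.Lib.Perm.RootSet
import Cfsg.Agent.Lib.Perm.RootLine
import Cfsg.Agent.Lib.Perm.SpecialRankOne
import Cfsg.Agent.S5032

/-!
Rank one pairs of root subgroups are special: directly when some member commuting with `A` is a
partner of `B`; otherwise (in the degenerate case) `A` has exponent two or three and the diagonal
subgroup centralises `A`.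

In the comments `x ^ g` means `g⁻¹ x g`.
-/

set_option autoImplicit false

namespace CfsgLib.Perm.RootSpecial

open Cfsg CfsgLib.Perm.RankOne CfsgLib.Perm.RootSet CfsgLib.Perm.RootLine
open CfsgLib.Perm.SpecialRankOne

variable {G : Type*} [Group G] {S : Set (Subgroup G)} {A B C : Subgroup G}

theorem conjBy_inv_mul (U : Subgroup G) (x y : G) :
    conjBy U (x * y)⁻¹ = conjBy (conjBy U x⁻¹) y⁻¹ := by
  rw [mul_inv_rev, conjBy_mul]

theorem mem_conjBy_inv {U : Subgroup G} {g x : G} (hx : x ∈ U) : g⁻¹ * x * g ∈ conjBy U g⁻¹ := by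
  simpa using conjBy_conj_mem (g := g⁻¹) hx

theorem commute_of_mem (hS : IsRootSubgroupSet S) (hA : A ∈ S) {x y : G} (hx : x ∈ A) (hy : y ∈ A) :
    Commute x y :=
  congrArg Subtype.val ((hS.commutative A hA).1.comm (⟨x, hx⟩ : A) ⟨y, hy⟩)

/-- For commuting `A`, `C` with a common partner `B`, the element
`h = b ^ g * b⁻¹`, `g = a⁻¹ * c`, fixes `B` and takes `A` to `C`, `a` to `c`. -/
theorem pairing (hS : IsRootSubgroupSet S) (hB : B ∈ S) (hAC : ⁅A, C⁆ = ⊥)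
    {a b c : G} (hab : Partner A B a b) (hcb : Partner C B c b) (hpCB : IsRankOnePair C B)
    (hA : A ∈ S) :
    ∀ h, h = (a⁻¹ * c)⁻¹ * b * (a⁻¹ * c) * b⁻¹ →
      (∀ y ∈ B, Commute h y) ∧ conjBy A h⁻¹ = C ∧ h⁻¹ * a * h = c := by
  obtain ⟨ha, -, hb, -, hea⟩ := hab
  obtain ⟨hc, -, -, -, hec⟩ := hcb
  have hac : Commute a c := commutes_of_bot hAC ha hc
  set g := a⁻¹ * c with hg
  have hgA : conjBy A g⁻¹ = A := by
    rw [hg, conjBy_inv_mul, inv_inv, conjBy_of_mem ha,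
      conjBy_of_comm fun x hx => (commutes_of_bot hAC hx (C.inv_mem hc)).symm]
  have hbot : ⁅B, conjBy B g⁻¹⁆ = ⊥ := by
    have h1 : ⁅conjBy B a⁻¹, conjBy B c⁻¹⁆ = ⊥ := by
      rw [← hea, ← hec]; exact conj_comm_bot hAC b⁻¹
    have h2 := conj_comm_bot h1 a
    rw [conjBy_conjBy_inv, ← conjBy_mul] at h2
    rwa [hg, mul_inv_rev, inv_inv, (hac.inv_right.symm).eq]
  intro h hh
  have hfix : ∀ y ∈ B, Commute h y := fun y hy => by
    rw [hh]
    exact (show Commute y (g⁻¹ * b * g) from commutes_of_bot hbot hy (mem_conjBy_inv hb)).symm.mul_left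
      (commute_of_mem hS hB (B.inv_mem hb) hy)
  have hbh : Commute h b := hfix b hb
  have hag : a * g = c := by rw [hg, mul_inv_cancel_left]
  have hbg : conjBy A (g⁻¹ * b * g)⁻¹ = conjBy C b⁻¹ := by
    rw [mul_assoc, conjBy_inv_mul, inv_inv, show conjBy A g = A by
      conv_lhs => rw [← hgA, conjBy_conjBy_inv], conjBy_inv_mul, hea, ← conjBy_inv_mul, hag, ← hec]
  have hAh : conjBy A h⁻¹ = C := by
    rw [hh, conjBy_inv_mul, hbg, inv_inv, conjBy_conjBy_inv]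
  refine ⟨hfix, hAh, ?_⟩
  have hah : h⁻¹ * a * h ∈ C := hAh ▸ mem_conjBy_inv ha
  refine inv_injective (eq_of_conj_eq hpCB (C.inv_mem hah) (C.inv_mem hc) ?_)
  have hBh : conjBy B h⁻¹ = B := conjBy_of_comm fun y hy => ((hfix y hy).inv_left).eq
  have hBh' : conjBy B h = B := conjBy_of_comm fun y hy => (hfix y hy).eq
  calc conjBy B (h⁻¹ * a * h)⁻¹ = conjBy (conjBy (conjBy B h) a⁻¹) h⁻¹ := by
        rw [conjBy_inv_mul, conjBy_inv_mul, inv_inv]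
    _ = conjBy (conjBy A b⁻¹) h⁻¹ := by rw [hBh', hea]
    _ = conjBy A (h * b)⁻¹ := by rw [hbh.eq, conjBy_inv_mul]
    _ = conjBy B c⁻¹ := by rw [conjBy_inv_mul, hAh, hec]

/-- A member commuting with `A` which is a partner of `B` makes the pair `A, B` special. -/
theorem special_of_commuting (hS : IsRootSubgroupSet S) (hA : A ∈ S) (hB : B ∈ S) (hC : C ∈ S)
    (hAC : ⁅A, C⁆ = ⊥) (hne : A ≠ C) (h : IsRankOnePair A B) (hpCB : IsRankOnePair C B) :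
    IsSpecialRankOnePair A B := by
  refine ⟨h, fun a ha ha1 b hb hb1 he => ?_⟩
  obtain ⟨c, hc, hc1, hec⟩ := hpCB.cond_right b hb hb1
  have hab : Partner A B a b := ⟨ha, ha1, hb, hb1, he⟩
  have hcb : Partner C B c b := ⟨hc, hc1, hb, hb1, hec.symm⟩
  obtain ⟨hfix, hAh, hach⟩ := pairing hS hB hAC hab hcb hpCB hA _ rfl
  have hac : Commute a c := commutes_of_bot hAC ha hc
  generalize hhdef : (a⁻¹ * c)⁻¹ * b * (a⁻¹ * c) * b⁻¹ = h' at hfix hAh hach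
  set g := a⁻¹ * c with hg
  have hga : Commute g a := by rw [hg]; exact (Commute.inv_left rfl).mul_left hac.symm
  have hbh : Commute h' b := hfix b hb
  have e1 : b * g = g * h' * b := by rw [← hhdef]; group
  -- both elements have the same commutator with `h'`
  have k1 : (b⁻¹ * a * b)⁻¹ * (h'⁻¹ * (b⁻¹ * a * b) * h') = g * h'⁻¹ := by
    have e2 : h'⁻¹ * (b⁻¹ * a * b) * h' = b⁻¹ * c * b := by
      rw [← hach]
      calc h'⁻¹ * (b⁻¹ * a * b) * h' = (h'⁻¹ * b⁻¹) * a * (b * h') := by group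
        _ = (b⁻¹ * h'⁻¹) * a * (h' * b) := by rw [(hbh.inv_inv).eq, hbh.eq]
        _ = _ := by group
    rw [e2]
    calc (b⁻¹ * a * b)⁻¹ * (b⁻¹ * c * b) = b⁻¹ * g * b := by rw [hg]; group
      _ = b⁻¹ * (b * g * (h' * b)⁻¹) * b := by rw [e1]; group
      _ = g * h'⁻¹ := by rw [hbh.eq]; group
  have k2 : (a⁻¹ * b⁻¹ * a)⁻¹ * (h'⁻¹ * (a⁻¹ * b⁻¹ * a) * h') = g * h'⁻¹ := by
    have e2 : h'⁻¹ * (a⁻¹ * b⁻¹ * a) * h' = c⁻¹ * b⁻¹ * c := by
      have : h'⁻¹ * b⁻¹ * h' = b⁻¹ := by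
        rw [mul_assoc, ← (hbh.inv_right).eq, inv_mul_cancel_left]
      calc h'⁻¹ * (a⁻¹ * b⁻¹ * a) * h'
          = (h'⁻¹ * a * h')⁻¹ * (h'⁻¹ * b⁻¹ * h') * (h'⁻¹ * a * h') := by group
        _ = _ := by rw [hach, this]
    rw [e2]
    have e3 : b * g⁻¹ * b⁻¹ = h'⁻¹ * g⁻¹ := by
      calc b * g⁻¹ * b⁻¹ = ((b * g) * b⁻¹)⁻¹ := by group
        _ = h'⁻¹ * g⁻¹ := by rw [e1]; group
    have e4 : a⁻¹ * h'⁻¹ * a = g * h'⁻¹ := by
      have e5 : g = a⁻¹ * (h'⁻¹ * a * h') := by rw [hach]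
      rw [e5]; group
    calc (a⁻¹ * b⁻¹ * a)⁻¹ * (c⁻¹ * b⁻¹ * c) = a⁻¹ * (b * g⁻¹ * b⁻¹) * (a * g) := by
          rw [hg, mul_inv_rev a⁻¹ c, inv_inv, (hac.symm.inv_left).eq]; group
      _ = a⁻¹ * h'⁻¹ * (g⁻¹ * (a * g)) := by rw [e3]; group
      _ = a⁻¹ * h'⁻¹ * a := by rw [← hga.eq, inv_mul_cancel_left]
      _ = g * h'⁻¹ := e4
  set y1 := b⁻¹ * a * b with hy1
  set y2 := a⁻¹ * b⁻¹ * a with hy2
  have m1 : y1 ∈ conjBy A b⁻¹ := mem_conjBy_inv ha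
  have m2 : y2 ∈ conjBy A b⁻¹ := he ▸ mem_conjBy_inv (B.inv_mem hb)
  have hy : h'⁻¹ * (y1 * y2⁻¹) * h' = y1 * y2⁻¹ := by
    have f1 : h'⁻¹ * y1 * h' = y1 * (g * h'⁻¹) := by rw [← k1]; group
    have f2 : h'⁻¹ * y2 * h' = y2 * (g * h'⁻¹) := by rw [← k2]; group
    calc h'⁻¹ * (y1 * y2⁻¹) * h' = (h'⁻¹ * y1 * h') * (h'⁻¹ * y2 * h')⁻¹ := by group
      _ = _ := by rw [f1, f2]; group
  set z := b * (y1 * y2⁻¹) * b⁻¹ with hz
  have hzA : z ∈ A := by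
    have := mem_conjBy.mp ((conjBy A b⁻¹).mul_mem m1 ((conjBy A b⁻¹).inv_mem m2))
    simpa [hz] using this
  have hzh : h'⁻¹ * z * h' = z := by
    calc h'⁻¹ * z * h' = (h'⁻¹ * b) * (y1 * y2⁻¹) * (b⁻¹ * h') := by rw [hz]; group
      _ = (b * h'⁻¹) * (y1 * y2⁻¹) * (h' * b⁻¹) := by rw [hbh.inv_left.eq, hbh.inv_right.eq]
      _ = b * (h'⁻¹ * (y1 * y2⁻¹) * h') * b⁻¹ := by group
      _ = z := by rw [hy]
  have hzC : z ∈ C := hAh ▸ hzh ▸ mem_conjBy_inv hzA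
  have hz1 : z = 1 := by
    rw [← Subgroup.mem_bot, ← (inf_eq_bot_or_eq hS hB h hC).resolve_right hne]
    exact Subgroup.mem_inf.mpr ⟨hzA, hzC⟩
  have : y1 * y2⁻¹ = 1 := by
    calc y1 * y2⁻¹ = b⁻¹ * z * b := by rw [hz]; group
      _ = 1 := by rw [hz1]; group
  exact mul_inv_eq_one.mp this

/-- `U` and `V` commute with the same other members. -/
def Same (S : Set (Subgroup G)) (U V : Subgroup G) : Prop :=
  ∀ W ∈ S, (W ≠ U ∧ ⁅W, U⁆ = ⊥) ↔ (W ≠ V ∧ ⁅W, V⁆ = ⊥)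

theorem Same.conj (hS : IsRootSubgroupSet S) {U V : Subgroup G} (h : Same S U V) (g : G) :
    Same S (conjBy U g) (conjBy V g) := by
  have key : ∀ {P Q : Subgroup G}, Same S P Q → ∀ W ∈ S,
      (W ≠ conjBy P g ∧ ⁅W, conjBy P g⁆ = ⊥) → (W ≠ conjBy Q g ∧ ⁅W, conjBy Q g⁆ = ⊥) := by
    intro P Q hPQ W hW ⟨h1, h2⟩
    have h3 := conj_comm_bot h2 g⁻¹
    rw [conjBy_inv_conjBy] at h3
    obtain ⟨h4, h5⟩ := (hPQ _ (hS.conj_mem W hW g⁻¹)).mp
      ⟨fun e => h1 (by rw [← e, conjBy_conjBy_inv]), h3⟩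
    have h6 := conj_comm_bot h5 g
    rw [conjBy_conjBy_inv] at h6
    exact ⟨fun e => h4 (by rw [e, conjBy_inv_conjBy]), h6⟩
  exact fun W hW => ⟨key h W hW, key (fun W hW => (h W hW).symm) W hW⟩

/-- The configuration left over: all unipotent subgroups of `⟨A, B⟩` commute with the same members,
and `C`, `D` are commuting partners of all of them. -/
structure Conf (S : Set (Subgroup G)) (A B C D : Subgroup G) : Prop where
  hS : IsRootSubgroupSet S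
  mem : ∀ U ∈ unipotentSubgroups A B, U ∈ S
  same : ∀ U ∈ unipotentSubgroups A B, ∀ V ∈ unipotentSubgroups A B, Same S U V
  pair : IsRankOnePair A B
  memC : C ∈ S
  memD : D ∈ S
  hne : C ≠ D
  comm : ⁅C, D⁆ = ⊥
  pC : ∀ U ∈ unipotentSubgroups A B, IsRankOnePair C U
  pD : ∀ U ∈ unipotentSubgroups A B, IsRankOnePair D U

section Conf

variable {D : Subgroup G} (K : Conf S A B C D)
include K

theorem Conf.special {U : Subgroup G} (hU : U ∈ unipotentSubgroups A B) :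
    IsSpecialRankOnePair C U :=
  special_of_commuting K.hS K.memC (K.mem U hU) K.memD K.comm K.hne (K.pC U hU) (K.pD U hU)

/-- `c` and `d` are linked at `U`. -/
def Link (U : Subgroup G) (c d : G) : Prop := ⁅conjBy U c⁻¹, conjBy U d⁻¹⁆ = ⊥

omit K in
theorem link_of_partner {U : Subgroup G} {c d u : G} (hCD : ⁅C, D⁆ = ⊥) (h1 : Partner C U c u)
    (h2 : Partner D U d u) : Link U c d := by
  rw [Link, ← h1.2.2.2.2, ← h2.2.2.2.2]
  exact conj_comm_bot hCD u⁻¹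

theorem Conf.link_unique {U : Subgroup G} (hU : U ∈ unipotentSubgroups A B) {c d d' : G}
    (hc : c ∈ C) (hc1 : c ≠ 1) (hd : d ∈ D) (hd' : d' ∈ D) (h1 : Link U c d) (h2 : Link U c d') :
    d = d' := by
  by_contra hne
  have hpD := K.pD U hU
  have hdd : conjBy U d⁻¹ ≠ conjBy U d'⁻¹ := fun e =>
    hne (inv_injective (eq_of_conj_eq hpD (D.inv_mem hd) (D.inv_mem hd') e))
  obtain ⟨-, hsup⟩ := pair_of_mem hpD
    (conjBy_mem_unipotent (right_mem_unipotent hpD) (Subgroup.mem_sup_left (D.inv_mem hd)))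
    (conjBy_mem_unipotent (right_mem_unipotent hpD) (Subgroup.mem_sup_left (D.inv_mem hd'))) hdd
  have hle : conjBy U c⁻¹ ≤ Subgroup.centralizer ((D ⊔ U : Subgroup G) : Set G) := by
    rw [← hsup, Subgroup.le_centralizer_iff]
    exact sup_le (le_centralizer_of_bot (bot_symm h1)) (le_centralizer_of_bot (bot_symm h2))
  have hpC := K.pC U hU
  have hmove : conjBy U c⁻¹ ≠ U := fun e =>
    hc1 (inv_eq_one.mp (eq_one_of_normalizes hpC (C.inv_mem hc) e))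
  refine not_commute_pair (pair_of_mem hpC
    (conjBy_mem_unipotent (right_mem_unipotent hpC) (Subgroup.mem_sup_left (C.inv_mem hc)))
    (right_mem_unipotent hpC) hmove).1 ?_
  rw [Subgroup.commutator_eq_bot_iff_le_centralizer]
  exact hle.trans (Subgroup.centralizer_le (SetLike.coe_subset_coe.mpr le_sup_right))

/-- The conjugate `U ^ g`, `g = c⁻¹ d`, commutes with all the unipotent subgroups. -/
theorem Conf.link_comm {U V : Subgroup G} (hU : U ∈ unipotentSubgroups A B)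
    (hV : V ∈ unipotentSubgroups A B) {c d : G} (hc : c ∈ C) (hc1 : c ≠ 1) (hd : d ∈ D)
    (h : Link U c d) :
    ⁅V, conjBy U (c⁻¹ * d)⁻¹⁆ = ⊥ ∧ Link V c d := by
  have hS := K.hS
  have hcd : Commute c d := commutes_of_bot K.comm hc hd
  set g := c⁻¹ * d with hg
  have hge : ∀ W : Subgroup G, conjBy W g⁻¹ = conjBy (conjBy W d⁻¹) c := fun W => by
    rw [hg, mul_inv_rev, inv_inv, (hcd.inv_right.symm).eq, conjBy_mul]
  have hUg : ⁅U, conjBy U g⁻¹⁆ = ⊥ := by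
    have h1 := conj_comm_bot h c
    rwa [conjBy_conjBy_inv, ← hge] at h1
  have hUne : conjBy U g⁻¹ ≠ U := by
    intro e
    rw [e] at hUg
    have hUc : conjBy U c⁻¹ = conjBy U d⁻¹ := by
      have h1 := congrArg (fun H => conjBy H c⁻¹) e
      rw [hge] at h1
      simpa [conjBy_inv_conjBy] using h1.symm
    have hpC := K.pC U hU
    have hmove : conjBy U c⁻¹ ≠ U := fun e' =>
      hc1 (inv_eq_one.mp (eq_one_of_normalizes hpC (C.inv_mem hc) e'))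
    -- `d` would centralise the pair
    have hCd : conjBy C d = C := conjBy_of_comm fun x hx => (commutes_of_bot K.comm hx hd).symm
    have : conjBy U d⁻¹ ∈ unipotentSubgroups C U :=
      hUc ▸ conjBy_mem_unipotent (right_mem_unipotent hpC) (Subgroup.mem_sup_left (C.inv_mem hc))
    obtain ⟨u, hu, hu1⟩ := exists_ne_one (right_ne_bot hpC)
    have hcdU : conjBy U (d * c⁻¹) = U := by rw [conjBy_mul, hUc, conjBy_conjBy_inv]
    obtain ⟨d', hd'm, hd'1, hd'e⟩ := (K.pD U hU).cond_right u hu hu1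
    obtain ⟨c', hc'm, hc'1, hc'e⟩ := hpC.cond_right u hu hu1
    have hl : Link U c' d' := link_of_partner K.comm
      ⟨hc'm, hc'1, hu, hu1, hc'e.symm⟩ ⟨hd'm, hd'1, hu, hu1, hd'e.symm⟩
    have hl1 : Link U c d := h
    rw [Link, ← hUc] at hl1
    have hl2 : Link U c 1 → False := fun hl3 => by
      rw [Link, inv_one, conjBy_one] at hl3
      exact not_commute_pair (pair_of_mem hpC
        (conjBy_mem_unipotent (right_mem_unipotent hpC) (Subgroup.mem_sup_left (C.inv_mem hc)))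
        (right_mem_unipotent hpC) hmove).1 hl3
    obtain ⟨d₀, hd₀, hd₀1, hd₀e⟩ := (K.pD U hU).cond_right u hu hu1
    refine hl2 ?_
    by_cases hd1 : d = 1
    · exact hd1 ▸ h
    · exfalso
      have hpD := K.pD U hU
      have hm2 : conjBy U d⁻¹ ≠ U := fun e' =>
        hd1 (inv_eq_one.mp (eq_one_of_normalizes hpD (D.inv_mem hd) e'))
      obtain ⟨w, hw, hw1, hwe⟩ := hpC.cond_left c hc hc1
      obtain ⟨d₁, hd₁, hd₁1, hd₁e⟩ := hpD.cond_right w hw hw1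
      have hl4 : Link U c d₁ :=
        link_of_partner K.comm ⟨hc, hc1, hw, hw1, hwe⟩ ⟨hd₁, hd₁1, hw, hw1, hd₁e.symm⟩
      have hdd : d₁ = d := K.link_unique hU hc hc1 hd₁ hd hl4 h
      rw [← hdd, hd₁e, ← hwe] at hUc
      exact K.hne (conjBy_inj hUc.symm).symm
  have hmemg : ∀ W ∈ unipotentSubgroups A B, conjBy W g⁻¹ ∈ S := fun W hW =>
    hS.conj_mem W (K.mem W hW) _
  obtain ⟨hVne, hVU⟩ := (K.same U hU V hV _ (hmemg U hU)).mp ⟨hUne, bot_symm hUg⟩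
  refine ⟨bot_symm hVU, ?_⟩
  obtain ⟨hne', hVV⟩ := ((K.same U hU V hV).conj hS g⁻¹ V (K.mem V hV)).mp
    ⟨hVne.symm, bot_symm hVU⟩
  have h2 := conj_comm_bot hVV c⁻¹
  rwa [hge, conjBy_inv_conjBy] at h2

theorem Conf.exists_link {U : Subgroup G} (hU : U ∈ unipotentSubgroups A B) {c u : G}
    (h : Partner C U c u) : ∃ d, Partner D U d u ∧ Link U c d := by
  obtain ⟨d, hd, hd1, he⟩ := (K.pD U hU).cond_right u h.2.2.1 h.2.2.2.1
  exact ⟨d, ⟨hd, hd1, h.2.2.1, h.2.2.2.1, he.symm⟩,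
    link_of_partner K.comm h ⟨hd, hd1, h.2.2.1, h.2.2.2.1, he.symm⟩⟩

/-- Linking does not depend on the unipotent subgroup. -/
theorem Conf.partner_of_link {U V : Subgroup G} (hU : U ∈ unipotentSubgroups A B)
    (hV : V ∈ unipotentSubgroups A B) {c d v : G} (hd : d ∈ D) (h : Link U c d)
    (hv : Partner C V c v) : Partner D V d v := by
  obtain ⟨d', hd', hl⟩ := K.exists_link hV hv
  obtain rfl := K.link_unique hV hv.1 hv.2.1 hd hd'.1 (K.link_comm hU hV hv.1 hv.2.1 hd h).2 hl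
  exact hd'

/-- `x` and `y` from `⟨A, B⟩` commute after conjugating one by `g`. -/
theorem Conf.comm_g {U : Subgroup G} (hU : U ∈ unipotentSubgroups A B) {c d : G} (hc : c ∈ C)
    (hc1 : c ≠ 1) (hd : d ∈ D) (h : Link U c d) :
    ∀ x ∈ A ⊔ B, ∀ y ∈ A ⊔ B, Commute x ((c⁻¹ * d)⁻¹ * y * (c⁻¹ * d)) := by
  set g := c⁻¹ * d with hg
  have hAu := self_mem_unipotent A B
  have hBu := right_mem_unipotent K.pair
  have hb : ∀ V ∈ unipotentSubgroups A B, ∀ W ∈ unipotentSubgroups A B, ⁅V, conjBy W g⁻¹⁆ = ⊥ :=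
    fun V hV W hW => (K.link_comm hW hV hc hc1 hd (K.link_comm hU hW hc hc1 hd h).2).1
  have hle : A ⊔ B ≤ Subgroup.centralizer ((conjBy (A ⊔ B) g⁻¹ : Subgroup G) : Set G) := by
    rw [Subgroup.le_centralizer_iff, conjBy_sup, sup_le_iff]
    constructor <;> rw [Subgroup.le_centralizer_iff] <;>
      exact sup_le (le_centralizer_of_bot (hb _ hAu _ (by assumption)))
        (le_centralizer_of_bot (hb _ hBu _ (by assumption)))
  intro x hx y hy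
  exact (Subgroup.mem_centralizer_iff.mp (hle hx) _ (mem_conjBy_inv hy)).symm

/-- The element `h = u ^ g * u⁻¹` takes `C` to `D` respecting partners at `U`. -/
theorem Conf.h_spec {U : Subgroup G} (hU : U ∈ unipotentSubgroups A B) {c d u : G}
    (hu : Partner C U c u) (hl : Link U c d) (hd : d ∈ D) :
    ∀ h, h = (c⁻¹ * d)⁻¹ * u * (c⁻¹ * d) * u⁻¹ →
      (∀ y ∈ U, Commute h y) ∧ conjBy C h⁻¹ = D ∧ h⁻¹ * c * h = d ∧
      ∀ {x w : G}, Partner C U x w → Partner D U (h⁻¹ * x * h) w := by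
  intro h hh
  obtain ⟨h1, h2, h3⟩ := pairing K.hS (K.mem U hU) K.comm hu (K.partner_of_link hU hU hd hl hu)
    (K.pD U hU) K.memC h hh
  refine ⟨h1, h2, h3, fun {x w} hxw => ?_⟩
  obtain ⟨hx, hx1, hw, hw1, he⟩ := hxw
  refine ⟨h2 ▸ mem_conjBy_inv hx, by simpa [mul_assoc, inv_mul_eq_one] using hx1, hw, hw1, ?_⟩
  have hUh : conjBy U h = U := conjBy_of_comm fun y hy => (h1 y hy).eq
  have hwh : Commute h w := h1 w hw
  conv_rhs => rw [conjBy_inv_mul, conjBy_inv_mul, inv_inv, hUh, ← he, ← conjBy_inv_mul, ← hwh.eq,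
    conjBy_inv_mul, h2]

/-- Conjugation by `⟨A, B⟩` respects the partners at the fixed element `c`. -/
theorem Conf.invariant {x : G} (hx : x ∈ A ⊔ B) : ∀ {U : Subgroup G} {c u : G},
    U ∈ unipotentSubgroups A B → Partner C U c u →
      Partner C (conjBy U x⁻¹) c (x⁻¹ * u * x) ∧ Partner C (conjBy U x) c (x * u * x⁻¹) := by
  -- the same for one unipotent element
  have hgen : ∀ W ∈ unipotentSubgroups A B, W ≤ A ⊔ B → ∀ z ∈ W, ∀ {U : Subgroup G} {c u : G},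
      U ∈ unipotentSubgroups A B → Partner C U c u →
        Partner C (conjBy U z⁻¹) c (z⁻¹ * u * z) := by
    intro W hW hWle z hz U c u hU hu
    by_cases hz1 : z = 1
    · subst hz1; simpa [conjBy_one] using hu
    obtain ⟨c₀, hc₀, hc₀1, he₀⟩ := (K.pC W hW).cond_right z hz hz1
    have hz0 : Partner C W c₀ z := ⟨hc₀, hc₀1, hz, hz1, he₀.symm⟩
    obtain ⟨d₀, hd₀, hl₀⟩ := K.exists_link hW hz0
    obtain ⟨hfix, hCh, -, htrans⟩ := K.h_spec hW hz0 hl₀ hd₀.1 _ rfl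
    have hcomm := K.comm_g hW hc₀ hc₀1 hd₀.1 hl₀
    have hzz : (c₀⁻¹ * d₀)⁻¹ * z * (c₀⁻¹ * d₀) =
        ((c₀⁻¹ * d₀)⁻¹ * z * (c₀⁻¹ * d₀) * z⁻¹) * z := (inv_mul_cancel_right _ _).symm
    have hcentral : ∀ y ∈ A ⊔ B, Commute y ((c₀⁻¹ * d₀)⁻¹ * z * (c₀⁻¹ * d₀)) := fun y hy =>
      hcomm y hy z (hWle hz)
    rw [hzz] at hcentral
    generalize (c₀⁻¹ * d₀)⁻¹ * z * (c₀⁻¹ * d₀) * z⁻¹ = h₀ at hfix hCh htrans hcentral
    set d := h₀⁻¹ * c * h₀ with hd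
    have hdD : d ∈ D := hCh ▸ mem_conjBy_inv hu.1
    set U' := conjBy U z⁻¹ with hU'
    have hU'm : U' ∈ unipotentSubgroups A B :=
      conjBy_mem_unipotent hU (inv_mem (hWle hz))
    -- the partner at `U'`
    obtain ⟨v, hv, hv1, hve⟩ := (K.pC U' hU'm).cond_left c hu.1 hu.2.1
    suffices hvu : v = z⁻¹ * u * z by rw [← hvu]; exact ⟨hu.1, hu.2.1, hv, hv1, hve⟩
    -- read off at `D ^ z`
    obtain ⟨w, hw⟩ : ∃ w, Partner C W c w := by
      obtain ⟨w, hw, hw1, hwe⟩ := (K.pC W hW).cond_left c hu.1 hu.2.1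
      exact ⟨w, hu.1, hu.2.1, hw, hw1, hwe⟩
    have hlink : Link W c d := link_of_partner K.comm hw (htrans hw)
    have huD : Partner D U d u := K.partner_of_link hW hU hdD hlink hu
    have hUle : U' ≤ A ⊔ B := by
      obtain ⟨y, hy, e⟩ := hU'm
      rw [e]
      rintro _ ⟨a', ha', rfl⟩
      exact mul_mem (mul_mem hy (Subgroup.mem_sup_left ha')) (inv_mem hy)
    have e1 : conjBy U' (h₀ * z) = U' :=
      conjBy_of_comm fun y hy => (hcentral y (hUle hy)).symm.eq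
    have hDz : conjBy C (h₀ * z)⁻¹ = conjBy D z⁻¹ := by rw [conjBy_inv_mul, hCh]
    have p1 : conjBy (conjBy D z⁻¹) (z⁻¹ * u * z)⁻¹ = conjBy U' (z⁻¹ * d * z)⁻¹ := by
      rw [hU', ← conjBy_mul, ← conjBy_mul,
        show (z⁻¹ * u * z)⁻¹ * z⁻¹ = z⁻¹ * u⁻¹ by group,
        show (z⁻¹ * d * z)⁻¹ * z⁻¹ = z⁻¹ * d⁻¹ by group, conjBy_mul, conjBy_mul, huD.2.2.2.2]
    have p2 : conjBy (conjBy D z⁻¹) v⁻¹ = conjBy U' (z⁻¹ * d * z)⁻¹ := by
      have e2 : conjBy (conjBy C v⁻¹) (h₀ * z)⁻¹ = conjBy (conjBy U' c⁻¹) (h₀ * z)⁻¹ := by rw [hve]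
      have hv' : Commute v (h₀ * z) := hcentral v (hUle hv)
      rw [← conjBy_inv_mul, ← conjBy_inv_mul, hv'.eq, conjBy_inv_mul, hDz] at e2
      rw [e2]
      conv_rhs => rw [show (z⁻¹ * d * z)⁻¹ = (h₀ * z)⁻¹ * c⁻¹ * (h₀ * z) by rw [hd]; group,
        conjBy_mul, conjBy_mul, e1]
      exact conjBy_inv_mul _ _ _
    have hpz : IsRankOnePair U' (conjBy D z⁻¹) := RankOnePair_symm (pair_conj (K.pD U hU) z⁻¹)
    have huz : z⁻¹ * u * z ∈ U' := mem_conjBy_inv hu.2.2.1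
    exact inv_injective (eq_of_conj_eq hpz (U'.inv_mem hv) (U'.inv_mem huz) (p2.trans p1.symm))
  rw [← Subgroup.closure_eq A, ← Subgroup.closure_eq B, ← Subgroup.closure_union] at hx
  induction hx using Subgroup.closure_induction with
  | mem x hx =>
    intro U c u hU hu
    rcases hx with hx | hx
    · refine ⟨hgen A (self_mem_unipotent A B) le_sup_left x hx hU hu, ?_⟩
      simpa using hgen A (self_mem_unipotent A B) le_sup_left x⁻¹ (A.inv_mem hx) hU hu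
    · refine ⟨hgen B (right_mem_unipotent K.pair) le_sup_right x hx hU hu, ?_⟩
      simpa using hgen B (right_mem_unipotent K.pair) le_sup_right x⁻¹ (B.inv_mem hx) hU hu
  | one => intro U c u hU hu; simpa [conjBy_one] using hu
  | mul x y hx hy ihx ihy =>
    intro U c u hU hu
    rw [Subgroup.closure_union, Subgroup.closure_eq, Subgroup.closure_eq] at hx hy
    have h1 := (ihy (conjBy_mem_unipotent hU (inv_mem hx)) (ihx hU hu).1).1
    have h2 := (ihx (conjBy_mem_unipotent hU hy) (ihy hU hu).2).2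
    refine ⟨?_, ?_⟩
    · rw [conjBy_inv_mul, show (x * y)⁻¹ * u * (x * y) = y⁻¹ * (x⁻¹ * u * x) * y by group]
      exact h1
    · rw [conjBy_mul, show x * y * u * (x * y)⁻¹ = x * (y * u * y⁻¹) * x⁻¹ by group]
      exact h2
  | inv x _ ih =>
    intro U c u hU hu
    rw [inv_inv]
    exact (ih hU hu).symm

/-- Two partners of the same element move `C` to members with the same commuting members. -/
theorem Conf.same_C {U V : Subgroup G} (hU : U ∈ unipotentSubgroups A B)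
    (hV : V ∈ unipotentSubgroups A B) {c u v : G} (hu : Partner C U c u) (hv : Partner C V c v) :
    Same S C (conjBy C (u * v⁻¹)⁻¹) := by
  have h1 : Same S (conjBy C u⁻¹) (conjBy C v⁻¹) := by
    rw [hu.2.2.2.2, hv.2.2.2.2]
    exact (K.same U hU V hV).conj K.hS c⁻¹
  have h2 := h1.conj K.hS v
  rw [conjBy_conjBy_inv, ← conjBy_mul] at h2
  rw [mul_inv_rev, inv_inv]
  exact fun W hW => (h2 W hW).symm

/-- The diagonal subgroup centralises `A`. -/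
theorem Conf.diag_centralizes : ∀ h ∈ rankOneDiagonal A B, ∀ a ∈ A, h * a * h⁻¹ = a := by
  set T : Set G := {r | ∃ U ∈ unipotentSubgroups A B, ∃ V ∈ unipotentSubgroups A B, ∃ c u v,
    Partner C U c u ∧ Partner C V c v ∧ r = u * v⁻¹}
  set R := Subgroup.closure T with hR
  have hTconj : ∀ x ∈ A ⊔ B, ∀ r ∈ R, x * r * x⁻¹ ∈ R := by
    intro x hx r hr
    induction hr using Subgroup.closure_induction with
    | mem r hr =>
      obtain ⟨U, hU, V, hV, c, u, v, hu, hv, rfl⟩ := hr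
      refine Subgroup.subset_closure ⟨_, conjBy_mem_unipotent hU hx, _, conjBy_mem_unipotent hV hx,
        c, _, _, (K.invariant hx hU hu).2, (K.invariant hx hV hv).2, by group⟩
    | one => simp
    | mul p q _ _ hp hq =>
      rw [show x * (p * q) * x⁻¹ = (x * p * x⁻¹) * (x * q * x⁻¹) by group]; exact R.mul_mem hp hq
    | inv p _ hp => rw [show x * p⁻¹ * x⁻¹ = (x * p * x⁻¹)⁻¹ by group]; exact R.inv_mem hp
  have hstab : ∀ r ∈ R, Same S C (conjBy C r⁻¹) := by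
    intro r hr
    induction hr using Subgroup.closure_induction with
    | mem r hr =>
      obtain ⟨U, hU, V, hV, c, u, v, hu, hv, rfl⟩ := hr
      exact K.same_C hU hV hu hv
    | one => rw [inv_one, conjBy_one]; exact fun W _ => Iff.rfl
    | mul p q _ _ hp hq =>
      rw [conjBy_inv_mul]
      exact fun W hW => (hq W hW).trans (hp.conj K.hS q⁻¹ W hW)
    | inv p _ hp =>
      rw [inv_inv]
      have := hp.conj K.hS p
      rw [conjBy_conjBy_inv] at this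
      exact fun W hW => (this W hW).symm
  have hAR : ∀ a ∈ A, a ∈ R → a = 1 := by
    intro a ha haR
    by_contra ha1
    have hp := K.pC A (self_mem_unipotent A B)
    obtain ⟨c, hc, hc1, he⟩ := hp.cond_right a ha ha1
    obtain ⟨hne, hbot⟩ := (hstab a haR D K.memD).mp ⟨K.hne.symm, bot_symm K.comm⟩
    rw [← he] at hbot
    have h1 := conj_comm_bot hbot c
    rw [conjBy_conjBy_inv, conjBy_of_comm fun x hx => (commutes_of_bot (bot_symm K.comm) hx hc).symm] at h1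
    exact not_commute_pair (K.pD A (self_mem_unipotent A B)) h1
  -- every element is congruent to an element of `A`
  have hRA : ∀ x ∈ A ⊔ B, ∃ a ∈ A, x * a⁻¹ ∈ R := by
    have hB : ∀ v ∈ B, ∃ a ∈ A, v * a⁻¹ ∈ R := by
      intro v hv
      by_cases hv1 : v = 1
      · exact ⟨1, A.one_mem, by simp [hv1]⟩
      obtain ⟨c, hc, hc1, he⟩ := (K.pC B (right_mem_unipotent K.pair)).cond_right v hv hv1
      obtain ⟨a, ha, ha1, hae⟩ := (K.pC A (self_mem_unipotent A B)).cond_left c hc hc1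
      exact ⟨a, ha, Subgroup.subset_closure ⟨B, right_mem_unipotent K.pair, A, self_mem_unipotent A B,
        c, v, a, ⟨hc, hc1, hv, hv1, he.symm⟩, ⟨hc, hc1, ha, ha1, hae⟩, rfl⟩⟩
    intro x hx
    rw [← Subgroup.closure_eq A, ← Subgroup.closure_eq B, ← Subgroup.closure_union] at hx
    induction hx using Subgroup.closure_induction with
    | mem x hx =>
      exact hx.elim (fun h => ⟨x, h, by simp⟩) (fun h => hB x h)
    | one => exact ⟨1, A.one_mem, by simp⟩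
    | mul x y hx _ ihx ihy =>
      obtain ⟨a, ha, hax⟩ := ihx
      obtain ⟨a', ha', hay⟩ := ihy
      rw [Subgroup.closure_union, Subgroup.closure_eq, Subgroup.closure_eq] at hx
      refine ⟨a * a', A.mul_mem ha ha', ?_⟩
      have h1 := hTconj x hx _ hay
      rw [show x * y * (a * a')⁻¹ = (x * (y * a'⁻¹) * x⁻¹) * (x * a⁻¹) by group]
      exact R.mul_mem h1 hax
    | inv x hx ih =>
      obtain ⟨a, ha, hax⟩ := ih
      rw [Subgroup.closure_union, Subgroup.closure_eq, Subgroup.closure_eq] at hx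
      refine ⟨a⁻¹, A.inv_mem ha, ?_⟩
      have h1 := hTconj x⁻¹ (inv_mem hx) _ (R.inv_mem hax)
      rw [show x⁻¹ * a⁻¹⁻¹ = x⁻¹ * (x * a⁻¹)⁻¹ * x⁻¹⁻¹ by group]
      exact h1
  intro h hh a ha
  obtain ⟨hh0, hhA⟩ : h ∈ A ⊔ B ∧ h ∈ Subgroup.normalizer (A : Set G) := ⟨hh.1.1, hh.1.2⟩
  have hm : h * a * h⁻¹ * a⁻¹ ∈ A := A.mul_mem
    ((Subgroup.mem_normalizer_iff.mp hhA a).mp ha) (A.inv_mem ha)
  obtain ⟨a₁, ha₁, hr⟩ := hRA h hh0
  have hcomm : Commute a₁ a := commute_of_mem K.hS (K.mem A (self_mem_unipotent A B)) ha₁ ha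
  have h2 : h * a * h⁻¹ * a⁻¹ ∈ R := by
    have e : h * a * h⁻¹ * a⁻¹ = (h * a₁⁻¹) * (a * (h * a₁⁻¹)⁻¹ * a⁻¹) := by
      calc h * a * h⁻¹ * a⁻¹ = h * (a₁⁻¹ * (a₁ * a)) * h⁻¹ * a⁻¹ := by group
        _ = h * (a₁⁻¹ * (a * a₁)) * h⁻¹ * a⁻¹ := by rw [hcomm.eq]
        _ = _ := by group
    rw [e]
    exact R.mul_mem hr (hTconj a (Subgroup.mem_sup_left ha) _ (R.inv_mem hr))
  exact mul_inv_eq_one.mp (hAR _ hm h2)

/-- `q ↦ r` as seen on `C`. -/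
def Act (A B C : Subgroup G) (g q r : G) : Prop :=
  q ∈ A ⊔ B ∧ r ∈ A ⊔ B ∧ ∀ x ∈ C, (g⁻¹ * q * g)⁻¹ * x * (g⁻¹ * q * g) = r⁻¹ * x * r

omit K in
theorem Act.mul {g q₁ r₁ q₂ r₂ : G}
    (hg : ∀ x ∈ A ⊔ B, ∀ y ∈ A ⊔ B, Commute x (g⁻¹ * y * g))
    (h1 : Act A B C g q₁ r₁) (h2 : Act A B C g q₂ r₂) : Act A B C g (q₁ * q₂) (r₂ * r₁) := by
  refine ⟨mul_mem h1.1 h2.1, mul_mem h2.2.1 h1.2.1, fun x hx => ?_⟩
  set P₁ := g⁻¹ * q₁ * g
  set P₂ := g⁻¹ * q₂ * g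
  have hc : Commute r₁ P₂ := hg r₁ h1.2.1 q₂ h2.1
  rw [show g⁻¹ * (q₁ * q₂) * g = P₁ * P₂ by simp only [P₁, P₂]; group]
  calc (P₁ * P₂)⁻¹ * x * (P₁ * P₂) = P₂⁻¹ * (P₁⁻¹ * x * P₁) * P₂ := by group
    _ = (r₁ * P₂)⁻¹ * x * (r₁ * P₂) := by rw [h1.2.2 x hx]; group
    _ = (P₂ * r₁)⁻¹ * x * (P₂ * r₁) := by rw [hc.eq]
    _ = r₁⁻¹ * (P₂⁻¹ * x * P₂) * r₁ := by group
    _ = _ := by rw [h2.2.2 x hx]; group

omit K in
/-- Two images of one element agree on `C`. -/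
theorem Act.diff {g q r r' : G} (h : Act A B C g q r) (h' : Act A B C g q r') {x : G}
    (hx : x ∈ C) : Commute (r' * r⁻¹) x := by
  have e := (h.2.2 x hx).symm.trans (h'.2.2 x hx)
  show r' * r⁻¹ * x = x * (r' * r⁻¹)
  calc r' * r⁻¹ * x = r' * (r⁻¹ * x * r) * r⁻¹ := by group
    _ = r' * (r'⁻¹ * x * r') * r⁻¹ := by rw [e]
    _ = x * (r' * r⁻¹) := by group

/-- The basic pairs. -/
theorem Conf.act_gen {U V : Subgroup G} (hU : U ∈ unipotentSubgroups A B)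
    (hV : V ∈ unipotentSubgroups A B) (hUle : U ≤ A ⊔ B) (hVle : V ≤ A ⊔ B) {c d u v : G}
    (hd : d ∈ D) (hl : Link U c d) (hu : Partner C U c u) (hv : Partner C V c v) :
    Act A B C (c⁻¹ * d) (u * v⁻¹) (v⁻¹ * u) := by
  refine ⟨mul_mem (hUle hu.2.2.1) (inv_mem (hVle hv.2.2.1)),
    mul_mem (inv_mem (hVle hv.2.2.1)) (hUle hu.2.2.1), fun x hx => ?_⟩
  by_cases hx1 : x = 1
  · rw [hx1]; group
  obtain ⟨-, -, -, htU⟩ := K.h_spec hU hu hl hd _ rfl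
  have hlV := (K.link_comm hU hV hu.1 hu.2.1 hd hl).2
  obtain ⟨-, hCV, -, htV⟩ := K.h_spec hV hv hlV hd _ rfl
  have hcomm := K.comm_g hU hu.1 hu.2.1 hd hl u (hUle hu.2.2.1)
  have hcomm' := K.comm_g hU hu.1 hu.2.1 hd hl v (hVle hv.2.2.1)
  set g := c⁻¹ * d with hg
  generalize hhU : g⁻¹ * u * g * u⁻¹ = a₁ at htU
  generalize hhV : g⁻¹ * v * g * v⁻¹ = a₂ at htV hCV
  obtain ⟨w, hw, hw1, hwe⟩ := (K.pC U hU).cond_left x hx hx1
  obtain ⟨w', hw', hw'1, hw'e⟩ := (K.pC V hV).cond_left x hx hx1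
  have hp1 := htU ⟨hx, hx1, hw, hw1, hwe⟩
  have hp2 := htV ⟨hx, hx1, hw', hw'1, hw'e⟩
  have hl1 : Link U x (a₁⁻¹ * x * a₁) := link_of_partner K.comm ⟨hx, hx1, hw, hw1, hwe⟩ hp1
  have hl2 : Link U x (a₂⁻¹ * x * a₂) :=
    (K.link_comm hV hU hx hx1 hp2.1
      (link_of_partner K.comm ⟨hx, hx1, hw', hw'1, hw'e⟩ hp2)).2
  have hxx := K.link_unique hU hx hx1 hp1.1 hp2.1 hl1 hl2
  -- `a₁ a₂⁻¹` centralises `x`
  set P := g⁻¹ * (u * v⁻¹) * g with hP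
  have hk : a₁ * a₂⁻¹ = P * (v⁻¹ * u)⁻¹ := by
    have c1 : Commute (u⁻¹ * v) (g⁻¹ * v⁻¹ * g) := by
      exact (K.comm_g hU hu.1 hu.2.1 hd hl (u⁻¹ * v)
        (mul_mem (inv_mem (hUle hu.2.2.1)) (hVle hv.2.2.1)) v⁻¹ (inv_mem (hVle hv.2.2.1)))
    calc a₁ * a₂⁻¹ = (g⁻¹ * u * g) * ((u⁻¹ * v) * (g⁻¹ * v⁻¹ * g)) := by
          rw [← hhU, ← hhV]; group
      _ = (g⁻¹ * u * g) * ((g⁻¹ * v⁻¹ * g) * (u⁻¹ * v)) := by rw [c1.eq]
      _ = _ := by rw [hP]; group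
  have hfix : (a₁ * a₂⁻¹)⁻¹ * x * (a₁ * a₂⁻¹) = x := by
    calc (a₁ * a₂⁻¹)⁻¹ * x * (a₁ * a₂⁻¹) = a₂ * (a₁⁻¹ * x * a₁) * a₂⁻¹ := by group
      _ = x := by rw [hxx]; group
  rw [hk] at hfix
  calc P⁻¹ * x * P = (v⁻¹ * u)⁻¹ * ((P * (v⁻¹ * u)⁻¹)⁻¹ * x * (P * (v⁻¹ * u)⁻¹)) * (v⁻¹ * u) := by
        group
    _ = _ := by rw [hfix]

/-- An element of `⟨A, B⟩` all of whose conjugates centralise `C` is central. -/
theorem Conf.central {t : G} (ht : t ∈ A ⊔ B)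
    (hC : ∀ y ∈ A ⊔ B, ∀ x ∈ C, Commute (y * t * y⁻¹) x) :
    ∀ y ∈ A ⊔ B, t * y = y * t := by
  set N : Set G := {t | t ∈ A ⊔ B ∧ ∀ y ∈ A ⊔ B, ∀ x ∈ C, Commute (y * t * y⁻¹) x} with hN
  refine le_centralizer_of_fix K.pair (N := N) (fun n hn => ?_) (fun n hn z hz => ?_) t ⟨ht, hC⟩
  · have key : ∀ U ∈ unipotentSubgroups A B, U ≤ A ⊔ B → conjBy U n = U := by
      intro U hU hle
      obtain ⟨c, hc, hc1⟩ := exists_ne_one (left_ne_bot (K.pC U hU))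
      obtain ⟨u, hu, hu1, he⟩ := (K.pC U hU).cond_left c hc hc1
      have hnC : ∀ x ∈ C, Commute n x := fun x hx => by simpa using hn.2 1 (one_mem _) x hx
      have hnu : conjBy (conjBy C u⁻¹) n = conjBy C u⁻¹ := by
        refine conjBy_of_comm fun y hy => ?_
        rw [mem_conjBy, inv_inv] at hy
        have h1 := hn.2 u (hle hu) _ hy
        have h2 := (Commute.conj_iff (h := u⁻¹)).mpr h1
        simpa [mul_assoc] using h2.eq
      rw [he, ← conjBy_mul, (hnC c hc).inv_right.eq, conjBy_mul] at hnu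
      exact conjBy_inj hnu
    exact ⟨key A (self_mem_unipotent A B) le_sup_left,
      key B (right_mem_unipotent K.pair) le_sup_right⟩
  · refine ⟨mul_mem (mul_mem hz (inv_mem hn.1)) (inv_mem hz), fun y hy x hx => ?_⟩
    have := (hn.2 (y * z) (mul_mem hy hz) x hx).inv_left
    rw [show y * (z * n⁻¹ * z⁻¹) * y⁻¹ = (y * z * n * (y * z)⁻¹)⁻¹ by group]
    exact this

omit K in
/-- Doubling `g`. -/
theorem Act.double {g q r r' : G} (hgx : ∀ x ∈ C, Commute g x) (h1 : Act A B C g q r)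
    (h2 : Act A B C g r r') : Act A B C (g * g) q r' := by
  refine ⟨h1.1, h2.2.1, fun x hx => ?_⟩
  have e : g⁻¹ * x * g = x := by rw [mul_assoc, ← (hgx x hx).eq, inv_mul_cancel_left]
  rw [← h2.2.2 x hx, show (g * g)⁻¹ * q * (g * g) = g⁻¹ * (g⁻¹ * q * g) * g by group]
  calc _ = g⁻¹ * ((g⁻¹ * q * g)⁻¹ * (g * x * g⁻¹) * (g⁻¹ * q * g)) * g := by
        simp only [mul_inv_rev, inv_inv, mul_assoc]
    _ = g⁻¹ * ((g⁻¹ * q * g)⁻¹ * x * (g⁻¹ * q * g)) * g := by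
        rw [(hgx x hx).eq, mul_inv_cancel_right]
    _ = g⁻¹ * (r⁻¹ * x * r) * g := by rw [h1.2.2 x hx]
    _ = (g⁻¹ * r * g)⁻¹ * (g⁻¹ * x * g) * (g⁻¹ * r * g) := by group
    _ = _ := by rw [e]

omit K in
theorem unip_le {U : Subgroup G} (hU : U ∈ unipotentSubgroups A B) : U ≤ A ⊔ B := by
  obtain ⟨y, hy, rfl⟩ := hU
  rintro _ ⟨a', ha', rfl⟩
  exact mul_mem (mul_mem hy (Subgroup.mem_sup_left ha')) (inv_mem hy)

/-- `g = c⁻¹ d` centralises `C`. -/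
theorem Conf.g_comm {c d : G} (hc : c ∈ C) (hd : d ∈ D) : ∀ x ∈ C, Commute (c⁻¹ * d) x :=
  fun x hx => (commute_of_mem K.hS K.memC (C.inv_mem hc) hx).mul_left
    (show Commute d x from (commutes_of_bot K.comm hx hd).symm)

/-- Squaring the partner element squares `g`. -/
theorem Conf.g_sq {U : Subgroup G} (hU : U ∈ unipotentSubgroups A B) {c d u w d' : G}
    (hu : Partner C U c u) (hd : d ∈ D) (hl : Link U c d) (hw : Partner C U (c ^ 2) w)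
    (hd' : d' ∈ D) (hl' : Link U (c ^ 2) d') : (c ^ 2)⁻¹ * d' = (c⁻¹ * d) * (c⁻¹ * d) := by
  obtain ⟨-, -, hch, htr⟩ := K.h_spec hU hu hl hd _ rfl
  generalize (c⁻¹ * d)⁻¹ * u * (c⁻¹ * d) * u⁻¹ = h₀ at hch htr
  have e1 : h₀⁻¹ * c ^ 2 * h₀ = d' := K.link_unique hU hw.1 hw.2.1 (htr hw).1 hd'
    (link_of_partner K.comm hw (htr hw)) hl'
  have e2 : d' = d * d := by rw [← e1, ← hch, sq]; group
  have hcd : Commute c⁻¹ d := (show Commute c d from commutes_of_bot K.comm hu.1 hd).inv_left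
  rw [e2]
  calc (c ^ 2)⁻¹ * (d * d) = c⁻¹ * (c⁻¹ * d) * d := by group
    _ = c⁻¹ * (d * c⁻¹) * d := by rw [hcd.eq]
    _ = _ := by group

/-- The two elements centralising `C`. -/
theorem Conf.facts {U V : Subgroup G} (hU : U ∈ unipotentSubgroups A B)
    (hV : V ∈ unipotentSubgroups A B) {c u v : G} (hu : Partner C U c u) (hv : Partner C V c v)
    (h2 : u ^ 2 ≠ 1) : v ^ 2 ≠ 1 ∧ ∀ x ∈ C,
      Commute ((u⁻¹ * (u * v⁻¹) * u * (u * v⁻¹)) * ((u * v⁻¹) * (u⁻¹ * (u * v⁻¹) * u))⁻¹) x ∧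
      Commute ((u⁻¹ * (u * v⁻¹) * u * (u * v⁻¹)) * ((u ^ 2)⁻¹ * (v ^ 2)⁻¹ * (u ^ 4))⁻¹) x := by
  have hUle := unip_le (A := A) (B := B) hU
  have hsp := K.special hU
  have huU := hu.2.2.1
  have huX : u ∈ A ⊔ B := hUle huU
  -- the partner of `u ^ 2`
  obtain ⟨c₂, hc₂, hc₂1, hc₂e⟩ := (K.pC U hU).cond_right (u ^ 2) (U.pow_mem huU 2) h2
  have hu₂ : Partner C U c₂ (u ^ 2) := ⟨hc₂, hc₂1, U.pow_mem huU 2, h2, hc₂e.symm⟩
  have hc₂c : c₂ ^ 2 = c := partner_pow 2 (special_swap hsp) hu.swap h2 hu₂.swap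
  obtain ⟨v₂, hv₂m, hv₂1, hv₂e⟩ := (K.pC V hV).cond_left c₂ hc₂ hc₂1
  have hv₂ : Partner C V c₂ v₂ := ⟨hc₂, hc₂1, hv₂m, hv₂1, hv₂e⟩
  have hvv : v ^ 2 = v₂ :=
    partner_pow 2 (K.special hV) hv₂ (hc₂c.symm ▸ hu.2.1) (hc₂c.symm ▸ hv)
  refine ⟨hvv.symm ▸ hv₂1, fun x hx => ?_⟩
  have hcc : c ^ 2 ≠ 1 := by
    intro e
    have hinv : c⁻¹ = c := inv_eq_of_mul_eq_one_right (by rwa [← sq])
    have hp : Partner C U c u⁻¹ := ⟨hu.1, hu.2.1, U.inv_mem huU, inv_ne_one.mpr hu.2.2.2.1, by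
      rw [inv_inv, partner_inv hsp hu, hinv]⟩
    apply h2
    have := (existsUnique_b hsp.1 hu.1 hu.2.1).unique
      ⟨hu.2.2.1, hu.2.2.2.1, hu.2.2.2.2⟩ ⟨hp.2.2.1, hp.2.2.2.1, hp.2.2.2.2⟩
    rw [sq]; exact mul_eq_one_iff_eq_inv.mpr this
  obtain ⟨d, hd, hl⟩ := K.exists_link hU hu
  obtain ⟨d₂, hd₂, hl₂⟩ := K.exists_link hU hu₂
  obtain ⟨w, hw, hw1, hwe⟩ := (K.pC U hU).cond_left (c ^ 2) (C.pow_mem hu.1 2) hcc
  have hpw : Partner C U (c ^ 2) w := ⟨C.pow_mem hu.1 2, hcc, hw, hw1, hwe⟩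
  obtain ⟨d', hd', hl'⟩ := K.exists_link hU hpw
  have hg := K.comm_g hU hu.1 hu.2.1 hd.1 hl
  have hgg : ∀ x ∈ A ⊔ B, ∀ y ∈ A ⊔ B,
      Commute x (((c⁻¹ * d) * (c⁻¹ * d))⁻¹ * y * ((c⁻¹ * d) * (c⁻¹ * d))) := by
    rw [← K.g_sq hU hu hd.1 hl hpw hd'.1 hl']
    exact K.comm_g hU hpw.1 hcc hd'.1 hl'
  set g := c⁻¹ * d with hgdef
  have hgC := K.g_comm hu.1 hd.1
  -- a generator for every conjugate of `v` under powers of `u`
  have gen : ∀ z ∈ A ⊔ B, Commute z u → Act A B C g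
      (z * (u * v⁻¹) * z⁻¹) (u⁻¹ * (z * (u * v⁻¹) * z⁻¹) * u) := by
    intro z hz hzu
    have hv' := (K.invariant hz hV hv).2
    have e : z * (u * v⁻¹) * z⁻¹ = u * (z * v * z⁻¹)⁻¹ := by
      calc z * (u * v⁻¹) * z⁻¹ = (z * u * z⁻¹) * (z * v * z⁻¹)⁻¹ := by group
        _ = _ := by rw [hzu.eq, mul_inv_cancel_right]
    rw [e, show u⁻¹ * (u * (z * v * z⁻¹)⁻¹) * u = (z * v * z⁻¹)⁻¹ * u by group]
    have hV' := conjBy_mem_unipotent hV hz
    exact K.act_gen hU hV' hUle (unip_le (A := A) (B := B) hV') hd.1 hl hu hv'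
  set q := u * v⁻¹ with hq
  have s0 := gen 1 (one_mem _) (Commute.one_left u)
  rw [one_mul, inv_one, mul_one] at s0
  have s1 := gen u huX (Commute.refl u)
  rw [show u⁻¹ * (u * q * u⁻¹) * u = q by group] at s1
  have s2 := gen (u * u) (mul_mem huX huX) ((Commute.refl u).mul_left (Commute.refl u))
  rw [show u⁻¹ * (u * u * q * (u * u)⁻¹) * u = u * q * u⁻¹ by group] at s2
  constructor
  · have m1 := Act.mul hgg (Act.double hgC s2 s1) (Act.double hgC s1 s0)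
    have m2 : Act A B C (g * g) ((u * u * q * (u * u)⁻¹) * (u * q * u⁻¹)) (q * (u⁻¹ * q * u)) :=
      Act.double hgC (Act.mul hg s2 s1) (Act.mul hg s0 s1)
    exact Act.diff m2 m1 hx
  · have e := K.g_sq hU hu₂ hd₂.1 hl₂ (hc₂c.symm ▸ hu) hd.1 (hc₂c.symm ▸ hl)
    rw [hc₂c, ← hgdef] at e
    have hg₂C := K.g_comm hu₂.1 hd₂.1
    have t1 := K.act_gen hU hV hUle (unip_le (A := A) (B := B) hV) hd₂.1 hl₂ hu₂ hv₂
    have hu2X : u ^ 2 ∈ A ⊔ B := pow_mem huX 2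
    have hV' := conjBy_mem_unipotent hV (inv_mem hu2X)
    have t2 := K.act_gen hU hV' hUle (unip_le (A := A) (B := B) hV') hd₂.1 hl₂ hu₂ (K.invariant hu2X hV hv₂).1
    rw [show u ^ 2 * ((u ^ 2)⁻¹ * v₂ * u ^ 2)⁻¹ = v₂⁻¹ * u ^ 2 by group] at t2
    have t3 := Act.double hg₂C t1 t2
    rw [← e, ← hvv,
      show ((u ^ 2)⁻¹ * v ^ 2 * u ^ 2)⁻¹ * u ^ 2 = (u ^ 2)⁻¹ * (v ^ 2)⁻¹ * u ^ 4 by group] at t3
    have t4 := Act.mul hg s1 s0
    rw [show u * q * u⁻¹ * q = u ^ 2 * (v ^ 2)⁻¹ by rw [hq, sq, sq]; group] at t4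
    exact Act.diff t3 t4 hx

/-- Every element of `A` is trivial after squaring or cubing. -/
theorem Conf.exponent {a : G} (ha : a ∈ A) : a ^ 2 = 1 ∨ a ^ 3 = 1 := by
  by_contra hno
  push Not at hno
  obtain ⟨h2, h3⟩ := hno
  have ha1 : a ≠ 1 := fun e => h2 (by rw [e, one_pow])
  have hAu := self_mem_unipotent A B
  have hBu := right_mem_unipotent K.pair
  obtain ⟨c, hc, hc1, hce⟩ := (K.pC A hAu).cond_right a ha ha1
  obtain ⟨b, hb, hb1, hbe⟩ := (K.pC B hBu).cond_left c hc hc1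
  have hpa : Partner C A c a := ⟨hc, hc1, ha, ha1, hce.symm⟩
  have hpb : Partner C B c b := ⟨hc, hc1, hb, hb1, hbe⟩
  have haX : a ∈ A ⊔ B := Subgroup.mem_sup_left ha
  have hbX : b ∈ A ⊔ B := Subgroup.mem_sup_right hb
  obtain ⟨hb2, -⟩ := K.facts hAu hBu hpa hpb h2
  have hconj : ∀ y ∈ A ⊔ B, Partner C (conjBy A y) c (y * a * y⁻¹) ∧
      Partner C (conjBy B y) c (y * b * y⁻¹) ∧ (y * a * y⁻¹) ^ 2 ≠ 1 := fun y hy =>
    ⟨(K.invariant hy hAu hpa).2, (K.invariant hy hBu hpb).2, by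
      rw [conj_pow, ne_eq, conj_eq_one_iff]
      exact h2⟩
  set q := a * b⁻¹ with hq
  set z₁ := (a⁻¹ * q * a * q) * (q * (a⁻¹ * q * a))⁻¹ with hz₁
  set τ := (a⁻¹ * q * a * q) * ((a ^ 2)⁻¹ * (b ^ 2)⁻¹ * a ^ 4)⁻¹ with hτ
  have hqX : q ∈ A ⊔ B := mul_mem haX (inv_mem hbX)
  have hq1X : a⁻¹ * q * a ∈ A ⊔ B := mul_mem (mul_mem (inv_mem haX) hqX) haX
  have hz₁X : z₁ ∈ A ⊔ B := mul_mem (mul_mem hq1X hqX) (inv_mem (mul_mem hqX hq1X))
  have hτX : τ ∈ A ⊔ B := mul_mem (mul_mem hq1X hqX)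
    (inv_mem (mul_mem (mul_mem (inv_mem (pow_mem haX 2)) (inv_mem (pow_mem hbX 2))) (pow_mem haX 4)))
  have hz₁c := K.central hz₁X fun y hy x hx => by
    obtain ⟨p1, p2, p3⟩ := hconj y hy
    have := ((K.facts (conjBy_mem_unipotent hAu hy) (conjBy_mem_unipotent hBu hy) p1 p2 p3).2 x hx).1
    convert this using 1
    rw [hz₁, hq]; group
  have hτc := K.central hτX fun y hy x hx => by
    obtain ⟨p1, p2, p3⟩ := hconj y hy
    have := ((K.facts (conjBy_mem_unipotent hAu hy) (conjBy_mem_unipotent hBu hy) p1 p2 p3).2 x hx).2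
    convert this using 1
    rw [hτ, hq]; simp only [conj_pow]; group
  set z := (a ^ 3)⁻¹ * (b ^ 2)⁻¹ * a ^ 3 with hz
  have hkey : (b ^ 2)⁻¹ = (z₁⁻¹ * τ) * z := by
    have e1 : q * (a⁻¹ * q * a) = z₁⁻¹ * τ * ((a ^ 2)⁻¹ * (b ^ 2)⁻¹ * a ^ 4) := by
      rw [hz₁, hτ]; group
    have e2 : Commute a⁻¹ (z₁⁻¹ * τ) :=
      ((show Commute z₁ a⁻¹ from hz₁c _ (inv_mem haX)).inv_left.mul_left
        (show Commute τ a⁻¹ from hτc _ (inv_mem haX))).symm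
    calc (b ^ 2)⁻¹ = a⁻¹ * (q * (a⁻¹ * q * a)) * a⁻¹ := by rw [hq]; group
      _ = (a⁻¹ * (z₁⁻¹ * τ)) * ((a ^ 2)⁻¹ * (b ^ 2)⁻¹ * a ^ 4) * a⁻¹ := by rw [e1]; group
      _ = _ := by rw [e2.eq, hz]; group
  set B' := conjBy B (a ^ 3)⁻¹ with hB'
  have hzB' : z ∈ B' := mem_conjBy_inv (B.inv_mem (B.pow_mem hb 2))
  have hzn : conjBy B z = B := by
    refine conjBy_of_comm fun y hy => ?_
    have hyX : y ∈ A ⊔ B := Subgroup.mem_sup_right hy
    have h1 : Commute (b ^ 2)⁻¹ y :=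
      commute_of_mem K.hS (K.mem B hBu) (B.inv_mem (B.pow_mem hb 2)) hy
    have h2' : Commute (z₁⁻¹ * τ) y :=
      (show Commute z₁ y from hz₁c y hyX).inv_left.mul_left (hτc y hyX)
    have : z = (z₁⁻¹ * τ)⁻¹ * (b ^ 2)⁻¹ := by rw [hkey, inv_mul_cancel_left]
    rw [this]
    exact (h2'.inv_left.mul_left h1).eq
  have hne : B' ≠ B := fun e =>
    h3 (inv_eq_one.mp (eq_one_of_normalizes K.pair (A.inv_mem (A.pow_mem ha 3)) e))
  obtain ⟨hp, -⟩ := pair_of_mem K.pair (conjBy_mem_unipotent hBu (inv_mem (pow_mem haX 3))) hBu hne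
  have hz1 : z = 1 := eq_one_of_normalizes hp hzB' hzn
  rw [hz] at hz1
  apply hb2
  calc b ^ 2 = a ^ 3 * ((a ^ 3)⁻¹ * (b ^ 2)⁻¹ * a ^ 3)⁻¹ * (a ^ 3)⁻¹ := by group
    _ = 1 := by rw [hz1]; group

end Conf

end CfsgLib.Perm.RootSpecial
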