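import Cfsg.Agent.Lib.Perm.RootInvolution

/-!
# Subgroups normalised by a triple of root involutions

An odd-order subgroup normalised by a triple is centralised by it, and a subgroup without members
of `D` normalised by a triple contains only commuting conjugates of a member of the triple.
-/

set_option autoImplicit false

namespace CfsgLib.Perm.RootInvolution

open Cfsg

variable {G : Type*} [Group G] {D : Set G}

theorem eq_one_of_inv_eq_self {y : G} (hodd : Odd (orderOf y)) (h : y⁻¹ = y) : y = 1 := by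
  have h2 : y ^ 2 = 1 := by rw [pow_two]; nth_rewrite 1 [← h]; rw [inv_mul_cancel]
  have h1 : orderOf y ∣ 2 := orderOf_dvd_of_pow_eq_one h2
  rcases (Nat.dvd_prime Nat.prime_two).mp h1 with e | e
  · exact orderOf_eq_one_iff.mp e
  · rw [e] at hodd
    exact absurd hodd (by decide)

/-- An element of odd order inverted by one member and centralised by another member of a triple is
trivial. -/
theorem Tri.eq_one_of_inverted (hD : IsRootInvolutionSet D) {d p y : G} (h : Tri D d p)
    (hodd : Odd (orderOf y)) (hd : d * y * d = y⁻¹) (hp : Commute p y) : y = 1 := by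
  by_contra hy
  obtain ⟨j, hj⟩ := id hodd
  have hone : y ^ (2 * j + 1) = 1 := by rw [← hj, pow_orderOf_eq_one]
  have hs : y ^ (j + 1) * y ^ (j + 1) = y := by
    rw [← pow_add, show j + 1 + (j + 1) = 2 * j + 1 + 1 by omega, pow_succ, hone, one_mul]
  have hconj : d * y ^ (j + 1) * d = (y ^ (j + 1))⁻¹ := by
    have h1 : d * y ^ (j + 1) * d⁻¹ = (d * y * d⁻¹) ^ (j + 1) := by rw [conj_pow]
    rw [inv_eq hD h.left, hd, inv_pow] at h1
    exact h1
  have hmem : d * y ∈ D := by
    have h1 := hD.conj_mem d h.left (y ^ (j + 1))⁻¹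
    have h2 : (y ^ (j + 1))⁻¹ * d * (y ^ (j + 1))⁻¹⁻¹ = d * y := by
      rw [inv_inv, ← hconj]
      calc d * y ^ (j + 1) * d * d * y ^ (j + 1)
          = d * y ^ (j + 1) * (d * d) * y ^ (j + 1) := by simp only [mul_assoc]
        _ = d * y := by rw [sq_one hD h.left, mul_one, mul_assoc, hs]
    rwa [h2] at h1
  have hadj : OddAdj D d (d * y) := by
    refine ⟨h.left, hmem, ?_, ?_⟩
    · intro e
      exact hy (mul_left_cancel (show d * y = d * 1 by rw [mul_one, ← e]))
    · rwa [cancel hD h.left]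
  exact not_commute_of_adj hD h.symm hadj (h.comm.symm.mul_right hp)

/-- An element of odd order inverted by a member and centralised by the third member of the
triple is trivial. -/
theorem Tri.eq_one_of_inverted' (hD : IsRootInvolutionSet D) {d p y : G} (h : Tri D d p)
    (hodd : Odd (orderOf y)) (hd : d * y * d = y⁻¹) (hq : Commute (d * p) y) : y = 1 :=
  Tri.eq_one_of_inverted hD ((Tri.third' hD h).symm) hodd hd hq

/-- Members of a triple centralising an element of an odd-order subgroup normalised by the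
triple. -/
theorem Tri.commute_of_commute (hD : IsRootInvolutionSet D) {d p x : G} {P : Subgroup G}
    (h : Tri D d p) (hP : ∀ y ∈ P, Odd (orderOf y)) (hPd : ∀ y ∈ P, d * y * d ∈ P) (hx : x ∈ P)
    (hc : Commute p x) : Commute d x := by
  have hdd := sq_one hD h.left
  have hy : x⁻¹ * (d * x * d) = 1 := by
    refine Tri.eq_one_of_inverted hD h (hP _ (P.mul_mem (P.inv_mem hx) (hPd x hx))) ?_ ?_
    · rw [mul_inv_rev, inv_inv, mul_inv_rev, mul_inv_rev, inv_eq hD h.left]
      calc d * (x⁻¹ * (d * x * d)) * d = d * x⁻¹ * d * x * (d * d) := by simp only [mul_assoc]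
        _ = d * (x⁻¹ * d) * x := by rw [hdd, mul_one, mul_assoc d x⁻¹ d]
    · exact (hc.inv_right).mul_right ((h.comm.symm.mul_right hc).mul_right h.comm.symm)
  have h1 : d * x * d = x := (inv_mul_eq_one.mp hy).symm
  calc d * x = d * x * (d * d) := by rw [hdd, mul_one]
    _ = d * x * d * d := (mul_assoc _ d d).symm
    _ = x * d := by rw [h1]

/-- Uniqueness of the decomposition into a centralised and an inverted part. -/
theorem decomposition_unique {p c c' i i' : G} (hpp : p * p = 1) (hc : Commute p c)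
    (hc' : Commute p c') (hi : p * i * p = i⁻¹) (hi' : p * i' * p = i'⁻¹)
    (hodd : Odd (orderOf i)) (hkodd : Odd (orderOf (c'⁻¹ * c))) (he : c * i = c' * i') :
    c = c' := by
  have hk : Commute p (c'⁻¹ * c) := (hc'.inv_right).mul_right hc
  have h1 : i' = c'⁻¹ * c * i := by rw [mul_assoc, he, inv_mul_cancel_left]
  generalize hkd : c'⁻¹ * c = k at hk h1 hkodd
  have hpk : p * k * p = k := by rw [hk.eq, mul_assoc, hpp, mul_one]
  have h2 : k * i⁻¹ = i⁻¹ * k⁻¹ := by
    calc k * i⁻¹ = p * k * p * (p * i * p) := by rw [hpk, hi]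
      _ = p * k * (p * p) * i * p := by simp only [mul_assoc]
      _ = p * (k * i) * p := by rw [hpp, mul_one, mul_assoc p k i]
      _ = i'⁻¹ := by rw [← h1, hi']
      _ = i⁻¹ * k⁻¹ := by rw [h1, mul_inv_rev]
  have h3 : i * k * i⁻¹ = k⁻¹ := by rw [mul_assoc, h2, mul_inv_cancel_left]
  have h4 : i ^ 2 * k = k * i ^ 2 := by
    have h5 : i * k = k⁻¹ * i := by rw [← h3, inv_mul_cancel_right]
    have h6 : i * k⁻¹ = k * i := by
      have e := congrArg (fun z => z⁻¹) h3
      simp only [mul_inv_rev, inv_inv] at e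
      calc i * k⁻¹ = i * (k⁻¹ * i⁻¹) * i := by rw [← mul_assoc, inv_mul_cancel_right]
        _ = k * i := by rw [e]
    rw [pow_two, mul_assoc, h5, ← mul_assoc, h6, mul_assoc]
  obtain ⟨j, hj⟩ := hodd
  have h7 : Commute (i ^ 2) k := h4
  have hone : i ^ (2 * j + 1) = 1 := by rw [← hj, pow_orderOf_eq_one]
  have h8 : Commute i k := by
    have e : (i ^ 2) ^ (j + 1) = i := by
      rw [← pow_mul, show 2 * (j + 1) = 2 * j + 1 + 1 by omega, pow_succ, hone, one_mul]
    rw [← e]
    exact h7.pow_left _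
  have h9 : k = 1 := by
    refine eq_one_of_inv_eq_self hkodd ?_
    rw [← h3, h8.eq, mul_inv_cancel_right]
  rw [← hkd] at h9
  exact (inv_mul_eq_one.mp h9).symm

/-- An odd-order subgroup normalised by a triple is centralised by it. -/
theorem Tri.commute_of_odd (hD : IsRootInvolutionSet D) {d p : G} {P : Subgroup G}
    (h : Tri D d p) (hP : ∀ y ∈ P, Odd (orderOf y)) (hPd : ∀ y ∈ P, d * y * d ∈ P)
    (hPp : ∀ y ∈ P, p * y * p ∈ P) {x : G} (hx : x ∈ P) : Commute d x := by
  have hdd := sq_one hD h.left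
  have hpp := sq_one hD h.right
  have hcomm : d * p = p * d := h.comm.eq
  have hfix : ∀ y ∈ P, Commute p y → Commute d y := fun y hy hc =>
    Tri.commute_of_commute hD h hP hPd hy hc
  have hfix' : ∀ y ∈ P, Commute (d * p) y → Commute d y := fun y hy hc =>
    Tri.commute_of_commute hD ((Tri.third' hD h).symm) hP hPd hy hc
  -- an element inverted by `d` is trivial
  have hinv : ∀ s ∈ P, d * s * d = s⁻¹ → s = 1 := by
    intro s hs hds
    have hy0P : p * s⁻¹ * p * s ∈ P := P.mul_mem (hPp _ (P.inv_mem hs)) hs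
    have hy0 : p * (p * s⁻¹ * p * s) * p = (p * s⁻¹ * p * s)⁻¹ := by
      rw [mul_inv_rev, mul_inv_rev, mul_inv_rev, inv_inv, inv_eq hD h.right]
      calc p * (p * s⁻¹ * p * s) * p = p * p * s⁻¹ * p * s * p := by simp only [mul_assoc]
        _ = s⁻¹ * (p * (s * p)) := by rw [hpp, one_mul]; simp only [mul_assoc]
    obtain ⟨j, hj⟩ := hP _ hy0P
    generalize hy : p * s⁻¹ * p * s = y at hy0P hy0 hj
    have hone : y ^ (2 * j + 1) = 1 := by rw [← hj, pow_orderOf_eq_one]
    have hi2 : y ^ (j + 1) * y ^ (j + 1) = y := by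
      rw [← pow_add, show j + 1 + (j + 1) = 2 * j + 1 + 1 by omega, pow_succ, hone, one_mul]
    have hiP : y ^ (j + 1) ∈ P := P.pow_mem hy0P _
    have hpi : p * y ^ (j + 1) * p = (y ^ (j + 1))⁻¹ := by
      have h1 : p * y ^ (j + 1) * p⁻¹ = (p * y * p⁻¹) ^ (j + 1) := by rw [conj_pow]
      rw [inv_eq hD h.right, hy0, inv_pow] at h1
      exact h1
    generalize y ^ (j + 1) = i at hi2 hiP hpi
    obtain ⟨c, hcdef⟩ : ∃ c, c = s * i⁻¹ := ⟨_, rfl⟩
    have hcP : c ∈ P := hcdef ▸ P.mul_mem hs (P.inv_mem hiP)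
    have hsci : s = c * i := by rw [hcdef, inv_mul_cancel_right]
    have hcp : Commute p c := by
      have e1 : p * i⁻¹ * p = i := by
        have e := congrArg (fun z => z⁻¹) hpi
        simp only [mul_inv_rev, inv_inv, inv_eq hD h.right] at e
        rw [mul_assoc]
        exact e
      have e2 : p * s * p = s * y⁻¹ := by
        rw [← hy, mul_inv_rev, mul_inv_rev, mul_inv_rev, inv_inv, inv_eq hD h.right,
          mul_inv_cancel_left, ← mul_assoc]
      have e3 : p * c * p = c := by
        calc p * c * p = p * s * p * (p * i⁻¹ * p) := by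
              rw [hcdef]
              calc p * (s * i⁻¹) * p = p * s * 1 * i⁻¹ * p := by simp only [mul_assoc, one_mul]
                _ = _ := by rw [← hpp]; simp only [mul_assoc]
          _ = s * y⁻¹ * i := by rw [e1, e2]
          _ = c := by rw [hcdef, ← hi2, mul_inv_rev, mul_assoc, inv_mul_cancel_right]
      calc p * c = p * c * (p * p) := by rw [hpp, mul_one]
        _ = p * c * p * p := (mul_assoc _ p p).symm
        _ = c * p := by rw [e3]
    have hcd : d * c * d = c := by
      rw [(hfix c hcP hcp).eq, mul_assoc, hdd, mul_one]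
    have e4 : c * (d * i * d) = c⁻¹ * (c * i⁻¹ * c⁻¹) := by
      calc c * (d * i * d) = d * c * d * (d * i * d) := by rw [hcd]
        _ = d * c * (d * d) * i * d := by simp only [mul_assoc]
        _ = d * s * d := by rw [hdd, mul_one, hsci, mul_assoc d c i]
        _ = c⁻¹ * (c * i⁻¹ * c⁻¹) := by
          rw [hds, hsci, mul_inv_rev, ← mul_assoc, inv_mul_cancel_left]
    have e5 : p * (d * i * d) * p = (d * i * d)⁻¹ := by
      rw [mul_inv_rev, mul_inv_rev, inv_eq hD h.left, ← hpi]
      calc p * (d * i * d) * p = p * d * i * (d * p) := by simp only [mul_assoc]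
        _ = d * p * i * (p * d) := by rw [hcomm]
        _ = d * (p * i * p * d) := by simp only [mul_assoc]
    have e6 : p * (c * i⁻¹ * c⁻¹) * p = (c * i⁻¹ * c⁻¹)⁻¹ := by
      have e1 : p * i⁻¹ * p = i := by
        have e := congrArg (fun z => z⁻¹) hpi
        simp only [mul_inv_rev, inv_inv, inv_eq hD h.right] at e
        rw [mul_assoc]
        exact e
      have e2 : p * c⁻¹ = c⁻¹ * p := hcp.inv_right.eq
      calc p * (c * i⁻¹ * c⁻¹) * p = p * c * i⁻¹ * (c⁻¹ * p) := by simp only [mul_assoc]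
        _ = c * (p * i⁻¹ * p) * c⁻¹ := by rw [← e2, hcp.eq]; simp only [mul_assoc]
        _ = (c * i⁻¹ * c⁻¹)⁻¹ := by
          rw [e1, mul_inv_rev, mul_inv_rev, inv_inv, inv_inv, mul_assoc]
    have hc1 : c = c⁻¹ :=
      decomposition_unique hpp hcp hcp.inv_right e5 e6 (hP _ (hPd i hiP))
        (hP _ (P.mul_mem (P.inv_mem (P.inv_mem hcP)) hcP)) e4
    have hc0 : c = 1 := eq_one_of_inv_eq_self (hP c hcP) hc1.symm
    have hq : Commute (d * p) s := by
      rw [hc0, one_mul] at hsci
      have e1 : p * s * p = s⁻¹ := by rw [hsci]; exact hpi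
      have e2 : d * p * s * (d * p) = s := by
        calc d * p * s * (d * p) = d * p * s * (p * d) := by rw [← hcomm]
          _ = d * (p * s * p) * d := by simp only [mul_assoc]
          _ = (d * s * d)⁻¹ := by rw [e1, mul_inv_rev, mul_inv_rev, inv_eq hD h.left, mul_assoc]
          _ = s := by rw [hds, inv_inv]
      have hqq : d * p * (d * p) = 1 := sq_one hD h.mem
      calc d * p * s = d * p * s * (d * p * (d * p)) := by rw [hqq, mul_one]
        _ = d * p * s * (d * p) * (d * p) := (mul_assoc _ _ _).symm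
        _ = s * (d * p) := by rw [e2]
    have e7 : d * s * d = s := by
      rw [(hfix' s hs hq).eq, mul_assoc, hdd, mul_one]
    exact eq_one_of_inv_eq_self (hP s hs) (hds ▸ e7)
  have hy : x⁻¹ * (d * x * d) = 1 := by
    refine hinv _ (P.mul_mem (P.inv_mem hx) (hPd x hx)) ?_
    rw [mul_inv_rev, inv_inv, mul_inv_rev, mul_inv_rev, inv_eq hD h.left]
    calc d * (x⁻¹ * (d * x * d)) * d = d * x⁻¹ * d * x * (d * d) := by simp only [mul_assoc]
      _ = d * (x⁻¹ * d) * x := by rw [hdd, mul_one, mul_assoc d x⁻¹ d]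
  have h1 : d * x * d = x := (inv_mul_eq_one.mp hy).symm
  calc d * x = d * x * (d * d) := by rw [hdd, mul_one]
    _ = d * x * d * d := (mul_assoc _ d d).symm
    _ = x * d := by rw [h1]

/-- A subgroup `N` without members, normalised by a triple, has pairwise commuting `N`-conjugates
of a member of the triple. -/
theorem Tri.commute_conj (hD : IsRootInvolutionSet D) {d p n : G} {N : Subgroup G}
    (h : Tri D d p) (hND : ∀ y ∈ N, y ∉ D) (hNd : ∀ y ∈ N, d * y * d ∈ N)
    (hNp : ∀ y ∈ N, p * y * p ∈ N) (hn : n ∈ N) : Commute d (n * d * n⁻¹) := by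
  obtain ⟨e, he⟩ : ∃ e, e = n * d * n⁻¹ := ⟨_, rfl⟩
  have heD : e ∈ D := he ▸ hD.conj_mem d h.left n
  have hde : d * e ∈ N := by
    rw [he, ← mul_assoc, ← mul_assoc]
    exact N.mul_mem (hNd n hn) (N.inv_mem hn)
  have hpde : d * (p * e * p) ∈ N := by
    have h1 := hNp _ hde
    have h2 : p * (d * e) * p = d * (p * e * p) := by
      rw [← mul_assoc p d, ← h.comm.eq, mul_assoc d p e, mul_assoc]
    rwa [h2] at h1
  have hsq : p * e * p * e ∈ N := by
    have h1 := N.mul_mem (N.inv_mem hpde) hde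
    have h2 : (d * (p * e * p))⁻¹ * (d * e) = p * e * p * e := by
      rw [mul_inv_rev, inv_eq hD h.left, mul_inv_rev, mul_inv_rev, inv_eq hD h.right,
        inv_eq hD heD]
      calc p * (e * p) * d * (d * e) = p * (e * p) * (d * d) * e := by simp only [mul_assoc]
        _ = p * e * p * e := by rw [sq_one hD h.left, mul_one]; simp only [mul_assoc]
    rwa [h2] at h1
  have hqN : ¬ p * e ∈ N := by
    intro hpe
    apply hND _ (N.mul_mem hde (N.inv_mem hpe))
    rw [mul_inv_rev, inv_eq hD heD, inv_eq hD h.right, mul_assoc, cancel hD heD]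
    exact h.mem
  have hcp : Commute p e := by
    rcases hD.pair p h.right e heD with e1 | e1 | ⟨-, e2⟩
    · exact e1
    · exfalso
      obtain ⟨j, hj⟩ := e1
      have h3 : (p * e) ^ 2 ∈ N := by rwa [pow_two, ← mul_assoc]
      have h4 : ((p * e) ^ 2) ^ (j + 1) = p * e := by
        rw [← pow_mul, show 2 * (j + 1) = 2 * j + 1 + 1 by omega, pow_succ, ← hj,
          pow_orderOf_eq_one, one_mul]
      exact hqN (h4 ▸ N.pow_mem h3 _)
    · rw [pow_two, ← mul_assoc] at e2
      exact absurd e2 (hND _ hsq)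
  rw [← he]
  rcases hD.pair d h.left e heD with e1 | e1 | ⟨-, e2⟩
  · exact e1
  · by_contra hcon
    have hne : d ≠ e := fun e0 => hcon (e0 ▸ Commute.refl d)
    exact not_commute_of_adj hD h.symm ⟨h.left, heD, hne, e1⟩ hcp
  · exact absurd e2 (hND _ (N.pow_mem hde 2))

end CfsgLib.Perm.RootInvolution
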