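import Mathlib

/-!
A presentation of `SL₂(p)`: two homomorphic images `x`, `y` of `ZMod p` satisfying the braid
relations generate a group of order at most `p (p² - 1)`.
-/

set_option autoImplicit false

namespace CfsgLib.Perm.SL2Pres

open scoped Pointwise

variable {p : ℕ} [Fact p.Prime] {G : Type*} [Group G]

/-- The data: two one-parameter subgroups satisfying the braid relations. -/
structure Pair (p : ℕ) [Fact p.Prime] (G : Type*) [Group G] where
  x : ZMod p → G
  y : ZMod p → G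
  x_add : ∀ u v, x (u + v) = x u * x v
  y_add : ∀ u v, y (u + v) = y u * y v
  braid : ∀ t : ZMod p, t ≠ 0 → x t * y (-t⁻¹) * x t = y (-t⁻¹) * x t * y (-t⁻¹)

variable (P : Pair p G)

theorem x_zero : P.x 0 = 1 := left_eq_mul.mp (by rw [← P.x_add, add_zero] : P.x 0 = P.x 0 * P.x 0)

theorem y_zero : P.y 0 = 1 := left_eq_mul.mp (by rw [← P.y_add, add_zero] : P.y 0 = P.y 0 * P.y 0)

theorem x_neg (u : ZMod p) : P.x (-u) = (P.x u)⁻¹ :=
  eq_inv_of_mul_eq_one_left (by rw [← P.x_add, neg_add_cancel, x_zero])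

theorem y_neg (u : ZMod p) : P.y (-u) = (P.y u)⁻¹ :=
  eq_inv_of_mul_eq_one_left (by rw [← P.y_add, neg_add_cancel, y_zero])

theorem x_natCast_mul (n : ℕ) (u : ZMod p) : P.x ((n : ZMod p) * u) = P.x u ^ n := by
  induction n with
  | zero => rw [Nat.cast_zero, zero_mul, x_zero, pow_zero]
  | succ n ih => rw [Nat.cast_succ, add_mul, one_mul, P.x_add, ih, pow_succ]

theorem y_natCast_mul (n : ℕ) (u : ZMod p) : P.y ((n : ZMod p) * u) = P.y u ^ n := by
  induction n with
  | zero => rw [Nat.cast_zero, zero_mul, y_zero, pow_zero]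
  | succ n ih => rw [Nat.cast_succ, add_mul, one_mul, P.y_add, ih, pow_succ]

/-- `w(t)`. -/
def w (t : ZMod p) : G := P.x t * P.y (-t⁻¹) * P.x t

theorem w_inv (t : ZMod p) : (w P t)⁻¹ = w P (-t) := by
  simp only [w, mul_inv_rev, inv_neg, x_neg, y_neg, inv_inv, mul_assoc]

theorem w_conj_x {t : ZMod p} (ht : t ≠ 0) (u : ZMod p) :
    MulAut.conj (w P t) (P.x u) = P.y (-u / t ^ 2) := by
  have h1 : MulAut.conj (w P t) (P.x t) = P.y (-t⁻¹) := by
    rw [MulAut.conj_apply, mul_inv_eq_iff_eq_mul]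
    calc w P t * P.x t = (P.y (-t⁻¹) * P.x t * P.y (-t⁻¹)) * P.x t := by rw [w, P.braid t ht]
      _ = _ := by rw [w]; simp only [mul_assoc]
  obtain ⟨n, hn⟩ : ∃ n : ℕ, (n : ZMod p) = u / t := ⟨(u / t).val, ZMod.natCast_zmod_val _⟩
  rw [show u = (n : ZMod p) * t by rw [hn, div_mul_cancel₀ _ ht], x_natCast_mul, map_pow, h1,
    ← y_natCast_mul]
  congr 1
  field_simp

theorem w_conj_y {t : ZMod p} (ht : t ≠ 0) (v : ZMod p) :
    MulAut.conj (w P t) (P.y v) = P.x (-(t ^ 2) * v) := by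
  have h1 : MulAut.conj (w P t) (P.y (-t⁻¹)) = P.x t := by
    rw [MulAut.conj_apply, mul_inv_eq_iff_eq_mul]
    calc w P t * P.y (-t⁻¹) = (P.x t * P.y (-t⁻¹) * P.x t) * P.y (-t⁻¹) := rfl
      _ = P.x t * (P.y (-t⁻¹) * P.x t * P.y (-t⁻¹)) := by simp only [mul_assoc]
      _ = P.x t * w P t := by rw [w, P.braid t ht]
  obtain ⟨n, hn⟩ : ∃ n : ℕ, (n : ZMod p) = -(v * t) := ⟨(-(v * t)).val, ZMod.natCast_zmod_val _⟩
  rw [show v = (n : ZMod p) * (-t⁻¹) by rw [hn]; field_simp, y_natCast_mul, map_pow, h1,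
    ← x_natCast_mul]
  congr 1
  field_simp

theorem w_conj_w {s t : ZMod p} (hs : s ≠ 0) (ht : t ≠ 0) :
    MulAut.conj (w P s) (w P t) = w P (s ^ 2 / t) := by
  have hne : s ^ 2 / t ≠ 0 := div_ne_zero (pow_ne_zero 2 hs) ht
  rw [show w P t = P.x t * P.y (-t⁻¹) * P.x t from rfl, map_mul, map_mul, w_conj_x P hs, w_conj_y P hs]
  rw [w, P.braid _ hne, show -(s ^ 2 / t)⁻¹ = -t / s ^ 2 by rw [inv_div, neg_div],
    show -s ^ 2 * -t⁻¹ = s ^ 2 / t by rw [neg_mul_neg, div_eq_mul_inv]]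

theorem y_eq {V : ZMod p} (_hV : V ≠ 0) : P.y V = P.x V⁻¹ * w P (-V⁻¹) * P.x V⁻¹ := by
  rw [w, inv_neg, inv_inv, neg_neg, x_neg]
  group

/-- The key relation. -/
theorem w_rel {α β : ZMod p} (hα : α ≠ 0) (hβ : β ≠ 0) (hσ : α + β ≠ 0) :
    w P (-(α ^ 2) / (α + β)) * w P α * w P β = w P (α * β / (α + β)) := by
  set γ := α * β / (α + β) with hγ
  set r := -(α ^ 2) / (α + β) with hr
  have hγ0 : γ ≠ 0 := div_ne_zero (mul_ne_zero hα hβ) hσ
  have hr0 : r ≠ 0 := div_ne_zero (neg_ne_zero.mpr (pow_ne_zero 2 hα)) hσ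
  have h1 : P.y (-α⁻¹ + -β⁻¹) = P.y (-γ⁻¹) := by
    congr 1; rw [hγ]; field_simp; ring
  rw [P.y_add, y_eq P (neg_ne_zero.mpr (inv_ne_zero hα)), y_eq P (neg_ne_zero.mpr (inv_ne_zero hβ)),
    y_eq P (neg_ne_zero.mpr (inv_ne_zero hγ0))] at h1
  simp only [inv_neg, inv_inv, neg_neg] at h1
  -- move the middle element to the left of `w α`
  have h2 : w P α * P.x (-α + -β) = P.y ((α + β) / α ^ 2) * w P α := by
    have := w_conj_x P hα (-α + -β)
    rw [MulAut.conj_apply, mul_inv_eq_iff_eq_mul] at this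
    rw [this]
    congr 2
    ring
  have h3 : P.y ((α + β) / α ^ 2) = P.x (-r) * w P r * P.x (-r) := by
    rw [y_eq P (div_ne_zero hσ (pow_ne_zero 2 hα))]
    congr 3 <;> rw [hr, inv_div] <;> ring
  have h4 : ∀ u, (w P α * w P β) * P.x u = P.x (α ^ 2 * u / β ^ 2) * (w P α * w P β) := by
    intro u
    have e : MulAut.conj (w P α * w P β) (P.x u) = P.x (α ^ 2 * u / β ^ 2) := by
      rw [map_mul, MulAut.mul_apply, w_conj_x P hβ, w_conj_y P hα]
      congr 1
      field_simp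
    rw [MulAut.conj_apply, mul_inv_eq_iff_eq_mul] at e
    exact e
  have h5 : P.x (-α) * w P α * P.x (-α) * (P.x (-β) * w P β * P.x (-β)) =
      P.x (-γ) * (w P r * w P α * w P β) * P.x (-γ) := by
    calc P.x (-α) * w P α * P.x (-α) * (P.x (-β) * w P β * P.x (-β))
        = P.x (-α) * (w P α * P.x (-α + -β)) * w P β * P.x (-β) := by
          rw [P.x_add (-α) (-β)]; group
      _ = P.x (-α) * P.x (-r) * w P r * (P.x (-r) * (w P α * w P β)) * P.x (-β) := by
          rw [h2, h3]; group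
      _ = P.x (-α) * P.x (-r) * w P r * (w P α * w P β) * P.x (β ^ 2 * (-r) / α ^ 2) * P.x (-β) := by
          have e : P.x (-r) * (w P α * w P β) = (w P α * w P β) * P.x (β ^ 2 * (-r) / α ^ 2) := by
            rw [h4]
            congr 2
            field_simp
          rw [e]; group
      _ = P.x (-α + -r) * (w P r * w P α * w P β) * P.x (β ^ 2 * (-r) / α ^ 2 + -β) := by
          rw [P.x_add, P.x_add]; group
      _ = _ := by
          congr 3 <;> (rw [hγ, hr]; field_simp; ring)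
  rw [h5] at h1
  exact mul_left_cancel (mul_right_cancel h1)

/-- `h(t)`. -/
def h (t : ZMod p) : G := w P t * (w P 1)⁻¹

theorem h_one : h P 1 = 1 := mul_inv_cancel _

theorem w_eq (t : ZMod p) : w P t = h P t * w P 1 := (inv_mul_cancel_right _ _).symm

theorem h_conj_x {t : ZMod p} (ht : t ≠ 0) (u : ZMod p) :
    MulAut.conj (h P t) (P.x u) = P.x (t ^ 2 * u) := by
  have e : MulAut.conj (w P 1)⁻¹ (P.x u) = P.y (-u) := by
    rw [w_inv, w_conj_x P (neg_ne_zero.mpr one_ne_zero)]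
    congr 1
    norm_num
  rw [h, map_mul, MulAut.mul_apply, e, w_conj_y P ht]
  congr 1
  ring

theorem h_conj_y {t : ZMod p} (ht : t ≠ 0) (v : ZMod p) :
    MulAut.conj (h P t) (P.y v) = P.y (v / t ^ 2) := by
  have e : MulAut.conj (w P 1)⁻¹ (P.y v) = P.x (-v) := by
    rw [w_inv, w_conj_y P (neg_ne_zero.mpr one_ne_zero)]
    congr 1
    ring
  rw [h, map_mul, MulAut.mul_apply, e, w_conj_x P ht, neg_neg]

/-- The torus. -/
def H : Subgroup G := Subgroup.closure (Set.range fun t : {t : ZMod p // t ≠ 0} => h P t.1)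

theorem h_mem {t : ZMod p} (ht : t ≠ 0) : h P t ∈ H P := Subgroup.subset_closure ⟨⟨t, ht⟩, rfl⟩

/-- Every element of the torus acts as a scalar. -/
theorem exists_scalar {g : G} (hg : g ∈ H P) : ∃ c : (ZMod p)ˣ,
    (∀ u, MulAut.conj g (P.x u) = P.x ((c : ZMod p) * u)) ∧
    ∀ v, MulAut.conj g (P.y v) = P.y ((c : ZMod p)⁻¹ * v) := by
  induction hg using Subgroup.closure_induction with
  | mem g hg =>
    obtain ⟨⟨t, ht⟩, rfl⟩ := hg
    refine ⟨Units.mk0 (t ^ 2) (pow_ne_zero 2 ht), h_conj_x P ht, fun v => ?_⟩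
    rw [h_conj_y P ht, Units.val_mk0, div_eq_inv_mul]
  | one =>
    exact ⟨1, fun u => by rw [map_one, MulAut.one_apply, Units.val_one, one_mul],
      fun v => by rw [map_one, MulAut.one_apply, Units.val_one, inv_one, one_mul]⟩
  | mul g g' _ _ ihg ihg' =>
    obtain ⟨c, hc, hc'⟩ := ihg
    obtain ⟨d, hd, hd'⟩ := ihg'
    refine ⟨c * d, fun u => ?_, fun v => ?_⟩
    · rw [map_mul, MulAut.mul_apply, hd, hc, Units.val_mul, mul_assoc]
    · rw [map_mul, MulAut.mul_apply, hd', hc', Units.val_mul, mul_inv, mul_assoc]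
  | inv g _ ih =>
    obtain ⟨c, hc, hc'⟩ := ih
    refine ⟨c⁻¹, fun u => ?_, fun v => ?_⟩
    · apply (MulAut.conj g).injective
      rw [← MulAut.mul_apply, ← map_mul, mul_inv_cancel, map_one, MulAut.one_apply, hc, ← mul_assoc,
        Units.mul_inv, one_mul]
    · apply (MulAut.conj g).injective
      rw [← MulAut.mul_apply, ← map_mul, mul_inv_cancel, map_one, MulAut.one_apply, hc',
        Units.val_inv_eq_inv_val, inv_inv, inv_mul_cancel_left₀ c.ne_zero]


theorem x_inj (hx : P.x 1 ≠ 1) {u v : ZMod p} (huv : P.x u = P.x v) : u = v := by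
  by_contra hne
  apply hx
  have h0 : P.x (u - v) = 1 := by rw [sub_eq_add_neg, P.x_add, x_neg, huv, mul_inv_cancel]
  obtain ⟨n, hn⟩ : ∃ n : ℕ, (n : ZMod p) = (u - v)⁻¹ := ⟨((u - v)⁻¹).val, ZMod.natCast_zmod_val _⟩
  rw [← inv_mul_cancel₀ (sub_ne_zero.mpr hne), ← hn, x_natCast_mul, h0, one_pow]

theorem y_one_ne (hx : P.x 1 ≠ 1) : P.y 1 ≠ 1 := by
  intro hy
  have hall : ∀ v, P.y v = 1 := fun v => by
    obtain ⟨n, hn⟩ : ∃ n : ℕ, (n : ZMod p) = v := ⟨v.val, ZMod.natCast_zmod_val _⟩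
    rw [← hn, ← mul_one (n : ZMod p), y_natCast_mul, hy, one_pow]
  have := P.braid 1 one_ne_zero
  rw [hall, mul_one, one_mul, mul_one] at this
  exact hx (mul_eq_right.mp this)

theorem y_inj (hx : P.x 1 ≠ 1) {u v : ZMod p} (huv : P.y u = P.y v) : u = v := by
  by_contra hne
  apply y_one_ne P hx
  have h0 : P.y (u - v) = 1 := by rw [sub_eq_add_neg, P.y_add, y_neg, huv, mul_inv_cancel]
  obtain ⟨n, hn⟩ : ∃ n : ℕ, (n : ZMod p) = (u - v)⁻¹ := ⟨((u - v)⁻¹).val, ZMod.natCast_zmod_val _⟩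
  rw [← inv_mul_cancel₀ (sub_ne_zero.mpr hne), ← hn, y_natCast_mul, h0, one_pow]

theorem h_conj_w {s t : ZMod p} (hs : s ≠ 0) (ht : t ≠ 0) :
    MulAut.conj (h P s) (w P t) = w P (s ^ 2 * t) := by
  rw [h, map_mul, MulAut.mul_apply, w_inv, w_conj_w P (neg_ne_zero.mpr one_ne_zero) ht,
    w_conj_w P hs (div_ne_zero (pow_ne_zero 2 (neg_ne_zero.mpr one_ne_zero)) ht)]
  congr 1
  field_simp

theorem h_comm (hx : P.x 1 ≠ 1) {g g' : G} (hg : g ∈ H P) (hg' : g' ∈ H P) : g * g' = g' * g := by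
  choose c hc hc' using fun g : H P => exists_scalar P g.2
  let f : H P →* (ZMod p)ˣ := MonoidHom.mk' c fun a b => Units.ext (by
    have h1 := hc (a * b) 1
    rw [Subgroup.coe_mul, map_mul, MulAut.mul_apply, hc b, hc a, mul_one, mul_one] at h1
    rw [Units.val_mul]
    exact (x_inj P hx h1).symm)
  have hker : f.ker ≤ Subgroup.center (H P) := by
    intro k hk
    rw [Subgroup.mem_center_iff]
    intro g
    have hk1 : c k = 1 := hk
    have hX : ∀ u, MulAut.conj (k : G) (P.x u) = P.x u := fun u => by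
      rw [hc k, hk1, Units.val_one, one_mul]
    have hY : ∀ v, MulAut.conj (k : G) (P.y v) = P.y v := fun v => by
      rw [hc' k, hk1, Units.val_one, inv_one, one_mul]
    have hW : ∀ t, MulAut.conj (k : G) (w P t) = w P t := fun t => by
      rw [show w P t = P.x t * P.y (-t⁻¹) * P.x t from rfl, map_mul, map_mul, hX, hY]
    have hH : ∀ a ∈ H P, MulAut.conj (k : G) a = a := by
      intro a ha
      induction ha using Subgroup.closure_induction with
      | mem a ha =>
        obtain ⟨t, rfl⟩ := ha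
        show MulAut.conj (k : G) (h P t.1) = h P t.1
        rw [show h P t.1 = w P t.1 * (w P 1)⁻¹ from rfl, map_mul, map_inv, hW, hW]
      | one => exact map_one _
      | mul a b _ _ iha ihb => rw [map_mul, iha, ihb]
      | inv a _ iha => rw [map_inv, iha]
    apply Subtype.ext
    exact (mul_inv_eq_iff_eq_mul.mp (hH g g.2)).symm
  exact congrArg Subtype.val (commutative_of_cyclic_center_quotient f hker (⟨g, hg⟩ : H P) ⟨g', hg'⟩)

variable (hx : P.x 1 ≠ 1)
include hx

theorem h_sq_mul {s t : ZMod p} (hs : s ≠ 0) (ht : t ≠ 0) : h P (s ^ 2 * t) = h P (s ^ 2) * h P t := by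
  refine mul_right_cancel (b := w P 1) ?_
  rw [← w_eq]
  calc w P (s ^ 2 * t) = MulAut.conj (h P s) (h P t) * MulAut.conj (h P s) (w P 1) := by
        rw [← map_mul, ← w_eq, h_conj_w P hs ht]
    _ = h P t * (h P (s ^ 2) * w P 1) := by
        rw [h_conj_w P hs one_ne_zero, mul_one, ← w_eq, MulAut.conj_apply,
          h_comm P hx (h_mem P hs) (h_mem P ht), mul_inv_cancel_right]
    _ = _ := by rw [← mul_assoc, h_comm P hx (h_mem P ht) (h_mem P (pow_ne_zero 2 hs))]

omit hx in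
theorem w_one_sq : w P 1 * w P 1 = (h P (-1))⁻¹ := by
  simp only [h, ← w_inv, mul_inv_rev, inv_inv]

omit hx in
theorem w_one_conj_h {t : ZMod p} (ht : t ≠ 0) : MulAut.conj (w P 1) (h P t) = h P t⁻¹ := by
  rw [h, map_mul, w_conj_w P one_ne_zero ht, map_inv, MulAut.conj_apply (w P 1) (w P 1),
    mul_inv_cancel_right, one_pow, one_div, ← h]

theorem h_one_sub {u : ZMod p} (hu : u ≠ 0) (hu' : 1 - u ≠ 0) :
    h P u * h P (1 - u) = h P (u * (1 - u)) := by
  have hr := w_rel P hu hu' (by rw [add_sub_cancel]; exact one_ne_zero)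
  rw [add_sub_cancel, div_one, div_one] at hr
  rw [w_eq P (-u ^ 2), w_eq P u, w_eq P (1 - u), w_eq P (u * (1 - u))] at hr
  have e : w P 1 * (h P u * w P 1) = h P u⁻¹ * (h P (-1))⁻¹ := by
    have := w_one_conj_h P hu
    rw [MulAut.conj_apply, mul_inv_eq_iff_eq_mul] at this
    rw [← mul_assoc, this, mul_assoc, w_one_sq]
  have h1 : h P (-u ^ 2) * (w P 1 * (h P u * w P 1)) * h P (1 - u) = h P (u * (1 - u)) := by
    refine mul_right_cancel (b := w P 1) ?_
    rw [← hr]; group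
  rw [e, show -u ^ 2 = u ^ 2 * -1 by ring, h_sq_mul P hx hu (neg_ne_zero.mpr one_ne_zero),
    show u⁻¹ = u⁻¹ ^ 2 * u by field_simp, h_sq_mul P hx (inv_ne_zero hu) hu] at h1
  have e2 : h P (-1) * (h P (u⁻¹ ^ 2) * h P u) = (h P (u⁻¹ ^ 2) * h P u) * h P (-1) :=
    h_comm P hx (h_mem P (neg_ne_zero.mpr one_ne_zero))
      (mul_mem (h_mem P (pow_ne_zero 2 (inv_ne_zero hu))) (h_mem P hu))
  have e3 : h P (u ^ 2) * h P (u⁻¹ ^ 2) = 1 := by
    rw [← h_sq_mul P hx hu (pow_ne_zero 2 (inv_ne_zero hu)), ← mul_pow, mul_inv_cancel₀ hu, one_pow, h_one]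
  rw [← h1]
  calc h P u * h P (1 - u) = (h P (u ^ 2) * h P (u⁻¹ ^ 2)) * h P u * h P (1 - u) := by rw [e3, one_mul]
    _ = h P (u ^ 2) * ((h P (u⁻¹ ^ 2) * h P u) * h P (-1) * (h P (-1))⁻¹) * h P (1 - u) := by group
    _ = _ := by rw [← e2]; group

theorem h_mul {s t : ZMod p} (hs : s ≠ 0) (ht : t ≠ 0) : h P (s * t) = h P s * h P t := by
  classical
  have hsq : ∀ {a b : ZMod p}, IsSquare a → a ≠ 0 → b ≠ 0 → h P (a * b) = h P a * h P b := by
    intro a b ha ha0 hb
    obtain ⟨r, rfl⟩ := ha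
    rw [← sq]
    exact h_sq_mul P hx (fun h0 => ha0 (by rw [h0, mul_zero])) hb
  by_cases hs2 : IsSquare s
  · exact hsq hs2 hs ht
  by_cases ht2 : IsSquare t
  · rw [mul_comm, hsq ht2 ht hs, h_comm P hx (h_mem P ht) (h_mem P hs)]
  -- two nonsquares
  have hchar : ringChar (ZMod p) ≠ 2 := fun h2 => hs2 (FiniteField.isSquare_of_char_two h2 s)
  have hquot : ∀ a b : ZMod p, ¬ IsSquare a → ¬ IsSquare b → IsSquare (a / b) := by
    intro a b ha hb
    have ha0 : a ≠ 0 := fun h => ha (h ▸ IsSquare.zero)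
    have hb0 : b ≠ 0 := fun h => hb (h ▸ IsSquare.zero)
    rw [← quadraticChar_one_iff_isSquare (div_ne_zero ha0 hb0)]
    have h1 := (quadraticChar_neg_one_iff_not_isSquare.mpr ha)
    have h2 := (quadraticChar_neg_one_iff_not_isSquare.mpr hb)
    have h3 := map_mul (quadraticChar (ZMod p)) (a / b) b
    rw [div_mul_cancel₀ _ hb0, h1, h2] at h3
    omega
  obtain ⟨u, hu, hu1⟩ : ∃ u : ZMod p, ¬ IsSquare u ∧ ¬ IsSquare (1 - u) := by
    by_contra! hall
    set S := Finset.univ.filter (fun u : ZMod p => ¬ IsSquare u) with hS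
    set T := Finset.univ.filter (fun u : ZMod p => u ≠ 0 ∧ IsSquare u) with hT
    have h1 : S.card ≤ (T.erase 1).card := by
      refine Finset.card_le_card_of_injOn (fun u => 1 - u) (fun u hu => ?_) fun a _ b _ e => sub_right_injective e
      simp only [hS, Finset.coe_filter, Finset.mem_univ, true_and, Set.mem_setOf_eq] at hu
      simp only [hT, Finset.coe_erase, Finset.coe_filter, Finset.mem_univ, true_and, Set.mem_diff,
        Set.mem_setOf_eq, Set.mem_singleton_iff]
      refine ⟨⟨fun h0 => hu ?_, hall u hu⟩, fun h0 => hu ?_⟩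
      · rw [← sub_eq_zero.mp h0]; exact IsSquare.one
      · rw [sub_eq_self.mp h0]; exact IsSquare.zero
    have h2 : T.card ≤ S.card := by
      refine Finset.card_le_card_of_injOn (fun a => s * a) (fun a ha => ?_) fun a _ b _ e => mul_left_cancel₀ hs e
      simp only [hT, Finset.coe_filter, Finset.mem_univ, true_and, Set.mem_setOf_eq] at ha
      simp only [hS, Finset.coe_filter, Finset.mem_univ, true_and, Set.mem_setOf_eq]
      intro hsa
      obtain ⟨r, hr⟩ := hsa
      obtain ⟨q, hq⟩ := ha.2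
      have hq0 : q ≠ 0 := fun h => ha.1 (by rw [hq, h, mul_zero])
      refine hs2 ⟨r / q, ?_⟩
      rw [div_mul_div_comm, ← hr, ← hq, mul_div_assoc, div_self ha.1, mul_one]
    have h3 : (1 : ZMod p) ∈ T := by simp [hT]
    rw [Finset.card_erase_of_mem h3] at h1
    have := Finset.card_pos.mpr ⟨_, h3⟩
    omega
  have hu0 : u ≠ 0 := fun h => hu (h ▸ IsSquare.zero)
  have hu10 : 1 - u ≠ 0 := fun h => hu1 (h ▸ IsSquare.zero)
  have hdec : ∀ a : ZMod p, ¬ IsSquare a → h P a = h P (a / u) * h P u := by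
    intro a ha
    have ha0 : a ≠ 0 := fun h => ha (h ▸ IsSquare.zero)
    conv_lhs => rw [← div_mul_cancel₀ a hu0, hsq (hquot a u ha hu) (div_ne_zero ha0 hu0) hu0]
  -- the square of `h u`
  have huu : h P u * h P u = h P (u * u) := by
    have e := h_one_sub P hx hu0 hu10
    have hq := hquot (1 - u) u hu1 hu
    have hq0 : (1 - u) / u ≠ 0 := div_ne_zero hu10 hu0
    rw [hdec (1 - u) hu1, show u * (1 - u) = (1 - u) / u * (u * u) by field_simp,
      hsq hq hq0 (mul_ne_zero hu0 hu0), ← mul_assoc,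
      h_comm P hx (h_mem P hu0) (h_mem P hq0), mul_assoc] at e
    exact mul_left_cancel e
  have hsu := hquot s u hs2 hu
  have htu := hquot t u ht2 hu
  have hsu0 := div_ne_zero hs hu0
  have htu0 := div_ne_zero ht hu0
  rw [hdec s hs2, hdec t ht2, show s * t = s / u * (t / u * (u * u)) by field_simp,
    hsq hsu hsu0 (mul_ne_zero htu0 (mul_ne_zero hu0 hu0)), hsq htu htu0 (mul_ne_zero hu0 hu0), ← huu]
  simp only [mul_assoc]
  congr 1
  rw [← mul_assoc, ← mul_assoc, h_comm P hx (h_mem P htu0) (h_mem P hu0)]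

theorem h_neg_one_inv : (h P (-1))⁻¹ = h P (-1) :=
  inv_eq_of_mul_eq_one_right (by
    rw [← h_mul P hx (neg_ne_zero.mpr one_ne_zero) (neg_ne_zero.mpr one_ne_zero), neg_one_mul, neg_neg, h_one])

omit hx in
/-- The normal forms. -/
def form : (ZMod p × (ZMod p)ˣ) ⊕ (ZMod p × (ZMod p)ˣ × ZMod p) → G
  | .inl (u, t) => P.x u * h P t
  | .inr (u, t, v) => P.x u * h P t * w P 1 * P.x v

omit hx in
theorem h_x {t : ZMod p} (ht : t ≠ 0) (u : ZMod p) : h P t * P.x u = P.x (t ^ 2 * u) * h P t := by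
  have := h_conj_x P ht u
  rwa [MulAut.conj_apply, mul_inv_eq_iff_eq_mul] at this

theorem form_closed_w (k : (ZMod p × (ZMod p)ˣ) ⊕ (ZMod p × (ZMod p)ˣ × ZMod p)) :
    ∃ k', w P 1 * form P k = form P k' := by
  have hwh : ∀ {t : ZMod p}, t ≠ 0 → w P 1 * h P t = h P t⁻¹ * w P 1 := fun {t} ht => by
    have := w_one_conj_h P ht
    rwa [MulAut.conj_apply, mul_inv_eq_iff_eq_mul] at this
  have hwx : ∀ u : ZMod p, w P 1 * P.x u = P.y (-u) * w P 1 := fun u => by
    have := w_conj_x P one_ne_zero u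
    rw [MulAut.conj_apply, mul_inv_eq_iff_eq_mul] at this
    rw [this, one_pow, div_one]
  have hone : ((1 : (ZMod p)ˣ) : ZMod p) = 1 := rfl
  rcases k with ⟨u, t⟩ | ⟨u, t, v⟩
  · refine ⟨.inr (0, t⁻¹, u / (t : ZMod p) ^ 2), ?_⟩
    simp only [form, x_zero, one_mul, Units.val_inv_eq_inv_val]
    rw [← hwh t.ne_zero, mul_assoc, h_x P t.ne_zero, mul_div_cancel₀ _ (pow_ne_zero 2 t.ne_zero)]
  · have hmid : w P 1 * (h P t * (w P 1 * P.x v)) =
        P.x (v / (t : ZMod p) ^ 2) * h P (-(t : ZMod p)⁻¹) := by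
      rw [← mul_assoc, hwh t.ne_zero, ← mul_assoc, mul_assoc (h P _) (w P 1), w_one_sq, h_neg_one_inv P hx,
        ← h_mul P hx (inv_ne_zero t.ne_zero) (neg_ne_zero.mpr one_ne_zero), mul_neg_one,
        h_x P (neg_ne_zero.mpr (inv_ne_zero t.ne_zero))]
      congr 2
      field_simp
    by_cases hu : u = 0
    · refine ⟨.inl (v / (t : ZMod p) ^ 2, -t⁻¹), ?_⟩
      subst hu
      simp only [form, x_zero, one_mul, Units.val_neg, Units.val_inv_eq_inv_val]
      rw [← hmid]; group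
    · set d : (ZMod p)ˣ := -t⁻¹ with hd
      set k := v / (t : ZMod p) ^ 2 - u⁻¹ with hk
      refine ⟨.inr (-u⁻¹, Units.mk0 u⁻¹ (inv_ne_zero hu) * d⁻¹, k / (d : ZMod p) ^ 2), ?_⟩
      have hdv : (d : ZMod p) = -(t : ZMod p)⁻¹ := by rw [hd, Units.val_neg, Units.val_inv_eq_inv_val]
      simp only [form, Units.val_mul, Units.val_mk0, Units.val_inv_eq_inv_val]
      rw [h_mul P hx (inv_ne_zero hu) (inv_ne_zero d.ne_zero)]
      calc w P 1 * (P.x u * h P t * w P 1 * P.x v)
          = (w P 1 * P.x u) * (h P t * (w P 1 * P.x v)) := by group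
        _ = P.y (-u) * (w P 1 * (h P t * (w P 1 * P.x v))) := by rw [hwx]; group
        _ = P.x (-u⁻¹) * h P u⁻¹ * w P 1 * (P.x k * h P d) := by
            rw [hmid, y_eq P (neg_ne_zero.mpr hu), w_eq P (-(-u)⁻¹), inv_neg, neg_neg, ← hdv,
              show k = -u⁻¹ + v / (t : ZMod p) ^ 2 by rw [hk]; ring, P.x_add]
            group
        _ = P.x (-u⁻¹) * h P u⁻¹ * (w P 1 * h P d) * P.x (k / (d : ZMod p) ^ 2) := by
            rw [show P.x k * h P d = h P d * P.x (k / (d : ZMod p) ^ 2) by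
              rw [h_x P d.ne_zero, mul_div_cancel₀ _ (pow_ne_zero 2 d.ne_zero)]]
            group
        _ = _ := by rw [hwh d.ne_zero]; group

/-- Every element of the generated group has a normal form. -/
theorem exists_form {g : G} (hg : g ∈ Subgroup.closure (Set.range P.x ∪ Set.range P.y)) :
    ∃ k, g = form P k := by
  have hX : ∀ a k, ∃ k', P.x a * form P k = form P k' := by
    rintro a (⟨u, t⟩ | ⟨u, t, v⟩)
    · exact ⟨.inl (a + u, t), by simp only [form, P.x_add, mul_assoc]⟩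
    · exact ⟨.inr (a + u, t, v), by simp only [form, P.x_add, mul_assoc]⟩
  have hh : ∀ (d : (ZMod p)ˣ) k, ∃ k', h P d * form P k = form P k' := by
    rintro d (⟨u, t⟩ | ⟨u, t, v⟩)
    · refine ⟨.inl ((d : ZMod p) ^ 2 * u, d * t), ?_⟩
      simp only [form, Units.val_mul]
      rw [← mul_assoc, h_x P d.ne_zero, h_mul P hx d.ne_zero t.ne_zero, mul_assoc]
    · refine ⟨.inr ((d : ZMod p) ^ 2 * u, d * t, v), ?_⟩
      simp only [form, Units.val_mul, ← mul_assoc]
      rw [h_x P d.ne_zero, h_mul P hx d.ne_zero t.ne_zero]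
      simp only [mul_assoc]
  have hw' : ∀ k, ∃ k', (w P 1)⁻¹ * form P k = form P k' := by
    intro k
    obtain ⟨k₁, hk₁⟩ := form_closed_w P hx k
    obtain ⟨k₂, hk₂⟩ := hh (-1) k₁
    refine ⟨k₂, ?_⟩
    rw [← hk₂, ← hk₁, ← mul_assoc, Units.val_neg, Units.val_one]
    congr 1
    apply inv_eq_of_mul_eq_one_right
    rw [show w P 1 * (h P (-1) * w P 1) = (w P 1 * h P (-1)) * w P 1 by group,
      show w P 1 * h P (-1) = h P (-1) * w P 1 by
        rw [← h_neg_one_inv P hx, ← w_one_sq, mul_assoc],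
      mul_assoc, w_one_sq, mul_inv_cancel]
  have hY : ∀ a k, ∃ k', P.y a * form P k = form P k' := by
    intro a k
    obtain ⟨k₁, hk₁⟩ := hw' k
    obtain ⟨k₂, hk₂⟩ := hX (-a) k₁
    obtain ⟨k₃, hk₃⟩ := form_closed_w P hx k₂
    refine ⟨k₃, ?_⟩
    have e := w_conj_x P one_ne_zero (-a)
    rw [one_pow, div_one, neg_neg, MulAut.conj_apply] at e
    rw [← e, ← hk₃, ← hk₂, ← hk₁]
    group
  have hall : ∀ k, ∃ k', g * form P k = form P k' := by
    induction hg using Subgroup.closure_induction'' with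
    | mem g hg =>
      intro k
      rcases hg with ⟨a, rfl⟩ | ⟨a, rfl⟩
      exacts [hX a k, hY a k]
    | inv_mem g hg =>
      intro k
      rcases hg with ⟨a, rfl⟩ | ⟨a, rfl⟩
      · rw [← x_neg]; exact hX _ k
      · rw [← y_neg]; exact hY _ k
    | one => exact fun k => ⟨k, one_mul _⟩
    | mul g g' _ _ ihg ihg' =>
      intro k
      obtain ⟨k₁, hk₁⟩ := ihg' k
      obtain ⟨k₂, hk₂⟩ := ihg k₁
      exact ⟨k₂, by rw [mul_assoc, hk₁, hk₂]⟩
  obtain ⟨k', hk'⟩ := hall (.inl (0, 1))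
  refine ⟨k', ?_⟩
  rw [← hk']
  simp [form, x_zero, h_one]

omit hx in
/-- The elementary unipotent matrices. -/
def upper (u : ZMod p) : Matrix.SpecialLinearGroup (Fin 2) (ZMod p) :=
  ⟨!![1, u; 0, 1], by simp [Matrix.det_fin_two]⟩

omit hx in
/-- The elementary unipotent matrices. -/
def lower (v : ZMod p) : Matrix.SpecialLinearGroup (Fin 2) (ZMod p) :=
  ⟨!![1, 0; v, 1], by simp [Matrix.det_fin_two]⟩

omit hx in
theorem upper_coe (u : ZMod p) : (upper u).1 = !![1, u; 0, 1] := rfl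

omit hx in
theorem lower_coe (v : ZMod p) : (lower v).1 = !![1, 0; v, 1] := rfl

omit hx in
/-- The standard pair in `SL₂(p)`. -/
def std (p : ℕ) [Fact p.Prime] : Pair p (Matrix.SpecialLinearGroup (Fin 2) (ZMod p)) where
  x := upper
  y := lower
  x_add u v := by
    apply Subtype.ext
    simp [Matrix.SpecialLinearGroup.coe_mul, upper_coe, Matrix.mul_fin_two, add_comm]
  y_add u v := by
    apply Subtype.ext
    simp [Matrix.SpecialLinearGroup.coe_mul, lower_coe, Matrix.mul_fin_two, add_comm]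
  braid t ht := by
    apply Subtype.ext
    simp [Matrix.SpecialLinearGroup.coe_mul, upper_coe, lower_coe, Matrix.mul_fin_two, ht]

omit hx in
theorem std_x (u : ZMod p) : (std p).x u = upper u := rfl

omit hx in
theorem std_y (u : ZMod p) : (std p).y u = lower u := rfl

omit hx in
theorem std_w_coe {t : ZMod p} (ht : t ≠ 0) : (w (std p) t).1 = !![0, t; -t⁻¹, 0] := by
  rw [w, std_x, std_y]
  simp [Matrix.SpecialLinearGroup.coe_mul, upper_coe, lower_coe, Matrix.mul_fin_two, ht]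

omit hx in
theorem std_h_coe {t : ZMod p} (ht : t ≠ 0) : (h (std p) t).1 = !![t, 0; 0, t⁻¹] := by
  rw [h, w_inv, Matrix.SpecialLinearGroup.coe_mul, std_w_coe ht,
    std_w_coe (neg_ne_zero.mpr one_ne_zero)]
  simp [Matrix.mul_fin_two]

omit hx in
theorem std_x_one_ne : (std p).x 1 ≠ 1 := fun h => by
  have h2 := congrFun (congrFun (congrArg Subtype.val h) 0) 1
  rw [std_x, upper_coe] at h2
  simp at h2

omit hx in
/-- The identity matrix has only the trivial normal form. -/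
theorem std_form_eq_one {k : (ZMod p × (ZMod p)ˣ) ⊕ (ZMod p × (ZMod p)ˣ × ZMod p)}
    (hk : form (std p) k = 1) : k = .inl (0, 1) := by
  have e := congrArg Subtype.val hk
  rcases k with ⟨u, t⟩ | ⟨u, t, v⟩
  · simp only [form, std_x, Matrix.SpecialLinearGroup.coe_mul, upper_coe, std_h_coe t.ne_zero,
      Matrix.mul_fin_two, Matrix.SpecialLinearGroup.coe_one, Matrix.one_fin_two] at e
    have e00 := congrFun (congrFun e 0) 0
    have e01 := congrFun (congrFun e 0) 1
    simp only [Matrix.of_apply, Matrix.cons_val', Matrix.cons_val_zero, Matrix.cons_val_one, Matrix.cons_val_fin_one, mul_zero, zero_mul, add_zero, zero_add, mul_one, one_mul] at e00 e01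
    have ht : t = 1 := Units.ext e00
    subst ht
    rw [Units.val_one, inv_one, mul_one] at e01
    subst e01
    rfl
  · exfalso
    simp only [form, std_x, Matrix.SpecialLinearGroup.coe_mul, upper_coe, std_h_coe t.ne_zero,
      std_w_coe one_ne_zero, Matrix.mul_fin_two, Matrix.SpecialLinearGroup.coe_one,
      Matrix.one_fin_two] at e
    have e10 := congrFun (congrFun e 1) 0
    simp only [Matrix.of_apply, Matrix.cons_val', Matrix.cons_val_zero, Matrix.cons_val_one, Matrix.cons_val_fin_one, mul_zero, zero_mul, add_zero, zero_add, mul_one, one_mul] at e10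
    simp only [mul_eq_zero, neg_eq_zero, inv_eq_zero, inv_one, one_ne_zero, t.ne_zero, or_self] at e10

omit hx in
/-- The product of two pairs. -/
def prodPair {G' : Type*} [Group G'] (Q : Pair p G') : Pair p (G × G') where
  x u := (P.x u, Q.x u)
  y u := (P.y u, Q.y u)
  x_add u v := Prod.ext (P.x_add u v) (Q.x_add u v)
  y_add u v := Prod.ext (P.y_add u v) (Q.y_add u v)
  braid t ht := Prod.ext (P.braid t ht) (Q.braid t ht)

omit hx in
theorem std_generates : Subgroup.closure (Set.range (std p).x ∪ Set.range (std p).y) = ⊤ := by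
  rw [eq_top_iff]
  intro g _
  set C := Subgroup.closure (Set.range (std p).x ∪ Set.range (std p).y) with hC
  have hU : ∀ u, upper u ∈ C := fun u => Subgroup.subset_closure (Or.inl ⟨u, rfl⟩)
  have hL : ∀ u, lower u ∈ C := fun u => Subgroup.subset_closure (Or.inr ⟨u, rfl⟩)
  have hfix : ∀ g : Matrix.SpecialLinearGroup (Fin 2) (ZMod p), g.1 1 0 ≠ 0 → g ∈ C := by
    intro g hc
    have hdet := Matrix.det_fin_two g.1
    rw [g.2] at hdet
    have : g = upper ((g.1 0 0 - 1) / g.1 1 0) * lower (g.1 1 0) * upper ((g.1 1 1 - 1) / g.1 1 0) := by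
      apply Subtype.ext
      rw [Matrix.eta_fin_two g.1]
      simp only [Matrix.SpecialLinearGroup.coe_mul, upper_coe, lower_coe, Matrix.mul_fin_two]
      ext i j
      fin_cases i <;> fin_cases j <;>
        simp [Matrix.SpecialLinearGroup.coe_mul, upper_coe, lower_coe, Matrix.mul_fin_two, hc] <;>
        field_simp <;> (first | linear_combination | linear_combination hdet | linear_combination -hdet)
    rw [this]
    exact mul_mem (mul_mem (hU _) (hL _)) (hU _)
  by_cases hc : g.1 1 0 = 0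
  · have hdet := Matrix.det_fin_two g.1
    rw [g.2, hc, mul_zero, sub_zero] at hdet
    have h2 : (lower 1 * g).1 1 0 ≠ 0 := by
      rw [Matrix.SpecialLinearGroup.coe_mul, Matrix.mul_apply, Fin.sum_univ_two]
      simp [lower, hc, left_ne_zero_of_mul (hdet ▸ one_ne_zero)]
    have h3 := mul_mem (inv_mem (hL 1)) (hfix _ h2)
    rwa [inv_mul_cancel_left] at h3
  · exact hfix g hc

omit hx in
/-- The homomorphism from `SL₂(p)` onto the group generated by a pair. -/
theorem exists_hom (hx : P.x 1 ≠ 1) :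
    ∃ φ : Matrix.SpecialLinearGroup (Fin 2) (ZMod p) →* G,
      (∀ u, φ (upper u) = P.x u) ∧ (∀ v, φ (lower v) = P.y v) ∧
      φ.range = Subgroup.closure (Set.range P.x ∪ Set.range P.y) := by
  set Q := prodPair P (std p) with hQ
  have hQx : Q.x 1 ≠ 1 := fun h => hx (congrArg Prod.fst h)
  set L := Subgroup.closure (Set.range Q.x ∪ Set.range Q.y) with hL
  let π : L →* Matrix.SpecialLinearGroup (Fin 2) (ZMod p) := (MonoidHom.snd G _).comp L.subtype
  have hπ : Function.Surjective π := by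
    rw [← MonoidHom.range_eq_top, eq_top_iff, ← std_generates (p := p), Subgroup.closure_le]
    rintro _ (⟨u, rfl⟩ | ⟨u, rfl⟩)
    · exact ⟨⟨Q.x u, Subgroup.subset_closure (Or.inl ⟨u, rfl⟩)⟩, rfl⟩
    · exact ⟨⟨Q.y u, Subgroup.subset_closure (Or.inr ⟨u, rfl⟩)⟩, rfl⟩
  have hsnd : ∀ k, (form Q k).2 = form (std p) k := by
    rintro (⟨u, t⟩ | ⟨u, t, v⟩) <;> rfl
  have hinj : Function.Injective π := by
    rw [← MonoidHom.ker_eq_bot_iff, Subgroup.eq_bot_iff_forall]
    intro g hg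
    obtain ⟨k, hk⟩ := exists_form Q hQx g.2
    have h2 : form (std p) k = 1 := by rw [← hsnd, ← hk]; exact hg
    apply Subtype.ext
    rw [hk, std_form_eq_one h2]
    simp [form, x_zero, h_one]
  let e := MulEquiv.ofBijective π ⟨hinj, hπ⟩
  refine ⟨((MonoidHom.fst G _).comp L.subtype).comp e.symm.toMonoidHom, fun u => ?_, fun v => ?_, ?_⟩
  · have : e.symm (upper u) = ⟨Q.x u, Subgroup.subset_closure (Or.inl ⟨u, rfl⟩)⟩ :=
      e.symm_apply_eq.mpr rfl
    change ((e.symm (upper u) : L) : G × Matrix.SpecialLinearGroup (Fin 2) (ZMod p)).1 = _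
    rw [this]; rfl
  · have : e.symm (lower v) = ⟨Q.y v, Subgroup.subset_closure (Or.inr ⟨v, rfl⟩)⟩ :=
      e.symm_apply_eq.mpr rfl
    change ((e.symm (lower v) : L) : G × Matrix.SpecialLinearGroup (Fin 2) (ZMod p)).1 = _
    rw [this]; rfl
  · rw [MonoidHom.range_comp, MonoidHom.range_eq_top.mpr e.symm.surjective, ← MonoidHom.range_eq_map,
      MonoidHom.range_comp, Subgroup.range_subtype, hL, MonoidHom.map_closure, Set.image_union,
      ← Set.range_comp, ← Set.range_comp]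
    rfl

omit hx in
/-- If the one-parameter groups are in general position the homomorphism has central kernel. -/
theorem ker_le_center (hx : P.x 1 ≠ 1)
    (hxy : ∀ u v, P.x u = P.y v → P.x u = 1)
    (hfree : ∀ u v, MulAut.conj (P.x u) (P.y 1) = P.y v → u = 0)
    (φ : Matrix.SpecialLinearGroup (Fin 2) (ZMod p) →* G)
    (hφx : ∀ u, φ (upper u) = P.x u) (hφy : ∀ v, φ (lower v) = P.y v) :
    φ.ker ≤ Subgroup.center _ := by
  intro g hg
  rw [MonoidHom.mem_ker] at hg
  have hsx : (std p).x 1 ≠ 1 := std_x_one_ne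
  have hw : ∀ t, φ (w (std p) t) = w P t := fun t => by simp [w, std_x, std_y, hφx, hφy]
  have hh : ∀ t, φ (h (std p) t) = h P t := fun t => by simp [h, hw]
  obtain ⟨k, rfl⟩ := exists_form (std p) hsx (g := g) (by rw [std_generates]; exact Subgroup.mem_top g)
  have hφform : φ (form (std p) k) = form P k := by
    rcases k with ⟨u, t⟩ | ⟨u, t, v⟩ <;> simp [form, hw, hh, std_x, hφx]
  rw [hφform] at hg
  rcases k with ⟨u, t⟩ | ⟨u, t, v⟩
  · simp only [form] at hg
    have hu : u = 0 := by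
      have e : MulAut.conj (P.x u) (MulAut.conj (h P t) (P.y 1)) = P.y 1 := by
        rw [← MulAut.mul_apply, ← map_mul, hg, map_one, MulAut.one_apply]
      rw [h_conj_y P t.ne_zero, one_div] at e
      obtain ⟨n, hn⟩ : ∃ n : ℕ, (n : ZMod p) = (t : ZMod p) ^ 2 := ⟨((t : ZMod p) ^ 2).val, ZMod.natCast_zmod_val _⟩
      have e2 := congrArg (· ^ n) e
      simp only [← map_pow, ← y_natCast_mul, hn, mul_one, mul_inv_cancel₀ (pow_ne_zero 2 t.ne_zero)] at e2
      exact hfree u _ e2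
    subst hu
    rw [x_zero, one_mul] at hg
    have ht : (t : ZMod p) ^ 2 = 1 := by
      have := h_conj_x P t.ne_zero 1
      rw [hg, map_one, MulAut.one_apply, mul_one] at this
      exact (x_inj P hx this).symm
    rw [Matrix.SpecialLinearGroup.mem_center_iff]
    refine ⟨(t : ZMod p), by simpa using ht, ?_⟩
    have hti : (t : ZMod p)⁻¹ = t := inv_eq_of_mul_eq_one_left (by rw [← sq]; exact ht)
    rw [form, x_zero, one_mul, std_h_coe t.ne_zero, hti]
    ext i j
    fin_cases i <;> fin_cases j <;> simp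
  · exfalso
    simp only [form] at hg
    have e : MulAut.conj (P.x u * h P t) (MulAut.conj (w P 1) (MulAut.conj (P.x v) (P.x (-1)))) = P.x (-1) := by
      rw [← MulAut.mul_apply, ← MulAut.mul_apply, ← map_mul, ← map_mul, hg, map_one, MulAut.one_apply]
    rw [show MulAut.conj (P.x v) (P.x (-1)) = P.x (-1) by
        rw [MulAut.conj_apply, ← x_neg, ← P.x_add, ← P.x_add]; congr 1; ring,
      w_conj_x P one_ne_zero, neg_neg, one_pow, div_one] at e
    have e2 : P.y 1 = P.x (-((t : ZMod p) ^ 2)⁻¹) := by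
      apply (MulAut.conj (P.x u * h P t)).injective
      rw [e, map_mul, MulAut.mul_apply, h_conj_x P t.ne_zero, mul_neg,
        mul_inv_cancel₀ (pow_ne_zero 2 t.ne_zero), MulAut.conj_apply, ← x_neg, ← P.x_add, ← P.x_add]
      congr 1; ring
    exact y_one_ne P hx (e2.trans (hxy _ _ e2.symm))


end CfsgLib.Perm.SL2Pres
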