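import Mathlib
import Cfsg.Agent.Lib.Perm.Normal

/-! Criteria for multiple transitivity; normal subgroups of multiply transitive groups. -/

namespace CfsgLib.Perm.Transitivity

open MulAction CfsgLib.Perm.Normal

theorem isPretransitive_of_modEq {G : Type*} [Group G] {Ω : Type*} [MulAction G Ω] [Finite Ω] {q : ℕ}
    (hq : 1 < q) (h : ∀ a : Ω, ∃ P : Subgroup G, (∀ g ∈ P, g • a = a) ∧
      ∀ x, x ≠ a → q ∣ Nat.card (orbit P x)) : IsPretransitive G Ω := by
  constructor
  intro a b
  by_contra hne
  push Not at hne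
  set O : Set Ω := orbit G a
  have hb : b ∉ O := fun ⟨g, hg⟩ => hne g hg
  have hdiv : ∀ (P : Subgroup G) (T : Set Ω), (∀ x ∈ T, orbit P x ⊆ T) →
      (∀ x ∈ T, q ∣ Nat.card (orbit P x)) → q ∣ T.ncard := by
    intro P T
    induction hn : T.ncard using Nat.strong_induction_on generalizing T with
    | _ n ih =>
      intro hinv hd
      rcases T.eq_empty_or_nonempty with rfl | ⟨x, hx⟩
      · rw [Set.ncard_empty] at hn; rw [← hn]; exact dvd_zero _
      have hle := hinv x hx
      have hfin : T.Finite := Set.toFinite _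
      have e : (T \ orbit P x).ncard + (orbit P x).ncard = n := by
        rw [← hn, Set.ncard_sdiff_add_ncard_of_subset hle hfin]
      have hpos : 0 < (orbit P x).ncard := (Set.ncard_pos (hfin.subset hle)).mpr ⟨x, mem_orbit_self x⟩
      have := ih _ (by omega) (T \ orbit P x) rfl (fun y hy z hz => ⟨hinv y hy.1 hz, fun h => hy.2 (by
        rw [← orbit_eq_iff.mpr h, orbit_eq_iff.mpr hz]; exact mem_orbit_self y)⟩) (fun y hy => hd y hy.1)
      rw [← e]
      exact dvd_add this (by rw [← Nat.card_coe_set_eq]; exact hd x hx)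
  have hO : ∀ (P : Subgroup G) x, x ∈ O → orbit P x ⊆ O := by
    rintro P x hx _ ⟨g, rfl⟩
    exact (mem_orbit_iff.mpr (by
      obtain ⟨k, rfl⟩ := hx
      exact ⟨(g : G) * k, mul_smul _ _ _⟩))
  obtain ⟨P, -, hP⟩ := h b
  have h1 : q ∣ O.ncard := hdiv P O (hO P) (fun x hx => hP x fun e => hb (e ▸ hx))
  obtain ⟨P', hfix, hP'⟩ := h a
  have h2 : q ∣ (O \ {a}).ncard := hdiv P' _ (fun x hx y hy => ⟨hO P' x hx.1 hy, fun hya => hx.2 (by
      obtain ⟨g, rfl⟩ := hy
      exact MulAction.injective (g : G) ((show (g : G) • x = a from hya).trans (hfix g g.2).symm))⟩)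
    (fun x hx => hP' x hx.2)
  have h3 := Set.ncard_sdiff_singleton_add_one (mem_orbit_self a : a ∈ O) (Set.toFinite _)
  rw [← h3] at h1
  exact absurd (Nat.le_of_dvd one_pos ((Nat.dvd_add_right h2).mp h1)) (by omega)

/-- Gleason-type criterion. -/
theorem isMultiplyPretransitive_of_orbits.{u, v} {q : ℕ} (hq : 1 < q) : ∀ (k : ℕ), 1 ≤ k → ∀ (G : Type u) [Group G] (Ω : Type v)
    [MulAction G Ω] [Finite Ω], k < Nat.card Ω →
    (∀ s : Finset Ω, s.card = k → ∃ P : Subgroup G, (∀ x ∈ s, ∀ g ∈ P, g • x = x) ∧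
      ∀ x ∉ s, q ∣ Nat.card (orbit P x)) → IsMultiplyPretransitive G Ω k := by
  classical
  intro k hk
  induction k, hk using Nat.le_induction with
  | base =>
    intro G _ Ω _ _ _ h
    rw [is_one_pretransitive_iff]
    refine isPretransitive_of_modEq hq fun a => ?_
    obtain ⟨P, h1, h2⟩ := h {a} (Finset.card_singleton a)
    exact ⟨P, h1 a (Finset.mem_singleton_self a), fun x hx => h2 x (by simpa using hx)⟩
  | succ k hk ih =>
    intro G _ Ω _ _ hlt h
    have hst : ∀ a : Ω, IsMultiplyPretransitive (stabilizer G a) (SubMulAction.ofStabilizer G a) k := by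
      intro a
      refine ih _ _ (by rw [SubMulAction.nat_card_ofStabilizer_eq]; omega) fun s hs => ?_
      have ha : a ∉ s.map (Function.Embedding.subtype _) := by
        simp only [Finset.mem_map, Function.Embedding.coe_subtype, not_exists, not_and]
        exact fun x _ e => x.2 e
      obtain ⟨P, h1, h2⟩ := h (insert a (s.map (Function.Embedding.subtype _)))
        (by rw [Finset.card_insert_of_notMem ha, Finset.card_map, hs])
      refine ⟨P.subgroupOf _, fun x hx g hg => Subtype.ext (h1 _ (Finset.mem_insert_of_mem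
        (Finset.mem_map_of_mem _ hx)) _ hg), fun x hx => ?_⟩
      have hx' : (x : Ω) ∉ insert a (s.map (Function.Embedding.subtype _)) := by
        simp only [Finset.mem_insert, Finset.mem_map, Function.Embedding.coe_subtype, not_or]
        exact ⟨x.2, fun ⟨y, hy, e⟩ => hx (Subtype.ext e ▸ hy)⟩
      convert h2 x hx' using 1
      rw [Nat.card_coe_set_eq, Nat.card_coe_set_eq, ← Set.ncard_image_of_injective _ Subtype.val_injective]
      congr 1
      ext y
      constructor
      · rintro ⟨_, ⟨g, rfl⟩, rfl⟩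
        exact ⟨⟨((g : stabilizer G a) : G), g.2⟩, rfl⟩
      · rintro ⟨g, rfl⟩
        exact ⟨_, ⟨⟨⟨(g : G), h1 a (Finset.mem_insert_self _ _) g g.2⟩, g.2⟩, rfl⟩, rfl⟩
    haveI : IsPretransitive G Ω := by
      constructor
      intro u v
      obtain ⟨c, hc⟩ : ∃ c : Ω, c ≠ u ∧ c ≠ v := by
        by_contra hh
        push Not at hh
        have hle : (Set.univ : Set Ω) ⊆ {u, v} := fun c _ => by
          by_cases h1 : c = u
          · exact Or.inl h1
          · exact Or.inr (hh c h1)
        have h1 := Set.ncard_le_ncard hle (Set.toFinite _)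
        have h2 := Set.ncard_insert_le u ({v} : Set Ω)
        rw [Set.ncard_univ] at h1
        rw [Set.ncard_singleton] at h2
        omega
      haveI : IsPretransitive (stabilizer G c) (SubMulAction.ofStabilizer G c) := by
        rw [← is_one_pretransitive_iff]
        haveI := hst c
        refine isMultiplyPretransitive_of_le' (n := k) hk ?_
        rw [ENat.card_eq_coe_natCard, SubMulAction.nat_card_ofStabilizer_eq]
        exact_mod_cast (by omega : k ≤ Nat.card Ω - 1)
      obtain ⟨g, hg⟩ := exists_smul_eq (stabilizer G c) (⟨u, hc.1.symm⟩ : SubMulAction.ofStabilizer G c) ⟨v, hc.2.symm⟩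
      exact ⟨g, congrArg Subtype.val hg⟩
    obtain ⟨⟨a⟩, -⟩ := Nat.card_pos_iff.mp (by omega : 0 < Nat.card Ω)
    exact (SubMulAction.ofStabilizer.isMultiplyPretransitive (a := a)).mpr (hst a)

/-- A sharply doubly transitive normal subgroup gives a regular normal subgroup of the whole group. -/
theorem exists_regular_normal {G : Type*} [Group G] {Ω : Type*} [MulAction G Ω] [Finite Ω] [FaithfulSMul G Ω]
    (N : Subgroup G) [N.Normal] (h2 : IsMultiplyPretransitive N Ω 2)
    (hfree : ∀ (g : N) (a b : Ω), a ≠ b → g • a = a → g • b = b → g = 1) (hn : 2 ≤ Nat.card Ω) :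
    ∃ K : Subgroup G, K.Normal ∧ IsPretransitive K Ω ∧ ∀ x : Ω, stabilizer K x = ⊥ := by
  haveI : Finite (Equiv.Perm Ω) := inferInstance
  haveI : Finite G := Finite.of_injective (MulAction.toPermHom G Ω) MulAction.toPerm_injective
  obtain ⟨p, j, K, -, -, -, -, -, -, htr, hreg, hK, -, -⟩ :=
    CfsgLib.Perm.Sharp2.structure_thm (G := N) (Ω := Ω) h2 hfree hn
  refine ⟨K.map N.subtype, ⟨?_⟩, ⟨fun x y => ?_⟩, fun x => ?_⟩
  · rintro _ ⟨n, hn, rfl⟩ g
    refine ⟨⟨g * (n : G) * g⁻¹, (inferInstance : N.Normal).conj_mem n n.2 g⟩, ?_, rfl⟩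
    rw [SetLike.mem_coe, hK] at hn ⊢
    rcases hn with rfl | hn
    · exact Or.inl (Subtype.ext (by simp))
    · refine Or.inr fun a ha => hn (g⁻¹ • a) ?_
      change (g * (n : G) * g⁻¹) • a = a at ha
      rw [mul_smul, mul_smul, ← eq_inv_smul_iff] at ha
      exact ha
  · obtain ⟨k, hk⟩ := exists_smul_eq K x y
    exact ⟨⟨_, ⟨k, k.2, rfl⟩⟩, hk⟩
  · rw [Subgroup.eq_bot_iff_forall]
    rintro ⟨_, ⟨n, hn, rfl⟩⟩ hx
    have h1 : (⟨n, hn⟩ : K) ∈ stabilizer K x := hx
    rw [hreg, Subgroup.mem_bot] at h1
    exact Subtype.ext (congrArg (fun z : K => ((z : N) : G)) h1)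

theorem isPretransitive_normal' {G : Type*} [Group G] {Ω : Type*} [MulAction G Ω] [Finite Ω] [FaithfulSMul G Ω]
    {k : ℕ} (hk : 2 ≤ k) (hlt : k ≤ Nat.card Ω) (hG : IsMultiplyPretransitive G Ω k)
    (N : Subgroup G) [N.Normal] (hN : N ≠ ⊥) : IsPretransitive N Ω := by
  haveI := hG
  have h2 : IsMultiplyPretransitive G Ω 2 := isMultiplyPretransitive_of_le' (n := k) hk
    (by rw [ENat.card_eq_coe_natCard]; exact_mod_cast hlt)
  haveI := isPreprimitive_of_is_two_pretransitive h2
  exact isPretransitive_normal N hN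

theorem transitive_stab {G : Type*} [Group G] {Ω : Type*} [MulAction G Ω] [FaithfulSMul G Ω]
    [IsPretransitive G Ω] {N : Subgroup G} [N.Normal] {a : Ω} (hNa : stabilizer N a ≠ ⊥) :
    normalStab N a ≠ ⊥ := fun h => hNa (normalStab_eq_bot h)

theorem stab_ne_bot {G : Type*} [Group G] {Ω : Type*} [MulAction G Ω] {N : Subgroup G} [IsPretransitive N Ω]
    (hnr : ∃ a : Ω, stabilizer N a ≠ ⊥) (a : Ω) : stabilizer N a ≠ ⊥ := by
  obtain ⟨b, hb⟩ := hnr
  intro h
  apply hb
  obtain ⟨g, rfl⟩ := exists_smul_eq N a b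
  rw [stabilizer_smul_eq_stabilizer_map_conj, h, Subgroup.map_bot]

/-- sharpness of a normal subgroup from a regular stabiliser trace -/
theorem free_of_regular_stab {G : Type*} [Group G] {Ω : Type*} [MulAction G Ω] {N : Subgroup G}
    [IsPretransitive N Ω] {a : Ω}
    (hreg : ∀ y : SubMulAction.ofStabilizer G a, stabilizer (normalStab N a) y = ⊥)
    (g : N) (u v : Ω) (huv : u ≠ v) (hu : g • u = u) (hv : g • v = v) : g = 1 := by
  obtain ⟨k, hk⟩ := exists_smul_eq N u a
  have ha : k⁻¹ • a = u := by rw [inv_smul_eq_iff, hk]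
  have hkv : ((k : G)) • v ≠ a := fun h => huv (MulAction.injective (k : G) ((show (k : G) • u = a from hk).trans h.symm))
  have h1 : (k * g * k⁻¹) • a = a := by rw [mul_smul, mul_smul, ha, hu, hk]
  have h2 : (k * g * k⁻¹) • ((k : G) • v) = (k : G) • v := by
    change (k * g * k⁻¹) • k • v = k • v
    rw [mul_smul, mul_smul, inv_smul_smul, hv]
  have hm : (⟨⟨((k * g * k⁻¹ : N) : G), h1⟩, (k * g * k⁻¹).2⟩ : normalStab N a) ∈
      stabilizer (normalStab N a) (⟨_, hkv⟩ : SubMulAction.ofStabilizer G a) := Subtype.ext h2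
  rw [hreg, Subgroup.mem_bot] at hm
  have : k * g * k⁻¹ = 1 := Subtype.ext (congrArg (fun z : normalStab N a => ((z : stabilizer G a) : G)) hm)
  exact conj_eq_one_iff.mp this

/-- Jordan's theorem on normal subgroups of multiply transitive groups. -/
theorem jordan_normal.{u, v} : ∀ (k : ℕ), 2 ≤ k → ∀ (G : Type u) [Group G] (Ω : Type v) [MulAction G Ω] [Finite Ω]
    [FaithfulSMul G Ω], k < Nat.card Ω → IsMultiplyPretransitive G Ω k → ∀ (N : Subgroup G) [N.Normal],
    N ≠ ⊥ → IsMultiplyPretransitive N Ω (k - 1) ∨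
      (k = 3 ∧ IsMulCommutative N ∧ ∀ n ∈ N, n ^ 2 = 1) := by
  intro k hk
  induction k, hk using Nat.le_induction with
  | base =>
    intro G _ Ω _ _ _ hlt hG N _ hN
    exact Or.inl (is_one_pretransitive_iff.mpr (isPretransitive_normal' (k := 2) le_rfl hlt.le hG N hN))
  | succ k hk ih =>
    intro G _ Ω _ _ _ hlt hG N _ hN
    haveI := hG
    haveI := isPretransitive_normal' (k := k + 1) (by omega) hlt.le hG N hN
    have hle : ∀ m, m ≤ k + 1 → (m : ℕ∞) ≤ ENat.card Ω := fun m hm => by
      rw [ENat.card_eq_coe_natCard]; exact_mod_cast (by omega : m ≤ Nat.card Ω)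
    have hprimk : IsMultiplyPreprimitive G Ω k :=
      isMultiplyPreprimitive_of_isMultiplyPretransitive_succ G Ω (by exact_mod_cast hle (k + 1) le_rfl)
    haveI : IsPretransitive G Ω := ⟨fun x y => by
      obtain ⟨n, hn⟩ := exists_smul_eq N x y
      exact ⟨n, hn⟩⟩
    obtain ⟨⟨a⟩, -⟩ := Nat.card_pos_iff.mp (by omega : 0 < Nat.card Ω)
    by_cases hNa : stabilizer N a = ⊥
    · have hreg : ∀ x : Ω, stabilizer N x = ⊥ := fun x => by
        obtain ⟨g, rfl⟩ := exists_smul_eq N a x
        rw [stabilizer_smul_eq_stabilizer_map_conj, hNa, Subgroup.map_bot]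
      haveI := hprimk
      rcases Nat.lt_or_ge k 3 with h3 | h3
      · obtain rfl : k = 2 := by omega
        rcases regular_two_primitive (by omega) hprimk N inferInstance hreg with h | h
        · omega
        · exact Or.inr ⟨rfl, h.1, h.2.1⟩
      · have := regular_three_primitive (by omega)
          (isMultiplyPreprimitive_of_le G Ω hprimk h3 (hle k (by omega))) N inferInstance hreg
        omega
    haveI := faithful_ofStabilizer (G := G) a
    have hlt' : k < Nat.card (SubMulAction.ofStabilizer G a) := by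
      rw [SubMulAction.nat_card_ofStabilizer_eq]; omega
    have hGa : IsMultiplyPretransitive (stabilizer G a) (SubMulAction.ofStabilizer G a) k :=
      SubMulAction.ofStabilizer.isMultiplyPretransitive.mp hG
    rcases ih _ _ hlt' hGa (normalStab N a) (fun h => hNa (normalStab_eq_bot h)) with h | ⟨rfl, hc, -⟩
    · left
      have := succ_pretransitive h
      rwa [Nat.succ_eq_add_one, Nat.sub_add_cancel (by omega : 1 ≤ k)] at this
    · exfalso
      haveI := isPretransitive_normal' (k := 3) (by omega) hlt'.le hGa (normalStab N a) (fun h => hNa (normalStab_eq_bot h))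
      have hsreg := fun y => stabilizer_eq_bot_of_comm (Ω := SubMulAction.ofStabilizer G a) (normalStab N a) hc y
      have hN2 : IsMultiplyPretransitive N Ω 2 := succ_pretransitive (a := a) (is_one_pretransitive_iff.mpr inferInstance)
      obtain ⟨K, hK, hKt, hKr⟩ := exists_regular_normal N hN2 (free_of_regular_stab hsreg) (by omega)
      have := regular_three_primitive (by omega) hprimk K hKt hKr
      omega

/-- Normal subgroups of multiply primitive groups. -/
theorem primitive_normal.{u, v} : ∀ (k : ℕ), 1 ≤ k → ∀ (G : Type u) [Group G] (Ω : Type v) [MulAction G Ω] [Finite Ω]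
    [FaithfulSMul G Ω], k ≤ Nat.card Ω → IsMultiplyPreprimitive G Ω k → Nat.card G ≠ (Nat.card Ω).factorial →
    ∀ (H : Subgroup G) [H.Normal], H ≠ ⊥ → (∃ a : Ω, stabilizer H a ≠ ⊥) →
      IsMultiplyPretransitive H Ω k := by
  intro k hk
  induction k, hk using Nat.le_induction with
  | base =>
    intro G _ Ω _ _ _ hlt hG _ H _ hH _
    haveI := (is_one_preprimitive_iff G Ω).mp hG
    exact is_one_pretransitive_iff.mpr (isPretransitive_normal H hH)
  | succ k hk ih =>
    intro G _ Ω _ _ _ hlt hG htop H _ hH hnr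
    haveI := hG.isMultiplyPretransitive
    have hle : ∀ m, m ≤ k + 1 → (m : ℕ∞) ≤ ENat.card Ω := fun m hm => by
      rw [ENat.card_eq_coe_natCard]; exact_mod_cast (by omega : m ≤ Nat.card Ω)
    haveI hp1 : IsPreprimitive G Ω := (is_one_preprimitive_iff G Ω).mp
      (isMultiplyPreprimitive_of_le G Ω hG (by omega) (hle (k + 1) le_rfl))
    haveI := isPretransitive_normal (Ω := Ω) H hH
    obtain ⟨⟨a⟩, -⟩ := Nat.card_pos_iff.mp (by omega : 0 < Nat.card Ω)
    haveI := faithful_ofStabilizer (G := G) a
    have hHa : normalStab H a ≠ ⊥ := fun h => stab_ne_bot hnr a (normalStab_eq_bot h)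
    have hGa : IsMultiplyPreprimitive (stabilizer G a) (SubMulAction.ofStabilizer G a) k := by
      haveI := hG; exact isMultiplyPreprimitive_ofStabilizer G Ω (n := k)
    have hcard' := SubMulAction.nat_card_ofStabilizer_eq G a
    have htop' : Nat.card (stabilizer G a) ≠ (Nat.card (SubMulAction.ofStabilizer G a)).factorial := by
      intro h
      apply htop
      rw [CfsgLib.Perm.Basic.card_eq_mul_stabilizer (G := G) a, h, hcard']
      exact Nat.mul_factorial_pred (by omega)
    by_cases hsreg : ∀ y : SubMulAction.ofStabilizer G a, stabilizer (normalStab H a) y = ⊥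
    · haveI : IsPretransitive (normalStab H a) (SubMulAction.ofStabilizer G a) := by
        haveI : IsPreprimitive (stabilizer G a) (SubMulAction.ofStabilizer G a) := by
          refine (is_one_preprimitive_iff _ _).mp (isMultiplyPreprimitive_of_le _ _ hGa hk ?_)
          rw [ENat.card_eq_coe_natCard, hcard']; exact_mod_cast (by omega : k ≤ Nat.card Ω - 1)
        exact isPretransitive_normal (Ω := SubMulAction.ofStabilizer G a) _ hHa
      have hH2 : IsMultiplyPretransitive H Ω 2 := succ_pretransitive (a := a) (is_one_pretransitive_iff.mpr inferInstance)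
      rcases Nat.lt_or_ge k 2 with h2 | h2
      · obtain rfl : k = 1 := by omega
        exact hH2
      exfalso
      obtain ⟨K, hK, hKt, hKr⟩ := exists_regular_normal H hH2 (free_of_regular_stab hsreg) (by omega)
      have h3 : IsMultiplyPreprimitive G Ω 3 := isMultiplyPreprimitive_of_le G Ω hG (by omega) (hle (k + 1) le_rfl)
      have hn := regular_three_primitive (by omega) h3 K hKt hKr
      apply htop
      -- the group is the full symmetric group
      have hsurj : Function.Surjective (MulAction.toPermHom G Ω) := by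
        rw [← MonoidHom.range_eq_top]
        refine Equiv.Perm.eq_top_of_isMultiplyPretransitive ?_
        have h3t := h3.isMultiplyPretransitive
        rw [isMultiplyPretransitive_iff]
        intro x y
        have hm : IsMultiplyPretransitive G Ω (Nat.card Ω - 1) :=
          isMultiplyPretransitive_of_le' (n := 3) (by omega) (hle 3 (by omega))
        obtain ⟨g, hg⟩ := exists_smul_eq G x y
        exact ⟨⟨_, g, rfl⟩, hg⟩
      rw [← Nat.card_perm]
      exact Nat.card_congr (Equiv.ofBijective (MulAction.toPermHom G Ω) ⟨MulAction.toPerm_injective, hsurj⟩)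
    · push Not at hsreg
      exact succ_pretransitive (ih _ _ (by omega) hGa htop' (normalStab H a) hHa hsreg)

end CfsgLib.Perm.Transitivity
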