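import Cfsg.Agent.Lib.Perm.SharpThreeOdd
import Cfsg.Agent.Lib.Recognition.NearField.Basic

/-!
# A frame in a sharply triply transitive group of even degree

For three points `a`, `b`, `c` and the element `s` exchanging `a`, `b` and fixing `c`: the
translations `K` fixing `a`, the central involution `z` of `H = G_{a,b}`, and the involution
`r = e z` exchanging `b`, `c`. The relation `s r s = r s r` makes `s` invert the elements of order
three of `H`.
-/

set_option autoImplicit false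

namespace CfsgLib.Perm.SharpThreeFrame

open MulAction

variable {α : Type*} [Fintype α] [DecidableEq α] {G : Subgroup (Equiv.Perm α)}

/-- The frame data. -/
structure Frame (G : Subgroup (Equiv.Perm α)) (a b c : α) (s : G) where
  ab : a ≠ b
  ac : a ≠ c
  bc : b ≠ c
  sa : s • a = b
  sb : s • b = a
  sc : s • c = c
  free : ∀ (g : G) (x y w : α), x ≠ y → x ≠ w → y ≠ w → g • x = x → g • y = y → g • w = w → g = 1
  trans : ∀ x : α, x ≠ a → x ≠ b → ∃ g : G, g • a = a ∧ g • b = b ∧ g • c = x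
  p : ℕ
  f : ℕ
  hp : p.Prime
  hp2 : p ≠ 2
  hf : 0 < f
  hcard : Fintype.card α = p ^ f + 1
  K : Subgroup G
  Kcard : Nat.card K = p ^ f
  Kfix : ∀ k ∈ K, k • a = a
  Kconj : ∀ g : G, g • a = a → ∀ k ∈ K, g * k * g⁻¹ ∈ K
  Kcomm : ∀ k ∈ K, ∀ l ∈ K, k * l = l * k
  Kpow : ∀ k ∈ K, k ^ p = 1
  Kreg : ∀ x : α, x ≠ a → ∃ k ∈ K, k • b = x
  Kfree : ∀ k ∈ K, k • b = b → k = 1

/-- Frames exist. -/
theorem exists_frame (heven : Even (Fintype.card α)) (h4 : 4 ≤ Fintype.card α)
    (G : Subgroup (Equiv.Perm α)) (h3 : IsMultiplyPretransitive G α 3)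
    (hsharp : ∀ x : Fin 3 ↪ α, stabilizer G x = ⊥) {a b c : α} (hab : a ≠ b) (hac : a ≠ c)
    (hbc : b ≠ c) (s : G) (hsa : s • a = b) (hsb : s • b = a) (hsc : s • c = c) :
    Nonempty (Frame G a b c s) := by
  classical
  have hfree := SharpThreeOdd.free_of_sharp G hsharp
  haveI := h3
  haveI : IsMultiplyPretransitive G α 2 := isMultiplyPretransitive_of_le (n := 3) (by norm_num) (by
    rw [Nat.card_eq_fintype_card]; omega)
  haveI : IsPretransitive G α := isPretransitive_of_is_two_pretransitive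
  set S := stabilizer G a with hS
  set Ω := SubMulAction.ofStabilizer G a with hΩ
  have hΩcard : Nat.card Ω + 1 = Fintype.card α := by
    have h := SubMulAction.nat_card_ofStabilizer_add_one_eq (G := G) a
    rwa [Nat.card_eq_fintype_card (α := α), ← hΩ] at h
  have h2Ω : IsMultiplyPretransitive S Ω 2 :=
    (SubMulAction.ofStabilizer.isMultiplyPretransitive (n := 2)).1 h3
  obtain ⟨p, j, K, hp, hj, hcard, hKn, hKc, hKp, hKt, hKfree, hKmem, hKcard, hScard⟩ :=
    CfsgLib.Perm.Sharp2.structure_thm (G := S) (Ω := Ω) h2Ω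
      (fun g x y hxy hx hy => Subtype.ext (hfree (g : G) a x y (Ne.symm x.2) (Ne.symm y.2)
        (fun e => hxy (Subtype.ext e)) g.2 (congrArg Subtype.val hx) (congrArg Subtype.val hy)))
      (by omega)
  have hp2 : p ≠ 2 := by
    rintro rfl
    obtain ⟨r, hr⟩ := heven
    have : 2 ∣ 2 ^ j := dvd_pow_self 2 (by omega)
    omega
  refine ⟨{
    ab := hab, ac := hac, bc := hbc, sa := hsa, sb := hsb, sc := hsc, free := hfree
    trans := ?_, p := p, f := j, hp := hp, hp2 := hp2, hf := hj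
    hcard := by omega
    K := K.map S.subtype
    Kcard := by rw [Subgroup.card_map_of_injective S.subtype_injective, hKcard, hcard]
    Kfix := ?_, Kconj := ?_, Kcomm := ?_, Kpow := ?_, Kreg := ?_, Kfree := ?_ }⟩
  · intro x hxa hxb
    haveI := h2Ω
    obtain ⟨g, hgb, hgc⟩ := CfsgLib.Perm.Sharp2.pair_transitive (G := S) h2Ω
      (a := (⟨b, Ne.symm hab⟩ : Ω)) (b := (⟨c, Ne.symm hac⟩ : Ω)) (c := (⟨b, Ne.symm hab⟩ : Ω))
      (d := (⟨x, hxa⟩ : Ω))
      (fun e => hbc (congrArg Subtype.val e)) (fun e => hxb (congrArg Subtype.val e).symm)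
    exact ⟨g, g.2, congrArg Subtype.val hgb, congrArg Subtype.val hgc⟩
  · rintro _ ⟨k, -, rfl⟩
    exact k.2
  · rintro g hg _ ⟨k, hk, rfl⟩
    exact ⟨(⟨g, hg⟩ : S) * k * (⟨g, hg⟩ : S)⁻¹, hKn.conj_mem k hk _, rfl⟩
  · rintro _ ⟨k, hk, rfl⟩ _ ⟨l, hl, rfl⟩
    exact congrArg Subtype.val (congrArg Subtype.val (hKc.is_comm.comm (⟨k, hk⟩ : K) ⟨l, hl⟩))
  · rintro _ ⟨k, hk, rfl⟩
    exact congrArg Subtype.val (hKp k hk)
  · intro x hx
    haveI := hKt
    obtain ⟨k, hk⟩ := exists_smul_eq K (⟨b, Ne.symm hab⟩ : Ω) (⟨x, hx⟩ : Ω)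
    exact ⟨((k : S) : G), ⟨k, k.2, rfl⟩, congrArg Subtype.val hk⟩
  · rintro _ ⟨k, hk, rfl⟩ e
    have h1 : (⟨k, hk⟩ : K) ∈ stabilizer K (⟨b, Ne.symm hab⟩ : Ω) := Subtype.ext e
    rw [hKfree, Subgroup.mem_bot] at h1
    exact congrArg Subtype.val (congrArg Subtype.val h1)

/-- A triply transitive group has an element exchanging two points and fixing a third. -/
theorem exists_swap (G : Subgroup (Equiv.Perm α)) (h3 : IsMultiplyPretransitive G α 3) {a b c : α}
    (hab : a ≠ b) (hac : a ≠ c) (hbc : b ≠ c) :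
    ∃ s : G, s • a = b ∧ s • b = a ∧ s • c = c := by
  let x : Fin 3 ↪ α := ⟨![a, b, c], fun i j h => by fin_cases i <;> fin_cases j <;> simp_all⟩
  let y : Fin 3 ↪ α :=
    ⟨![b, a, c], fun i j h => by fin_cases i <;> fin_cases j <;> simp_all [eq_comm]⟩
  obtain ⟨g, hg⟩ := (isMultiplyPretransitive_iff.1 h3) x y
  have h : ∀ i : Fin 3, g • x i = y i := fun i => congrArg (fun f : Fin 3 ↪ α => f i) hg
  exact ⟨g, h 0, h 1, h 2⟩

namespace Frame

variable {a b c : α} {s : G} (D : Frame G a b c s)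
include D

/-- The two-point stabiliser. -/
def H (_ : Frame G a b c s) : Subgroup G := stabilizer G a ⊓ stabilizer G b

omit D in
theorem mem_H {D : Frame G a b c s} {g : G} : g ∈ D.H ↔ g • a = a ∧ g • b = b := Iff.rfl

theorem eq_of_smul_c {g h : G} (hg : g ∈ D.H) (hh : h ∈ D.H) (e : g • c = h • c) : g = h := by
  refine inv_mul_eq_one.mp (D.free (g⁻¹ * h) a b c D.ab D.ac D.bc ?_ ?_ ?_)
  · rw [mul_smul, hh.1, inv_smul_eq_iff]; exact hg.1.symm
  · rw [mul_smul, hh.2, inv_smul_eq_iff]; exact hg.2.symm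
  · rw [mul_smul, ← e, inv_smul_smul]

theorem s_sq : s * s = 1 := by
  refine D.free _ a b c D.ab D.ac D.bc ?_ ?_ ?_ <;>
    simp only [mul_smul, D.sa, D.sb, D.sc]

theorem s_inv : s⁻¹ = s := inv_eq_of_mul_eq_one_right D.s_sq

theorem conj_s_mem {h : G} (hh : h ∈ D.H) : s * h * s ∈ D.H := by
  constructor
  · show (s * h * s) • a = a
    rw [mul_smul, mul_smul, D.sa, hh.2, D.sb]
  · show (s * h * s) • b = b
    rw [mul_smul, mul_smul, D.sb, hh.1, D.sa]

theorem s_smul (h : G) : s • (h • c) = (s * h * s) • c := by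
  rw [mul_smul, mul_smul, D.sc]

theorem conj_mem {g k : G} (hg : g ∈ D.H) (hk : k ∈ D.K) : g * k * g⁻¹ ∈ D.K :=
  D.Kconj g hg.1 k hk

theorem smul_trans {g k : G} (hg : g ∈ D.H) : g • (k • b) = (g * k * g⁻¹) • b := by
  rw [mul_smul, mul_smul, inv_smul_eq_iff.mpr hg.2.symm]

theorem eq_of_smul_b {k l : G} (hk : k ∈ D.K) (hl : l ∈ D.K) (e : k • b = l • b) : k = l :=
  inv_mul_eq_one.mp (D.Kfree _ (mul_mem (inv_mem hk) hl) (by rw [mul_smul, ← e, inv_smul_smul]))

/-- A nontrivial element of the two-point stabiliser centralises no nontrivial translation. -/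
theorem eq_one_of_conj_eq {g k : G} (hg : g ∈ D.H) (hk : k ∈ D.K) (hk1 : k ≠ 1)
    (e : g * k * g⁻¹ = k) : g = 1 :=
  D.free g a b (k • b) D.ab
    (fun h => D.ab.symm (MulAction.injective k (h.symm.trans (D.Kfix k hk).symm)))
    (fun h => hk1 (D.Kfree k hk h.symm)) hg.1 hg.2 (by rw [D.smul_trans hg, e])

theorem card_H : Nat.card D.H = D.p ^ D.f - 1 := by
  classical
  have hmem : ∀ g : D.H, (g : G) • c ≠ a ∧ (g : G) • c ≠ b := fun g =>
    ⟨fun e => D.ac.symm (MulAction.injective (g : G) (e.trans g.2.1.symm)),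
      fun e => D.bc.symm (MulAction.injective (g : G) (e.trans g.2.2.symm))⟩
  have e : D.H ≃ {x : α // x ≠ a ∧ x ≠ b} := by
    refine Equiv.ofBijective (fun g => ⟨(g : G) • c, hmem g⟩) ⟨fun g h e => ?_, fun x => ?_⟩
    · exact Subtype.ext (D.eq_of_smul_c g.2 h.2 (congrArg Subtype.val e))
    · obtain ⟨g, ha, hb, hc⟩ := D.trans x.1 x.2.1 x.2.2
      exact ⟨⟨g, ha, hb⟩, Subtype.ext hc⟩
  rw [Nat.card_congr e, Nat.card_eq_fintype_card, Fintype.card_subtype,
    show (Finset.univ.filter fun x : α => x ≠ a ∧ x ≠ b) = ({a, b} : Finset α)ᶜ by ext; simp,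
    Finset.card_compl, Finset.card_pair D.ab, D.hcard]
  omega

theorem exists_involution : ∃ z ∈ D.H, z ≠ 1 ∧ z * z = 1 := by
  haveI : Fact (Nat.Prime 2) := ⟨Nat.prime_two⟩
  obtain ⟨z, hz⟩ := exists_prime_orderOf_dvd_card' (G := D.H) 2 (by
    rw [D.card_H]
    obtain ⟨r, hr⟩ := ((D.hp.odd_of_ne_two D.hp2).pow : Odd (D.p ^ D.f))
    exact ⟨r, by omega⟩)
  refine ⟨z, z.2, fun e => ?_, ?_⟩
  · rw [← Subgroup.orderOf_coe, e, orderOf_one] at hz
    norm_num at hz
  · have := pow_orderOf_eq_one z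
    rw [hz, pow_two] at this
    exact congrArg Subtype.val this

/-- An involution of the two-point stabiliser inverts the translations. -/
theorem involution_inverts {z : G} (hz : z ∈ D.H) (hz1 : z ≠ 1) (hz2 : z * z = 1) {k : G}
    (hk : k ∈ D.K) : z * k * z⁻¹ = k⁻¹ := by
  have hm := D.conj_mem hz hk
  by_contra hne
  have hw : k * (z * k * z⁻¹) ≠ 1 := fun e => hne (eq_inv_of_mul_eq_one_right e)
  refine hz1 (D.eq_one_of_conj_eq hz (mul_mem hk hm) hw ?_)
  have hzi : z⁻¹ = z := inv_eq_of_mul_eq_one_right hz2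
  calc z * (k * (z * k * z⁻¹)) * z⁻¹ = (z * k * z⁻¹) * ((z * z) * k * (z⁻¹ * z⁻¹)) := by group
    _ = (z * k * z⁻¹) * k := by rw [hzi, hz2, one_mul, mul_one]
    _ = _ := D.Kcomm _ hm _ hk

theorem involution_unique {z w : G} (hz : z ∈ D.H) (hz1 : z ≠ 1) (hz2 : z * z = 1) (hw : w ∈ D.H)
    (hw1 : w ≠ 1) (hw2 : w * w = 1) : z = w := by
  refine D.eq_of_smul_c hz hw ?_
  obtain ⟨k, hk, hkc⟩ := D.Kreg c D.ac.symm
  rw [← hkc, D.smul_trans hz, D.smul_trans hw, D.involution_inverts hz hz1 hz2 hk,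
    D.involution_inverts hw hw1 hw2 hk]

theorem involution_central {z g : G} (hz : z ∈ D.H) (hz1 : z ≠ 1) (hz2 : z * z = 1) (hg : g ∈ D.H) :
    g * z = z * g := by
  have h : g * z * g⁻¹ = z := D.involution_unique (mul_mem (mul_mem hg hz) (inv_mem hg))
    (fun e => hz1 (conj_eq_one_iff.mp e)) (by
      calc g * z * g⁻¹ * (g * z * g⁻¹) = g * (z * z) * g⁻¹ := by group
        _ = 1 := by rw [hz2]; group) hz hz1 hz2
  exact mul_inv_eq_iff_eq_mul.mp h

theorem s_involution {z : G} (hz : z ∈ D.H) (hz1 : z ≠ 1) (hz2 : z * z = 1) : s * z * s = z := by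
  refine D.involution_unique (D.conj_s_mem hz) ?_ ?_ hz hz1 hz2
  · intro e
    apply hz1
    calc z = (s * s) * z * (s * s) := by rw [D.s_sq]; group
      _ = s * (s * z * s) * s := by group
      _ = 1 := by rw [e, mul_one, D.s_sq]
  · calc s * z * s * (s * z * s) = s * z * (s * s) * z * s := by group
      _ = s * (z * z) * s := by rw [D.s_sq]; group
      _ = 1 := by rw [hz2, mul_one, D.s_sq]

/-- The key relation. -/
theorem exists_r : ∃ (z e : G), z ∈ D.H ∧ z ≠ 1 ∧ z * z = 1 ∧ e ∈ D.K ∧ e • b = c ∧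
    (∀ k ∈ D.K, (e * z) • (k • b) = (e * k⁻¹) • b) ∧
    s * (e * z) * s = (e * z) * s * (e * z) := by
  obtain ⟨z, hz, hz1, hz2⟩ := D.exists_involution
  obtain ⟨e, he, hec⟩ := D.Kreg c D.ac.symm
  have hr : ∀ k ∈ D.K, (e * z) • (k • b) = (e * k⁻¹) • b := fun k hk => by
    rw [mul_smul, D.smul_trans hz, D.involution_inverts hz hz1 hz2 hk, mul_smul]
  refine ⟨z, e, hz, hz1, hz2, he, hec, hr, ?_⟩
  have ra : (e * z) • a = a := by rw [mul_smul, hz.1, D.Kfix e he]
  have rb : (e * z) • b = c := by rw [mul_smul, hz.2, hec]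
  have rc : (e * z) • c = b := by
    conv_lhs => rw [← hec]
    rw [hr e he, mul_inv_cancel, one_smul]
  generalize e * z = r at ra rb rc ⊢
  refine inv_mul_eq_one.mp (D.free _ a b c D.ab D.ac D.bc ?_ ?_ ?_) <;> rw [mul_smul, inv_smul_eq_iff]
  · simp only [mul_smul, D.sa, D.sb, D.sc, ra, rb, rc]
  · simp only [mul_smul, D.sa, D.sb, D.sc, ra, rb, rc]
  · simp only [mul_smul, D.sa, D.sb, D.sc, ra, rb, rc]

/-- The swapping element inverts every element of order three. -/
theorem inverts_order_three {x : G} (hx : x ∈ D.H) (hx3 : x ^ 3 = 1) : s * x * s = x⁻¹ := by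
  by_cases hx1 : x = 1
  · rw [hx1, mul_one, D.s_sq, inv_one]
  obtain ⟨z, e, hz, hz1, hz2, he, hec, hr, hrel⟩ := D.exists_r
  have hr3 : ∀ w : G, w ∈ D.H → w ^ 3 = 1 → w ≠ 1 →
      (e * z) • ((z * w) • c) = (z * (w * w)) • c := by
    intro w hw hw3 hw1
    have hwe := D.conj_mem hw he
    have hwwe := D.conj_mem (mul_mem hw hw) he
    have hprod : e * (w * e * w⁻¹) * (w * w * e * (w * w)⁻¹) = 1 := by
      by_contra hne
      refine hw1 (D.eq_one_of_conj_eq hw (mul_mem (mul_mem he hwe) hwwe) hne ?_)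
      have h3 : w * (w * w) = 1 := by rw [← pow_two, ← pow_succ']; exact hw3
      calc w * (e * (w * e * w⁻¹) * (w * w * e * (w * w)⁻¹)) * w⁻¹
          = (w * e * w⁻¹) * ((w * w) * e * (w * w)⁻¹) * ((w * (w * w)) * e * (w * (w * w))⁻¹) := by
            group
        _ = (w * e * w⁻¹) * ((w * w) * e * (w * w)⁻¹) * e := by rw [h3, one_mul, inv_one, mul_one]
        _ = _ := by rw [mul_assoc, D.Kcomm _ hwe _ (mul_mem hwwe he), mul_assoc,
            D.Kcomm (w * w * e * (w * w)⁻¹) hwwe _ (mul_mem he hwe)]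
    have hval : ∀ u : G, u ∈ D.H → (z * u) • c = (u * e * u⁻¹)⁻¹ • b := fun u hu => by
      rw [mul_smul, ← hec, D.smul_trans hu, D.smul_trans hz,
        D.involution_inverts hz hz1 hz2 (D.conj_mem hu he)]
    rw [hval w hw, hr _ (inv_mem hwe), inv_inv, hval _ (mul_mem hw hw),
      eq_inv_of_mul_eq_one_left hprod]
  have hy : s * x * s ∈ D.H := D.conj_s_mem hx
  have hs3 : s * (x * x) * s = (s * x * s) * (s * x * s) := by
    calc s * (x * x) * s = s * x * (s * s) * (x * s) := by rw [D.s_sq]; group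
      _ = _ := by group
  have hy3 : (s * x * s) ^ 3 = 1 := by
    conv_lhs => rw [show s * x * s = s * x * s⁻¹ by rw [D.s_inv]]
    rw [conj_pow, hx3, mul_one, mul_inv_cancel]
  have hy1 : s * x * s ≠ 1 := fun h => hx1 (by
    calc x = (s * s) * x * (s * s) := by rw [D.s_sq]; group
      _ = s * (s * x * s) * s := by group
      _ = 1 := by rw [h, mul_one, D.s_sq])
  set y := s * x * s with hydef
  have hσ : ∀ u : G, u ∈ D.H → s • ((z * u) • c) = (z * (s * u * s)) • c := fun u _ => by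
    rw [D.s_smul, show s * (z * u) * s = (s * z * s) * (s * u * s) by
      calc s * (z * u) * s = s * z * (s * s) * u * s := by rw [D.s_sq]; group
        _ = _ := by group, D.s_involution hz hz1 hz2]
  have hyy : s * (y * y) * s = x * x := by
    rw [hydef]
    calc s * (s * x * s * (s * x * s)) * s = (s * s) * x * (s * s) * x * (s * s) := by group
      _ = x * x := by rw [D.s_sq]; group
  have hs2 : s * (y * y) * s = x * x ∧ y * y ∈ D.H := ⟨hyy, mul_mem hy hy⟩
  have hkey : (s * (e * z) * s) • ((z * x) • c) = (e * z * s * (e * z)) • ((z * x) • c) := by rw [hrel]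
  rw [mul_smul (s * (e * z)) s, mul_smul s (e * z), mul_smul (e * z * s) (e * z),
    mul_smul (e * z) s] at hkey
  rw [hσ x hx, hr3 y hy hy3 hy1, hσ _ (mul_mem hy hy), hyy, hr3 x hx hx3 hx1, hσ _ (mul_mem hx hx),
    hs3, hr3 (y * y) (mul_mem hy hy) (by rw [← pow_two, ← pow_mul, pow_mul', hy3, one_pow])
      (fun h => hy1 (by rw [pow_succ, pow_two, h, one_mul] at hy3; exact hy3))] at hkey
  have h1 := D.eq_of_smul_c (mul_mem hz (mul_mem hx hx))
    (mul_mem hz (mul_mem (mul_mem hy hy) (mul_mem hy hy))) hkey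
  have h2 : x * x = y := by
    rw [mul_left_cancel h1]
    calc y * y * (y * y) = y ^ 3 * y := by simp [pow_succ, mul_assoc]
      _ = y := by rw [hy3, one_mul]
  rw [← h2]
  exact (inv_eq_of_mul_eq_one_right (by rw [← pow_two, ← pow_succ']; exact hx3)).symm

omit D in
/-- The translations, written additively. -/
def KAdd (D : Frame G a b c s) : Type _ := Additive D.K

instance (D : Frame G a b c s) : AddCommGroup (KAdd D) :=
  letI : CommGroup D.K :=
    { (inferInstance : Group D.K) with mul_comm := fun u v => Subtype.ext (D.Kcomm u u.2 v v.2) }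
  inferInstanceAs (AddCommGroup (Additive D.K))

/-- The translation of an additive element. -/
def toK (D : Frame G a b c s) (u : KAdd D) : G := ((Additive.toMul u : D.K) : G)

/-- The additive element of a translation. -/
def ofK (D : Frame G a b c s) (k : G) (hk : k ∈ D.K) : KAdd D := Additive.ofMul ⟨k, hk⟩

theorem toK_mem (u : KAdd D) : D.toK u ∈ D.K := (Additive.toMul u : D.K).2

theorem toK_injective : Function.Injective D.toK := fun _ _ e =>
  Additive.toMul.injective (Subtype.ext e)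

theorem toK_ofK {k : G} (hk : k ∈ D.K) : D.toK (D.ofK k hk) = k := rfl

theorem toK_add (u v : KAdd D) : D.toK (u + v) = D.toK u * D.toK v := rfl

theorem toK_zero : D.toK (0 : KAdd D) = 1 := rfl

theorem toK_nsmul (n : ℕ) (u : KAdd D) : D.toK (n • u) = D.toK u ^ n := by
  induction n with
  | zero => rw [zero_nsmul, pow_zero, D.toK_zero]
  | succ n ih => rw [succ_nsmul, D.toK_add, ih, pow_succ]

noncomputable instance (D : Frame G a b c s) : Finite (KAdd D) :=
  Finite.of_injective _ D.toK_injective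

instance (D : Frame G a b c s) : Module (ZMod D.p) (KAdd D) :=
  AddCommGroup.zmodModule fun u => D.toK_injective (by
    rw [D.toK_nsmul, D.toK_zero]; exact D.Kpow _ (D.toK_mem u))

instance fact_prime (D : Frame G a b c s) : Fact (Nat.Prime D.p) := ⟨D.hp⟩

theorem card_KAdd : Nat.card (KAdd D) = D.p ^ D.f := D.Kcard

instance (D : Frame G a b c s) : Nontrivial (KAdd D) :=
  Finite.one_lt_card_iff_nontrivial.mp (by
    rw [D.card_KAdd]; exact Nat.one_lt_pow D.hf.ne' D.hp.one_lt)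

/-- Conjugation of the translations by the two-point stabiliser. -/
def rep (D : Frame G a b c s) : D.H →* Module.End (ZMod D.p) (KAdd D) where
  toFun g := AddMonoidHom.toZModLinearMap D.p (AddMonoidHom.mk'
    (fun u => D.ofK _ (D.conj_mem g.2 (D.toK_mem u))) fun u v => D.toK_injective (by
      rw [D.toK_ofK, D.toK_add, D.toK_add, D.toK_ofK, D.toK_ofK]; group))
  map_one' := LinearMap.ext fun u => D.toK_injective (by
    show ((1 : D.H) : G) * D.toK u * ((1 : D.H) : G)⁻¹ = D.toK u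
    simp)
  map_mul' g h := LinearMap.ext fun u => D.toK_injective (by
    show ((g * h : D.H) : G) * D.toK u * ((g * h : D.H) : G)⁻¹ =
      (g : G) * ((h : G) * D.toK u * (h : G)⁻¹) * (g : G)⁻¹
    simp [mul_assoc])

theorem toK_rep (g : D.H) (u : KAdd D) : D.toK (D.rep g u) = (g : G) * D.toK u * (g : G)⁻¹ := rfl

theorem rep_fpf : CfsgLib.Recognition.NearField.Fpf D.rep := fun g v hv hg =>
  Subtype.ext (D.eq_one_of_conj_eq g.2 (D.toK_mem v) (fun e => hv (D.toK_injective (by
    rw [e, D.toK_zero]))) (by rw [← D.toK_rep, hg]))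

/-- There is at most one subgroup of order three. -/
theorem mem_zpowers_of_order_three {x w : G} (hx : x ∈ D.H) (hw : w ∈ D.H) (hx3 : orderOf x = 3)
    (hw3 : w ^ 3 = 1) : w ∈ Subgroup.zpowers x := by
  have hx3' : x ^ 3 = 1 := hx3 ▸ pow_orderOf_eq_one x
  have hconj : (w * x * w⁻¹) ^ 3 = 1 := by rw [conj_pow, hx3', mul_one, mul_inv_cancel]
  have h := D.inverts_order_three (mul_mem (mul_mem hw hx) (inv_mem hw)) hconj
  have hwi := D.inverts_order_three (inv_mem hw) (by rw [inv_pow, hw3, inv_one])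
  rw [show s * (w * x * w⁻¹) * s = (s * w * s) * (s * x * s) * (s * w⁻¹ * s) by
      calc s * (w * x * w⁻¹) * s = s * w * (s * s) * x * (s * s) * w⁻¹ * s := by rw [D.s_sq]; group
        _ = _ := by group,
    D.inverts_order_three hw hw3, D.inverts_order_three hx hx3', hwi, inv_inv] at h
  have hcomm : Commute w x := by
    have h2 : Commute (w * w) x := by
      show _ * _ = _ * _
      have h' := congrArg Inv.inv h
      simp only [mul_inv_rev, inv_inv] at h'
      calc w * w * x = w * (w * x * w⁻¹) * w := by group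
        _ = w * (w⁻¹ * (x * w)) * w := by rw [← h']
        _ = x * (w * w) := by group
    have hw4 : w = (w * w) * (w * w) := by
      calc w = w ^ 3 * w := by rw [hw3, one_mul]
        _ = _ := by simp [pow_succ, mul_assoc]
    rw [hw4]
    exact h2.mul_left h2
  by_contra hne
  haveI : Fact (Nat.Prime D.p) := ⟨D.hp⟩
  have hfpf := D.rep_fpf
  set A := Subgroup.closure ({⟨x, hx⟩, ⟨w, hw⟩} : Set D.H) with hA
  have hAc : IsMulCommutative A := Subgroup.isMulCommutative_closure (by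
    rintro u (rfl | rfl) v (rfl | rfl)
    exacts [rfl, Subtype.ext hcomm.eq.symm, Subtype.ext hcomm.eq, rfl])
  haveI := CfsgLib.Recognition.NearField.isCyclic_of_comm hfpf A
    fun u hu v hv => congrArg Subtype.val (hAc.is_comm.comm (⟨u, hu⟩ : A) ⟨v, hv⟩)
  have hxA : (⟨x, hx⟩ : D.H) ∈ A := Subgroup.subset_closure (by simp)
  have hwA : (⟨w, hw⟩ : D.H) ∈ A := Subgroup.subset_closure (by simp)
  apply hne
  have h3 : (⟨⟨w, hw⟩, hwA⟩ : A) ^ 3 = 1 :=
    Subtype.ext (Subtype.ext (by push_cast; exact hw3))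
  have hox : orderOf (⟨⟨x, hx⟩, hxA⟩ : A) = 3 := by
    rw [← Subgroup.orderOf_coe, ← Subgroup.orderOf_coe]; exact hx3
  have hmem : (⟨⟨w, hw⟩, hwA⟩ : A) ∈ Subgroup.zpowers (⟨⟨x, hx⟩, hxA⟩ : A) := by
    classical
    haveI := Fintype.ofFinite A
    obtain ⟨g, hg⟩ := IsCyclic.exists_generator (α := A)
    have hroots := IsCyclic.card_pow_eq_one_le (α := A) (n := 3) (by norm_num)
    by_contra hn
    have hsub : (Finset.univ.image fun i : Fin 3 => (⟨⟨x, hx⟩, hxA⟩ : A) ^ (i : ℕ)) ∪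
        {⟨⟨w, hw⟩, hwA⟩} ⊆ (Finset.univ.filter fun u : A => u ^ 3 = 1) := by
      intro u hu
      rw [Finset.mem_union, Finset.mem_singleton, Finset.mem_image] at hu
      rw [Finset.mem_filter]
      refine ⟨Finset.mem_univ _, ?_⟩
      rcases hu with ⟨i, -, rfl⟩ | rfl
      · rw [← pow_mul, mul_comm, pow_mul,
          show (⟨⟨x, hx⟩, hxA⟩ : A) ^ 3 = 1 from hox ▸ pow_orderOf_eq_one _, one_pow]
      · exact h3
    have hcard := (Finset.card_le_card hsub).trans hroots
    rw [Finset.card_union_of_disjoint (by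
        rw [Finset.disjoint_singleton_right, Finset.mem_image]
        rintro ⟨i, -, hi⟩
        exact hn (hi ▸ pow_mem (Subgroup.mem_zpowers _) _)),
      Finset.card_image_of_injective _ (fun i j e => Fin.ext
        (pow_injOn_Iio_orderOf (by rw [hox]; exact i.2) (by rw [hox]; exact j.2) e))] at hcard
    simp at hcard
  obtain ⟨i, hi⟩ := Subgroup.mem_zpowers_iff.mp hmem
  exact Subgroup.mem_zpowers_iff.mpr ⟨i, by
    have := congrArg (fun u : A => ((u : D.H) : G)) hi
    simpa using this⟩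

end Frame

end CfsgLib.Perm.SharpThreeFrame
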