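import Cfsg.Agent.Lib.Perm.SharpThreeFrame
import Cfsg.Agent.Lib.Perm.Zassenhaus.Action
import Cfsg.Agent.Lib.Recognition.NearField.Main
import Cfsg.Agent.Lib.Recognition.Zassenhaus.Core

/-!
# An invariant subgroup of index two of the two-point stabiliser

The two-point stabiliser is regular on the nonzero translations and has at most one subgroup of
order three, which excludes `SL(2,5)`, `SL(2,3)` and `SL(2,3) × C₅`; so it has a subgroup of index
two, and then also one invariant under the swapping element.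
-/

set_option autoImplicit false

namespace CfsgLib.Perm.SharpThreeFrame

open CfsgLib.Recognition

local notation "SL₂(" q ")" => Matrix.SpecialLinearGroup (Fin 2) (ZMod q)

namespace Frame

variable {α : Type*} [Fintype α] [DecidableEq α] {G : Subgroup (Equiv.Perm α)}
variable {a b c : α} {s : G} (D : Frame G a b c s)
include D

/-- Two independent elements of order three cannot occur. -/
theorem no_two_order_three {X : Type*} [Group X] {ι : X →* D.H} (hι : Function.Injective ι)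
    {x w : X} (hx : orderOf x = 3) (hw : w ^ 3 = 1) (hne : w ∉ Subgroup.zpowers x) : False := by
  refine hne ?_
  have hx' : orderOf ((ι x : D.H) : G) = 3 := by
    rw [Subgroup.orderOf_coe, orderOf_injective ι hι, hx]
  have hw' : ((ι w : D.H) : G) ^ 3 = 1 := by
    rw [← SubmonoidClass.coe_pow, ← map_pow, hw, map_one, OneMemClass.coe_one]
  obtain ⟨i, hi⟩ := Subgroup.mem_zpowers_iff.mp
    (D.mem_zpowers_of_order_three (ι x).2 (ι w).2 hx' hw')
  refine Subgroup.mem_zpowers_iff.mpr ⟨i, hι (Subtype.ext ?_)⟩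
  rw [map_zpow, SubgroupClass.coe_zpow, hi]

omit D in
theorem mem_zpowers_three {X : Type*} [Group X] {x w : X} (hx : x ^ 3 = 1)
    (hw : w ∈ Subgroup.zpowers x) : w = 1 ∨ w = x ∨ w = x * x := by
  obtain ⟨i, rfl⟩ := Subgroup.mem_zpowers_iff.mp hw
  have h : x ^ i = x ^ (i % 3) := by
    conv_lhs => rw [← Int.emod_add_ediv_mul i 3]
    rw [zpow_add, mul_comm, zpow_mul, show x ^ (3 : ℤ) = 1 by exact_mod_cast hx, one_zpow, mul_one]
  have h0 := Int.emod_nonneg i (show (3 : ℤ) ≠ 0 by norm_num)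
  have h3 := Int.emod_lt_of_pos i (show (0 : ℤ) < 3 by norm_num)
  rw [h]
  interval_cases i % 3
  · exact Or.inl (zpow_zero x)
  · exact Or.inr (Or.inl (zpow_one x))
  · exact Or.inr (Or.inr (zpow_two x))

theorem no_sl_two_three {ι : SL₂(3) →* D.H} (hι : Function.Injective ι) : False := by
  have key : ∃ x w : SL₂(3), x ^ 3 = 1 ∧ x ≠ 1 ∧ w ^ 3 = 1 ∧ w ≠ 1 ∧ w ≠ x ∧ w ≠ x * x :=
    by decide +kernel
  obtain ⟨x, w, hx, hx1, hw, h1, h2, h3⟩ := key
  haveI : Fact (Nat.Prime 3) := ⟨Nat.prime_three⟩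
  refine D.no_two_order_three hι (orderOf_eq_prime hx hx1) hw fun h => ?_
  rcases mem_zpowers_three hx h with e | e | e
  exacts [h1 e, h2 e, h3 e]

theorem no_sl_two_five {ι : SL₂(5) →* D.H} (hι : Function.Injective ι) : False := by
  have key : ∃ x w : SL₂(5), x ^ 3 = 1 ∧ x ≠ 1 ∧ w ^ 3 = 1 ∧ w ≠ 1 ∧ w ≠ x ∧ w ≠ x * x :=
    by decide +kernel
  obtain ⟨x, w, hx, hx1, hw, h1, h2, h3⟩ := key
  haveI : Fact (Nat.Prime 3) := ⟨Nat.prime_three⟩
  refine D.no_two_order_three hι (orderOf_eq_prime hx hx1) hw fun h => ?_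
  rcases mem_zpowers_three hx h with e | e | e
  exacts [h1 e, h2 e, h3 e]

theorem isSolvable_H : Group.IsSolvable D.H := by
  classical
  by_contra hns
  obtain ⟨R, hR0, hR⟩ := Zassenhaus.exists_perfect hns
  haveI : Nontrivial R := (Subgroup.nontrivial_iff_ne_bot R).mpr hR0
  obtain ⟨e⟩ := CfsgLib.Perm.Zassenhaus.nonempty_equiv_of_action
    ((NearField.actAut D.rep).comp R.subtype)
    (fun g hg v hv => by
      by_contra hv1
      refine hg (Subtype.ext (D.rep_fpf (g : D.H) v.toAdd (fun h => hv1 ?_) ?_))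
      · exact Multiplicative.toAdd.injective h
      · exact congrArg Multiplicative.toAdd hv)
    (by rw [← derivedSeries_one]; exact Zassenhaus.derived_eq_top hR 1)
  exact D.no_sl_two_five (ι := R.subtype.comp e.symm.toMonoidHom)
    (R.subtype_injective.comp e.symm.injective)

theorem exists_index_two : ∃ N : Subgroup D.H, N.Normal ∧ N.index = 2 := by
  haveI := D.isSolvable_H
  have hreg : Nat.card D.H = Nat.card (KAdd D) - 1 := by rw [D.card_H, D.card_KAdd]
  rcases (NearField.main D.rep_fpf hreg).2 D.hp2 with h | ⟨-, ⟨e⟩⟩ | ⟨-, ⟨e⟩⟩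
  · exact h
  · exact (D.no_sl_two_three (ι := e.symm.toMonoidHom) e.symm.injective).elim
  · exact (D.no_sl_two_three (ι := e.symm.toMonoidHom.comp (MonoidHom.inl _ _))
      (e.symm.injective.comp fun _ _ h => congrArg Prod.fst h)).elim

theorem exists_invariant_index_two : ∃ N : Subgroup G, N ≤ D.H ∧ (N.subgroupOf D.H).Normal ∧
    N.relIndex D.H = 2 ∧ ∀ n ∈ N, s * n * s⁻¹ ∈ N := by
  classical
  obtain ⟨N, -, hN2⟩ := D.exists_index_two
  let σ : D.H → D.H := fun g => ⟨s * g * s, D.conj_s_mem g.2⟩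
  have hσσ : ∀ g, σ (σ g) = g := fun g => Subtype.ext (by
    show s * (s * g * s) * s = g
    calc s * (s * (g : G) * s) * s = (s * s) * g * (s * s) := by group
      _ = g := by rw [D.s_sq, one_mul, mul_one])
  have hσmul : ∀ g h, σ (g * h) = σ g * σ h := fun g h => Subtype.ext (by
    show s * ((g : G) * h) * s = (s * g * s) * (s * h * s)
    calc s * ((g : G) * h) * s = s * g * 1 * h * s := by group
      _ = s * g * (s * s) * h * s := by rw [D.s_sq]
      _ = _ := by group)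
  suffices hkey : ∃ M : Subgroup D.H, M.index = 2 ∧ ∀ g ∈ M, σ g ∈ M by
    obtain ⟨M, hM, hMσ⟩ := hkey
    haveI : M.Normal := Subgroup.normal_of_index_eq_two hM
    refine ⟨M.map D.H.subtype, Subgroup.map_subtype_le M, ?_, ?_, ?_⟩
    · rw [Subgroup.subgroupOf, Subgroup.comap_map_eq_self_of_injective D.H.subtype_injective]
      infer_instance
    · rw [Subgroup.relIndex, Subgroup.subgroupOf,
        Subgroup.comap_map_eq_self_of_injective D.H.subtype_injective, hM]
    · rintro _ ⟨n, hn, rfl⟩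
      exact ⟨σ n, hMσ n hn, by rw [D.s_inv]; rfl⟩
  by_cases hinv : ∀ g ∈ N, σ g ∈ N
  · exact ⟨N, hN2, hinv⟩
  have hiff : ∀ g h : D.H, g * h ∈ N ↔ (g ∈ N ↔ h ∈ N) := fun g h =>
    Subgroup.mul_mem_iff_of_index_two hN2
  let M : Subgroup D.H :=
    { carrier := {g | g ∈ N ↔ σ g ∈ N}
      one_mem' := by
        have h1 : σ 1 = 1 := Subtype.ext (by show s * 1 * s = 1; rw [mul_one, D.s_sq])
        show (1 : D.H) ∈ N ↔ σ 1 ∈ N
        rw [h1]
      mul_mem' := fun {g h} (hg : g ∈ N ↔ σ g ∈ N) (hh : h ∈ N ↔ σ h ∈ N) => by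
        show g * h ∈ N ↔ σ (g * h) ∈ N
        rw [hσmul, hiff, hiff, hg, hh]
      inv_mem' := fun {g} (hg : g ∈ N ↔ σ g ∈ N) => by
        show g⁻¹ ∈ N ↔ σ g⁻¹ ∈ N
        have h1 : σ g⁻¹ = (σ g)⁻¹ := eq_inv_of_mul_eq_one_left (by
          rw [← hσmul, inv_mul_cancel]
          exact Subtype.ext (by show s * 1 * s = 1; rw [mul_one, D.s_sq]))
        rw [h1, inv_mem_iff, inv_mem_iff, hg] }
  have hMdef : ∀ g, g ∈ M ↔ (g ∈ N ↔ σ g ∈ N) := fun g => Iff.rfl
  push Not at hinv
  obtain ⟨g₀, hg₀, hg₀'⟩ := hinv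
  refine ⟨M, Subgroup.index_eq_two_iff.mpr ⟨g₀, fun g => ?_⟩, fun g hg => ?_⟩
  · have : g * g₀ ∈ M ↔ ¬ g ∈ M := by
      rw [hMdef, hMdef, hσmul, hiff, hiff]
      tauto
    rw [xor_iff_iff_not]
    tauto
  · rw [hMdef, hσσ]; exact ((hMdef g).mp hg).symm

end Frame

end CfsgLib.Perm.SharpThreeFrame
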