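import Mathlib
import Cfsg.Agent.Lib.Perm.CentralizerRing
import Cfsg.Agent.Lib.Char.Constituent

/-!
Suborbits and the constituents of a transitive permutation character.
-/

set_option autoImplicit false

namespace CfsgLib.Perm.Suborbits

open scoped ComplexConjugate
open MulAction CfsgLib.Char CentralizerRing

universe u v

variable {G : Type u} [Group G] {Ω : Type v} [MulAction G Ω]

/-- The relation of lying in the same orbital as `(a, b)`. -/
def InOrbital (G : Type u) [Group G] [MulAction G Ω] (a b i j : Ω) : Prop :=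
  ∃ g : G, g • a = i ∧ g • b = j

theorem inOrbital_smul (a b : Ω) (h : G) (i j : Ω) :
    InOrbital G a b (h • i) (h • j) ↔ InOrbital G a b i j := by
  constructor
  · rintro ⟨g, h1, h2⟩
    exact ⟨h⁻¹ * g, by rw [mul_smul, h1, inv_smul_smul], by rw [mul_smul, h2, inv_smul_smul]⟩
  · rintro ⟨g, rfl, rfl⟩
    exact ⟨h * g, mul_smul _ _ _, mul_smul _ _ _⟩

theorem inOrbital_left_iff (a b j : Ω) :
    InOrbital G a b a j ↔ j ∈ orbit (stabilizer G a) b :=
  ⟨fun ⟨g, h1, h2⟩ => ⟨⟨g, h1⟩, h2⟩, fun ⟨g, hg⟩ => ⟨g, g.2, hg⟩⟩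

variable [Fintype G]

/-- Summing over the group a function of the image of a point. -/
theorem sum_smul_point [Fintype Ω] [IsPretransitive G Ω] (a : Ω) {M : Type*} [AddCommMonoid M]
    (F : Ω → M) : ∑ g : G, F (g • a) = Nat.card (stabilizer G a) • ∑ j, F j := by
  classical
  rw [← Finset.sum_fiberwise Finset.univ (fun g : G => g • a) (fun g => F (g • a)), Finset.smul_sum]
  refine Fintype.sum_congr _ _ fun j => ?_
  rw [Finset.sum_congr rfl (fun g hg => by rw [(Finset.mem_filter.mp hg).2] :
    ∀ g ∈ Finset.univ.filter (fun g : G => g • a = j), F (g • a) = F j), Finset.sum_const]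
  congr 1
  obtain ⟨h, rfl⟩ := exists_smul_eq G a j
  rw [Nat.card_eq_fintype_card, Fintype.card_subtype]
  refine Finset.card_bij (fun g _ => h⁻¹ * g) (fun g hg => ?_) (fun x _ y _ e => mul_left_cancel e)
    fun k hk => ⟨h * k, ?_, inv_mul_cancel_left h k⟩
  · simp only [Finset.mem_filter, Finset.mem_univ, true_and, mem_stabilizer_iff] at hg ⊢
    rw [mul_smul, hg, inv_smul_smul]
  · simp only [Finset.mem_filter, Finset.mem_univ, true_and, mem_stabilizer_iff] at hk ⊢
    rw [mul_smul, hk]

theorem card_stabilizer_mul [Fintype Ω] [IsPretransitive G Ω] (a : Ω) :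
    Nat.card (stabilizer G a) * Fintype.card Ω = Nat.card G := by
  have h := sum_smul_point (G := G) a (fun _ : Ω => (1 : ℕ))
  simp only [Finset.sum_const, Finset.card_univ, smul_eq_mul, mul_one] at h
  rw [← h, Nat.card_eq_fintype_card (α := G)]

variable [Fintype Ω]

/-- The trivial character. -/
def trivChar (G : Type u) [Group G] [Fintype G] : Cfsg.IrrCharacter G := ⟨fun _ => 1, isIrrCharacter_one⟩

theorem mult_trivChar [IsPretransitive G Ω] [Nonempty Ω] :
    mult (Cfsg.permRep ℂ G Ω) (trivChar G) = 1 := by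
  classical
  have h : (mult (Cfsg.permRep ℂ G Ω) (trivChar G) : ℂ) = 1 := by
    rw [← classInner_eq_mult]
    change Cfsg.classInner (Cfsg.permRep ℂ G Ω).character (fun _ => 1) = 1
    rw [classInner_fun_one_right, character_fun_eq, ← Nat.cast_sum,
      inv_mul_eq_one₀ CfsgLib.Char.card_ne_zero, Nat.cast_inj]
    have hb := sum_card_fixedBy_eq_card_orbits_mul_card_group G Ω
    have h1 : Fintype.card (orbitRel.Quotient G Ω) = 1 := by
      haveI : Subsingleton (orbitRel.Quotient G Ω) := (pretransitive_iff_subsingleton_quotient G Ω).mp inferInstance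
      obtain ⟨x⟩ := ‹Nonempty Ω›
      exact Fintype.card_eq_one_iff.mpr ⟨Quotient.mk'' x, fun y => Subsingleton.elim _ _⟩
    simp only [h1, one_mul, ← Nat.card_eq_fintype_card] at hb
    rw [← hb]
  exact_mod_cast h

/-- The rank is the sum of the squared multiplicities. -/
theorem rank_eq [IsPretransitive G Ω] (a : Ω) :
    Nat.card (orbitRel.Quotient (stabilizer G a) Ω) = ∑ φ, mult (Cfsg.permRep ℂ G Ω) φ ^ 2 := by
  classical
  have hchar : Cfsg.IsCharacter G (Cfsg.permRep ℂ G Ω).character := isCharacter_of_rep _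
  have h := classInner_eq_sum_irr (IsCharacter.isClassFunction hchar) (Cfsg.permRep ℂ G Ω).character
  have hr : ∀ φ : Cfsg.IrrCharacter G,
      Cfsg.classInner (Cfsg.permRep ℂ G Ω).character (φ : G → ℂ) *
        Cfsg.classInner (φ : G → ℂ) (Cfsg.permRep ℂ G Ω).character =
      ((mult (Cfsg.permRep ℂ G Ω) φ ^ 2 : ℕ) : ℂ) := fun φ => by
    rw [IsCharacter.classInner_comm (isCharacter_irr φ) hchar, classInner_eq_mult, Nat.cast_pow, sq]
  simp only [hr, ← Nat.cast_sum] at h
  have hsum : ∑ g : G, Nat.card (fixedBy Ω g) * Nat.card (fixedBy Ω g) =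
      Nat.card (orbitRel.Quotient (stabilizer G a) Ω) * Nat.card G := by
    have hb := sum_card_fixedBy_eq_card_orbits_mul_card_group (stabilizer G a) Ω
    simp only [← Nat.card_eq_fintype_card] at hb
    have hperm : ∀ h : G, ∑ g : G, (if g • (h • a) = h • a then Nat.card (fixedBy Ω g) else 0) =
        ∑ g : G, if g • a = a then Nat.card (fixedBy Ω g) else 0 := fun h => by
      refine Fintype.sum_equiv (MulAut.conj h⁻¹).toEquiv _ _ fun g => ?_
      have e : (MulAut.conj h⁻¹).toEquiv g = h⁻¹ * g * h := by simp [MulAut.conj_apply]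
      have hc : Nat.card (fixedBy Ω g) = Nat.card (fixedBy Ω (h⁻¹ * g * h)) :=
        Nat.card_congr
          { toFun := fun x => ⟨h⁻¹ • x.1, by
              show (h⁻¹ * g * h) • (h⁻¹ • x.1) = h⁻¹ • x.1
              rw [mul_smul, mul_smul, smul_inv_smul, x.2]⟩
            invFun := fun x => ⟨h • x.1, by
              show g • (h • x.1) = h • x.1
              have := x.2
              simp only [mem_fixedBy, mul_smul, inv_smul_eq_iff] at this
              exact this⟩
            left_inv := fun x => Subtype.ext (smul_inv_smul _ _)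
            right_inv := fun x => Subtype.ext (inv_smul_smul _ _) }
      rw [e, hc]
      simp [mul_smul, inv_smul_eq_iff]
    calc ∑ g : G, Nat.card (fixedBy Ω g) * Nat.card (fixedBy Ω g)
        = ∑ i : Ω, ∑ g : G, (if g • i = i then Nat.card (fixedBy Ω g) else 0) := by
          rw [Finset.sum_comm]
          refine Fintype.sum_congr _ _ fun g => ?_
          rw [Finset.sum_ite, Finset.sum_const_zero, add_zero, Finset.sum_const, smul_eq_mul]
          congr 1
          rw [Nat.card_eq_fintype_card, Fintype.card_subtype]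
          simp [mem_fixedBy]
      _ = ∑ _i : Ω, ∑ g : G, (if g • a = a then Nat.card (fixedBy Ω g) else 0) := by
          refine Fintype.sum_congr _ _ fun i => ?_
          obtain ⟨h, rfl⟩ := exists_smul_eq G a i
          exact hperm h
      _ = Fintype.card Ω * ∑ g : stabilizer G a, Nat.card (fixedBy Ω g) := by
          rw [Finset.sum_const, Finset.card_univ, smul_eq_mul]
          congr 1
          rw [← Finset.sum_filter, ← Finset.sum_subtype_eq_sum_filter]
          refine Finset.sum_bij (fun g _ => ⟨g.1, g.2⟩) (fun _ _ => Finset.mem_univ _) ?_ ?_ ?_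
          · intro x _ y _ e
            exact Subtype.ext (congrArg Subtype.val e)
          · intro y _
            exact ⟨⟨y.1, y.2⟩, by simp, Subtype.ext rfl⟩
          · intro x _
            rfl
      _ = Nat.card (orbitRel.Quotient (stabilizer G a) Ω) * Nat.card G := by
          rw [hb, ← card_stabilizer_mul (G := G) a]
          ring
  have hval : Cfsg.classInner (Cfsg.permRep ℂ G Ω).character (Cfsg.permRep ℂ G Ω).character =
      (Nat.card (orbitRel.Quotient (stabilizer G a) Ω) : ℂ) := by
    simp only [Cfsg.classInner, character_fun_eq, Complex.conj_natCast, ← Nat.cast_mul,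
      ← Nat.cast_sum]
    rw [hsum, Nat.cast_mul, mul_comm, mul_inv_cancel_right₀ CfsgLib.Char.card_ne_zero]
  rw [hval] at h
  exact_mod_cast h

open scoped Classical in
/-- The zero-one endomorphism of an orbital. -/
noncomputable def orbitalMap (G : Type u) [Group G] [MulAction G Ω] (a b : Ω) :
    Module.End ℂ (Ω → ℂ) :=
  Matrix.toLin' (Matrix.of fun i j => if InOrbital G a b i j then (1 : ℂ) else 0)

open scoped Classical in
theorem toMatrix_orbitalMap (a b i j : Ω) :
    LinearMap.toMatrix' (orbitalMap G a b) i j = if InOrbital G a b i j then (1 : ℂ) else 0 := by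
  rw [orbitalMap, LinearMap.toMatrix'_toLin', Matrix.of_apply]

theorem orbitalMap_commute (a b : Ω) (g : G) :
    orbitalMap G a b * Cfsg.permRep ℂ G Ω g = Cfsg.permRep ℂ G Ω g * orbitalMap G a b := by
  classical
  refine (commute_iff _).mpr (fun h i j => ?_) g
  rw [toMatrix_orbitalMap, toMatrix_orbitalMap, inOrbital_smul]

omit [Fintype G] in
theorem orbitalMap_isIntegral (a b : Ω) : IsIntegral ℤ (orbitalMap G a b) := by
  classical
  let M : Matrix Ω Ω ℤ := Matrix.of fun i j => if InOrbital G a b i j then (1 : ℤ) else 0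
  let f : Matrix Ω Ω ℤ →+* Module.End ℂ (Ω → ℂ) :=
    (Matrix.toLinAlgEquiv' (R := ℂ) (n := Ω)).toRingEquiv.toRingHom.comp
      (Int.castRingHom ℂ).mapMatrix
  have hM : orbitalMap G a b = f M := by
    rw [orbitalMap]
    change _ = Matrix.toLin' (M.map (Int.castRingHom ℂ))
    congr 1
    ext i j
    simp only [M, Matrix.of_apply, Matrix.map_apply, eq_intCast]
    split_ifs <;> simp
  rw [hM]
  exact (Matrix.isIntegral M).map f.toIntAlgHom

/-- The key identity: a suborbit length is divisible by every common divisor of the degrees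
of the nontrivial constituents. -/
theorem dvd_card_orbit [IsPretransitive G Ω] (f : ℕ)
    (hf : ∀ φ : Cfsg.IrrCharacter G, φ ≠ trivChar G → mult (Cfsg.permRep ℂ G Ω) φ ≠ 0 →
      ∃ m : ℕ, (φ : G → ℂ) 1 = (f : ℂ) * m)
    {a b : Ω} (hab : b ≠ a) : f ∣ Nat.card (orbit (stabilizer G a) b) := by
  classical
  set ρ := Cfsg.permRep ℂ G Ω with hρ
  set X := orbitalMap G a b with hX
  set θ : G → ℂ := fun g => LinearMap.trace ℂ (Ω → ℂ) (X * ρ g) with hθ
  have hθg : ∀ g : G, θ g = ∑ i : Ω, if InOrbital G a b i (g • i) then (1 : ℂ) else 0 := by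
    intro g
    rw [hθ]
    simp only
    rw [LinearMap.trace_eq_matrix_trace ℂ (Pi.basisFun ℂ Ω), LinearMap.toMatrix_eq_toMatrix',
      Matrix.trace]
    refine Fintype.sum_congr _ _ fun i => ?_
    simp only [Matrix.diag_apply, LinearMap.toMatrix'_mul, Matrix.mul_apply, hX, hρ,
      toMatrix_orbitalMap, toMatrix_permRep]
    rw [Finset.sum_eq_single (g • i)]
    · rw [if_pos rfl, mul_one]
    · intro j _ hj
      rw [if_neg hj, mul_zero]
    · simp
  set k := Nat.card (orbit (stabilizer G a) b) with hk
  have htriv : Cfsg.classInner θ (fun _ => 1) = k := by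
    rw [classInner_fun_one_right, inv_mul_eq_iff_eq_mul₀ CfsgLib.Char.card_ne_zero]
    simp only [hθg]
    rw [Finset.sum_comm]
    have hF : ∀ i : Ω, ∑ g : G, (if InOrbital G a b i (g • i) then (1 : ℂ) else 0) =
        (Nat.card (stabilizer G a) : ℂ) * k := by
      intro i
      obtain ⟨h, rfl⟩ := exists_smul_eq G a i
      have : ∑ g : G, (if InOrbital G a b (h • a) (g • (h • a)) then (1 : ℂ) else 0) =
          ∑ g : G, if InOrbital G a b a (g • a) then (1 : ℂ) else 0 := by
        refine Fintype.sum_equiv (MulAut.conj h⁻¹).toEquiv _ _ fun g => ?_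
        have e : g • (h • a) = h • ((MulAut.conj h⁻¹).toEquiv g • a) := by
          simp [MulAut.conj_apply, mul_smul]
        rw [e, inOrbital_smul]
      rw [this, sum_smul_point (G := G) a fun j => if InOrbital G a b a j then (1 : ℂ) else 0,
        nsmul_eq_mul, Finset.sum_boole]
      congr 2
      rw [hk, Nat.card_eq_fintype_card (α := orbit (stabilizer G a) b), ← Set.toFinset_card]
      congr 1
      ext j
      simp [inOrbital_left_iff]
    rw [Finset.sum_congr rfl fun i _ => hF i, Finset.sum_const, Finset.card_univ, nsmul_eq_mul,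
      ← card_stabilizer_mul (G := G) a]
    push_cast
    ring
  have h0 : θ 1 = 0 := by
    rw [hθg]
    refine Finset.sum_eq_zero fun i _ => if_neg ?_
    rintro ⟨g, h1, h2⟩
    rw [one_smul, ← h1] at h2
    exact hab (MulAction.injective g h2)
  choose x hxint hx hx0 using fun φ => exists_integral ρ (X := X) (orbitalMap_commute a b)
    (orbitalMap_isIntegral a b) φ
  have hexp : ∑ φ : Cfsg.IrrCharacter G, x φ * (φ : G → ℂ) 1 = 0 := by
    have h := congrFun (IsClassFunction.eq_sum_irr
      (isClassFunction_trace ρ (X := X) (orbitalMap_commute a b))) 1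
    simp only [Finset.sum_apply, Pi.smul_apply, smul_eq_mul] at h
    rw [show LinearMap.trace ℂ (Ω → ℂ) (X * ρ 1) = 0 from h0] at h
    rw [h]
    exact Fintype.sum_congr _ _ fun φ => by rw [hx φ]
  rw [← Finset.add_sum_erase _ _ (Finset.mem_univ (trivChar G))] at hexp
  have hxt : x (trivChar G) = k := by rw [← hx (trivChar G)]; exact htriv
  choose m hm using hf
  set y : ℂ := ∑ φ ∈ Finset.univ.erase (trivChar G),
    x φ * (if h : φ ≠ trivChar G ∧ mult ρ φ ≠ 0 then (m φ h.1 h.2 : ℂ) else 0) with hy
  have hyint : IsIntegral ℤ y := by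
    refine IsIntegral.sum _ fun φ _ => (hxint φ).mul ?_
    split_ifs with h
    · exact map_natCast (algebraMap ℤ ℂ) (m φ h.1 h.2) ▸ isIntegral_algebraMap
    · exact isIntegral_zero
  have hrest : ∑ φ ∈ Finset.univ.erase (trivChar G), x φ * (φ : G → ℂ) 1 = (f : ℂ) * y := by
    rw [hy, Finset.mul_sum]
    refine Finset.sum_congr rfl fun φ hφ => ?_
    have hne := (Finset.mem_erase.mp hφ).1
    by_cases h : mult ρ φ = 0
    · rw [hx0 φ h, zero_mul, zero_mul, mul_zero]
    · rw [dif_pos ⟨hne, h⟩, hm φ hne h]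
      ring
  rw [hrest, hxt, show ((trivChar G : Cfsg.IrrCharacter G) : G → ℂ) 1 = 1 from rfl, mul_one] at hexp
  rcases Nat.eq_zero_or_pos f with hf0 | hf0
  · rw [hf0, Nat.cast_zero, zero_mul, add_zero, Nat.cast_eq_zero] at hexp
    rw [hf0, hexp]
  refine dvd_of_isIntegral_div hf0.ne' ?_
  have : (k : ℂ) / f = -y := by
    rw [div_eq_iff (Nat.cast_ne_zero.mpr hf0.ne')]
    linear_combination hexp
  rw [this]
  exact hyint.neg

end CfsgLib.Perm.Suborbits
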