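import Mathlib.GroupTheory.Perm.Sign
import Mathlib.GroupTheory.SpecificGroups.Alternating
import Mathlib.GroupTheory.Sylow
import Mathlib.GroupTheory.Abelianization.Defs
import Mathlib.NumberTheory.Padics.PadicVal.Basic
import Mathlib.Data.ZMod.Basic
import Mathlib.Tactic

/-!
# Sylow subgroups of symmetric groups are generated by elements of order `p`

A Sylow subgroup of `S_{pm}` is the base group of `C_p ≀ S_m` times the lift of a Sylow subgroup of
`S_m`.
-/

set_option autoImplicit false

namespace CfsgLib.Perm.SylowGen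

open Equiv

variable {p : ℕ}

/-- A generating set of a Sylow subgroup by elements of order `p`, the odd ones commuting. -/
structure Gens (p : ℕ) (α : Type*) [Fintype α] [DecidableEq α] where
  S : Set (Equiv.Perm α)
  pow : ∀ g ∈ S, g ^ p = 1
  card : Nat.card (Subgroup.closure S) = p ^ padicValNat p (Nat.factorial (Fintype.card α))
  comm : ∀ g ∈ S, ∀ h ∈ S, Equiv.Perm.sign g = -1 → Equiv.Perm.sign h = -1 → Commute g h

section Step

variable [hp : Fact p.Prime] {α : Type*} [Fintype α] [DecidableEq α]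

/-- Translations in the fibres. -/
def base : Multiplicative (α → ZMod p) →* Equiv.Perm (α × ZMod p) where
  toFun f :=
    { toFun := fun x => (x.1, Multiplicative.toAdd f x.1 + x.2)
      invFun := fun x => (x.1, -Multiplicative.toAdd f x.1 + x.2)
      left_inv := fun x => by simp
      right_inv := fun x => by simp }
  map_one' := by ext x <;> simp
  map_mul' f g := by ext x <;> simp [add_assoc]

/-- The lift of a permutation. -/
def lift : Equiv.Perm α →* Equiv.Perm (α × ZMod p) where
  toFun g := Equiv.prodCongrLeft fun _ : ZMod p => g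
  map_one' := by ext x <;> rfl
  map_mul' g h := by ext x <;> rfl

theorem lift_apply (g : Equiv.Perm α) (x : α × ZMod p) :
    lift (p := p) g x = (g x.1, x.2) := rfl

theorem base_apply (f : α → ZMod p) (x : α × ZMod p) :
    base (p := p) (Multiplicative.ofAdd f) x = (x.1, f x.1 + x.2) := rfl

theorem lift_mul_base (g : Equiv.Perm α) (f : α → ZMod p) :
    lift g * base (Multiplicative.ofAdd f) = base (Multiplicative.ofAdd (f ∘ g.symm)) * lift g := by
  ext x <;> simp [lift_apply, base_apply]

/-- The base group times a lifted group. -/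
def wreath (W : Subgroup (Equiv.Perm α)) : Subgroup (Equiv.Perm (α × ZMod p)) where
  carrier := {x | ∃ f : α → ZMod p, ∃ w ∈ W, x = base (Multiplicative.ofAdd f) * lift w}
  one_mem' := ⟨0, 1, W.one_mem, by simp⟩
  mul_mem' := by
    rintro _ _ ⟨f, w, hw, rfl⟩ ⟨f', w', hw', rfl⟩
    refine ⟨f + f' ∘ w.symm, w * w', W.mul_mem hw hw', ?_⟩
    rw [ofAdd_add, map_mul, map_mul, mul_assoc, ← mul_assoc (lift w), lift_mul_base]
    group
  inv_mem' := by
    rintro _ ⟨f, w, hw, rfl⟩
    refine ⟨(-f) ∘ w, w⁻¹, W.inv_mem hw, ?_⟩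
    rw [mul_inv_rev, ← map_inv, ← map_inv, ← ofAdd_neg, lift_mul_base]
    rfl

theorem card_wreath (W : Subgroup (Equiv.Perm α)) :
    Nat.card (wreath (p := p) W) = p ^ Fintype.card α * Nat.card W := by
  haveI : NeZero p := ⟨hp.out.ne_zero⟩
  rw [show p ^ Fintype.card α * Nat.card W = Nat.card ((α → ZMod p) × W) by
    rw [Nat.card_prod, Nat.card_fun, Nat.card_zmod, Nat.card_eq_fintype_card (α := α)]]
  symm
  refine Nat.card_eq_of_bijective
    (fun i => (⟨base (Multiplicative.ofAdd i.1) * lift (i.2 : Equiv.Perm α),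
      i.1, i.2, i.2.2, rfl⟩ : wreath W)) ⟨fun i j h => ?_, ?_⟩
  · have h' := congrArg Subtype.val h
    have hw : (i.2 : Equiv.Perm α) = j.2 := Equiv.ext fun a => by
      have := congrArg (fun e => (e (a, (0 : ZMod p))).1) h'
      simpa [lift_apply, base_apply] using this
    refine Prod.ext (funext fun a => ?_) (Subtype.ext hw)
    have := congrArg (fun e => (e ((i.2 : Equiv.Perm α).symm a, (0 : ZMod p))).2) h'
    simpa [lift_apply, base_apply, ← hw] using this
  · rintro ⟨_, f, w, hw, rfl⟩
    exact ⟨(f, ⟨w, hw⟩), rfl⟩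

theorem base_mem {H : Subgroup (Equiv.Perm (α × ZMod p))}
    (h : ∀ a, base (Multiplicative.ofAdd (Pi.single a (1 : ZMod p))) ∈ H) (f : α → ZMod p) :
    base (Multiplicative.ofAdd f) ∈ H := by
  haveI : NeZero p := ⟨hp.out.ne_zero⟩
  show Multiplicative.ofAdd f ∈ H.comap base
  rw [← Finset.univ_sum_single f, ofAdd_sum]
  refine Subgroup.prod_mem _ fun a _ => ?_
  rw [show (Pi.single a (f a) : α → ZMod p) = (f a).val • Pi.single a (1 : ZMod p) by
    rw [← Pi.single_smul, nsmul_eq_mul, mul_one, ZMod.natCast_zmod_val], ofAdd_nsmul]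
  exact Subgroup.pow_mem (H.comap base) (show Multiplicative.ofAdd _ ∈ H.comap base from h a) _

theorem sign_lift (g : Equiv.Perm α) :
    Equiv.Perm.sign (lift (p := p) g) = Equiv.Perm.sign g ^ p := by
  haveI : NeZero p := ⟨hp.out.ne_zero⟩
  show Equiv.Perm.sign (Equiv.prodCongrLeft fun _ : ZMod p => g) = _
  rw [Equiv.Perm.sign_prodCongrLeft, Finset.prod_const, Finset.card_univ, ZMod.card]

theorem pow_sign {β : Type*} [Fintype β] [DecidableEq β] {g : Equiv.Perm β} (hg : g ^ p = 1) :
    Equiv.Perm.sign g ^ p = 1 := by rw [← map_pow, hg, map_one]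

/-- The step from `α` to `α × ZMod p`. -/
theorem step (G : Gens p α) : Nonempty (Gens p (α × ZMod p)) := by
  haveI : NeZero p := ⟨hp.out.ne_zero⟩
  let b : α → Equiv.Perm (α × ZMod p) := fun a => base (Multiplicative.ofAdd (Pi.single a (1 : ZMod p)))
  set S : Set (Equiv.Perm (α × ZMod p)) := Set.range b ∪ lift '' G.S
  have hclo : Subgroup.closure S = wreath (Subgroup.closure G.S) := by
    apply le_antisymm
    · rw [Subgroup.closure_le]
      rintro x (⟨a, rfl⟩ | ⟨g, hg, rfl⟩)
      · exact ⟨Pi.single a 1, 1, Subgroup.one_mem _, by simp [b]⟩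
      · exact ⟨0, g, Subgroup.subset_closure hg, by simp⟩
    · rintro _ ⟨f, w, hw, rfl⟩
      refine Subgroup.mul_mem _
        (base_mem (fun a => Subgroup.subset_closure (Or.inl ⟨a, rfl⟩)) f) ?_
      have : Subgroup.closure G.S ≤ (Subgroup.closure S).comap lift :=
        (Subgroup.closure_le _).2 fun g hg => Subgroup.subset_closure (Or.inr ⟨g, hg, rfl⟩)
      exact this hw
  refine ⟨⟨S, ?_, ?_, ?_⟩⟩
  · rintro x (⟨a, rfl⟩ | ⟨g, hg, rfl⟩)
    · simp only [b]
      rw [← map_pow, ← ofAdd_nsmul]
      simp [nsmul_eq_mul, show (p : α → ZMod p) = 0 from funext fun _ => ZMod.natCast_self p]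
    · rw [← map_pow, G.pow g hg, map_one]
  · rw [hclo, card_wreath, G.card, ← pow_add, Fintype.card_prod, ZMod.card, mul_comm _ p,
      padicValNat_factorial_mul, add_comm]
  · have hl : ∀ g ∈ G.S, Equiv.Perm.sign (lift (p := p) g) = 1 := fun g hg => by
      rw [sign_lift, pow_sign (G.pow g hg)]
    rintro g (⟨a, rfl⟩ | ⟨g, hg, rfl⟩) h hh' h1 h2
    · rcases hh' with ⟨c, rfl⟩ | ⟨h, hh, rfl⟩
      · exact (Commute.all _ _).map base
      · rw [hl h hh] at h2
        exact absurd h2 (by decide)
    · rw [hl g hg] at h1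
      exact absurd h1 (by decide)

/-- Enlarging the set without new factors `p`. -/
theorem extend {β : Type*} [Fintype β] [DecidableEq β] (G : Gens p α) (e : α ↪ β)
    (h : padicValNat p (Nat.factorial (Fintype.card β))
      = padicValNat p (Nat.factorial (Fintype.card α))) : Nonempty (Gens p β) := by
  classical
  let φ : Equiv.Perm α →* Equiv.Perm β :=
    Equiv.Perm.ofSubtype.comp (Equiv.permCongrHom (Equiv.ofInjective e e.injective)).toMonoidHom
  have hinj : Function.Injective φ :=
    Equiv.Perm.ofSubtype_injective.comp (Equiv.permCongrHom _).injective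
  have hs : ∀ g, Equiv.Perm.sign (φ g) = Equiv.Perm.sign g := fun g => by
    show Equiv.Perm.sign (Equiv.Perm.ofSubtype ((Equiv.ofInjective e e.injective).permCongr g)) = _
    rw [Equiv.Perm.sign_ofSubtype, Equiv.Perm.sign_permCongr]
  refine ⟨⟨φ '' G.S, ?_, ?_, ?_⟩⟩
  · rintro _ ⟨g, hg, rfl⟩
    rw [← map_pow, G.pow g hg, map_one]
  · rw [← MonoidHom.map_closure, Subgroup.card_map_of_injective hinj, G.card, h]
  · rintro _ ⟨g, hg, rfl⟩ _ ⟨k, hk, rfl⟩ h1 h2
    rw [hs] at h1 h2
    exact (G.comm g hg k hk h1 h2).map φ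

end Step

theorem exists_gens [hp : Fact p.Prime] (n : ℕ) : Nonempty (Gens p (Fin n)) := by
  haveI : NeZero p := ⟨hp.out.ne_zero⟩
  induction n using Nat.strong_induction_on with
  | _ n ih =>
    by_cases hn : n < p
    · refine ⟨⟨∅, by simp, ?_, by simp⟩⟩
      rw [Subgroup.closure_empty, Subgroup.card_bot, padicValNat.eq_zero_of_not_dvd, pow_zero]
      rw [Fintype.card_fin, hp.out.dvd_factorial]
      omega
    · have hlt : n / p < n := Nat.div_lt_self (by have := hp.out.pos; omega) hp.out.one_lt
      obtain ⟨G⟩ := ih _ hlt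
      obtain ⟨G'⟩ := step G
      obtain ⟨e⟩ : Nonempty (Fin (n / p) × ZMod p ↪ Fin n) :=
        Function.Embedding.nonempty_of_card_le (by
          rw [Fintype.card_prod, Fintype.card_fin, Fintype.card_fin, ZMod.card]
          exact Nat.div_mul_le_self n p)
      refine extend G' e ?_
      rw [Fintype.card_fin, Fintype.card_prod, Fintype.card_fin, ZMod.card, mul_comm (n / p) p,
        padicValNat_mul_div_factorial]

/-- Every Sylow subgroup has such a generating set. -/
theorem exists_closure_eq [hp : Fact p.Prime] {n : ℕ} (P : Sylow p (Equiv.Perm (Fin n))) :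
    ∃ G : Gens p (Fin n), Subgroup.closure G.S = (P : Subgroup (Equiv.Perm (Fin n))) := by
  obtain ⟨G⟩ := exists_gens (p := p) n
  have hc : Nat.card (Subgroup.closure G.S)
      = p ^ (Nat.card (Equiv.Perm (Fin n))).factorization p := by
    rw [G.card, Nat.card_perm, Nat.card_eq_fintype_card, Fintype.card_fin,
      Nat.factorization_def _ hp.out]
  obtain ⟨u, hu⟩ := MulAction.exists_smul_eq (Equiv.Perm (Fin n)) (Sylow.ofCard _ hc) P
  let c : Equiv.Perm (Fin n) →* Equiv.Perm (Fin n) := (MulAut.conj u).toMonoidHom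
  have hs : ∀ g, Equiv.Perm.sign (c g) = Equiv.Perm.sign g := fun g => by
    show Equiv.Perm.sign (u * g * u⁻¹) = _
    rw [map_mul, map_mul, map_inv, mul_comm (Equiv.Perm.sign u), mul_inv_cancel_right]
  have hmap : Subgroup.closure (c '' G.S) = (P : Subgroup (Equiv.Perm (Fin n))) := by
    rw [← hu, Sylow.coe_subgroup_smul, Sylow.coe_ofCard, ← MonoidHom.map_closure]
    rfl
  refine ⟨⟨c '' G.S, ?_, ?_, ?_⟩, hmap⟩
  · rintro _ ⟨g, hg, rfl⟩
    rw [← map_pow, G.pow g hg, map_one]
  · rw [← MonoidHom.map_closure, Subgroup.card_map_of_injective (MulAut.conj u).injective, G.card]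
  · rintro _ ⟨g, hg, rfl⟩ _ ⟨k, hk, rfl⟩ h1 h2
    rw [hs] at h1 h2
    exact (G.comm g hg k hk h1 h2).map c

/-- The even elements of the Sylow subgroup are generated by even elements of order `p`. -/
theorem even_mem [hp : Fact p.Prime] {n : ℕ} (G : Gens p (Fin n)) {x : Equiv.Perm (Fin n)}
    (hx : x ∈ Subgroup.closure G.S) (hs : Equiv.Perm.sign x = 1) :
    x ∈ Subgroup.closure
      {g | g ∈ Subgroup.closure G.S ∧ g ^ p = 1 ∧ Equiv.Perm.sign g = 1} := by
  set W := Subgroup.closure G.S
  set T : Set (Equiv.Perm (Fin n)) := {g | g ∈ W ∧ g ^ p = 1 ∧ Equiv.Perm.sign g = 1}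
  set R := Subgroup.closure T
  have hR1 : ∀ y ∈ R, Equiv.Perm.sign y = 1 := fun y hy =>
    (show R ≤ (Equiv.Perm.sign : Equiv.Perm (Fin n) →* ℤˣ).ker from
      (Subgroup.closure_le _).2 fun g hg => hg.2.2) hy
  by_cases hodd : ∃ t ∈ G.S, Equiv.Perm.sign t = -1
  · obtain ⟨t, ht, hts⟩ := hodd
    have htW : t ∈ W := Subgroup.subset_closure ht
    have hp2 : p = 2 := by
      rcases hp.out.eq_two_or_odd' with h | h
      · exact h
      · have h1 := pow_sign (G.pow t ht)
        rw [hts, h.neg_one_pow] at h1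
        exact absurd h1 (by decide)
    have htt : t * t = 1 := by rw [← sq, ← hp2]; exact G.pow t ht
    have htinv : t⁻¹ = t := inv_eq_of_mul_eq_one_right htt
    have hconj : ∀ y ∈ R, t * y * t ∈ R := by
      intro y hy
      have hT : R ≤ R.comap (MulAut.conj t).toMonoidHom := (Subgroup.closure_le _).2 fun g hg => by
        refine Subgroup.subset_closure ⟨W.mul_mem (W.mul_mem htW hg.1) (W.inv_mem htW), ?_, ?_⟩
        · show (t * g * t⁻¹) ^ p = 1
          rw [conj_pow, hg.2.1, mul_one, mul_inv_cancel]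
        · show Equiv.Perm.sign (t * g * t⁻¹) = 1
          rw [map_mul, map_mul, hg.2.2, mul_one, ← map_mul, mul_inv_cancel, map_one]
      have := hT hy
      rwa [Subgroup.mem_comap, MulEquiv.coe_toMonoidHom, MulAut.conj_apply, htinv] at this
    have key : ∀ y ∈ W, y ∈ R ∨ t * y ∈ R := by
      intro y hy
      refine Subgroup.closure_induction (fun g hg => ?_) (Or.inl R.one_mem)
        (fun a c _ _ ha hc => ?_) (fun a _ ha => ?_) hy
      · rcases Int.units_eq_one_or (Equiv.Perm.sign g) with h | h
        · exact Or.inl (Subgroup.subset_closure ⟨Subgroup.subset_closure hg, G.pow g hg, h⟩)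
        · refine Or.inr (Subgroup.subset_closure
            ⟨W.mul_mem htW (Subgroup.subset_closure hg), ?_, ?_⟩)
          · rw [(G.comm t ht g hg hts h).mul_pow, G.pow t ht, G.pow g hg, one_mul]
          · rw [map_mul, hts, h]; rfl
      · rcases ha with ha | ha <;> rcases hc with hc | hc
        · exact Or.inl (R.mul_mem ha hc)
        · refine Or.inr ?_
          rw [show t * (a * c) = t * a * t * (t * c) by
            rw [mul_assoc (t * a), ← mul_assoc t t, htt, one_mul, mul_assoc]]
          exact R.mul_mem (hconj a ha) hc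
        · exact Or.inr (by rw [← mul_assoc]; exact R.mul_mem ha hc)
        · refine Or.inl ?_
          rw [show a * c = t * (t * a) * t * (t * c) by
            rw [← mul_assoc t t a, htt, one_mul, mul_assoc a, ← mul_assoc t t, htt, one_mul]]
          exact R.mul_mem (hconj _ ha) hc
      · rcases ha with ha | ha
        · exact Or.inl (R.inv_mem ha)
        · refine Or.inr ?_
          rw [show t * a⁻¹ = t * (t * a)⁻¹ * t by
            rw [mul_inv_rev, htinv, mul_assoc, mul_assoc a⁻¹, htt, mul_one]]
          exact hconj _ (R.inv_mem ha)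
    rcases key x hx with h | h
    · exact h
    · have := hR1 _ h
      rw [map_mul, hts, hs] at this
      exact absurd this (by decide)
  · push Not at hodd
    refine (show W ≤ R from (Subgroup.closure_le _).2 fun g hg => Subgroup.subset_closure
      ⟨Subgroup.subset_closure hg, G.pow g hg, ?_⟩) hx
    exact (Int.units_eq_one_or _).resolve_right (hodd g hg)

/-- A group generated by elements of order `p` has `p`th powers in its derived subgroup. -/
theorem pow_mem_commutator {H : Type*} [Group H] {T : Set H} (hgen : Subgroup.closure T = ⊤)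
    (hT : ∀ g ∈ T, g ^ p = 1) (x : H) : x ^ p ∈ commutator H := by
  let f : H →* Abelianization H := (powMonoidHom p).comp Abelianization.of
  have h : f.ker = ⊤ := top_le_iff.1 (hgen ▸ (Subgroup.closure_le _).2 fun g hg => by
    show Abelianization.of g ^ p = 1
    rw [← map_pow, hT g hg, map_one])
  rw [← Abelianization.ker_of]
  have hx : x ∈ f.ker := h ▸ Subgroup.mem_top x
  show Abelianization.of (x ^ p) = 1
  rw [map_pow]
  exact hx

theorem pow_mem_commutator_of_closure {G : Type*} [Group G] (H : Subgroup G) {T : Set G}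
    (hT : Subgroup.closure T = H) (hpow : ∀ g ∈ T, g ^ p = 1) (x : H) :
    x ^ p ∈ commutator H := by
  have hsub : ∀ g ∈ T, g ∈ H := fun g hg => hT ▸ Subgroup.subset_closure hg
  refine pow_mem_commutator (T := Subtype.val ⁻¹' T) ?_ (fun g hg => Subtype.ext (hpow _ hg)) x
  refine Subgroup.map_injective H.subtype_injective ?_
  rw [MonoidHom.map_closure, ← MonoidHom.range_eq_map, Subgroup.range_subtype]
  show Subgroup.closure (Subtype.val '' (Subtype.val ⁻¹' T : Set H)) = H
  rw [Set.image_preimage_eq_of_subset (fun g hg => ⟨⟨g, hsub g hg⟩, rfl⟩), hT]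

end CfsgLib.Perm.SylowGen
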