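import Mathlib

/-!
# The theorem of Sylvester and Schur
`exists_prime_gt_dvd_choose`: if `1 ≤ k` and `2 * k ≤ n` then `n.choose k` has a prime divisor
greater than `k`.  The proof follows Erdős; for `n < 65536` a chain of primes with short gaps is used.
-/

set_option autoImplicit false

namespace CfsgLib.Perm.SylvesterSchur

open Finset Nat

/-- Trial division. -/
def trial (p : ℕ) : Bool :=
  decide (2 ≤ p) && (List.range (Nat.sqrt p - 1)).all fun i => p % (i + 2) != 0

theorem prime_of_trial {p : ℕ} (h : trial p = true) : p.Prime := by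
  simp only [trial, Bool.and_eq_true, decide_eq_true_eq, List.all_eq_true, List.mem_range, bne_iff_ne] at h
  refine Nat.prime_def_le_sqrt.2 ⟨h.1, fun m hm hs hd => ?_⟩
  refine h.2 (m - 2) (by omega) ?_
  rw [show m - 2 + 2 = m from by omega]
  exact Nat.mod_eq_zero_of_dvd hd

/-- A chain of primes with gaps at most `max 19 (√p)`. -/
def chain : List ℕ := [
  19, 37, 53, 71, 89, 107, 113, 131, 149, 167, 181, 199, 211, 229,
  241, 257, 271, 283, 293, 311, 317, 331, 349, 367, 383, 401, 421, 439,
  457, 467, 487, 509, 523, 541, 563, 577, 601, 619, 643, 661, 683, 709,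
  733, 757, 773, 797, 823, 839, 863, 887, 911, 941, 971, 997, 1021, 1051,
  1069, 1097, 1129, 1153, 1181, 1213, 1237, 1259, 1291, 1321, 1327, 1361, 1381, 1409,
  1439, 1471, 1499, 1531, 1567, 1601, 1637, 1669, 1709, 1747, 1787, 1823, 1861, 1901,
  1933, 1973, 2017, 2053, 2089, 2131, 2161, 2207, 2251, 2297, 2341, 2389, 2437, 2477,
  2521, 2557, 2593, 2633, 2683, 2731, 2777, 2819, 2861, 2909, 2957, 3011, 3061, 3109,
  3163, 3217, 3271, 3323, 3373, 3413, 3469, 3527, 3583, 3637, 3697, 3739, 3797, 3853,
  3911, 3967, 4027, 4079, 4139, 4201, 4261, 4297, 4357, 4423, 4483, 4549, 4603, 4663,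
  4729, 4793, 4861, 4919, 4987, 5051, 5119, 5189, 5261, 5333, 5399, 5471, 5531, 5591,
  5659, 5717, 5791, 5867, 5939, 6011, 6079, 6151, 6229, 6301, 6379, 6451, 6529, 6607,
  6679, 6737, 6803, 6883, 6961, 7043, 7121, 7193, 7253, 7333, 7417, 7499, 7583, 7669,
  7753, 7841, 7927, 8011, 8093, 8179, 8269, 8353, 8443, 8527, 8609, 8699, 8783, 8867,
  8951, 9043, 9137, 9227, 9323, 9419, 9511, 9601, 9697, 9791, 9887, 9973, 10069, 10169,
  10267, 10357, 10457, 10559, 10657, 10753, 10853, 10957, 11059, 11161, 11261, 11353, 11447, 11551,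
  11657, 11743, 11839, 11941, 12049, 12157, 12263, 12373, 12479, 12589, 12697, 12809, 12919, 13009,
  13121, 13229, 13339, 13451, 13553, 13669, 13781, 13883, 13999, 14107, 14221, 14327, 14437, 14557,
  14669, 14783, 14897, 15017, 15139, 15259, 15377, 15497, 15619, 15739, 15859, 15973, 16097, 16223,
  16349, 16453, 16573, 16699, 16823, 16943, 17053, 17183, 17299, 17419, 17539, 17669, 17791, 17923,
  18049, 18181, 18313, 18443, 18553, 18679, 18803, 18919, 19051, 19183, 19319, 19457, 19583, 19717,
  19853, 19993, 20129, 20269, 20411, 20551, 20693, 20809, 20947, 21089, 21227, 21347, 21493, 21617,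
  21757, 21893, 22039, 22171, 22307, 22453, 22573, 22721, 22871, 23021, 23167, 23311, 23459, 23609,
  23761, 23911, 24061, 24203, 24337, 24481, 24631, 24781, 24923, 25073, 25229, 25373, 25523, 25679,
  25819, 25969, 26119, 26267, 26423, 26573, 26731, 26893, 27043, 27197, 27361, 27509, 27673, 27827,
  27983, 28123, 28289, 28447, 28607, 28771, 28933, 29101, 29269, 29437, 29599, 29761, 29927, 30097,
  30269, 30431, 30593, 30763, 30937, 31091, 31267, 31397, 31573, 31741, 31907, 32083, 32261, 32429,
  32609, 32789, 32969, 33149, 33331, 33503, 33679, 33857, 34039, 34217, 34381, 34549, 34729, 34913,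
  35099, 35281, 35461, 35617, 35803, 35983, 36161, 36343, 36529, 36713, 36901, 37087, 37277, 37463,
  37649, 37831, 38011, 38201, 38393, 38569, 38749, 38933, 39119, 39313, 39511, 39709, 39901, 40099,
  40289, 40487, 40639, 40829, 41023, 41221, 41413, 41611, 41813, 42017, 42221, 42409, 42611, 42797,
  43003, 43207, 43411, 43613, 43801, 43997, 44203, 44389, 44587, 44797, 45007, 45197, 45403, 45613,
  45823, 46027, 46237, 46451, 46663, 46877, 47093, 47309, 47521, 47737, 47951, 48163, 48371, 48589,
  48809, 49019, 49223, 49433, 49639, 49853, 50069, 50291, 50513, 50723, 50929, 51151, 51361, 51581,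
  51803, 52027, 52253, 52457, 52673, 52901, 53129, 53359, 53569, 53791, 54013, 54217, 54449, 54679,
  54907, 55127, 55351, 55579, 55813, 56041, 56269, 56503, 56737, 56963, 57193, 57427, 57653, 57881,
  58111, 58337, 58573, 58789, 59029, 59263, 59497, 59729, 59971, 60209, 60449, 60689, 60923, 61169,
  61409, 61651, 61879, 62119, 62351, 62597, 62827, 63073, 63317, 63559, 63809, 64037, 64283, 64513,
  64763, 65011, 65257, 65497, 65731]

/-- Successive entries of the list are primes at admissible distance. -/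
def chainOk : List ℕ → Bool
  | a :: b :: l => trial a && decide (b ≤ a + max 19 (Nat.sqrt a)) && chainOk (b :: l)
  | [a] => decide (65536 ≤ a)
  | [] => false

theorem exists_prime_interval {k n : ℕ} (hk : 19 ≤ k) (hkn : n < k * k) :
    ∀ {l : List ℕ} {a : ℕ}, chainOk (a :: l) = true → a ≤ n → n < 65536 →
      ∃ p, p.Prime ∧ p ≤ n ∧ n < p + k := by
  intro l
  induction l with
  | nil =>
    intro a h han hn
    simp only [chainOk, decide_eq_true_eq] at h
    omega
  | cons b l ih =>
    intro a h han hn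
    simp only [chainOk, Bool.and_eq_true, decide_eq_true_eq] at h
    rcases Nat.lt_or_ge n b with hb | hb
    · refine ⟨a, prime_of_trial h.1.1, han, ?_⟩
      have h1 : Nat.sqrt a ≤ Nat.sqrt n := Nat.sqrt_le_sqrt han
      have h2 : Nat.sqrt n < k := Nat.sqrt_lt.2 hkn
      omega
    · exact ih h.2 hb hn

theorem dvd_choose_of_interval {p k n : ℕ} (hp : p.Prime) (hkn : 2 * k ≤ n) (h1 : p ≤ n)
    (h2 : n < p + k) : k < p ∧ p ∣ n.choose k :=
  ⟨by omega, hp.dvd_choose (by omega) (by omega) h1⟩

theorem primeCounting_le (x : ℕ) : Nat.primeCounting x ≤ x / 3 + 3 := by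
  rcases Nat.lt_or_ge x 6 with h | h
  · have h5 : ∀ y < 6, Nat.primeCounting y ≤ 3 := by decide +kernel
    have := h5 x h
    omega
  · obtain ⟨m, rfl⟩ : ∃ m, x = 6 + m := ⟨x - 6, by omega⟩
    have h6 := Nat.primeCounting_add_le (a := 6) (k := 6) (by omega) le_rfl m
    have e1 : Nat.primeCounting 6 = 3 := by decide +kernel
    have e2 : Nat.totient 6 = 2 := by decide +kernel
    rw [e1, e2] at h6
    omega

/-- An upper bound for a binomial coefficient from its prime divisors. -/
theorem choose_le {n k s T : ℕ} (hkn : k ≤ n) (hn : 0 < n) (hs : n < (s + 1) * (s + 1))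
    (hT : ∀ p, p.Prime → p ∣ n.choose k → p ≤ s ∨ p ≤ T) :
    n.choose k ≤ n ^ Nat.primeCounting s * 4 ^ T := by
  classical
  have hne : n.choose k ≠ 0 := Nat.choose_ne_zero hkn
  set S := (n.choose k).primeFactors with hS
  have hprod : ∏ p ∈ S, p ^ (n.choose k).factorization p = n.choose k :=
    (Nat.prod_primeFactors_pow_factorization hne).symm
  rw [← hprod, ← Finset.prod_filter_mul_prod_filter_not S (fun p => p ≤ s)]
  refine Nat.mul_le_mul ?_ ?_
  · calc ∏ p ∈ S with p ≤ s, p ^ (n.choose k).factorization p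
        ≤ ∏ _p ∈ S with _p ≤ s, n := Finset.prod_le_prod' fun p _ => Nat.pow_factorization_choose_le hn
      _ = n ^ (S.filter fun p => p ≤ s).card := by rw [Finset.prod_const]
      _ ≤ n ^ Nat.primeCounting s := by
          refine Nat.pow_le_pow_right hn ?_
          rw [← Nat.primesLE_card_eq_primeCounting]
          refine Finset.card_le_card fun p hp => ?_
          rw [Finset.mem_filter] at hp
          exact Nat.mem_primesLE.2 ⟨hp.2, Nat.prime_of_mem_primeFactors hp.1⟩
  · calc ∏ p ∈ S with ¬ p ≤ s, p ^ (n.choose k).factorization p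
        ≤ ∏ p ∈ S with ¬ p ≤ s, p := by
          refine Finset.prod_le_prod' fun p hp => ?_
          rw [Finset.mem_filter] at hp
          refine le_trans (Nat.pow_le_pow_right (Nat.pos_of_mem_primeFactors hp.1) ?_) (pow_one p).le
          refine Nat.factorization_choose_le_one ?_
          rw [pow_two]
          exact lt_of_lt_of_le hs (Nat.mul_le_mul (by omega) (by omega))
      _ ≤ primorial T := by
          refine Finset.prod_le_prod_of_subset_of_one_le' ?_ ?_
          · intro p hp
            rw [Finset.mem_filter] at hp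
            have hpp := Nat.prime_of_mem_primeFactors hp.1
            rw [Finset.mem_filter, Finset.mem_range]
            rcases hT p hpp (Nat.dvd_of_mem_primeFactors hp.1) with h | h
            · exact absurd h hp.2
            · exact ⟨by omega, hpp⟩
          · intro p hp _
            exact (Finset.mem_filter.1 hp).2.one_lt.le
      _ ≤ 4 ^ T := primorial_le_four_pow T

theorem pow_le_choose_mul {n : ℕ} : ∀ {k : ℕ}, k ≤ n → n ^ k ≤ n.choose k * k ^ k := by
  intro k hk
  have h1 : ∏ i ∈ Finset.range k, ((k - i) * n) ≤ ∏ i ∈ Finset.range k, ((n - i) * k) := by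
    refine Finset.prod_le_prod' fun i _ => ?_
    rw [Nat.sub_mul, Nat.sub_mul, mul_comm k n]
    exact Nat.sub_le_sub_left (Nat.mul_le_mul_left i hk) _
  rw [Finset.prod_mul_distrib, Finset.prod_mul_distrib, Finset.prod_const, Finset.prod_const, Finset.card_range,
    ← Nat.descFactorial_eq_prod_range, ← Nat.descFactorial_eq_prod_range, Nat.descFactorial_self,
    Nat.descFactorial_eq_factorial_mul_choose, mul_assoc] at h1
  exact Nat.le_of_mul_le_mul_left h1 (Nat.factorial_pos k)

theorem choose_four_mono {n s : ℕ} : ∀ {k : ℕ}, s ≤ k → 5 * k ≤ n →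
    n.choose s * 4 ^ k ≤ n.choose k * 4 ^ s := by
  intro k hsk
  induction k, hsk using Nat.le_induction with
  | base => intro _; exact le_rfl
  | succ k hsk ih =>
    intro hn
    have h1 := Nat.choose_succ_right_eq n k
    have h2 : n.choose k * 4 ≤ n.choose (k + 1) := by
      refine Nat.le_of_mul_le_mul_right ?_ (Nat.succ_pos k)
      rw [show n.choose k * 4 * k.succ = n.choose k * (4 * (k + 1)) from by rw [Nat.succ_eq_add_one]; ring, h1]
      exact Nat.mul_le_mul_left _ (by omega)
    calc n.choose s * 4 ^ (k + 1) = n.choose s * 4 ^ k * 4 := by ring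
      _ ≤ n.choose k * 4 ^ s * 4 := Nat.mul_le_mul_right _ (ih (by omega))
      _ = n.choose k * 4 * 4 ^ s := by ring
      _ ≤ n.choose (k + 1) * 4 ^ s := Nat.mul_le_mul_right _ h2

theorem central_step {k : ℕ} (hk : 4 ≤ k) : ∀ j, j ≤ k →
    4 ^ k * 3 ^ j ≤ k * (2 * k + j).choose k * 2 ^ j := by
  intro j
  induction j with
  | zero =>
    intro _
    simpa [Nat.centralBinom_eq_two_mul_choose] using (Nat.four_pow_lt_mul_centralBinom k hk).le
  | succ j ih =>
    intro hj
    have h1 : (2 * k + j).choose k * 3 ≤ (2 * k + (j + 1)).choose k * 2 := by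
      have h := Nat.choose_mul_succ_eq (2 * k + j) k
      have hpos : 0 < 2 * k + j + 1 - k := by omega
      refine Nat.le_of_mul_le_mul_right ?_ hpos
      rw [show (2 * k + (j + 1)).choose k * 2 * (2 * k + j + 1 - k)
        = 2 * ((2 * k + j).choose k * (2 * k + j + 1)) from by
          rw [h, show 2 * k + (j + 1) = 2 * k + j + 1 from by omega]; ring]
      calc (2 * k + j).choose k * 3 * (2 * k + j + 1 - k)
          = (2 * k + j).choose k * (3 * (2 * k + j + 1 - k)) := by ring
        _ ≤ (2 * k + j).choose k * (2 * (2 * k + j + 1)) := Nat.mul_le_mul_left _ (by omega)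
        _ = 2 * ((2 * k + j).choose k * (2 * k + j + 1)) := by ring
    calc 4 ^ k * 3 ^ (j + 1) = 4 ^ k * 3 ^ j * 3 := by ring
      _ ≤ k * (2 * k + j).choose k * 2 ^ j * 3 := Nat.mul_le_mul_right _ (ih (by omega))
      _ = k * 2 ^ j * ((2 * k + j).choose k * 3) := by ring
      _ ≤ k * 2 ^ j * ((2 * k + (j + 1)).choose k * 2) := Nat.mul_le_mul_left _ h1
      _ = k * (2 * k + (j + 1)).choose k * 2 ^ (j + 1) := by ring

theorem thirteen_mul_le : ∀ b, 8 ≤ b → 13 * b ≤ 2 ^ (b - 1) := by
  intro b hb
  induction b, hb using Nat.le_induction with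
  | base => norm_num
  | succ b hb ih =>
    obtain ⟨c, rfl⟩ : ∃ c, b = c + 1 := ⟨b - 1, by omega⟩
    rw [show c + 1 + 1 - 1 = c + 1 from rfl, pow_succ]
    rw [show c + 1 - 1 = c from rfl] at ih
    omega

/-- The large case. -/
theorem large {n k : ℕ} (hk : 19 ≤ k) (h2 : 2 * k ≤ n) (hn : 65536 ≤ n) (hkn : n < k * k)
    (hall : ∀ p, p.Prime → p ∣ n.choose k → p ≤ k) : False := by
  set s := Nat.sqrt n with hsdef
  have hs1 : s * s ≤ n := Nat.sqrt_le n
  have hs2 : n < (s + 1) * (s + 1) := Nat.lt_succ_sqrt n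
  have hs256 : 256 ≤ s := Nat.le_sqrt.2 (by omega)
  have hsk : s < k := Nat.sqrt_lt.2 hkn
  have hπ : Nat.primeCounting s ≤ s / 3 + 3 := primeCounting_le s
  rcases Nat.lt_or_ge n (6 * k) with h6 | h6
  · -- `n` is comparable with `k`
    set L := Nat.log 2 s with hL
    have hL1 : 2 ^ L ≤ s := Nat.pow_log_le_self 2 (by omega)
    have hL2 : s < 2 ^ (L + 1) := Nat.lt_pow_succ_log_self (by norm_num) s
    have hL8 : 8 ≤ L + 1 := by
      by_contra h
      have : 2 ^ (L + 1) ≤ 2 ^ 7 := Nat.pow_le_pow_right (by norm_num) (by omega)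
      omega
    have hb : 13 * (L + 1) ≤ s := by
      have := thirteen_mul_le (L + 1) hL8
      rw [Nat.add_sub_cancel] at this
      omega
    have hnb : n < 2 ^ (2 * (L + 1)) := by
      rw [two_mul, pow_add]
      exact lt_of_lt_of_le hs2 (Nat.mul_le_mul (by omega) (by omega))
    have hX : 2 * (L + 1) * (s + 12) < k := by nlinarith
    have hn12 : n ^ (s + 12) ≤ 2 ^ (2 * (L + 1) * (s + 12)) := by
      rw [pow_mul]
      exact Nat.pow_le_pow_left hnb.le _
    have hlt : n ^ (s + 12) < 2 ^ k :=
      lt_of_le_of_lt hn12 (Nat.pow_lt_pow_right (by norm_num) hX)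
    set j := min (n - 2 * k) k with hj
    have hjk : j ≤ k := min_le_right _ _
    have hlow : 4 ^ k * 3 ^ j ≤ k * n.choose k * 2 ^ j := by
      refine le_trans (central_step (by omega) j hjk) ?_
      exact Nat.mul_le_mul_right _ (Nat.mul_le_mul_left _ (Nat.choose_le_choose k (by omega)))
    have hn3 : k ^ 3 * (n ^ Nat.primeCounting s) ^ 3 ≤ n ^ (s + 12) := by
      rw [← pow_mul]
      calc k ^ 3 * n ^ (Nat.primeCounting s * 3) ≤ n ^ 3 * n ^ (s + 9) :=
            Nat.mul_le_mul (Nat.pow_le_pow_left (by omega) _) (Nat.pow_le_pow_right (by omega) (by omega))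
        _ = n ^ (s + 12) := by rw [← pow_add]; congr 1; omega
    have key : ∀ T, (∀ p, p.Prime → p ∣ n.choose k → p ≤ s ∨ p ≤ T) →
        64 ^ k * 27 ^ j ≤ n ^ (s + 12) * (64 ^ T * 8 ^ j) := by
      intro T hT
      have hC := choose_le (s := s) (T := T) (by omega : k ≤ n) (by omega) hs2 hT
      calc 64 ^ k * 27 ^ j = (4 ^ k * 3 ^ j) ^ 3 := by
            rw [mul_pow, show (64 : ℕ) = 4 ^ 3 from rfl, show (27 : ℕ) = 3 ^ 3 from rfl, ← pow_mul, ← pow_mul,
              ← pow_mul, ← pow_mul, mul_comm 3 k, mul_comm 3 j]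
        _ ≤ (k * (n ^ Nat.primeCounting s * 4 ^ T) * 2 ^ j) ^ 3 :=
            Nat.pow_le_pow_left (le_trans hlow (Nat.mul_le_mul_right _ (Nat.mul_le_mul_left _ hC))) 3
        _ = k ^ 3 * (n ^ Nat.primeCounting s) ^ 3 * (64 ^ T * 8 ^ j) := by
            rw [show (64 : ℕ) = 4 ^ 3 from rfl, show (8 : ℕ) = 2 ^ 3 from rfl, ← pow_mul 4 3 T,
              ← pow_mul 2 3 j, mul_comm 3 T, mul_comm 3 j, pow_mul, pow_mul]
            ring
        _ ≤ n ^ (s + 12) * (64 ^ T * 8 ^ j) := Nat.mul_le_mul_right _ hn3
    rcases Nat.lt_or_ge n (3 * k) with h3 | h3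
    · have hjeq : n = 2 * k + j := by omega
      have h := key (n / 3) fun p hp hd => by
        rcases Nat.lt_or_ge (n / 3) p with hlt' | hge
        · rcases Nat.lt_or_ge s p with hps | hps
          · exfalso
            have := hall p hp hd
            have h0 := Nat.factorization_choose_of_lt_three_mul (n := n) (k := k) (p := p) (by omega)
              (by omega) (by omega) (by omega)
            exact (Nat.Prime.factorization_pos_of_dvd hp (Nat.choose_ne_zero (by omega)) hd).ne' h0
          · exact Or.inl hps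
        · exact Or.inr hge
      have hT : 64 ^ (n / 3) ≤ 4 ^ (2 * k + j) := by
        rw [show (64 : ℕ) = 4 ^ 3 from rfl, ← pow_mul]
        exact Nat.pow_le_pow_right (by norm_num) (by omega)
      have h' : 4 ^ k * 27 ^ j ≤ n ^ (s + 12) * 32 ^ j := by
        refine Nat.le_of_mul_le_mul_left ?_ (show 0 < 16 ^ k by positivity)
        calc 16 ^ k * (4 ^ k * 27 ^ j) = 64 ^ k * 27 ^ j := by
              rw [← mul_assoc, ← mul_pow]; norm_num
          _ ≤ n ^ (s + 12) * (64 ^ (n / 3) * 8 ^ j) := h
          _ ≤ n ^ (s + 12) * (4 ^ (2 * k + j) * 8 ^ j) := by gcongr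
          _ = 16 ^ k * (n ^ (s + 12) * 32 ^ j) := by
              rw [show (32 : ℕ) = 4 * 8 from rfl, mul_pow 4 8 j, show (16 : ℕ) = 4 ^ 2 from rfl,
                ← pow_mul 4 2 k, pow_add 4 (2 * k) j]
              ring
      have h32 : 32 ^ j * (32 ^ (k - j)) = 32 ^ k := by rw [← pow_add]; congr 1; omega
      have h27 : 27 ^ k = 27 ^ j * 27 ^ (k - j) := by rw [← pow_add]; congr 1; omega
      have hfin : 108 ^ k ≤ n ^ (s + 12) * 32 ^ k := by
        calc 108 ^ k = 4 ^ k * 27 ^ j * 27 ^ (k - j) := by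
              rw [mul_assoc, ← h27, ← mul_pow]; norm_num
          _ ≤ n ^ (s + 12) * 32 ^ j * 32 ^ (k - j) :=
              Nat.mul_le_mul h' (Nat.pow_le_pow_left (by norm_num) _)
          _ = n ^ (s + 12) * 32 ^ k := by rw [mul_assoc, h32]
      have : 2 ^ k * 32 ^ k ≤ 108 ^ k := by
        rw [← mul_pow]; exact Nat.pow_le_pow_left (by norm_num) _
      exact absurd (Nat.le_of_mul_le_mul_right (this.trans hfin) (by positivity)) (not_le.2 hlt)
    · have hjeq : j = k := by omega
      have h := key k fun p hp hd => Or.inr (hall p hp hd)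
      rw [hjeq] at h
      have h' : 2 ^ k * (64 ^ k * 8 ^ k) ≤ 64 ^ k * 27 ^ k := by
        rw [← mul_pow, ← mul_pow, ← mul_pow]
        exact Nat.pow_le_pow_left (by norm_num) _
      exact absurd (Nat.le_of_mul_le_mul_right (h'.trans h) (by positivity)) (not_le.2 hlt)
  · -- `n` is large compared with `k`
    have hC := choose_le (s := s) (T := k) (by omega : k ≤ n) (by omega) hs2
      fun p hp hd => Or.inr (hall p hp hd)
    have hmono := choose_four_mono (n := n) hsk.le (by omega)
    have h1 : n.choose s ≤ n ^ Nat.primeCounting s * 4 ^ s := by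
      refine Nat.le_of_mul_le_mul_right ?_ (show 0 < 4 ^ k from by positivity)
      calc n.choose s * 4 ^ k ≤ n.choose k * 4 ^ s := hmono
        _ ≤ n ^ Nat.primeCounting s * 4 ^ k * 4 ^ s := Nat.mul_le_mul_right _ hC
        _ = n ^ Nat.primeCounting s * 4 ^ s * 4 ^ k := by ring
    have h2 : n ^ s ≤ n ^ Nat.primeCounting s * (4 ^ s * s ^ s) := by
      calc n ^ s ≤ n.choose s * s ^ s := pow_le_choose_mul (by omega)
        _ ≤ n ^ Nat.primeCounting s * 4 ^ s * s ^ s := Nat.mul_le_mul_right _ h1
        _ = _ := by ring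
    set u := Nat.primeCounting s with hu
    have h3 : n ^ (s - u) ≤ 4 ^ s * s ^ s := by
      refine Nat.le_of_mul_le_mul_left ?_ (show 0 < n ^ u from pow_pos (by omega) _)
      rw [← pow_add, Nat.add_sub_cancel' (by omega : u ≤ s)]
      exact h2
    have h4 : s ^ (s - 2 * u) ≤ 4 ^ s := by
      refine Nat.le_of_mul_le_mul_right ?_ (show 0 < s ^ s from by positivity)
      calc s ^ (s - 2 * u) * s ^ s = (s * s) ^ (s - u) := by
            rw [← pow_add, ← pow_two, ← pow_mul]; congr 1; omega
        _ ≤ n ^ (s - u) := Nat.pow_le_pow_left hs1 _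
        _ ≤ 4 ^ s * s ^ s := h3
    have h5 : 4 ^ (4 * (s - 2 * u)) ≤ 4 ^ s := by
      rw [pow_mul]
      exact le_trans (Nat.pow_le_pow_left (by omega) _) h4
    have := (Nat.pow_le_pow_iff_right (by norm_num)).1 h5
    omega

theorem dvd_factorial_pow {k : ℕ} {m : ℕ} (hm : m ≠ 0) (h : ∀ p, p.Prime → p ∣ m → p ≤ k)
    {e : ℕ} (he : m < 2 ^ e) : m ∣ k.factorial ^ e := by
  have hlist : ∀ l : List ℕ, (∀ p ∈ l, p ∣ k.factorial) → l.prod ∣ k.factorial ^ l.length := by
    intro l
    induction l with
    | nil => simp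
    | cons a l ih =>
      intro hl
      rw [List.prod_cons, List.length_cons, pow_succ']
      exact mul_dvd_mul (hl a List.mem_cons_self) (ih fun p hp => hl p (List.mem_cons_of_mem _ hp))
  have hlen : ∀ l : List ℕ, (∀ p ∈ l, 2 ≤ p) → 2 ^ l.length ≤ l.prod := by
    intro l
    induction l with
    | nil => simp
    | cons a l ih =>
      intro hl
      rw [List.prod_cons, List.length_cons, pow_succ']
      exact Nat.mul_le_mul (hl a List.mem_cons_self) (ih fun p hp => hl p (List.mem_cons_of_mem _ hp))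
  rw [← Nat.prod_primeFactorsList hm]
  refine (hlist m.primeFactorsList fun p hp => ?_).trans (pow_dvd_pow _ ?_)
  · exact Nat.dvd_factorial (Nat.prime_of_mem_primeFactorsList hp).pos
      (h p (Nat.prime_of_mem_primeFactorsList hp) (Nat.dvd_of_mem_primeFactorsList hp))
  · have := hlen m.primeFactorsList fun p hp => (Nat.prime_of_mem_primeFactorsList hp).two_le
    rw [Nat.prod_primeFactorsList hm] at this
    exact ((Nat.pow_lt_pow_iff_right (by norm_num)).1 (lt_of_le_of_lt this he)).le

/-- The check for small parameters. -/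
def smallOk : Bool :=
  (List.range 19).all fun k => (List.range 124).all fun n => k == 0 || decide (n < 2 * k) ||
    (List.range k).any fun i => k.factorial ^ 7 % (n - i) != 0

theorem small {n k : ℕ} (hk0 : 1 ≤ k) (hk : k ≤ 18) (h2 : 2 * k ≤ n) (hn : n < 124) :
    ∃ p, p.Prime ∧ k < p ∧ p ∣ n.choose k := by
  have h : smallOk = true := by decide +kernel
  simp only [smallOk, List.all_eq_true, List.mem_range, Bool.or_eq_true, beq_iff_eq, decide_eq_true_eq,
    List.any_eq_true, bne_iff_ne] at h
  rcases h k (by omega) n hn with (h | h) | ⟨i, hi, hne⟩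
  · omega
  · omega
  by_contra hcon
  push Not at hcon
  refine hne (Nat.mod_eq_zero_of_dvd (dvd_factorial_pow (by omega) (fun p hp hd => ?_) (by omega)))
  by_contra hpk
  have hdesc : p ∣ n.descFactorial k := by
    rw [Nat.descFactorial_eq_prod_range]
    exact hd.trans (Finset.dvd_prod_of_mem _ (Finset.mem_range.2 hi))
  rw [Nat.descFactorial_eq_factorial_mul_choose] at hdesc
  rcases hp.dvd_mul.1 hdesc with h' | h'
  · exact hpk (hp.dvd_factorial.1 h')
  · exact hcon p hp (by omega) h'

/-- **Sylvester–Schur.** -/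
theorem exists_prime_gt_dvd_choose {n k : ℕ} (hk : 1 ≤ k) (h2 : 2 * k ≤ n) :
    ∃ p, p.Prime ∧ k < p ∧ p ∣ n.choose k := by
  by_contra hcon
  push Not at hcon
  have hall : ∀ p, p.Prime → p ∣ n.choose k → p ≤ k := fun p hp hd => by
    by_contra h
    exact hcon p hp (by omega) hd
  have hCk : n.choose k ≤ n ^ Nat.primeCounting k := by
    have hne : n.choose k ≠ 0 := Nat.choose_ne_zero (by omega)
    calc n.choose k = ∏ p ∈ (n.choose k).primeFactors, p ^ (n.choose k).factorization p :=
          Nat.prod_primeFactors_pow_factorization hne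
      _ ≤ ∏ _p ∈ (n.choose k).primeFactors, n :=
          Finset.prod_le_prod' fun p _ => Nat.pow_factorization_choose_le (by omega)
      _ = n ^ (n.choose k).primeFactors.card := by rw [Finset.prod_const]
      _ ≤ n ^ Nat.primeCounting k := by
          refine Nat.pow_le_pow_right (by omega) ?_
          rw [← Nat.primesLE_card_eq_primeCounting]
          exact Finset.card_le_card fun p hp => Nat.mem_primesLE.2
            ⟨hall p (Nat.prime_of_mem_primeFactors hp) (Nat.dvd_of_mem_primeFactors hp),
              Nat.prime_of_mem_primeFactors hp⟩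
  set u := Nat.primeCounting k with hu
  have hπ : u ≤ k / 3 + 3 := primeCounting_le k
  have huk : u < k := by
    rcases Nat.lt_or_ge k 19 with h | h
    · have : ∀ y < 19, 1 ≤ y → Nat.primeCounting y < y := by decide +kernel
      exact this k h hk
    · omega
  have hpow : n ^ (k - u) ≤ k ^ k := by
    refine Nat.le_of_mul_le_mul_left ?_ (show 0 < n ^ u from pow_pos (by omega) _)
    rw [← pow_add, Nat.add_sub_cancel' huk.le]
    exact le_trans (pow_le_choose_mul (by omega)) (Nat.mul_le_mul_right _ hCk)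
  rcases Nat.lt_or_ge k 19 with hk19 | hk19
  · rcases Nat.lt_or_ge n 124 with hn | hn
    · obtain ⟨p, hp, hkp, hd⟩ := small hk (by omega) h2 hn
      exact hcon p hp hkp hd
    · have hchk : ∀ y < 19, 1 ≤ y → y ^ y < 124 ^ (y - Nat.primeCounting y) := by decide +kernel
      have := hchk k hk19 hk
      exact absurd ((Nat.pow_le_pow_left hn _).trans hpow) (not_le.2 this)
  · have hkn : n < k * k := by
      by_contra h
      push Not at h
      have h' : k ^ (2 * (k - u)) ≤ k ^ k := by
        rw [pow_mul, pow_two]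
        exact (Nat.pow_le_pow_left h _).trans hpow
      have := (Nat.pow_le_pow_iff_right (by omega)).1 h'
      omega
    rcases Nat.lt_or_ge n 65536 with hn | hn
    · have hok : chainOk chain = true := by decide +kernel
      obtain ⟨p, hp, h1, h3⟩ := exists_prime_interval hk19 hkn (show chainOk (19 :: chain.tail) = true from hok)
        (by omega) hn
      obtain ⟨hkp, hd⟩ := dvd_choose_of_interval hp h2 h1 h3
      exact hcon p hp hkp hd
    · exact large hk19 h2 hn hkn hall

end CfsgLib.Perm.SylvesterSchur
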