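import Mathlib

/-!
Half-transitive automorphism groups of a group that are not semiregular on the non-identity elements.
-/

set_option autoImplicit false
set_option linter.style.haveILetI false

open scoped commutatorElement

namespace CfsgLib.Perm.ThreeHalvesRegular

variable {G : Type*} [Group G] [Finite G]

/-- An invariant set all of whose points have stabilizers of index `e` has cardinality divisible by `e`. -/
theorem dvd_ncard_of_index {W X : Type*} [Group W] [MulAction W X] [Finite X] (C : Set X) (e : ℕ)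
    (hC : ∀ w : W, ∀ x ∈ C, w • x ∈ C) (he : ∀ x ∈ C, (MulAction.stabilizer W x).index = e) :
    e ∣ C.ncard := by
  classical
  haveI := Fintype.ofFinite X
  rw [Set.ncard_eq_toFinset_card', Finset.card_eq_sum_card_image (fun x : X => MulAction.orbit W x)]
  refine Finset.dvd_sum fun o ho => ?_
  obtain ⟨x, hx, rfl⟩ := Finset.mem_image.1 ho
  rw [Set.mem_toFinset] at hx
  refine dvd_of_eq ?_
  rw [← he x hx, MulAction.index_stabilizer, ← Set.ncard_coe_finset]
  congr 1
  ext y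
  simp only [Finset.coe_filter, Set.mem_toFinset, Set.mem_setOf_eq]
  refine ⟨fun hy => ⟨?_, MulAction.orbit_eq_iff.2 hy⟩, fun hy => MulAction.orbit_eq_iff.1 hy.2⟩
  obtain ⟨w, rfl⟩ := hy
  exact hC w x hx

theorem conj_index (W : Subgroup G) (C : Set G) (e : ℕ) (hC : ∀ w ∈ W, ∀ x ∈ C, w * x * w⁻¹ ∈ C)
    (he : ∀ x ∈ C, (Subgroup.centralizer ({x} : Set G)).relIndex W = e) : e ∣ C.ncard := by
  letI : MulAction W G := MulAction.compHom G ((MulAut.conj).comp W.subtype)
  refine dvd_ncard_of_index (W := ↥W) C e (fun w x hx => hC w w.2 x hx) fun x hx => ?_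
  rw [← he x hx, Subgroup.relIndex]
  congr 1
  ext w
  rw [MulAction.mem_stabilizer_iff, Subgroup.mem_subgroupOf, Subgroup.mem_centralizer_singleton_iff]
  show (w : G) * x * (w : G)⁻¹ = x ↔ _
  exact mul_inv_eq_iff_eq_mul

theorem conj_orbit (W : Subgroup G) (x : G) :
    {m : G | ∃ y ∈ W, m = y * x * y⁻¹}.ncard = (Subgroup.centralizer ({x} : Set G)).relIndex W := by
  letI : MulAction W G := MulAction.compHom G ((MulAut.conj).comp W.subtype)
  have h : {m : G | ∃ y ∈ W, m = y * x * y⁻¹} = MulAction.orbit W x := by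
    ext m
    exact ⟨fun ⟨y, hy, hm⟩ => ⟨⟨y, hy⟩, hm.symm⟩, fun ⟨y, hm⟩ => ⟨y, y.2, hm.symm⟩⟩
  rw [h, ← MulAction.index_stabilizer, Subgroup.relIndex]
  congr 1
  ext w
  rw [MulAction.mem_stabilizer_iff, Subgroup.mem_subgroupOf, Subgroup.mem_centralizer_singleton_iff]
  show (w : G) * x * (w : G)⁻¹ = x ↔ _
  exact mul_inv_eq_iff_eq_mul

variable (N H : Subgroup G) [N.Normal]

/-- The hypothesis: nontrivial elements of `N` have centralizers of one index in `H`, and it is not the order of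
`H`. -/
structure Hyp : Prop where
  faith : ∀ h ∈ H, (∀ n ∈ N, h * n = n * h) → h = 1
  half : ∀ n ∈ N, n ≠ 1 → ∀ m ∈ N, m ≠ 1 →
    (Subgroup.centralizer ({n} : Set G)).relIndex H = (Subgroup.centralizer ({m} : Set G)).relIndex H
  notFree : ∃ n ∈ N, n ≠ 1 ∧ ∃ h ∈ H, h ≠ 1 ∧ h * n = n * h

variable {N H}

theorem coprime (h : Hyp N H) {n : G} (hn : n ∈ N) (hn1 : n ≠ 1) :
    ((Subgroup.centralizer ({n} : Set G)).relIndex H).Coprime (Nat.card N) := by
  have hd := conj_index H ((N : Set G) \ {1}) ((Subgroup.centralizer ({n} : Set G)).relIndex H)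
    (fun w _ x hx => ⟨Subgroup.Normal.conj_mem inferInstance x hx.1 w,
      fun e => hx.2 (show x = 1 from conj_eq_one_iff.1 e)⟩)
    fun x hx => h.half x hx.1 hx.2 n hn hn1
  have hc : ((N : Set G) \ {1}).ncard + 1 = Nat.card N := by
    rw [Set.ncard_sdiff_singleton_add_one (one_mem N) (Set.toFinite _), ← Nat.card_coe_set_eq]
    rfl
  rw [← hc]
  refine Nat.eq_one_of_dvd_one ?_
  exact (Nat.dvd_add_right ((Nat.gcd_dvd_left _ _).trans hd)).1 (Nat.gcd_dvd_right _ _)

/-- An element of `H` moving a point of such a set inside it fixes this point. -/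
theorem fixes_of_block (h : Hyp N H) {C : Set G} (hCN : ∀ x ∈ C, x ∈ N ∧ x ≠ 1) (hcard : C.ncard ∣ Nat.card N)
    (hblock : ∀ w ∈ H, ∀ x ∈ C, w * x * w⁻¹ ∈ C → ∀ y ∈ C, w * y * w⁻¹ ∈ C)
    {w x : G} (hw : w ∈ H) (hx : x ∈ C) (hwx : w * x * w⁻¹ ∈ C) : w * x = x * w := by
  let W : Subgroup G := H ⊓ Subgroup.normalizer C
  haveI : Finite C := Subtype.finite
  have hmem : ∀ v ∈ H, ∀ y ∈ C, v * y * v⁻¹ ∈ C → v ∈ W := fun v hv y hy hvy =>
    ⟨hv, Subgroup.mem_normalizer_fintype (hblock v hv y hy hvy)⟩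
  set e := (Subgroup.centralizer ({x} : Set G)).relIndex W with he
  have hall : ∀ y ∈ C, (Subgroup.centralizer ({y} : Set G)).relIndex W * W.relIndex H =
      (Subgroup.centralizer ({y} : Set G)).relIndex H := by
    intro y hy
    have hWeq : Subgroup.centralizer ({y} : Set G) ⊓ W = Subgroup.centralizer ({y} : Set G) ⊓ H := by
      refine le_antisymm (inf_le_inf_left _ inf_le_left) (le_inf inf_le_left fun v hv => ?_)
      refine hmem v hv.2 y hy ?_
      rw [Subgroup.mem_centralizer_singleton_iff.1 hv.1, mul_inv_cancel_right]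
      exact hy
    have hm := Subgroup.relIndex_mul_relIndex (Subgroup.centralizer ({y} : Set G) ⊓ W) W H inf_le_right inf_le_left
    rw [Subgroup.inf_relIndex_right, hWeq, Subgroup.inf_relIndex_right] at hm
    exact hm
  have hW0 : W.relIndex H ≠ 0 := Subgroup.FiniteIndex.index_ne_zero
  have hC : e ∣ C.ncard := by
    refine conj_index W C e (fun v hv y hy => (hv.2 y).1 hy) fun y hy => ?_
    refine Nat.eq_of_mul_eq_mul_right (Nat.pos_of_ne_zero hW0) ?_
    rw [hall y hy, he, hall x hx]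
    exact h.half y (hCN y hy).1 (hCN y hy).2 x (hCN x hx).1 (hCN x hx).2
  have h1 : e = 1 := Nat.eq_one_of_dvd_coprimes (coprime h (hCN x hx).1 (hCN x hx).2)
    (by rw [he, ← hall x hx]; exact dvd_mul_right _ _) (hC.trans hcard)
  exact Subgroup.mem_centralizer_singleton_iff.1 (Subgroup.relIndex_eq_one.1 h1 (hmem w hw x hx hwx))

theorem eq_of_le (h : Hyp N H) {n m : G} (hn : n ∈ N) (hn1 : n ≠ 1) (hm : m ∈ N) (hm1 : m ≠ 1)
    (hle : ∀ w ∈ H, w * n = n * w → w * m = m * w) {w : G} (hw : w ∈ H) (hwm : w * m = m * w) :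
    w * n = n * w := by
  have hle' : Subgroup.centralizer ({n} : Set G) ⊓ H ≤ Subgroup.centralizer ({m} : Set G) ⊓ H := fun v hv =>
    ⟨Subgroup.mem_centralizer_singleton_iff.2 (hle v hv.2 (Subgroup.mem_centralizer_singleton_iff.1 hv.1)), hv.2⟩
  have h1 := Subgroup.relIndex_mul_relIndex _ _ H hle' inf_le_right
  rw [Subgroup.inf_relIndex_right, Subgroup.inf_relIndex_right, ← h.half n hn hn1 m hm hm1] at h1
  have h2 := (Nat.mul_eq_right (show (Subgroup.centralizer ({n} : Set G)).relIndex H ≠ 0 from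
    Subgroup.FiniteIndex.index_ne_zero)).1 h1
  have h3 := Subgroup.relIndex_eq_one.1 h2 ⟨Subgroup.mem_centralizer_singleton_iff.2 hwm, hw⟩
  exact Subgroup.mem_centralizer_singleton_iff.1 h3.1

theorem fix_conj (h : Hyp N H) {n y w : G} (hn : n ∈ N) (hn1 : n ≠ 1) (hy : y ∈ N) (hw : w ∈ H)
    (hwn : w * n = n * w) : w * (y * n * y⁻¹) = (y * n * y⁻¹) * w := by
  refine fixes_of_block h (C := {m : G | ∃ y ∈ N, m = y * n * y⁻¹}) ?_ ?_ ?_ hw ⟨y, hy, rfl⟩ ?_
  · rintro _ ⟨z, hz, rfl⟩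
    exact ⟨Subgroup.Normal.conj_mem inferInstance n hn z, fun e => hn1 (conj_eq_one_iff.1 e)⟩
  · rw [conj_orbit]
    exact Subgroup.relIndex_dvd_card _ _
  · rintro v - _ ⟨z, hz, rfl⟩ ⟨u, hu, hvu⟩ _ ⟨t, ht, rfl⟩
    refine ⟨(v * (t * z⁻¹) * v⁻¹) * u, mul_mem (Subgroup.Normal.conj_mem inferInstance _
      (mul_mem ht (inv_mem hz)) v) hu, ?_⟩
    calc v * (t * n * t⁻¹) * v⁻¹
        = (v * (t * z⁻¹) * v⁻¹) * (v * (z * n * z⁻¹) * v⁻¹) * (v * (t * z⁻¹) * v⁻¹)⁻¹ := by group
      _ = _ := by rw [hvu]; group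
  · refine ⟨w * y * w⁻¹, Subgroup.Normal.conj_mem inferInstance y hy w, ?_⟩
    calc w * (y * n * y⁻¹) * w⁻¹ = (w * y * w⁻¹) * (w * n * w⁻¹) * (w * y * w⁻¹)⁻¹ := by group
      _ = _ := by rw [hwn, mul_inv_cancel_right]

theorem exists_fixer (h : Hyp N H) {n : G} (hn : n ∈ N) (hn1 : n ≠ 1) :
    ∃ w ∈ H, w ≠ 1 ∧ w * n = n * w := by
  obtain ⟨m, hm, hm1, v, hv, hv1, hvm⟩ := h.notFree
  by_contra hno
  push Not at hno
  exact hv1 (by
    by_contra hne
    exact hno v hv hne (eq_of_le h hn hn1 hm hm1 (fun w hw hwn => by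
      rcases eq_or_ne w 1 with rfl | hw1
      · simp
      · exact absurd hwn (hno w hw hw1)) hv hvm))

theorem commutative (h : Hyp N H) : ∀ n ∈ N, ∀ m ∈ N, n * m = m * n := by
  intro n hn
  rcases eq_or_ne n 1 with rfl | hn1
  · simp
  -- the points fixed by the stabilizer of `n`
  let P : G → G → Prop := fun a x => ∀ w ∈ H, w * a = a * w → w * x = x * w
  have key : ∀ m ∈ N, ¬ P n m → n * m = m * n := by
    intro m hm hnot
    have hm1 : m ≠ 1 := fun e => hnot fun w _ _ => by rw [e]; simp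
    have hxN : n * m * n⁻¹ * m⁻¹ ∈ N := mul_mem (mul_mem (mul_mem hn hm) (inv_mem hn)) (inv_mem hm)
    by_contra hne
    have hx1 : n * m * n⁻¹ * m⁻¹ ≠ 1 := fun e => hne (mul_inv_eq_iff_eq_mul.1 (mul_inv_eq_one.1 e))
    have hPn : P n (n * m * n⁻¹ * m⁻¹) := fun w hw hwn => by
      have h2 : w * (m * n⁻¹ * m⁻¹) = (m * n⁻¹ * m⁻¹) * w :=
        fix_conj h (inv_mem hn) (inv_ne_one.2 hn1) hm hw ((show Commute w n from hwn).inv_right.eq)
      have := ((show Commute w n from hwn).mul_right (show Commute w (m * n⁻¹ * m⁻¹) from h2)).eq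
      simpa [mul_assoc] using this
    have hPm : P m (n * m * n⁻¹ * m⁻¹) := fun w hw hwm =>
      ((show Commute w (n * m * n⁻¹) from fix_conj h hm hm1 hn hw hwm).mul_right
        (show Commute w m from hwm).inv_right).eq
    refine hnot fun w hw hwn => ?_
    exact eq_of_le h hm hm1 hxN hx1 hPm hw (hPn w hw hwn)
  intro m hm
  by_cases hPnm : P n m
  swap
  · exact key m hm hPnm
  obtain ⟨g, hg, hgP⟩ : ∃ g ∈ N, ¬ P n g := by
    by_contra hall
    push Not at hall
    obtain ⟨w, hw, hw1, hwn⟩ := exists_fixer h hn hn1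
    exact hw1 (h.faith w hw fun x hx => hall x hx w hw hwn)
  have hmg : ¬ P n (m * g) := fun hP => hgP fun w hw hwn => by
    have := ((show Commute w m from hPnm w hw hwn).inv_right.mul_right
      (show Commute w (m * g) from hP w hw hwn)).eq
    simpa using this
  have := (((show Commute n (m * g) from key _ (mul_mem hm hg) hmg)).mul_right
    (show Commute n g from key g hg hgP).inv_right).eq
  simpa using this

/-- A normal subgroup of the ambient group inside `N` is trivial or `N`. -/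
theorem minimal (h : Hyp N H) (B : Subgroup G) [B.Normal] (hBN : B ≤ N) : B = ⊥ ∨ B = N := by
  by_contra hne
  push Not at hne
  obtain ⟨hb, hB⟩ := hne
  obtain ⟨b, hbB, hb1⟩ := B.bot_or_exists_ne_one.resolve_left hb
  obtain ⟨w, hw, hw1, hwb⟩ := exists_fixer h (hBN hbB) hb1
  have key : ∀ n ∈ N, n ∉ B → ∀ c ∈ B, ∀ v ∈ H, v * n = n * v → v * c = c * v := by
    intro n hn hnB c hc v hv hvn
    have hC : ∀ d ∈ B, v * (n * d) = (n * d) * v := by
      intro d hd
      refine fixes_of_block h (C := {m : G | ∃ d ∈ B, m = n * d}) ?_ ?_ ?_ hv ⟨d, hd, rfl⟩ ?_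
      · rintro _ ⟨z, hz, rfl⟩
        exact ⟨mul_mem hn (hBN hz), fun e => hnB (eq_inv_of_mul_eq_one_left e ▸ inv_mem hz)⟩
      · rw [show {m : G | ∃ d ∈ B, m = n * d} = (fun d => n * d) '' (B : Set G) by
          ext m; exact ⟨fun ⟨d, hd, e⟩ => ⟨d, hd, e.symm⟩, fun ⟨d, hd, e⟩ => ⟨d, hd, e.symm⟩⟩,
          Set.ncard_image_of_injective _ (mul_right_injective n), ← Nat.card_coe_set_eq]
        exact Subgroup.card_dvd_of_le hBN
      · rintro u - _ ⟨z, hz, rfl⟩ ⟨d', hd', hu⟩ _ ⟨t, ht, rfl⟩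
        refine ⟨d' * (u * (z⁻¹ * t) * u⁻¹), mul_mem hd' (Subgroup.Normal.conj_mem inferInstance _
          (mul_mem (inv_mem hz) ht) u), ?_⟩
        calc u * (n * t) * u⁻¹ = (u * (n * z) * u⁻¹) * (u * (z⁻¹ * t) * u⁻¹) := by group
          _ = _ := by rw [hu, mul_assoc]
      · exact ⟨v * d * v⁻¹, Subgroup.Normal.conj_mem inferInstance d hd v, by
          rw [← conj_mul, hvn, mul_inv_cancel_right]⟩
    have := ((show Commute v n from hvn).inv_right.mul_right (show Commute v (n * c) from hC c hc)).eq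
    simpa using this
  refine hw1 (h.faith w hw fun n hn => ?_)
  by_cases hnB : n ∈ B
  · obtain ⟨g, hg, hgB⟩ : ∃ g ∈ N, g ∉ B := by
      by_contra hall
      push Not at hall
      exact hB (le_antisymm hBN hall)
    exact key g hg hgB n hnB w hw (eq_of_le h hg (fun e => hgB (e ▸ one_mem B)) (hBN hbB) hb1
      (key g hg hgB b hbB) hw hwb)
  · exact eq_of_le h hn (fun e => hnB (e ▸ one_mem B)) (hBN hbB) hb1 (key n hn hnB b hbB) hw hwb

end CfsgLib.Perm.ThreeHalvesRegular
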