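import Mathlib
import Cfsg.Agent.Lib.Perm.ZassenhausNormal
import Cfsg.Agent.Lib.FrobRealize.FixedPointFree
import Cfsg.Agent.Lib.Solvable.FPFNilpotent

/-!
# Doubly transitive groups with a regular normal subgroup in which no element fixes three points

If some non-identity element fixes two points, the degree is `2 ^ p` with `p` prime.
-/

set_option autoImplicit false
set_option linter.style.haveILetI false

namespace CfsgLib.Perm.ZassenhausPrime

open MulAction

variable {G : Type*} [Group G] {Ω : Type*} [MulAction G Ω]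

/-- A commutative group of automorphisms transitive on `M ∖ {0}`, normalised by an automorphism of
prime order `r` fixing only `0` and `u`, forces `|M| = 2 ^ r`. -/
theorem card_eq_two_pow {M : Type*} [AddCommGroup M] [Finite M] {K : Type*} [Group K]
    (ρ : K →* AddMonoid.End M) (hKc : ∀ x y : K, x * y = y * x) (u : M) (hu : u ≠ 0)
    (htrans : ∀ m : M, m ≠ 0 → ∃ k : K, ρ k u = m)
    (η : (AddMonoid.End M)ˣ) (ψ : K → K) (hη : ∀ k : K, (η : AddMonoid.End M) * ρ k = ρ (ψ k) * η)
    (hψ : Function.Surjective ψ) (hηu : (η : AddMonoid.End M) u = u)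
    (hfix : ∀ m : M, (η : AddMonoid.End M) m = m → m = 0 ∨ m = u)
    {r : ℕ} (hr : r.Prime) (hηr : η ^ r = 1) (hM : 3 ≤ Nat.card M) :
    Nat.card M = 2 ^ r := by
  classical
  let D : Subring (AddMonoid.End M) := Subring.centralizer (Set.range ρ)
  have hD : ∀ d : AddMonoid.End M, d ∈ D ↔ ∀ k, ρ k * d = d * ρ k := fun d => by
    simp [D, Subring.mem_centralizer_iff]
  have hρD : ∀ k, ρ k ∈ D := fun k => (hD _).2 fun l => by rw [← map_mul, ← map_mul, hKc]
  have hev : ∀ d e : D, (d : AddMonoid.End M) u = (e : AddMonoid.End M) u → d = e := fun d e h => by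
    refine Subtype.ext (DFunLike.ext _ _ fun m => ?_)
    rcases eq_or_ne m 0 with rfl | hm
    · simp
    · obtain ⟨k, rfl⟩ := htrans m hm
      show ((d : AddMonoid.End M) * ρ k) u = ((e : AddMonoid.End M) * ρ k) u
      rw [← (hD _).1 d.2, ← (hD _).1 e.2]
      show ρ k ((d : AddMonoid.End M) u) = ρ k ((e : AddMonoid.End M) u)
      rw [h]
  have hunit : ∀ d : D, d ≠ 0 → ∃ k : K, d = ⟨ρ k, hρD k⟩ := fun d hd => by
    have hne : (d : AddMonoid.End M) u ≠ 0 := fun h => hd (hev _ _ (by rw [h]; rfl))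
    obtain ⟨k, hk⟩ := htrans _ hne
    exact ⟨k, hev _ _ hk.symm⟩
  haveI : Nontrivial D := ⟨⟨0, 1, fun h => hu (DFunLike.congr_fun (congrArg Subtype.val h) u).symm⟩⟩
  have hfield : IsField D :=
    { exists_pair_ne := ⟨0, 1, zero_ne_one⟩
      mul_comm := fun x y => by
        rcases eq_or_ne x 0 with rfl | hx
        · rw [zero_mul, mul_zero]
        obtain ⟨k, rfl⟩ := hunit x hx
        exact Subtype.ext ((hD _).1 y.2 k)
      mul_inv_cancel := fun {x} hx => by
        obtain ⟨k, rfl⟩ := hunit x hx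
        exact ⟨⟨ρ k⁻¹, hρD _⟩, Subtype.ext
          (show ρ k * ρ k⁻¹ = 1 by rw [← map_mul, mul_inv_cancel, map_one])⟩ }
  letI : Field D := hfield.toField
  let e : D ≃ M := Equiv.ofBijective (fun d => (d : AddMonoid.End M) u) ⟨fun d e h => hev d e h,
    fun m => by
      rcases eq_or_ne m 0 with rfl | hm
      · exact ⟨0, rfl⟩
      · obtain ⟨k, hk⟩ := htrans m hm; exact ⟨⟨ρ k, hρD k⟩, hk⟩⟩
  haveI : Finite D := Finite.of_equiv M e.symm
  have hcard : Nat.card M = Nat.card D := (Nat.card_congr e).symm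
  have hmem : ∀ d : D, (η : AddMonoid.End M) * d * (↑η⁻¹ : AddMonoid.End M) ∈ D := fun d =>
    (hD _).2 fun k => by
      obtain ⟨l, rfl⟩ := hψ k
      have h2 : (↑η⁻¹ : AddMonoid.End M) * ρ (ψ l) = ρ l * ↑η⁻¹ := by
        calc (↑η⁻¹ : AddMonoid.End M) * ρ (ψ l)
            = ↑η⁻¹ * (ρ (ψ l) * η) * ↑η⁻¹ := by rw [mul_assoc, mul_assoc, Units.mul_inv, mul_one]
          _ = _ := by rw [← hη, ← mul_assoc, Units.inv_mul, one_mul]
      calc ρ (ψ l) * (η * d * ↑η⁻¹) = (η * ρ l) * d * ↑η⁻¹ := by rw [hη]; simp only [mul_assoc]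
        _ = η * (d * ρ l) * ↑η⁻¹ := by
          rw [← (hD _).1 d.2 l]; simp only [mul_assoc]
        _ = η * d * ↑η⁻¹ * ρ (ψ l) := by simp only [mul_assoc, h2]
  let f : D →+* D :=
    { toFun := fun d => ⟨(η : AddMonoid.End M) * d * (↑η⁻¹ : AddMonoid.End M), hmem d⟩
      map_one' := Subtype.ext (show (η : AddMonoid.End M) * 1 * ↑η⁻¹ = 1 by rw [mul_one, Units.mul_inv])
      map_mul' := fun a b => Subtype.ext (show (η : AddMonoid.End M) * (a * b) * ↑η⁻¹ =
          η * a * ↑η⁻¹ * (η * b * ↑η⁻¹) by simp only [mul_assoc, Units.inv_mul_cancel_left])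
      map_zero' := Subtype.ext (show (η : AddMonoid.End M) * 0 * ↑η⁻¹ = 0 by rw [mul_zero, zero_mul])
      map_add' := fun a b => Subtype.ext (show (η : AddMonoid.End M) * (a + b) * ↑η⁻¹ =
          η * a * ↑η⁻¹ + η * b * ↑η⁻¹ by rw [mul_add, add_mul]) }
  have hfb : Function.Bijective f := Finite.injective_iff_bijective.1 fun a b h => by
    have h' : (η : AddMonoid.End M) * a * ↑η⁻¹ = η * b * ↑η⁻¹ := congrArg Subtype.val h
    exact Subtype.ext ((Units.mul_right_inj η).1 ((Units.mul_left_inj η⁻¹).1 h'))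
  let σ : D ≃+* D := RingEquiv.ofBijective f hfb
  have hσ : ∀ (i : ℕ) (d : D), (((σ ^ i) d : D) : AddMonoid.End M) =
      ((η ^ i : (AddMonoid.End M)ˣ) : AddMonoid.End M) * d * ((η ^ i)⁻¹ : (AddMonoid.End M)ˣ) := by
    intro i
    induction i with
    | zero => intro d; simp
    | succ i ih =>
      intro d
      rw [pow_succ']
      show (η : AddMonoid.End M) * ((σ ^ i) d : D) * ↑η⁻¹ = _
      rw [ih, pow_succ', mul_inv_rev, Units.val_mul, Units.val_mul]
      simp only [mul_assoc]
  have hσr : σ ^ r = 1 := RingEquiv.ext fun d => Subtype.ext (by rw [hσ, hηr]; simp)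
  have hfixD : ∀ d : D, σ d = d → d = 0 ∨ d = 1 := fun d hd => by
    have h0 : (η : AddMonoid.End M) * d * ↑η⁻¹ = d := congrArg Subtype.val hd
    have h1 : (η : AddMonoid.End M) * d = d * η := by
      conv_rhs => rw [← h0]
      rw [mul_assoc, Units.inv_mul, mul_one]
    have h2 : (η : AddMonoid.End M) ((d : AddMonoid.End M) u) = (d : AddMonoid.End M) u := by
      show ((η : AddMonoid.End M) * d) u = _
      rw [h1]
      show (d : AddMonoid.End M) ((η : AddMonoid.End M) u) = _
      rw [hηu]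
    rcases hfix _ h2 with h | h
    · exact Or.inl (hev _ _ h)
    · exact Or.inr (hev _ _ h)
  have hσ1 : σ ≠ 1 := fun h => by
    have : ∀ d : D, d = 0 ∨ d = 1 := fun d => hfixD d (by rw [h]; rfl)
    have h2 : Nat.card D ≤ 2 := by
      rw [← Nat.card_eq_of_bijective _ (⟨Subtype.val_injective, fun d => ⟨⟨d, this d⟩, rfl⟩⟩ :
        Function.Bijective (Subtype.val : ({0, 1} : Set D) → D)), Nat.card_coe_set_eq]
      exact (Set.ncard_insert_le _ _).trans (by simp)
    omega
  haveI : Fact r.Prime := ⟨hr⟩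
  have hσo : orderOf σ = r := orderOf_eq_prime hσr hσ1
  haveI : Finite (Subgroup.zpowers σ) := by
    refine Nat.finite_of_card_ne_zero ?_
    rw [Nat.card_zpowers, hσo]; exact hr.ne_zero
  cases nonempty_fintype (Subgroup.zpowers σ)
  haveI : FaithfulSMul (Subgroup.zpowers σ) D :=
    ⟨fun {a b} h => Subtype.ext (RingEquiv.ext fun d => h d)⟩
  have hrank := FixedPoints.finrank_eq_card (Subgroup.zpowers σ) D
  rw [← Nat.card_eq_fintype_card, Nat.card_zpowers, hσo] at hrank
  have hset : (FixedPoints.subfield (Subgroup.zpowers σ) D : Set D) = {0, 1} := by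
    ext d
    refine ⟨fun h => ?_, ?_⟩
    · rcases hfixD d (h ⟨σ, Subgroup.mem_zpowers σ⟩) with rfl | rfl <;> simp
    · rintro (rfl | rfl)
      · exact (FixedPoints.subfield (Subgroup.zpowers σ) D).zero_mem
      · exact (FixedPoints.subfield (Subgroup.zpowers σ) D).one_mem
  rw [hcard, Module.natCard_eq_pow_finrank (K := FixedPoints.subfield (Subgroup.zpowers σ) D) (V := D), hrank]
  congr 1
  rw [← SetLike.coe_sort_coe, hset, Nat.card_coe_set_eq, Set.ncard_pair zero_ne_one]

/-- The theorem. -/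
theorem exists_prime [Fintype Ω] [FaithfulSMul G Ω] (h2 : IsMultiplyPretransitive G Ω 2)
    (h3 : ∀ g : G, ∀ a b c : Ω, a ≠ b → b ≠ c → a ≠ c → g • a = a → g • b = b → g • c = c → g = 1)
    (hfix : ∃ g : G, g ≠ 1 ∧ ∃ a b : Ω, a ≠ b ∧ g • a = a ∧ g • b = b)
    (N : Subgroup G) [N.Normal] (hNt : IsPretransitive N Ω)
    (hNr : ∀ a : Ω, stabilizer N a = ⊥) :
    ∃ p : ℕ, p.Prime ∧ Fintype.card Ω = 2 ^ p := by
  classical
  haveI : Finite G := Finite.of_injective (MulAction.toPerm : G → Equiv.Perm Ω) MulAction.toPerm_injective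
  haveI := hNt
  obtain ⟨g, hg, a, b, hab, hga, hgb⟩ := hfix
  obtain ⟨m, hm⟩ : ∃ m, orderOf g = m := ⟨_, rfl⟩
  have hr : (orderOf g).minFac.Prime := Nat.minFac_prime (by rw [ne_eq, orderOf_eq_one_iff]; exact hg)
  set r := (orderOf g).minFac with hrdef
  set h := g ^ (orderOf g / r) with hhdef
  have hho : orderOf h = r := orderOf_pow_orderOf_div (orderOf_pos g).ne' (Nat.minFac_dvd _)
  have hh1 : h ≠ 1 := fun e => hr.one_lt.ne' (by rw [← hho, e, orderOf_one])
  have hfixh : h • a = a ∧ h • b = b :=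
    ⟨(pow_mem (show g ∈ stabilizer G a from hga) _ : h ∈ stabilizer G a),
     (pow_mem (show g ∈ stabilizer G b from hgb) _ : h ∈ stabilizer G b)⟩
  obtain ⟨ha, hb⟩ := hfixh
  -- the regular normal subgroup
  have hNc := ZassenhausNormal.regular_comm h2 N hNr a
  obtain ⟨u, hu⟩ := exists_smul_eq N a b
  change (u : G) • a = b at hu
  have hu1 : (u : G) ≠ 1 := fun e => hab (by rw [← hu, e, one_smul])
  have hcomm : h * u * h⁻¹ = u := ZassenhausNormal.regular_unique hNr
    (Subgroup.Normal.conj_mem ‹_› _ u.2 h) u.2 (x := a)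
    (by rw [mul_smul, mul_smul, inv_smul_eq_iff.mpr ha.symm, hu, hb])
  have hCN : ∀ m ∈ N, h * m * h⁻¹ = m → m = 1 ∨ m = u := fun m hm e => by
    have hma : h • m • a = m • a := by
      conv_rhs => rw [← e]
      rw [mul_smul, mul_smul, inv_smul_eq_iff.mpr ha.symm]
    rcases eq_or_ne (m • a) a with e1 | e1
    · exact Or.inl (ZassenhausNormal.regular_unique hNr hm (one_mem N) (by rw [e1, one_smul]))
    rcases eq_or_ne (m • a) b with e2 | e2
    · exact Or.inr (ZassenhausNormal.regular_unique hNr hm u.2 (by rw [e2, hu]))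
    exact absurd (h3 h a b (m • a) hab e2.symm e1.symm ha hb hma) hh1
  have husq : (u : G) * u = 1 := by
    refine (hCN _ (mul_mem u.2 u.2) ?_).resolve_right fun e => hu1 (mul_eq_left.mp e)
    rw [show h * ((u : G) * u) * h⁻¹ = (h * u * h⁻¹) * (h * u * h⁻¹) by group, hcomm]
  have hne : ∀ m : G, m ∈ N → m ≠ 1 → a ≠ m • a := fun m hm hm1 e =>
    hm1 (ZassenhausNormal.regular_unique hNr hm (one_mem N) (by rw [← e, one_smul]))
  have hexp : ∀ m ∈ N, m ^ 2 = 1 := fun m hm => by
    rcases eq_or_ne m 1 with rfl | hm1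
    · simp
    obtain ⟨t, ht, ht'⟩ := is_two_pretransitive_iff.mp h2 hab (hne m hm hm1)
    have : t * u * t⁻¹ = m := ZassenhausNormal.regular_unique hNr
      (Subgroup.Normal.conj_mem ‹_› _ u.2 t) hm (x := a)
      (by rw [mul_smul, mul_smul, inv_smul_eq_iff.mpr ht.symm, hu, ht'])
    rw [← this, conj_pow, pow_two, husq, mul_one, mul_inv_cancel]
  have hcardN : Nat.card N = Fintype.card Ω := by
    rw [Perm.Normal.regular_card N hNr a, Nat.card_eq_fintype_card]
  haveI : Fact (Nat.Prime 2) := ⟨Nat.prime_two⟩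
  have hN2 : IsPGroup 2 N := fun m => ⟨1, Subtype.ext (by simpa using hexp m m.2)⟩
  obtain ⟨n, hn⟩ := IsPGroup.iff_card.1 hN2
  have hc3 : 3 ≤ Fintype.card Ω := by
    obtain ⟨w, hw⟩ : ∃ w : Ω, g • w ≠ w := by
      by_contra hall
      push Not at hall
      exact hg (eq_of_smul_eq_smul (α := Ω) fun w => by rw [hall w, one_smul])
    calc 3 = ({a, b, w} : Finset Ω).card := (Finset.card_eq_three.mpr
          ⟨a, b, w, hab, fun e => hw (e ▸ hga), fun e => hw (e ▸ hgb), rfl⟩).symm
      _ ≤ _ := Finset.card_le_univ _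
  -- the kernel of the point stabiliser
  let X := SubMulAction.ofStabilizer G a
  have hXne : ∀ x : X, (x : Ω) ≠ a := fun x => (SubMulAction.mem_ofStabilizer_iff _ _).1 x.2
  haveI : FaithfulSMul (stabilizer G a) X := Perm.Normal.faithful_ofStabilizer a
  haveI : IsPretransitive (stabilizer G a) X := ⟨fun x y => by
    obtain ⟨t, ht, ht'⟩ := is_two_pretransitive_iff.mp h2 (hXne x).symm (hXne y).symm
    exact ⟨⟨t, ht⟩, Subtype.ext ht'⟩⟩
  let b' : X := ⟨b, (SubMulAction.mem_ofStabilizer_iff _ _).2 hab.symm⟩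
  obtain ⟨K, hKn, hK, hKt, hKr⟩ := ZassenhausNormal.exists_kernel (G := stabilizer G a) b'
    fun t x y hxy hx hy => Subtype.ext (h3 t a x y (hXne x).symm (fun e => hxy (Subtype.ext e))
      (hXne y).symm t.2 (congrArg Subtype.val hx) (congrArg Subtype.val hy))
  let h' : stabilizer G a := ⟨h, ha⟩
  have hh' : h' • b' = b' := Subtype.ext hb
  let α : MulAut K := MulAut.conjNormal (H := K) h'
  have hfpf : ∀ k : K, α k = k → k = 1 := fun k hk => by
    by_contra hk1
    have hk' : h' * (k : stabilizer G a) * h'⁻¹ = k := by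
      rw [← MulAut.conjNormal_apply]; exact congrArg Subtype.val hk
    have e : h' • ((k : stabilizer G a) • b') = (k : stabilizer G a) • b' := by
      conv_rhs => rw [← hk']
      rw [mul_smul, mul_smul, inv_smul_eq_iff.mpr hh'.symm]
    have hne : ((k : stabilizer G a) • b' : X) ≠ b' := ((hK k).1 k.2).resolve_left
      (fun e => hk1 (Subtype.ext e)) b'
    exact hh1 (h3 h a b _ hab (fun e => hne (Subtype.ext e.symm))
      (hXne _).symm ha hb (congrArg Subtype.val e))
  have hαr : α ^ r = 1 := by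
    rw [← map_pow, show h' ^ r = 1 from Subtype.ext (by simp [h', ← hho, pow_orderOf_eq_one]), map_one]
  haveI hKnil := Solvable.FPFNilpotent.isNilpotent_of_mulAut hr α hαr hfpf
  have hKodd : ¬ 2 ∣ Nat.card K := by
    rw [Perm.Normal.regular_card K hKr b', SubMulAction.nat_card_ofStabilizer_eq,
      Nat.card_eq_fintype_card, ← hcardN, hn]
    rcases n with _ | n
    · rw [hn] at hcardN; omega
    · rw [pow_succ]; omega
  -- `K` is cyclic
  let K' : Subgroup G := K.map (stabilizer G a).subtype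
  let eK : K ≃* K' := K.equivMapOfInjective _ (stabilizer G a).subtype_injective
  have hK'N : K' ≤ Subgroup.normalizer (N : Set G) := by rw [Subgroup.normalizer_eq_top]; exact le_top
  have hfpfN : ∀ k ∈ K', k ≠ 1 → N ⊓ Subgroup.centralizer {k} = ⊥ := by
    rintro _ ⟨k, hk, rfl⟩ hk1
    rw [Subgroup.eq_bot_iff_forall]
    rintro m ⟨hmN, hmc⟩
    by_contra hm1
    have e : ((k : G) * m) • a = (m * (k : G)) • a := by
      congr 1
      exact (Subgroup.mem_centralizer_singleton_iff.1 hmc).symm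
    rw [mul_smul, mul_smul, show (k : G) • a = a from k.2] at e
    exact ((hK k).1 hk).resolve_left (fun e => hk1 (by rw [e]; rfl))
      ⟨m • a, (SubMulAction.mem_ofStabilizer_iff _ _).2 (hne m hmN hm1).symm⟩ (Subtype.ext e)
  have hNne : N ≠ ⊥ := fun e => hu1 (Subgroup.mem_bot.1 (e ▸ u.2))
  haveI : IsZGroup K' := ⟨fun p hp P => by
    haveI := Fact.mk hp
    rcases FrobRealize.FPF.sylow_cyclic_or_quaternion hNne hK'N hfpfN P with h | ⟨rfl, j, ⟨e⟩⟩
    · exact h
    · refine absurd ?_ hKodd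
      rw [Nat.card_congr eK.toEquiv]
      refine Dvd.dvd.trans ?_ (Subgroup.card_subgroup_dvd_card (P : Subgroup K'))
      rw [Nat.card_congr e.toEquiv, Nat.card_eq_fintype_card, QuaternionGroup.card]
      exact ⟨2 * 2 ^ j, by ring⟩⟩
  haveI : Group.IsNilpotent K' := Group.nilpotent_of_mulEquiv eK
  haveI : IsCyclic K := isCyclic_of_surjective eK.symm.toMonoidHom eK.symm.surjective
  letI : CommGroup K := IsCyclic.commGroup
  -- the field
  letI : CommGroup N := { (inferInstance : Group N) with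
    mul_comm := fun x y => Subtype.ext (hNc x x.2 y y.2) }
  let M := Additive N
  let act : G →* AddMonoid.End M :=
    { toFun := fun t => AddMonoidHom.mk'
        (fun m => Additive.ofMul (MulAut.conjNormal (H := N) t (Additive.toMul m)))
        (fun m n => congrArg Additive.ofMul (map_mul _ (Additive.toMul m) (Additive.toMul n)))
      map_one' := by
        refine DFunLike.ext _ _ fun m => ?_
        show Additive.ofMul (MulAut.conjNormal (H := N) 1 (Additive.toMul m)) = m
        rw [map_one]; rfl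
      map_mul' := fun s t => by
        refine DFunLike.ext _ _ fun m => ?_
        show Additive.ofMul (MulAut.conjNormal (H := N) (s * t) (Additive.toMul m)) = _
        rw [map_mul]; rfl }
  let ρ : K →* AddMonoid.End M := act.comp ((stabilizer G a).subtype.comp K.subtype)
  have hact : ∀ (t : G) (m : N), ((Additive.toMul (act t (Additive.ofMul m)) : N) : G) = t * m * t⁻¹ :=
    fun t m => MulAut.conjNormal_apply ..
  let η : (AddMonoid.End M)ˣ := Units.map act (toUnits h)
  refine ⟨r, hr, ?_⟩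
  rw [← hcardN, show Nat.card N = Nat.card M from rfl]
  refine card_eq_two_pow ρ (fun x y => mul_comm x y) (Additive.ofMul u)
    (fun e => hu1 (congrArg (fun z : M => ((Additive.toMul z : N) : G)) e)) (fun m hm => ?_) η α
    (fun k => ?_) α.surjective ?_ (fun m hm => ?_) hr ?_ ?_
  · have hm1 : ((Additive.toMul m : N) : G) ≠ 1 := fun e =>
      hm (Additive.toMul.injective (Subtype.ext e))
    obtain ⟨k, hk⟩ := exists_smul_eq K b' ⟨((Additive.toMul m : N) : G) • a,
      (SubMulAction.mem_ofStabilizer_iff _ _).2 (hne _ (Additive.toMul m).2 hm1).symm⟩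
    refine ⟨k, Additive.toMul.injective (Subtype.ext ?_)⟩
    refine (hact _ u).trans ?_
    refine ZassenhausNormal.regular_unique hNr (Subgroup.Normal.conj_mem ‹_› _ u.2 _)
      (Additive.toMul m).2 (x := a) ?_
    have hka : ((k : stabilizer G a) : G) • a = a := (k : stabilizer G a).2
    show (((k : stabilizer G a) : G) * u * ((k : stabilizer G a) : G)⁻¹) • a = _
    rw [mul_smul, mul_smul, inv_smul_eq_iff.mpr hka.symm, hu]
    exact congrArg Subtype.val hk
  · show act h * act _ = act _ * act h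
    rw [← map_mul, ← map_mul]
    congr 1
    show h * ((k : stabilizer G a) : G) = ((α k : stabilizer G a) : G) * h
    rw [MulAut.conjNormal_apply]
    show _ = h * ((k : stabilizer G a) : G) * h⁻¹ * h
    group
  · exact Additive.toMul.injective (Subtype.ext ((hact h u).trans hcomm))
  · have e := congrArg (fun z : M => ((Additive.toMul z : N) : G)) hm
    rcases hCN _ (Additive.toMul m).2 ((hact h (Additive.toMul m)).symm.trans e) with e1 | e1
    · exact Or.inl (Additive.toMul.injective (Subtype.ext e1))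
    · exact Or.inr (Additive.toMul.injective (Subtype.ext e1))
  · rw [← map_pow, ← map_pow, ← hho, pow_orderOf_eq_one, map_one, map_one]
  · rw [show Nat.card M = Nat.card N from rfl, hcardN]; exact hc3

end CfsgLib.Perm.ZassenhausPrime
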